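import Cfsg.Prelude.Def_Blocks
import Mathlib.RingTheory.IntegralClosure.IntegrallyClosed
import Mathlib.RingTheory.Ideal.Maximal
import Mathlib.Tactic

/-!
# Existence of modular maximal ideals
-/

namespace CfsgLib.BlockB

/-- For every prime there is a modular maximal ideal of the algebraic integers. -/
theorem exists_isPModular {p : ℕ} (hp : p.Prime) : ∃ M : Ideal Cfsg.AlgInt, Cfsg.IsPModular p M := by
  have hne : Ideal.span {(p : Cfsg.AlgInt)} ≠ ⊤ := by
    rw [Ne, Ideal.span_singleton_eq_top]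
    intro hu
    obtain ⟨b, hb⟩ := isUnit_iff_exists_inv.1 hu
    have hb' : (b : ℂ) = (((p : ℚ)⁻¹ : ℚ) : ℂ) := by
      have h : (p : ℂ) * (b : ℂ) = 1 := by
        simpa using congrArg (fun x : Cfsg.AlgInt => (x : ℂ)) hb
      push_cast
      exact (eq_inv_of_mul_eq_one_right h)
    have h1 : IsIntegral ℤ ((p : ℚ)⁻¹ : ℚ) := by
      rw [← isIntegral_algebraMap_iff (A := ℚ) (B := ℂ) (algebraMap ℚ ℂ).injective, eq_ratCast, ← hb']
      exact b.2
    obtain ⟨k, hk⟩ := IsIntegrallyClosed.isIntegral_iff.mp h1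
    have hk' : (p : ℚ) * (k : ℚ) = 1 := by
      rw [show (k : ℚ) = (p : ℚ)⁻¹ by simpa using hk, mul_inv_cancel₀ (by exact_mod_cast hp.ne_zero)]
    have h2 : (p : ℤ) * k = 1 := by exact_mod_cast hk'
    rcases Int.eq_one_or_neg_one_of_mul_eq_one h2 with h | h
    · exact hp.ne_one (by exact_mod_cast h)
    · omega
  obtain ⟨M, hM, hle⟩ := Ideal.exists_le_maximal _ hne
  exact ⟨M, hp, hM, hle (Ideal.mem_span_singleton_self _)⟩

end CfsgLib.BlockB
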