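import Cfsg.Prelude.Def_Blocks
import Cfsg.Agent.Lib.Char.Integral
import Cfsg.Agent.Lib.Char.Inner
import Mathlib.GroupTheory.PGroup
import Mathlib.Tactic

/-!
# Class multiplication through characters
-/

namespace CfsgLib.BlockB

open scoped ComplexConjugate
open CfsgLib.Char Module

universe u

variable {G : Type u} [Group G]

/-- The degree of a character, as a complex number, is its value at one. -/
theorem charDegree_cast {χ : G → ℂ} (hχ : Cfsg.IsCharacter G χ) :
    (Cfsg.charDegree χ : ℂ) = χ 1 := by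
  obtain ⟨d, hd⟩ := char_apply_one_eq_nat hχ
  simp [Cfsg.charDegree, hd]

theorem irr_degree_cast (χ : Cfsg.IrrCharacter G) :
    (Cfsg.charDegree (χ : G → ℂ) : ℂ) = (χ : G → ℂ) 1 :=
  charDegree_cast (irr_isCharacter χ.2)

theorem irr_degree_pos (χ : Cfsg.IrrCharacter G) : 0 < Cfsg.charDegree (χ : G → ℂ) := by
  refine Nat.pos_of_ne_zero fun h => irr_apply_one_ne_zero χ.2 ?_
  rw [← irr_degree_cast χ, h, Nat.cast_zero]

theorem irr_degree_ne_zero (χ : Cfsg.IrrCharacter G) : Cfsg.charDegree (χ : G → ℂ) ≠ 0 :=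
  (irr_degree_pos χ).ne'

theorem irr_degree_dvd_card [Finite G] (χ : Cfsg.IrrCharacter G) :
    Cfsg.charDegree (χ : G → ℂ) ∣ Nat.card G := by
  obtain ⟨χ, n, ρ, hρ, rfl⟩ := χ
  have hd : Cfsg.charDegree ρ.character = finrank ℂ (Fin n → ℂ) := by
    have h : (Cfsg.charDegree ρ.character : ℂ) = (finrank ℂ (Fin n → ℂ) : ℂ) := by
      rw [charDegree_cast ⟨n, ρ, rfl⟩, Representation.char_one]
    exact_mod_cast h
  change Cfsg.charDegree ρ.character ∣ Nat.card G
  rw [hd]
  exact degree_dvd_card ρ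

theorem irr_isIntegral [Finite G] (χ : Cfsg.IrrCharacter G) (g : G) :
    IsIntegral ℤ ((χ : G → ℂ) g) := by
  obtain ⟨χ, n, ρ, hρ, rfl⟩ := χ
  exact char_isIntegral ρ g

theorem irr_centralChar_isIntegral [Finite G] (χ : Cfsg.IrrCharacter G) (g : G) :
    IsIntegral ℤ (Cfsg.centralChar (χ : G → ℂ) g) := by
  obtain ⟨χ, n, ρ, hρ, rfl⟩ := χ
  change IsIntegral ℤ (((Subgroup.centralizer ({g} : Set G)).index : ℂ) * ρ.character g
    / ρ.character 1)
  rw [Representation.char_one]
  exact centralChar_isIntegral ρ g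

variable [Fintype G]

/-- The sum of all conjugates of an element acts as a scalar on an irreducible representation. -/
theorem sum_rep_conj_eq_scalar {V : Type*} [AddCommGroup V] [Module ℂ V] [FiniteDimensional ℂ V]
    (ρ : Representation ℂ G V) [ρ.IsIrreducible] (b : G) :
    ∑ t : G, ρ (t * b * t⁻¹) = ((Nat.card G : ℂ) * ρ.character b / finrank ℂ V) •
      (LinearMap.id : V →ₗ[ℂ] V) := by
  have := nontrivial_of_isIrreducible ρ
  have hcomm : ∀ h : G, (∑ t : G, ρ (t * b * t⁻¹)) ∘ₗ ρ h = ρ h ∘ₗ ∑ t : G, ρ (t * b * t⁻¹) := by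
    intro h
    rw [← Module.End.mul_eq_comp, ← Module.End.mul_eq_comp, Finset.sum_mul, Finset.mul_sum]
    refine Fintype.sum_equiv (Equiv.mulLeft h⁻¹) _ _ fun t => ?_
    rw [← map_mul, ← map_mul]
    congr 1
    simp only [Equiv.coe_mulLeft]
    group
  let T : Representation.IntertwiningMap ρ ρ := ⟨∑ t : G, ρ (t * b * t⁻¹), hcomm⟩
  obtain ⟨c, hc⟩ :=
    (Representation.IsIrreducible.algebraMap_intertwiningMap_bijective_of_isAlgClosed
      (ρ := ρ) (k := ℂ)).2 T
  have hc2 : ∑ t : G, ρ (t * b * t⁻¹) = c • (LinearMap.id : V →ₗ[ℂ] V) := by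
    have := congr_arg Representation.IntertwiningMap.toLinearMap hc
    simp only [T] at this
    rw [← this]
    ext v
    simp [Algebra.algebraMap_eq_smul_one]
  have ht := congr_arg (LinearMap.trace ℂ V) hc2
  simp only [map_sum, map_smul, LinearMap.trace_id, smul_eq_mul] at ht
  rw [hc2]
  congr 1
  rw [eq_div_iff (by exact_mod_cast finrank_pos.ne'), ← ht]
  have h1 : ∀ t : G, LinearMap.trace ℂ V (ρ (t * b * t⁻¹)) = ρ.character b := fun t =>
    isCharacter_isClassFunction (isCharacter_of_rep ρ) b t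
  rw [Finset.sum_congr rfl (fun t _ => h1 t), Finset.sum_const, Finset.card_univ, nsmul_eq_mul,
    Nat.card_eq_fintype_card]

/-- The class multiplication identity for an irreducible character. -/
theorem sum_irr_mul_conj (χ : Cfsg.IrrCharacter G) (a b : G) :
    ∑ t : G, (χ : G → ℂ) (a * (t * b * t⁻¹)) =
      (Nat.card G : ℂ) * (χ : G → ℂ) a * (χ : G → ℂ) b / (χ : G → ℂ) 1 := by
  obtain ⟨χ, n, ρ, hρ, rfl⟩ := χ
  have h := congr_arg (fun f => LinearMap.trace ℂ (Fin n → ℂ) (ρ a * f))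
    (sum_rep_conj_eq_scalar ρ b)
  simp only [Finset.mul_sum, map_sum, ← map_mul, mul_smul_comm, map_smul, smul_eq_mul] at h
  simp only [Representation.char_one]
  change ∑ t : G, LinearMap.trace ℂ (Fin n → ℂ) (ρ (a * (t * b * t⁻¹))) = _
  rw [h, ← Module.End.one_eq_id, mul_one, Representation.character, Representation.character]
  ring

/-- The class multiplication identity for a class function. -/
theorem sum_classFun_mul_conj [Fintype (Cfsg.IrrCharacter G)] {θ : G → ℂ}
    (hθ : Cfsg.IsClassFunction G θ) (a b : G) :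
    ∑ t : G, θ (a * (t * b * t⁻¹)) = (Nat.card G : ℂ) * ∑ χ : Cfsg.IrrCharacter G,
      Cfsg.classInner θ (χ : G → ℂ) * (χ : G → ℂ) a * (χ : G → ℂ) b / (χ : G → ℂ) 1 := by
  conv_lhs => enter [2, t]; rw [classFunction_apply_eq_sum hθ (a * (t * b * t⁻¹))]
  rw [Finset.sum_comm, Finset.mul_sum]
  refine Finset.sum_congr rfl fun χ _ => ?_
  rw [← Finset.mul_sum, sum_irr_mul_conj]
  ring

section Conjugates

open scoped Classical

/-- The number of `s` with `s⁻¹ g s` in the subgroup `P`. -/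
noncomputable def conjMemCount (P : Subgroup G) (g : G) : ℕ :=
  (Finset.univ.filter fun s : G => s⁻¹ * g * s ∈ P).card

theorem conjMemCount_isClassFunction (P : Subgroup G) :
    Cfsg.IsClassFunction G (fun g => (conjMemCount P g : ℂ)) := by
  intro g h
  simp only [conjMemCount, Nat.cast_inj]
  refine Finset.card_equiv (Equiv.mulLeft h⁻¹) fun s => ?_
  simp [mul_assoc]

theorem classInner_conjMemCount (P : Subgroup G) (χ : Cfsg.IrrCharacter G) :
    Cfsg.classInner (fun g => (conjMemCount P g : ℂ)) (χ : G → ℂ) =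
      ∑ u : P, conj ((χ : G → ℂ) u) := by
  rw [classInner_def]
  have h1 : ∑ g : G, (conjMemCount P g : ℂ) * conj ((χ : G → ℂ) g) =
      ∑ s : G, ∑ g : G, (if s⁻¹ * g * s ∈ P then conj ((χ : G → ℂ) g) else 0) := by
    rw [Finset.sum_comm]
    refine Finset.sum_congr rfl fun g _ => ?_
    rw [← Finset.sum_filter, Finset.sum_const, nsmul_eq_mul]
    rfl
  have h2 : ∀ s : G, ∑ g : G, (if s⁻¹ * g * s ∈ P then conj ((χ : G → ℂ) g) else 0) =
      ∑ u : P, conj ((χ : G → ℂ) u) := by
    intro s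
    rw [← Finset.sum_subtype (Finset.univ.filter fun x => x ∈ P) (by simp)
      (fun x => conj ((χ : G → ℂ) x)), Finset.sum_filter]
    refine Fintype.sum_equiv (MulAut.conj s⁻¹).toEquiv _ _ fun g => ?_
    simp only [MulEquiv.toEquiv_eq_coe, MulEquiv.coe_toEquiv, MulAut.conj_apply, inv_inv]
    rw [show (χ : G → ℂ) (s⁻¹ * g * s) = (χ : G → ℂ) g from by
      simpa using irr_isClassFunction χ.2 g s⁻¹]
  rw [h1, Finset.sum_congr rfl (fun s _ => h2 s), Finset.sum_const, Finset.card_univ, nsmul_eq_mul,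
    ← mul_assoc, ← Nat.card_eq_fintype_card, inv_mul_cancel₀ natCard_ne_zero, one_mul]

/-- The sum of an irreducible character over a subgroup is a natural multiple of its order. -/
theorem sum_conj_subgroup_eq (P : Subgroup G) (χ : Cfsg.IrrCharacter G) :
    ∃ k : ℕ, ∑ u : P, conj ((χ : G → ℂ) u) = (Nat.card P : ℂ) * k := by
  obtain ⟨k, hk⟩ := classInner_isCharacter_nat (isCharacter_one (G := P))
    (isCharacter_restrict (irr_isCharacter χ.2) P)
  refine ⟨k, ?_⟩
  rw [classInner_def] at hk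
  rw [← hk, ← mul_assoc, mul_inv_cancel₀ natCard_ne_zero, one_mul]
  simp

/-- Counting products of conjugates landing in a subgroup. -/
theorem sum_conjMemCount [Fintype (Cfsg.IrrCharacter G)] (P : Subgroup G) (a b : G) :
    ∑ t : G, (conjMemCount P (a * (t * b * t⁻¹)) : ℂ) = (Nat.card G : ℂ) *
      ∑ χ : Cfsg.IrrCharacter G,
        (∑ u : P, conj ((χ : G → ℂ) u)) * (χ : G → ℂ) a * (χ : G → ℂ) b / (χ : G → ℂ) 1 := by
  rw [sum_classFun_mul_conj (conjMemCount_isClassFunction P)]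
  simp only [classInner_conjMemCount]

omit [Fintype G] in
theorem mem_fixedPoints_zpowers_iff (P : Subgroup G) (g s : G) :
    (s : G ⧸ P) ∈ MulAction.fixedPoints (Subgroup.zpowers g) (G ⧸ P) ↔ s⁻¹ * g * s ∈ P := by
  have e : (g • (s : G ⧸ P) = (s : G ⧸ P)) ↔ s⁻¹ * g * s ∈ P := by
    rw [MulAction.Quotient.smul_coe, smul_eq_mul, QuotientGroup.eq, ← inv_mem_iff]
    congr! 1
    group
  constructor
  · intro h
    exact e.1 (h ⟨g, Subgroup.mem_zpowers g⟩)
  · intro h x
    obtain ⟨n, hn⟩ := x.2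
    have h2 : g ∈ MulAction.stabilizer G (s : G ⧸ P) := e.2 h
    have h3 := zpow_mem h2 n
    change (x : G) • (s : G ⧸ P) = _
    rw [← hn]
    exact h3

theorem conjMemCount_eq (P : Subgroup G) (g : G) :
    conjMemCount P g =
      Nat.card P * Nat.card (MulAction.fixedPoints (Subgroup.zpowers g) (G ⧸ P)) := by
  rw [← Nat.card_prod, ← Nat.card_congr (QuotientGroup.preimageMkEquivSubgroupProdSet P
    (MulAction.fixedPoints (Subgroup.zpowers g) (G ⧸ P))), conjMemCount, ← Fintype.card_subtype,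
    ← Nat.card_eq_fintype_card]
  exact Nat.card_congr (Equiv.subtypeEquivRight fun s => (mem_fixedPoints_zpowers_iff P g s).symm)

theorem fixedPoints_modEq_index {p : ℕ} [Fact p.Prime] (P : Subgroup G) (g : G)
    (hg : ∃ k : ℕ, orderOf g = p ^ k) :
    Nat.card (MulAction.fixedPoints (Subgroup.zpowers g) (G ⧸ P)) ≡ P.index [MOD p] := by
  obtain ⟨k, hk⟩ := hg
  have hp : IsPGroup p (Subgroup.zpowers g) := IsPGroup.of_card (n := k) (by
    rw [Nat.card_zpowers, hk])
  have := hp.card_modEq_card_fixedPoints (G ⧸ P)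
  rw [Subgroup.index_eq_card]
  exact this.symm

theorem conjMemCount_eq_zero_of_not_isPPower {p : ℕ} [Fact p.Prime] (P : Subgroup G)
    (hP : IsPGroup p P) (g : G) (hg : ¬ ∃ k : ℕ, orderOf g = p ^ k) : conjMemCount P g = 0 := by
  rw [conjMemCount, Finset.card_eq_zero, Finset.filter_eq_empty_iff]
  intro s _ hs
  apply hg
  obtain ⟨k, hk⟩ := IsPGroup.iff_orderOf.1 hP ⟨_, hs⟩
  refine ⟨k, ?_⟩
  rw [← hk, ← Subgroup.orderOf_coe]
  exact (MulEquiv.orderOf_eq (MulAut.conj s⁻¹) g).symm.trans (by simp)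

end Conjugates

end CfsgLib.BlockB
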