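import Cfsg.Agent.Lib.Char.Inner
import Cfsg.Agent.Lib.Char.Linear
import Cfsg.Agent.Lib.ClassK.Kulakov
import Cfsg.Agent.Lib.Char.Diag
import Cfsg.Agent.Lib.Char.Monomial
import Cfsg.Agent.Lib.Block.DefectOrder
import Cfsg.Agent.Lib.Clifford.Degrees
import Mathlib.GroupTheory.FiniteAbelian.Duality

/-!
The `p`-groups in which nonlinear irreducible characters of equal degree are Galois conjugate.
-/

set_option autoImplicit false
set_option linter.unusedSectionVars false

namespace CfsgLib.BlockB.GaloisDegree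

open Cfsg CfsgLib.Char
open scoped commutatorElement ComplexConjugate

universe u

/-- Nonlinear irreducible characters of equal degree are Galois conjugate. -/
def Hyp (P : Type u) [Group P] : Prop :=
  ∀ χ ψ : IrrCharacter P, (χ : P → ℂ) 1 ≠ 1 → (χ : P → ℂ) 1 = (ψ : P → ℂ) 1 →
    ∃ k : ℕ, Nat.Coprime k (Nat.card P) ∧ ∀ g : P, (ψ : P → ℂ) g = (χ : P → ℂ) (g ^ k)

variable {P : Type u} [Group P] [Finite P]

theorem kernel_mul (χ : IrrCharacter P) {g : P} (hg : (χ : P → ℂ) g = (χ : P → ℂ) 1) (y : P) :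
    (χ : P → ℂ) (g * y) = (χ : P → ℂ) y := by
  obtain ⟨n, ρ, -, hρ⟩ := id χ.2
  rw [← hρ] at hg ⊢
  have h : ρ g = 1 := MonoidHom.mem_ker.1 ((mem_ker_iff_char ρ g).2 hg)
  show LinearMap.trace ℂ _ (ρ (g * y)) = _
  rw [map_mul, h, one_mul]
  rfl

/-- The kernel of an irreducible character. -/
def ker (χ : IrrCharacter P) : Subgroup P where
  carrier := {g | (χ : P → ℂ) g = (χ : P → ℂ) 1}
  one_mem' := rfl
  mul_mem' := fun {a b} ha hb => by
    show (χ : P → ℂ) (a * b) = _
    rw [kernel_mul χ ha, hb]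
  inv_mem' := fun {a} ha => by
    have h := kernel_mul χ ha a⁻¹
    rw [mul_inv_cancel] at h
    exact h.symm

theorem mem_ker {χ : IrrCharacter P} {g : P} :
    g ∈ ker χ ↔ (χ : P → ℂ) g = (χ : P → ℂ) 1 := Iff.rfl

instance ker_normal (χ : IrrCharacter P) : (ker χ).Normal :=
  ⟨fun g hg y => by rw [mem_ker, irr_isClassFunction χ.2 g y]; exact hg⟩

theorem ker_eq_of_galois {χ ψ : IrrCharacter P} {k : ℕ} (hk : Nat.Coprime k (Nat.card P))
    (h : ∀ g : P, (ψ : P → ℂ) g = (χ : P → ℂ) (g ^ k)) : ker ψ = ker χ := by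
  have h1 : (ψ : P → ℂ) 1 = (χ : P → ℂ) 1 := by rw [h 1, one_pow]
  ext g
  rw [mem_ker, h g, h1]
  refine ⟨fun hg => ?_, fun hg => (ker χ).pow_mem hg k⟩
  obtain ⟨m, hm⟩ := exists_pow_eq_self_of_coprime
    (Nat.Coprime.coprime_dvd_right (orderOf_dvd_natCard g) hk)
  have := (ker χ).pow_mem (mem_ker.2 hg) m
  rwa [hm] at this

theorem eq_ker_of_degree (h : Hyp P) {χ ψ : IrrCharacter P} (h1 : (χ : P → ℂ) 1 ≠ 1)
    (h2 : (χ : P → ℂ) 1 = (ψ : P → ℂ) 1) : ker ψ = ker χ := by
  obtain ⟨k, hk, hk'⟩ := h χ ψ h1 h2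
  exact ker_eq_of_galois hk hk'

theorem exists_linear_ne_one {g : P} (hg : g ∉ commutator P) :
    ∃ lam : P →* ℂˣ, lam g ≠ 1 := by
  have : Finite (Abelianization P) := inferInstanceAs (Finite (P ⧸ commutator P))
  have hne : Abelianization.of g ≠ 1 := fun h => hg ((QuotientGroup.eq_one_iff g).1 h)
  have : HasEnoughRootsOfUnity ℂ (Monoid.exponent (Abelianization P)) := by
    have : NeZero (Monoid.exponent (Abelianization P) : ℂ) :=
      ⟨by exact_mod_cast Monoid.exponent_ne_zero_of_finite⟩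
    infer_instance
  obtain ⟨φ, hφ⟩ := CommGroup.exists_apply_ne_one_of_hasEnoughRootsOfUnity (Abelianization P) ℂ hne
  exact ⟨φ.comp Abelianization.of, hφ⟩

/-- Kernels of nonlinear characters lie in the commutator subgroup. -/
theorem ker_le_commutator (h : Hyp P) {χ : IrrCharacter P} (h1 : (χ : P → ℂ) 1 ≠ 1) :
    ker χ ≤ commutator P := by
  intro g hg
  by_contra hgc
  obtain ⟨lam, hlam⟩ := exists_linear_ne_one hgc
  let ψ : IrrCharacter P := ⟨_, isIrrCharacter_mul_linear χ.2 lam⟩
  have h2 : (χ : P → ℂ) 1 = (ψ : P → ℂ) 1 := by simp [ψ]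
  have h3 : g ∈ ker ψ := by rw [eq_ker_of_degree h h1 h2]; exact hg
  rw [mem_ker] at h3
  simp only [ψ, map_one, Units.val_one, one_mul, mem_ker.1 hg] at h3
  exact hlam (Units.ext (mul_right_cancel₀ (irr_apply_one_ne_zero χ.2) (h3.trans (one_mul _).symm)))

/-- The property passes to quotients. -/
theorem hyp_quotient (h : Hyp P) (N : Subgroup P) [N.Normal] : Hyp (P ⧸ N) := by
  intro χ ψ h1 h2
  obtain ⟨k, hk, hk'⟩ := h
    ⟨_, isIrrCharacter_comp_surjective χ.2 (QuotientGroup.mk' N) (QuotientGroup.mk'_surjective N)⟩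
    ⟨_, isIrrCharacter_comp_surjective ψ.2 (QuotientGroup.mk' N) (QuotientGroup.mk'_surjective N)⟩
    (by simpa using h1) (by simpa using h2)
  refine ⟨k, hk.coprime_dvd_right (Subgroup.card_quotient_dvd_card N), fun q => ?_⟩
  obtain ⟨g, rfl⟩ := QuotientGroup.mk'_surjective N q
  have h3 : (ψ : P ⧸ N → ℂ) (QuotientGroup.mk' N g) =
      (χ : P ⧸ N → ℂ) (QuotientGroup.mk' N (g ^ k)) := hk' g
  rwa [map_pow] at h3

/-- The central character. -/
theorem exists_central (χ : IrrCharacter P) : ∃ lam : Subgroup.center P →* ℂˣ,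
    ∀ (z : Subgroup.center P) (g : P), (χ : P → ℂ) ((z : P) * g) = (lam z : ℂ) * (χ : P → ℂ) g := by
  obtain ⟨n, ρ, hirr, hρ⟩ := id χ.2
  have hsc : ∀ z : Subgroup.center P, ∃ c : ℂ, ρ z = c • LinearMap.id := fun z =>
    exists_scalar_of_commute ρ _ fun g => by
      rw [← Module.End.mul_eq_comp, ← Module.End.mul_eq_comp, ← map_mul, ← map_mul,
        Subgroup.mem_center_iff.1 z.2 g]
  choose c hc using hsc
  have hval : ∀ (z : Subgroup.center P) (g : P),
      (χ : P → ℂ) ((z : P) * g) = c z * (χ : P → ℂ) g := fun z g => by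
    rw [← hρ]
    show LinearMap.trace ℂ _ (ρ ((z : P) * g)) = c z * LinearMap.trace ℂ _ (ρ g)
    rw [map_mul, hc z, smul_mul_assoc, map_smul, smul_eq_mul, ← Module.End.one_eq_id, one_mul]
  have h0 := irr_apply_one_ne_zero χ.2
  have h1 : c 1 = 1 := by
    have h2 := hval 1 1
    rw [OneMemClass.coe_one, one_mul] at h2
    exact mul_right_cancel₀ h0 (h2.symm.trans (one_mul _).symm)
  have h2 : ∀ a b, c (a * b) = c a * c b := fun a b => by
    have h3 := hval (a * b) 1
    rw [mul_one] at h3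
    have h4 := hval a (b : P)
    have h5 := hval b 1
    rw [mul_one] at h5
    rw [Subgroup.coe_mul, h4, h5, ← mul_assoc] at h3
    exact (mul_right_cancel₀ h0 h3).symm
  exact ⟨MonoidHom.toHomUnits { toFun := c, map_one' := h1, map_mul' := h2 }, fun z g => hval z g⟩

/-- The square of a degree is at most the index of the centre. -/
theorem sq_degree_le (χ : IrrCharacter P) :
    charDegree (χ : P → ℂ) ^ 2 ≤ (Subgroup.center P).index ∧
      ((∀ g, g ∉ Subgroup.center P → (χ : P → ℂ) g = 0) →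
        charDegree (χ : P → ℂ) ^ 2 = (Subgroup.center P).index) := by
  classical
  have := Fintype.ofFinite P
  have := Fintype.ofFinite (Subgroup.center P)
  obtain ⟨lam, hlam⟩ := exists_central χ
  have hZ : ∀ z : Subgroup.center P, ‖(χ : P → ℂ) z‖ = (charDegree (χ : P → ℂ) : ℝ) := by
    intro z
    have h := hlam z 1
    rw [mul_one] at h
    rw [h, norm_mul, ← CfsgLib.Block.charDegree_cast (irr_isCharacter χ.2), Complex.norm_natCast,
      Complex.norm_eq_one_of_pow_eq_one (n := orderOf z) (by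
        rw [← Units.val_pow_eq_pow_val, ← map_pow, pow_orderOf_eq_one, map_one, Units.val_one])
        (orderOf_pos z).ne', one_mul]
  have htot : ∑ g : P, ‖(χ : P → ℂ) g‖ ^ 2 = (Nat.card P : ℝ) := by
    have h := irr_classInner_self χ.2
    rw [classInner_self_eq_norm, Complex.ofReal_eq_one,
      inv_mul_eq_iff_eq_mul₀ (by exact_mod_cast Nat.card_pos.ne'), mul_one] at h
    exact h
  have hsplit : ∑ g ∈ Finset.univ.filter (fun g => g ∈ Subgroup.center P), ‖(χ : P → ℂ) g‖ ^ 2 =
      (Nat.card (Subgroup.center P) : ℝ) * (charDegree (χ : P → ℂ) : ℝ) ^ 2 := by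
    rw [Finset.sum_subtype (p := fun g => g ∈ Subgroup.center P)
      (Finset.univ.filter (fun g => g ∈ Subgroup.center P)) (fun g => by simp)]
    rw [Finset.sum_congr rfl (fun z _ => by rw [hZ z]), Finset.sum_const, Finset.card_univ,
      nsmul_eq_mul, Nat.card_eq_fintype_card]
  have hidx : (Nat.card P : ℝ) =
      (Nat.card (Subgroup.center P) : ℝ) * ((Subgroup.center P).index : ℝ) := by
    rw [← Nat.cast_mul, Subgroup.card_mul_index]
  have hpos : (0 : ℝ) < Nat.card (Subgroup.center P) := Nat.cast_pos.2 Nat.card_pos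
  refine ⟨?_, fun h0 => ?_⟩
  · have hle : ∑ g ∈ Finset.univ.filter (fun g => g ∈ Subgroup.center P), ‖(χ : P → ℂ) g‖ ^ 2 ≤
        ∑ g : P, ‖(χ : P → ℂ) g‖ ^ 2 :=
      Finset.sum_le_univ_sum_of_nonneg fun g => sq_nonneg _
    rw [hsplit, htot, hidx] at hle
    exact_mod_cast le_of_mul_le_mul_left hle hpos
  · have he : ∑ g ∈ Finset.univ.filter (fun g => g ∈ Subgroup.center P), ‖(χ : P → ℂ) g‖ ^ 2 =
        ∑ g : P, ‖(χ : P → ℂ) g‖ ^ 2 :=
      Finset.sum_subset (Finset.subset_univ _) fun g _ hg => by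
        rw [h0 g (fun h => hg (Finset.mem_filter.2 ⟨Finset.mem_univ _, h⟩))]
        norm_num
    rw [hsplit, htot, hidx] at he
    exact_mod_cast mul_left_cancel₀ hpos.ne' he

theorem exists_nonlinear (hna : ¬ ∀ a b : P, a * b = b * a) :
    ∃ χ : IrrCharacter P, (χ : P → ℂ) 1 ≠ 1 := by
  by_contra h
  push Not at h
  exact hna (comm_iff_forall_degree_one.2 h)

theorem commutator_le_ker {χ : IrrCharacter P} (h1 : (χ : P → ℂ) 1 = 1) :
    commutator P ≤ ker χ := by
  obtain ⟨lam, hlam⟩ := exists_hom_of_degree_one (irr_isCharacter χ.2) h1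
  have hle : commutator P ≤ lam.ker := Abelianization.commutator_subset_ker lam
  intro g hg
  rw [mem_ker, hlam]
  simp [MonoidHom.mem_ker.1 (hle hg)]

theorem degree_one_of_commutator_le {χ : IrrCharacter P} (h : commutator P ≤ ker χ) :
    (χ : P → ℂ) 1 = 1 := by
  obtain ⟨ψ, hψ, hχψ⟩ := isIrr_quotient_lift (commutator P) χ.2 h
  rw [hχψ, Function.comp_apply, map_one]
  refine irr_degree_one_of_comm (fun a b => ?_) hψ
  obtain ⟨a, rfl⟩ := QuotientGroup.mk'_surjective (commutator P) a
  obtain ⟨b, rfl⟩ := QuotientGroup.mk'_surjective (commutator P) b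
  rw [← map_mul, ← map_mul]
  exact QuotientGroup.eq.2 (by
    rw [show (a * b)⁻¹ * (b * a) = ⁅b⁻¹, a⁻¹⁆ by rw [commutatorElement_def]; group]
    exact Subgroup.commutator_mem_commutator (Subgroup.mem_top _) (Subgroup.mem_top _))

variable {p : ℕ} [Fact p.Prime]

theorem ker_eq_bot_or (h : Hyp P) (hcard : Nat.card (commutator P) = p) {χ : IrrCharacter P}
    (h1 : (χ : P → ℂ) 1 ≠ 1) : ker χ = ⊥ := by
  have hle := ker_le_commutator h h1
  rcases Subgroup.eq_bot_or_eq_top_of_prime_card (G := commutator P) ((ker χ).subgroupOf _)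
    (hp := by rw [hcard]; exact ⟨Fact.out⟩) with e | e
  · rwa [Subgroup.subgroupOf_eq_bot, disjoint_iff, inf_eq_left.2 hle] at e
  · exact absurd (degree_one_of_commutator_le (Subgroup.subgroupOf_eq_top.1 e)) h1

theorem commutator_le_center (hcard : Nat.card (commutator P) = p) (hP : IsPGroup p P) :
    commutator P ≤ Subgroup.center P := by
  intro g hg
  have h : ∀ y : P, ∀ x ∈ commutator P, y * x * y⁻¹ = x := by
    intro y
    let f : commutator P →* commutator P :=
      { toFun := fun x => ⟨y * x * y⁻¹, (inferInstance : (commutator P).Normal).conj_mem _ x.2 y⟩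
        map_one' := Subtype.ext (by simp)
        map_mul' := fun a b => Subtype.ext (by simp [mul_assoc]) }
    intro x hx
    have : Fact (Nat.card (commutator P)).Prime := ⟨by rw [hcard]; exact Fact.out⟩
    let _ : MulAction P (commutator P) :=
      { smul := fun z x => ⟨z * x * z⁻¹, (inferInstance : (commutator P).Normal).conj_mem _ x.2 z⟩
        one_smul := fun x => Subtype.ext (show (1 : P) * x * (1 : P)⁻¹ = x by simp)
        mul_smul := fun a b x => Subtype.ext (show a * b * x * (a * b)⁻¹ = a * (b * x * b⁻¹) * a⁻¹ by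
          simp [mul_assoc]) }
    obtain ⟨⟨c, hc⟩, hfix, hne⟩ := hP.exists_fixed_point_of_prime_dvd_card_of_fixed_point
      (commutator P) (by rw [hcard]) (a := 1) (fun z => Subtype.ext (show z * 1 * z⁻¹ = 1 by simp))
    have hgen := mem_zpowers_of_prime_card (G := commutator P) hcard (g := ⟨c, hc⟩)
      (g' := ⟨x, hx⟩) (Ne.symm hne)
    obtain ⟨i, hi⟩ := Subgroup.mem_zpowers_iff.1 hgen
    have hc' : y * c * y⁻¹ = c := congrArg Subtype.val (hfix y)
    have hx' : c ^ i = x := congrArg Subtype.val hi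
    rw [← hx', ← conj_zpow, hc']
  exact Subgroup.mem_center_iff.2 fun y => mul_inv_eq_iff_eq_mul.1 (h y g hg)

/-- The consequences for a commutator subgroup of order `p`. -/
theorem prime_commutator (hP : IsPGroup p P) (h : Hyp P) (hcard : Nat.card (commutator P) = p) :
    IsCyclic (Subgroup.center P) ∧ ∃ χ : IrrCharacter P, ker χ = ⊥ ∧ (χ : P → ℂ) 1 ≠ 1 ∧
      charDegree (χ : P → ℂ) ^ 2 = (Subgroup.center P).index := by
  obtain ⟨χ, h1⟩ := exists_nonlinear (P := P) (fun hab => by
    have hbot : commutator P = ⊥ := by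
      rw [commutator_def, Subgroup.commutator_eq_bot_iff_le_centralizer]
      exact fun a _ => Subgroup.mem_centralizer_iff.2 fun b _ => hab b a
    rw [hbot, Subgroup.card_bot] at hcard
    exact (Fact.out : p.Prime).one_lt.ne' hcard.symm)
  have hker := ker_eq_bot_or h hcard h1
  obtain ⟨lam, hlam⟩ := exists_central χ
  have hinj : Function.Injective lam := by
    rw [← MonoidHom.ker_eq_bot_iff, Subgroup.eq_bot_iff_forall]
    intro z hz
    refine Subtype.ext ?_
    show (z : P) = 1
    rw [← Subgroup.mem_bot, ← hker, mem_ker]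
    have h2 := hlam z 1
    rwa [mul_one, MonoidHom.mem_ker.1 hz, Units.val_one, one_mul] at h2
  refine ⟨isCyclic_of_subgroup_isDomain ((Units.coeHom ℂ).comp lam)
    (Units.val_injective.comp hinj), χ, hker, h1, (sq_degree_le χ).2 fun g hg => ?_⟩
  rw [Subgroup.mem_center_iff] at hg
  push Not at hg
  obtain ⟨y, hy⟩ := hg
  set z := ⁅y, g⁆ with hz
  have hzc : z ∈ commutator P :=
    Subgroup.commutator_mem_commutator (Subgroup.mem_top _) (Subgroup.mem_top _)
  have hz1 : z ≠ 1 := fun e => hy (commutatorElement_eq_one_iff_mul_comm.1 e)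
  set zc : Subgroup.center P := ⟨z, commutator_le_center hcard hP hzc⟩
  have h2 : (χ : P → ℂ) (z * g) = (χ : P → ℂ) g := by
    rw [show z * g = y * g * y⁻¹ by rw [hz, commutatorElement_def]; group,
      irr_isClassFunction χ.2 g y]
  rw [show z = (zc : P) from rfl, hlam] at h2
  by_contra hne
  have h3 : (lam zc : ℂ) = 1 := mul_right_cancel₀ hne (h2.trans (one_mul _).symm)
  exact hz1 (congrArg Subtype.val (hinj (show lam zc = lam 1 by
    rw [map_one]; exact Units.ext h3)))

/-- Inflation of the faithful character of a quotient. -/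
theorem exists_char_ker (hP : IsPGroup p P) (h : Hyp P) (N : Subgroup P) [N.Normal]
    (hN : Nat.card (commutator (P ⧸ N)) = p) :
    IsCyclic (Subgroup.center (P ⧸ N)) ∧ ∃ χ : IrrCharacter P, ker χ = N ∧
      (χ : P → ℂ) 1 ≠ 1 ∧ charDegree (χ : P → ℂ) ^ 2 = (Subgroup.center (P ⧸ N)).index := by
  obtain ⟨hc, χ, hk, h1, hd⟩ := prime_commutator (hP.to_quotient N) (hyp_quotient h N) hN
  refine ⟨hc, ⟨_, isIrrCharacter_comp_surjective χ.2 (QuotientGroup.mk' N)
    (QuotientGroup.mk'_surjective N)⟩, ?_, ?_, ?_⟩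
  · ext g
    rw [mem_ker]
    show (χ : P ⧸ N → ℂ) (QuotientGroup.mk' N g) = (χ : P ⧸ N → ℂ) (QuotientGroup.mk' N 1) ↔ _
    rw [map_one, ← mem_ker, hk, Subgroup.mem_bot, QuotientGroup.mk'_apply, QuotientGroup.eq_one_iff]
  · show (χ : P ⧸ N → ℂ) (QuotientGroup.mk' N 1) ≠ 1
    rwa [map_one]
  · rw [← hd]
    congr 1

theorem card_commutator_quotient (N : Subgroup P) [N.Normal] (hN : N ≤ commutator P) :
    Nat.card (commutator (P ⧸ N)) * Nat.card N = Nat.card (commutator P) := by
  have hmap : (commutator P).map (QuotientGroup.mk' N) = commutator (P ⧸ N) := by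
    rw [commutator_def, commutator_def, Subgroup.map_commutator,
      Subgroup.map_top_of_surjective _ (QuotientGroup.mk'_surjective N)]
  rw [← hmap]
  let f := ((QuotientGroup.mk' N).comp (commutator P).subtype)
  have h1 : f.range = (commutator P).map (QuotientGroup.mk' N) := by
    rw [MonoidHom.range_comp, Subgroup.range_subtype]
  have h2 : Nat.card f.ker = Nat.card N := by
    refine Nat.card_congr ?_
    exact
      { toFun := fun x => ⟨((x : commutator P) : P), (QuotientGroup.eq_one_iff _).1 x.2⟩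
        invFun := fun n => ⟨⟨(n : P), hN n.2⟩, (QuotientGroup.eq_one_iff _).2 n.2⟩
        left_inv := fun x => rfl
        right_inv := fun x => rfl }
  rw [← h1, ← h2, ← Subgroup.index_ker f, Subgroup.index_mul_card]

theorem mem_center_quotient (N : Subgroup P) [N.Normal] {x : P} :
    QuotientGroup.mk' N x ∈ Subgroup.center (P ⧸ N) ↔ ∀ y : P, ⁅y, x⁆ ∈ N := by
  rw [Subgroup.mem_center_iff]
  constructor
  · intro h y
    rw [← QuotientGroup.eq_one_iff, ← QuotientGroup.mk'_apply, map_commutatorElement,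
      commutatorElement_eq_one_iff_mul_comm]
    exact h _
  · intro h q
    obtain ⟨y, rfl⟩ := QuotientGroup.mk'_surjective N q
    rw [← commutatorElement_eq_one_iff_mul_comm, ← map_commutatorElement, QuotientGroup.mk'_apply,
      QuotientGroup.eq_one_iff]
    exact h y

/-- An element whose commutators lie in a central subgroup of order `p` has central `p`-th power. -/
theorem pow_mem_center (N : Subgroup P) [N.Normal] (hNZ : N ≤ Subgroup.center P)
    (hNc : Nat.card N = p) {x : P} (hx : QuotientGroup.mk' N x ∈ Subgroup.center (P ⧸ N)) :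
    x ^ p ∈ Subgroup.center P := by
  rw [Subgroup.mem_center_iff]
  intro y
  have h1 : ⁅y, x⁆ ∈ N := (mem_center_quotient N).1 hx y
  have h2 : y * x * y⁻¹ = ⁅y, x⁆ * x := by rw [commutatorElement_def]; group
  have h3 : y * x ^ p * y⁻¹ = x ^ p := by
    rw [← conj_pow, h2, Commute.mul_pow ((Subgroup.mem_center_iff.1 (hNZ h1) x).symm)]
    have h4 : (⟨⁅y, x⁆, h1⟩ : N) ^ Nat.card N = 1 := pow_card_eq_one'
    rw [hNc] at h4
    rw [show ⁅y, x⁆ ^ p = 1 from congrArg Subtype.val h4, one_mul]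
  exact mul_inv_eq_iff_eq_mul.1 h3

theorem exists_central_le (hP : IsPGroup p P) (H : Subgroup P) [H.Normal] (hH : H ≠ ⊥) :
    ∃ N : Subgroup P, N.Normal ∧ N ≤ H ∧ N ≤ Subgroup.center P ∧ Nat.card N = p := by
  let _ : MulAction P H :=
    { smul := fun z x => ⟨z * x * z⁻¹, (inferInstance : H.Normal).conj_mem _ x.2 z⟩
      one_smul := fun x => Subtype.ext (show (1 : P) * x * (1 : P)⁻¹ = x by simp)
      mul_smul := fun a b x => Subtype.ext (show a * b * x * (a * b)⁻¹ = a * (b * x * b⁻¹) * a⁻¹ by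
        simp [mul_assoc]) }
  obtain ⟨m, hm⟩ := IsPGroup.iff_card.1 (hP.to_subgroup H)
  have hdvd : p ∣ Nat.card H := by
    rw [hm]
    refine dvd_pow_self p fun h0 => hH (Subgroup.card_eq_one.1 (by rw [hm, h0, pow_zero]))
  obtain ⟨⟨c, hc⟩, hfix, hne⟩ := hP.exists_fixed_point_of_prime_dvd_card_of_fixed_point H hdvd
    (a := 1) (fun z => Subtype.ext (show z * 1 * z⁻¹ = 1 by simp))
  have hcZ : c ∈ Subgroup.center P := Subgroup.mem_center_iff.2 fun y =>
    mul_inv_eq_iff_eq_mul.1 (congrArg Subtype.val (hfix y))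
  obtain ⟨k, hk⟩ := IsPGroup.iff_orderOf.1 hP c
  have hk0 : k ≠ 0 := fun h0 => hne (Subtype.ext (orderOf_eq_one_iff.1 (by rw [hk, h0, pow_zero])).symm)
  set z := c ^ p ^ (k - 1) with hz
  have hle : Subgroup.zpowers z ≤ H ⊓ Subgroup.center P :=
    Subgroup.zpowers_le.2 ⟨H.pow_mem hc _, (Subgroup.center P).pow_mem hcZ _⟩
  refine ⟨Subgroup.zpowers z, ⟨fun n hn y => ?_⟩, hle.trans inf_le_left, hle.trans inf_le_right, ?_⟩
  · rw [Subgroup.mem_center_iff.1 (hle hn).2 y, mul_inv_cancel_right]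
    exact hn
  · rw [Nat.card_zpowers, hz, orderOf_pow' c (pow_ne_zero _ (Fact.out : p.Prime).ne_zero), hk,
      Nat.gcd_eq_right (pow_dvd_pow p (Nat.sub_le k 1)),
      Nat.pow_div (Nat.sub_le k 1) (Fact.out : p.Prime).pos, show k - (k - 1) = 1 by omega, pow_one]

/-- The elementary central case. -/
theorem false_of_elementary (hP : IsPGroup p P) (h : Hyp P)
    (hcard : Nat.card (commutator P) = p ^ 2) (hcen : commutator P ≤ Subgroup.center P)
    (hexp : ∀ c ∈ commutator P, c ^ p = 1) : False := by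
  have hp : p.Prime := Fact.out
  have hmk : ∀ z ∈ commutator P, z ≠ 1 → Nat.card (Subgroup.zpowers z) = p := fun z hz hz1 => by
    rw [Nat.card_zpowers]
    exact orderOf_eq_prime (hexp z hz) hz1
  have hnorm : ∀ z ∈ commutator P, (Subgroup.zpowers z).Normal := fun z hz => ⟨fun n hn y => by
    rw [Subgroup.mem_center_iff.1 (Subgroup.zpowers_le.2 (hcen hz) hn) y, mul_inv_cancel_right]
    exact hn⟩
  have hquot : ∀ z ∈ commutator P, z ≠ 1 → ∀ [(Subgroup.zpowers z).Normal],
      Nat.card (commutator (P ⧸ Subgroup.zpowers z)) = p := by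
    intro z hz hz1 _
    have h1 := card_commutator_quotient (Subgroup.zpowers z) (Subgroup.zpowers_le.2 hz)
    rw [hmk z hz hz1, hcard, sq] at h1
    exact Nat.eq_of_mul_eq_mul_right hp.pos h1
  obtain ⟨c, hc, hc1⟩ : ∃ c ∈ commutator P, c ≠ 1 := by
    by_contra hcon
    push Not at hcon
    have : commutator P = ⊥ := (Subgroup.eq_bot_iff_forall _).2 hcon
    rw [this, Subgroup.card_bot] at hcard
    exact (Nat.one_lt_pow two_ne_zero hp.one_lt).ne' hcard.symm
  obtain ⟨d, hd, hdc⟩ : ∃ d ∈ commutator P, d ∉ Subgroup.zpowers c := by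
    by_contra hcon
    push Not at hcon
    have h1 := Subgroup.card_le_of_le (show commutator P ≤ Subgroup.zpowers c from hcon)
    rw [hcard, hmk c hc hc1] at h1
    exact absurd h1 (not_le.2 (lt_self_pow₀ hp.one_lt one_lt_two))
  have hd1 : d ≠ 1 := fun e => hdc (e ▸ Subgroup.one_mem _)
  -- the centre is the commutator subgroup
  have hZ : Subgroup.center P ≤ commutator P := by
    intro z hz
    by_contra hzc
    obtain ⟨k, hk⟩ := IsPGroup.iff_orderOf.1 hP z
    obtain ⟨j, hj⟩ : ∃ j, z ^ p ^ j ∉ commutator P ∧ (z ^ p ^ j) ^ p ∈ commutator P := by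
      by_contra hcon
      push Not at hcon
      have : ∀ j, z ^ p ^ j ∉ commutator P := by
        intro j
        induction j with
        | zero => rwa [pow_zero, pow_one]
        | succ i ih => rw [pow_succ, pow_mul]; exact hcon i ih
      exact this k (by rw [← hk, pow_orderOf_eq_one]; exact Subgroup.one_mem _)
    set y := z ^ p ^ j with hy
    obtain ⟨w, hw, hw1, hyw⟩ : ∃ w ∈ commutator P, w ≠ 1 ∧ y ^ p ∈ Subgroup.zpowers w := by
      by_cases h0 : y ^ p = 1
      · exact ⟨c, hc, hc1, h0 ▸ Subgroup.one_mem _⟩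
      · exact ⟨y ^ p, hj.2, h0, Subgroup.mem_zpowers _⟩
    have := hnorm w hw
    set N := Subgroup.zpowers w
    obtain ⟨hcyc, -⟩ := exists_char_ker hP h N (hquot w hw hw1)
    have hyc : QuotientGroup.mk' N y ∈ Subgroup.center (P ⧸ N) :=
      (mem_center_quotient N).2 fun u => by
        rw [commutatorElement_eq_one_iff_mul_comm.2
          (Subgroup.mem_center_iff.1 ((Subgroup.center P).pow_mem hz _) u)]
        exact N.one_mem
    have hmap : (commutator P).map (QuotientGroup.mk' N) ≤ Subgroup.center (P ⧸ N) := by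
      rintro _ ⟨u, hu, rfl⟩
      exact (mem_center_quotient N).2 fun v => by
        rw [commutatorElement_eq_one_iff_mul_comm.2 (Subgroup.mem_center_iff.1 (hcen hu) v)]
        exact N.one_mem
    have hmc : (commutator P).map (QuotientGroup.mk' N) = commutator (P ⧸ N) := by
      rw [commutator_def, commutator_def, Subgroup.map_commutator,
        Subgroup.map_top_of_surjective _ (QuotientGroup.mk'_surjective N)]
    have heq : (commutator (P ⧸ N)).subgroupOf (Subgroup.center (P ⧸ N)) =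
        Subgroup.zpowers (⟨_, hyc⟩ : Subgroup.center (P ⧸ N)) := by
      refine CfsgLib.ClassK.Kulakov.subgroup_eq_of_card ?_
      rw [Nat.card_congr (Subgroup.subgroupOfEquivOfLe (hmc ▸ hmap)).toEquiv, hquot w hw hw1,
        Nat.card_zpowers, ← Subgroup.orderOf_coe]
      refine (orderOf_eq_prime ?_ ?_).symm
      · rw [← map_pow]; exact (QuotientGroup.eq_one_iff _).2 hyw
      · intro e
        exact hj.1 ((Subgroup.zpowers_le.2 hw) ((QuotientGroup.eq_one_iff y).1 e))
    have hmem : QuotientGroup.mk' N y ∈ commutator (P ⧸ N) := by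
      have h2 : (⟨_, hyc⟩ : Subgroup.center (P ⧸ N)) ∈
          (commutator (P ⧸ N)).subgroupOf (Subgroup.center (P ⧸ N)) := by
        rw [heq]; exact Subgroup.mem_zpowers _
      exact h2
    rw [← hmc] at hmem
    obtain ⟨u, hu, e⟩ := hmem
    have h3 : u⁻¹ * y ∈ N := QuotientGroup.eq.1 e
    exact hj.1 (by
      have := (commutator P).mul_mem hu (Subgroup.zpowers_le.2 hw h3)
      rwa [mul_inv_cancel_left] at this)
  -- the two quotients have equal degrees
  have hbound : ∀ z ∈ commutator P, z ≠ 1 → ∀ [(Subgroup.zpowers z).Normal],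
      ∃ χ : IrrCharacter P, ker χ = Subgroup.zpowers z ∧ (χ : P → ℂ) 1 ≠ 1 ∧
        ∃ e : ℕ, (e = 1 ∨ e = 2) ∧
          charDegree (χ : P → ℂ) ^ 2 * p ^ e * p = Nat.card P := by
    intro z hz hz1 _
    set N := Subgroup.zpowers z
    obtain ⟨hcyc, χ, hχ, hχ1, hdeg⟩ := exists_char_ker hP h N (hquot z hz hz1)
    refine ⟨χ, hχ, hχ1, ?_⟩
    have hpow : ∀ q : Subgroup.center (P ⧸ N), q ^ p ^ 2 = 1 := by
      rintro ⟨q, hq⟩
      obtain ⟨x, rfl⟩ := QuotientGroup.mk'_surjective N q
      have h1 : x ^ p ∈ commutator P := hZ (pow_mem_center N (Subgroup.zpowers_le.2 (hcen hz))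
        (hmk z hz hz1) hq)
      refine Subtype.ext ?_
      show (QuotientGroup.mk' N x) ^ p ^ 2 = 1
      rw [← map_pow, sq, pow_mul, hexp _ h1, map_one]
    obtain ⟨g, hg⟩ := hcyc.exists_generator
    have hle : Nat.card (Subgroup.center (P ⧸ N)) ∣ p ^ 2 := by
      rw [← orderOf_eq_card_of_forall_mem_zpowers hg]
      exact orderOf_dvd_of_pow_eq_one (hpow g)
    obtain ⟨e, he2, he⟩ := (Nat.dvd_prime_pow hp).1 hle
    have he1 : 1 ≤ e := by
      by_contra h0
      have hsub : Nat.card (commutator (P ⧸ N)) ≤ Nat.card (Subgroup.center (P ⧸ N)) :=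
        Subgroup.card_le_of_le (commutator_le_center (hquot z hz hz1) (hP.to_quotient N))
      rw [hquot z hz hz1, he, show e = 0 by omega, pow_zero] at hsub
      exact absurd hsub (not_le.2 hp.one_lt)
    refine ⟨e, by omega, ?_⟩
    rw [hdeg, ← he, Subgroup.index_mul_card, ← hmk z hz hz1, ← N.index_eq_card,
      Subgroup.index_mul_card]
  have := hnorm c hc
  have := hnorm d hd
  obtain ⟨χ, hχk, hχ1, e, he, hχd⟩ := hbound c hc hc1
  obtain ⟨ψ, hψk, -, e', he', hψd⟩ := hbound d hd hd1
  have hd0 : ∀ θ : IrrCharacter P, ∃ i, charDegree (θ : P → ℂ) = p ^ i := fun θ => by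
    obtain ⟨n, hn⟩ := IsPGroup.iff_card.1 hP
    obtain ⟨i, -, hi⟩ := (Nat.dvd_prime_pow hp).1
      (hn ▸ CfsgLib.Clifford.Degrees.charDegree_dvd_card θ.2)
    exact ⟨i, hi⟩
  obtain ⟨i, hi⟩ := hd0 χ
  obtain ⟨i', hi'⟩ := hd0 ψ
  have h4 := hχd.trans hψd.symm
  rw [hi, hi', ← pow_mul, ← pow_mul, mul_assoc, mul_assoc, ← pow_succ, ← pow_succ, ← pow_add,
    ← pow_add] at h4
  have h5 := Nat.pow_right_injective hp.two_le h4
  have h6 : i = i' := by omega
  have h7 : (χ : P → ℂ) 1 = (ψ : P → ℂ) 1 := by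
    rw [← CfsgLib.Block.charDegree_cast (irr_isCharacter χ.2),
      ← CfsgLib.Block.charDegree_cast (irr_isCharacter ψ.2), hi, hi', h6]
  have h8 := eq_ker_of_degree h hχ1 h7
  rw [hχk, hψk] at h8
  exact hdc (h8 ▸ Subgroup.mem_zpowers d)

/-- The cyclic central case. -/
theorem false_of_cyclic (hP : IsPGroup p P) (h : Hyp P)
    (hcard : Nat.card (commutator P) = p ^ 2) (hcen : commutator P ≤ Subgroup.center P)
    {c : P} (hc : c ∈ commutator P) (hcp : c ^ p ≠ 1) : False := by
  have hp : p.Prime := Fact.out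
  have hord : orderOf c = p ^ 2 := by
    have h1 : orderOf c ∣ p ^ 2 := hcard ▸ Subgroup.orderOf_dvd_natCard _ hc
    obtain ⟨i, hi, hi'⟩ := (Nat.dvd_prime_pow hp).1 h1
    rw [hi']
    congr 1
    by_contra hne
    exact hcp (orderOf_dvd_iff_pow_eq_one.1 (hi' ▸ (pow_dvd_pow p (show i ≤ 1 by omega)).trans
      (pow_one p).dvd))
  have hgen : commutator P = Subgroup.zpowers c := (Subgroup.eq_of_le_of_card_ge
    (Subgroup.zpowers_le.2 hc) (by rw [Nat.card_zpowers, hord, hcard])).symm
  -- a commutator generating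
  obtain ⟨x, y, hxy⟩ : ∃ x y : P, ⁅x, y⁆ ^ p ≠ 1 := by
    by_contra hcon
    push Not at hcon
    have hle : commutator P ≤ Subgroup.zpowers (c ^ p) := by
      rw [commutator_def, Subgroup.commutator_le]
      intro a _ b _
      have hmem : ⁅a, b⁆ ∈ Subgroup.zpowers c := hgen ▸
        Subgroup.commutator_mem_commutator (Subgroup.mem_top _) (Subgroup.mem_top _)
      obtain ⟨i, hi⟩ := (IsOfFinOrder.mem_powers_iff_mem_zpowers (isOfFinOrder_of_finite c)).2 hmem
      simp only at hi
      have h2 : c ^ (i * p) = 1 := by rw [pow_mul, hi, hcon]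
      have h3 : p ∣ i := by
        have h4 := orderOf_dvd_of_pow_eq_one h2
        rw [hord, sq] at h4
        exact Nat.dvd_of_mul_dvd_mul_right hp.pos h4
      obtain ⟨j, rfl⟩ := h3
      rw [← hi, pow_mul]
      exact Subgroup.npow_mem_zpowers _ _
    have h2 := Subgroup.card_le_of_le hle
    rw [hcard, Nat.card_zpowers, orderOf_pow' c hp.ne_zero, hord,
      Nat.gcd_eq_right (dvd_pow_self p two_ne_zero), sq, Nat.mul_div_cancel _ hp.pos] at h2
    exact absurd h2 (not_le.2 (lt_mul_of_one_lt_left hp.pos hp.one_lt))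
  have hcp2 : (c ^ p) ^ p = 1 := by rw [← pow_mul, ← sq, ← hord, pow_orderOf_eq_one]
  set N := Subgroup.zpowers (c ^ p) with hN
  have hNle : N ≤ commutator P := Subgroup.zpowers_le.2 (Subgroup.pow_mem _ hc p)
  have : N.Normal := ⟨fun n hn u => by
    rw [Subgroup.mem_center_iff.1 (hcen (hNle hn)) u, mul_inv_cancel_right]; exact hn⟩
  have hNc : Nat.card N = p := by
    rw [hN, Nat.card_zpowers]; exact orderOf_eq_prime hcp2 hcp
  have hQ : Nat.card (commutator (P ⧸ N)) = p := by
    have h1 := card_commutator_quotient N hNle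
    rw [hNc, hcard, sq] at h1
    exact Nat.eq_of_mul_eq_mul_right hp.pos h1
  obtain ⟨hcyc, -⟩ := exists_char_ker hP h N hQ
  have hcomm : ∀ a b : P, ⁅a, b⁆ ∈ Subgroup.center P := fun a b =>
    hcen (Subgroup.commutator_mem_commutator (Subgroup.mem_top _) (Subgroup.mem_top _))
  have hpow : ∀ a b : P, ∀ n : ℕ, ⁅a, b ^ n⁆ = ⁅a, b⁆ ^ n := by
    intro a b n
    have h1 : a * b * a⁻¹ = ⁅a, b⁆ * b := by rw [commutatorElement_def]; group
    have h2 : a * b ^ n * a⁻¹ = ⁅a, b⁆ ^ n * b ^ n := by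
      rw [← conj_pow, h1, Commute.mul_pow ((Subgroup.mem_center_iff.1 (hcomm a b) b).symm)]
    rw [commutatorElement_def a (b ^ n), h2, mul_inv_cancel_right]
  have hNp : ∀ n ∈ N, n ^ p = 1 := fun n hn => by
    obtain ⟨i, rfl⟩ := Subgroup.mem_zpowers_iff.1 hn
    rw [← zpow_natCast, ← zpow_mul, mul_comm, zpow_mul, zpow_natCast, hcp2, one_zpow]
  have hxp : ∀ a : P, QuotientGroup.mk' N (a ^ p) ∈ Subgroup.center (P ⧸ N) := fun a =>
    (mem_center_quotient N).2 fun u => by
      rw [hpow]
      have hmem : ⁅u, a⁆ ∈ Subgroup.zpowers c := hgen ▸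
        Subgroup.commutator_mem_commutator (Subgroup.mem_top _) (Subgroup.mem_top _)
      obtain ⟨i, hi⟩ := Subgroup.mem_zpowers_iff.1 hmem
      rw [← hi, ← zpow_natCast, ← zpow_mul, mul_comm, zpow_mul, zpow_natCast]
      exact Subgroup.zpow_mem_zpowers _ _
  -- in a cyclic group one of two elements is a power of the other
  have key : ∀ a b : P, ⁅a, b⁆ ^ p ≠ 1 →
      QuotientGroup.mk' N (b ^ p) ∈ Subgroup.zpowers (QuotientGroup.mk' N (a ^ p)) → False := by
    intro a b hab hmem
    obtain ⟨i, hi⟩ := Subgroup.mem_zpowers_iff.1 hmem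
    set b' := b * (a ^ i)⁻¹ with hb'
    have h1 : b' ^ p ∈ commutator P := by
      have h3 : (a ^ p) ^ i * (b ^ p)⁻¹ ∈ commutator P := by
        have h2 : ((a ^ p) ^ i)⁻¹ * b ^ p ∈ N := QuotientGroup.eq.1 ((map_zpow _ _ _).trans hi)
        have h4 := hNle (N.inv_mem h2)
        rw [mul_inv_rev, inv_inv] at h4
        have := (inferInstance : (commutator P).Normal).conj_mem _ h4 ((a ^ p) ^ i)
        rwa [show (a ^ p) ^ i * ((b ^ p)⁻¹ * (a ^ p) ^ i) * ((a ^ p) ^ i)⁻¹ =
          (a ^ p) ^ i * (b ^ p)⁻¹ by group] at this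
      rw [← QuotientGroup.eq_one_iff] at h3 ⊢
      let A : P →* Abelianization P := Abelianization.of
      show A (b' ^ p) = 1
      have h5 : A ((a ^ p) ^ i * (b ^ p)⁻¹) = 1 := h3
      simp only [map_mul, map_inv, map_pow, map_zpow, mul_inv_eq_one] at h5
      rw [hb', map_pow, map_mul, map_inv, map_zpow, mul_pow, inv_pow, ← h5,
        ← zpow_natCast (A a ^ i), ← zpow_natCast (A a), ← zpow_mul, ← zpow_mul, mul_comm (p : ℤ),
        mul_inv_cancel]
    have h6 : ⁅a, b' ^ p⁆ = 1 :=
      commutatorElement_eq_one_iff_mul_comm.2 (Subgroup.mem_center_iff.1 (hcen h1) a)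
    rw [hpow] at h6
    have h7 : ⁅a, b'⁆ = ⁅a, b⁆ := by
      rw [hb', commutatorElement_def, commutatorElement_def]
      group
    rw [h7] at h6
    exact hab h6
  have hyx : ⁅y, x⁆ ^ p ≠ 1 := by rwa [← commutatorElement_inv, inv_pow, ne_eq, inv_eq_one]
  obtain ⟨g, hg⟩ := hcyc.exists_generator
  have hcomp : ∀ u v : Subgroup.center (P ⧸ N), u ∈ Subgroup.zpowers v ∨ v ∈ Subgroup.zpowers u := by
    intro u v
    obtain ⟨m, hm⟩ := IsPGroup.iff_card.1 ((hP.to_quotient N).to_subgroup (Subgroup.center (P ⧸ N)))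
    have hcu : Nat.card (Subgroup.zpowers u) ∣ p ^ m := hm ▸ Subgroup.card_subgroup_dvd_card _
    have hcv : Nat.card (Subgroup.zpowers v) ∣ p ^ m := hm ▸ Subgroup.card_subgroup_dvd_card _
    obtain ⟨iu, -, hiu⟩ := (Nat.dvd_prime_pow hp).1 hcu
    obtain ⟨iv, -, hiv⟩ := (Nat.dvd_prime_pow hp).1 hcv
    rcases le_total iu iv with hle | hle
    · left
      obtain ⟨H, hHle, hHc⟩ : ∃ H ≤ Subgroup.zpowers v, Nat.card H = p ^ iu := by
        refine ⟨Subgroup.zpowers (v ^ p ^ (iv - iu)), Subgroup.zpowers_le.2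
          (Subgroup.npow_mem_zpowers v _), ?_⟩
        rw [Nat.card_zpowers] at hiv
        rw [Nat.card_zpowers, orderOf_pow' v (pow_ne_zero _ hp.ne_zero), hiv,
          Nat.gcd_eq_right (pow_dvd_pow p (Nat.sub_le iv iu)),
          Nat.pow_div (Nat.sub_le iv iu) hp.pos, show iv - (iv - iu) = iu by omega]
      have e := CfsgLib.ClassK.Kulakov.subgroup_eq_of_card (H := Subgroup.zpowers u) (K := H) (hiu.trans hHc.symm)
      exact hHle (e ▸ Subgroup.mem_zpowers u)
    · right
      obtain ⟨H, hHle, hHc⟩ : ∃ H ≤ Subgroup.zpowers u, Nat.card H = p ^ iv := by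
        refine ⟨Subgroup.zpowers (u ^ p ^ (iu - iv)), Subgroup.zpowers_le.2
          (Subgroup.npow_mem_zpowers u _), ?_⟩
        rw [Nat.card_zpowers] at hiu
        rw [Nat.card_zpowers, orderOf_pow' u (pow_ne_zero _ hp.ne_zero), hiu,
          Nat.gcd_eq_right (pow_dvd_pow p (Nat.sub_le iu iv)),
          Nat.pow_div (Nat.sub_le iu iv) hp.pos, show iu - (iu - iv) = iv by omega]
      have e := CfsgLib.ClassK.Kulakov.subgroup_eq_of_card (H := Subgroup.zpowers v) (K := H) (hiv.trans hHc.symm)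
      exact hHle (e ▸ Subgroup.mem_zpowers v)
  rcases hcomp ⟨_, hxp y⟩ ⟨_, hxp x⟩ with h1 | h1
  · obtain ⟨i, hi⟩ := Subgroup.mem_zpowers_iff.1 h1
    exact key x y hxy (Subgroup.mem_zpowers_iff.2 ⟨i, congrArg Subtype.val hi⟩)
  · obtain ⟨i, hi⟩ := Subgroup.mem_zpowers_iff.1 h1
    exact key y x hyx (Subgroup.mem_zpowers_iff.2 ⟨i, congrArg Subtype.val hi⟩)

/-- The case of a noncentral commutator subgroup. -/
theorem false_of_noncentral (hP : IsPGroup p P) (h : Hyp P)
    (hcard : Nat.card (commutator P) = p ^ 2) (hcen : ¬ commutator P ≤ Subgroup.center P) :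
    False := by
  classical
  have hp : p.Prime := Fact.out
  obtain ⟨N, hNn, hNle, hNZ, hNc⟩ := exists_central_le hP (commutator P) (fun hb => hcen (hb ▸ bot_le))
  have hQ : Nat.card (commutator (P ⧸ N)) = p := by
    have h1 := card_commutator_quotient N hNle
    rw [hNc, hcard, sq] at h1
    exact Nat.eq_of_mul_eq_mul_right hp.pos h1
  obtain ⟨hcyc, χ, hχk, hχ1, hχd⟩ := exists_char_ker hP h N hQ
  -- `N` is the central part of the commutator subgroup
  have hinter : ∀ u ∈ commutator P, u ∈ Subgroup.center P → u ∈ N := by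
    intro u hu huZ
    by_contra huN
    refine hcen ?_
    have hle : commutator P ⊓ Subgroup.center P = commutator P := by
      have h1 : N ≤ commutator P ⊓ Subgroup.center P := le_inf hNle hNZ
      have h2 : Nat.card ↥(commutator P ⊓ Subgroup.center P) ∣ p ^ 2 :=
        hcard ▸ Subgroup.card_dvd_of_le inf_le_left
      obtain ⟨i, hi2, hi⟩ := (Nat.dvd_prime_pow hp).1 h2
      refine Subgroup.eq_of_le_of_card_ge inf_le_left ?_
      rw [hcard, hi]
      refine Nat.pow_le_pow_right hp.pos ?_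
      by_contra hlt
      have h3 : Nat.card ↥(commutator P ⊓ Subgroup.center P) ≤ Nat.card N := by
        rw [hi, hNc]
        exact (Nat.pow_le_pow_right hp.pos (show i ≤ 1 by omega)).trans_eq (pow_one p)
      exact huN ((Subgroup.eq_of_le_of_card_ge h1 h3).ge ⟨hu, huZ⟩)
    exact inf_eq_left.1 hle
  have hcomab : ∀ u ∈ commutator P, ∀ v ∈ commutator P, u * v = v * u := by
    intro u hu v hv
    have h2 : IsMulCommutative (commutator P) :=
      IsPGroup.isMulCommutative_of_card_eq_prime_sq hcard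
    exact congrArg Subtype.val (h2.is_comm.comm ⟨u, hu⟩ ⟨v, hv⟩)
  -- the centre of the quotient is the commutator subgroup
  have hZN : ∀ x : P, QuotientGroup.mk' N x ∈ Subgroup.center (P ⧸ N) → x ∈ commutator P := by
    intro x hx
    by_contra hxc
    obtain ⟨c, hc, hcN⟩ : ∃ c ∈ commutator P, c ∉ N := by
      by_contra hcon
      push Not at hcon
      exact hcen (le_trans hcon hNZ)
    have hcQ : QuotientGroup.mk' N c ∈ commutator (P ⧸ N) := by
      rw [commutator_def, ← Subgroup.map_top_of_surjective _ (QuotientGroup.mk'_surjective N),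
        ← Subgroup.map_commutator, ← commutator_def]
      exact Subgroup.mem_map_of_mem _ hc
    have hQc := commutator_le_center hQ (hP.to_quotient N)
    have hcz : orderOf (⟨_, hQc hcQ⟩ : Subgroup.center (P ⧸ N)) = p := by
      rw [← Subgroup.orderOf_coe]
      refine orderOf_eq_prime ?_ (fun e => hcN ((QuotientGroup.eq_one_iff c).1 e))
      have h5 : (⟨_, hcQ⟩ : commutator (P ⧸ N)) ^ Nat.card (commutator (P ⧸ N)) = 1 :=
        pow_card_eq_one'
      rw [hQ] at h5
      exact congrArg Subtype.val h5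
    set xb : Subgroup.center (P ⧸ N) := ⟨_, hx⟩
    obtain ⟨k, hk⟩ := IsPGroup.iff_orderOf.1 ((hP.to_quotient N).to_subgroup _) xb
    rcases Nat.lt_or_ge k 2 with hk2 | hk2
    · have hxp : orderOf xb ∣ p := by
        rw [hk]; exact (pow_dvd_pow p (by omega : k ≤ 1)).trans (pow_one p).dvd
      rcases (Nat.dvd_prime hp).1 hxp with h1 | h1
      · have h1' := congrArg Subtype.val (orderOf_eq_one_iff.1 h1)
        exact hxc (hNle ((QuotientGroup.eq_one_iff x).1 h1'))
      · have e := CfsgLib.ClassK.Kulakov.subgroup_eq_of_card (H := Subgroup.zpowers xb)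
          (K := Subgroup.zpowers ⟨_, hQc hcQ⟩) (by rw [Nat.card_zpowers, Nat.card_zpowers, h1, hcz])
        obtain ⟨i, hi⟩ := Subgroup.mem_zpowers_iff.1 (e ▸ Subgroup.mem_zpowers xb)
        have h2 : QuotientGroup.mk' N (c ^ i) = QuotientGroup.mk' N x := by
          rw [map_zpow]; exact congrArg Subtype.val hi
        have h3 := (commutator P).mul_mem ((commutator P).zpow_mem hc i) (hNle (QuotientGroup.eq.1 h2))
        rw [mul_inv_cancel_left] at h3
        exact hxc h3
    · have hxp : orderOf (xb ^ p ^ (k - 1)) = p := by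
        rw [orderOf_pow' xb (pow_ne_zero _ hp.ne_zero), hk,
          Nat.gcd_eq_right (pow_dvd_pow p (Nat.sub_le k 1)),
          Nat.pow_div (Nat.sub_le k 1) hp.pos, show k - (k - 1) = 1 by omega, pow_one]
      have e := CfsgLib.ClassK.Kulakov.subgroup_eq_of_card (H := Subgroup.zpowers (⟨_, hQc hcQ⟩ : Subgroup.center (P ⧸ N)))
          (K := Subgroup.zpowers (xb ^ p ^ (k - 1)))
          (by rw [Nat.card_zpowers, Nat.card_zpowers, hcz, hxp])
      obtain ⟨i, hi⟩ := Subgroup.mem_zpowers_iff.1 (e ▸ Subgroup.mem_zpowers _)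
      have h2 : QuotientGroup.mk' N ((x ^ p ^ (k - 1)) ^ i) = QuotientGroup.mk' N c := by
        rw [map_zpow, map_pow]; exact congrArg Subtype.val hi
      have hxZ : x ^ p ^ (k - 1) ∈ Subgroup.center P := by
        rw [show k - 1 = (k - 2) + 1 by omega, pow_succ', pow_mul]
        exact (Subgroup.center P).pow_mem (pow_mem_center N hNZ hNc hx) _
      have h3 := (Subgroup.center P).mul_mem ((Subgroup.center P).zpow_mem hxZ i)
        (hNZ (QuotientGroup.eq.1 h2))
      rw [mul_inv_cancel_left] at h3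
      exact hcN (hinter c hc h3)
  have hidx : (Subgroup.center (P ⧸ N)).index = (commutator P).index := by
    rw [← Subgroup.index_comap_of_surjective _ (QuotientGroup.mk'_surjective N)]
    congr 1
    ext x
    refine ⟨fun hx => hZN x hx, fun hx => commutator_le_center hQ (hP.to_quotient N) ?_⟩
    rw [commutator_def, ← Subgroup.map_top_of_surjective _ (QuotientGroup.mk'_surjective N),
      ← Subgroup.map_commutator, ← commutator_def]
    exact Subgroup.mem_map_of_mem _ hx
  rw [hidx] at hχd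
  -- the centraliser of the commutator subgroup
  set C := Subgroup.centralizer ((commutator P : Subgroup P) : Set P) with hC
  have hcommC : commutator P ≤ C := fun u hu =>
    Subgroup.mem_centralizer_iff.2 fun v hv => hcomab v hv u hu
  have hCC : ∀ a ∈ C, ∀ b ∈ C, ⁅a, b⁆ ∈ N := by
    intro a ha b hb
    have hd : ⁅a, b⁆ ∈ commutator P :=
      Subgroup.commutator_mem_commutator (Subgroup.mem_top _) (Subgroup.mem_top _)
    refine hinter _ hd (Subgroup.mem_center_iff.2 fun t => mul_inv_eq_iff_eq_mul.1 ?_)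
    have hu : ⁅t, a⁆ ∈ commutator P :=
      Subgroup.commutator_mem_commutator (Subgroup.mem_top _) (Subgroup.mem_top _)
    have hv : ⁅t, b⁆ ∈ commutator P :=
      Subgroup.commutator_mem_commutator (Subgroup.mem_top _) (Subgroup.mem_top _)
    rw [show t * ⁅a, b⁆ * t⁻¹ = ⁅⁅t, a⁆ * a, ⁅t, b⁆ * b⁆ by
      simp only [commutatorElement_def]; group]
    rw [commutatorElement_def, commutatorElement_def a b]
    generalize ⁅t, a⁆ = u at hu ⊢
    generalize ⁅t, b⁆ = v at hv ⊢
    have c1 : u * v = v * u := hcomab u hu v hv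
    have c2 : v * a = a * v := Subgroup.mem_centralizer_iff.1 ha v hv
    have c3 : u * b = b * u := Subgroup.mem_centralizer_iff.1 hb u hu
    calc u * a * (v * b) * (u * a)⁻¹ * (v * b)⁻¹
        = u * (a * v) * b * a⁻¹ * u⁻¹ * b⁻¹ * v⁻¹ := by group
      _ = (u * v) * a * b * a⁻¹ * (u⁻¹ * b⁻¹) * v⁻¹ := by rw [← c2]; group
      _ = (v * u) * (a * b * a⁻¹ * b⁻¹) * u⁻¹ * v⁻¹ := by
          rw [c1, ← mul_inv_rev, ← c3, mul_inv_rev]; group
      _ = (v * u) * (v * u)⁻¹ * (a * b * a⁻¹ * b⁻¹) := by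
          have hd' : (v * u) * (a * b * a⁻¹ * b⁻¹) = (a * b * a⁻¹ * b⁻¹) * (v * u) :=
            hcomab _ ((commutator P).mul_mem hv hu) _ hd
          rw [mul_inv_cancel, one_mul, hd']; group
      _ = _ := by rw [mul_inv_cancel, one_mul]
  obtain ⟨c, hc, hcN⟩ : ∃ c ∈ commutator P, c ∉ N := by
    by_contra hcon
    push Not at hcon
    exact hcen (le_trans hcon hNZ)
  have hQc := commutator_le_center hQ (hP.to_quotient N)
  have hmapc : ∀ u ∈ commutator P, QuotientGroup.mk' N u ∈ Subgroup.center (P ⧸ N) := fun u hu =>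
    hQc (by
      rw [commutator_def, ← Subgroup.map_top_of_surjective _ (QuotientGroup.mk'_surjective N),
        ← Subgroup.map_commutator, ← commutator_def]
      exact Subgroup.mem_map_of_mem _ hu)
  let f : P →* N :=
    { toFun := fun u => ⟨⁅u, c⁆, (mem_center_quotient N).1 (hmapc c hc) u⟩
      map_one' := Subtype.ext (commutatorElement_one_left c)
      map_mul' := fun u v => Subtype.ext (by
        show ⁅u * v, c⁆ = ⁅u, c⁆ * ⁅v, c⁆
        have hv : ⁅v, c⁆ ∈ Subgroup.center P := hNZ ((mem_center_quotient N).1 (hmapc c hc) v)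
        rw [show ⁅u * v, c⁆ = u * ⁅v, c⁆ * u⁻¹ * ⁅u, c⁆ by simp only [commutatorElement_def]; group,
          Subgroup.mem_center_iff.1 hv u, mul_inv_cancel_right,
          Subgroup.mem_center_iff.1 hv ⁅u, c⁆]) }
  have hker : f.ker ≤ C := by
    intro u hu
    rw [MonoidHom.mem_ker] at hu
    refine Subgroup.mem_centralizer_iff.2 fun v hv => ?_
    have hle : commutator P ≤ Subgroup.centralizer ({u} : Set P) := by
      have h1 : N ⊔ Subgroup.zpowers c ≤ Subgroup.centralizer ({u} : Set P) := by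
        refine sup_le (fun n hn => ?_) (Subgroup.zpowers_le.2 ?_)
        · rw [Subgroup.mem_centralizer_singleton_iff]; exact (Subgroup.mem_center_iff.1 (hNZ hn) u).symm
        · rw [Subgroup.mem_centralizer_singleton_iff]
          exact (commutatorElement_eq_one_iff_mul_comm.1 (congrArg Subtype.val hu)).symm
      refine le_trans (le_of_eq (Subgroup.eq_of_le_of_card_ge (sup_le hNle (Subgroup.zpowers_le.2 hc))
        ?_).symm) h1
      obtain ⟨i, -, hi⟩ := (Nat.dvd_prime_pow hp).1
        (hcard ▸ Subgroup.card_dvd_of_le (sup_le hNle (Subgroup.zpowers_le.2 hc)) :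
          Nat.card ↥(N ⊔ Subgroup.zpowers c) ∣ p ^ 2)
      rw [hcard, hi]
      refine Nat.pow_le_pow_right hp.pos ?_
      by_contra hlt
      have h3 : Nat.card ↥(N ⊔ Subgroup.zpowers c) ≤ Nat.card N := by
        rw [hi, hNc]
        exact (Nat.pow_le_pow_right hp.pos (show i ≤ 1 by omega)).trans_eq (pow_one p)
      have e := Subgroup.eq_of_le_of_card_ge (le_sup_left (b := Subgroup.zpowers c)) h3
      exact hcN (e.ge (Subgroup.mem_sup_right (Subgroup.mem_zpowers c)))
    exact Subgroup.mem_centralizer_singleton_iff.1 (hle hv)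
  have hCidx : C.index ∣ p := by
    refine (Subgroup.index_dvd_of_le hker).trans ?_
    rw [Subgroup.index_ker, ← hNc]
    exact Subgroup.card_subgroup_dvd_card _
  have hCne : C ≠ ⊤ := fun e => hcen fun v hv => Subgroup.mem_center_iff.2 fun u =>
    (Subgroup.mem_centralizer_iff.1 (e ▸ Subgroup.mem_top u : u ∈ C) v hv).symm
  obtain ⟨t, ht⟩ : ∃ t, t ∉ C := not_forall.1 fun hall => hCne ((Subgroup.eq_top_iff' C).2 hall)
  have hCp : C.index = p :=
    ((Nat.dvd_prime hp).1 hCidx).resolve_left fun h0 => hCne (Subgroup.index_eq_one.1 h0)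
  let g : C →* commutator (P ⧸ N) :=
    { toFun := fun a => ⟨⁅QuotientGroup.mk' N a, QuotientGroup.mk' N t⁆,
        Subgroup.commutator_mem_commutator (Subgroup.mem_top _) (Subgroup.mem_top _)⟩
      map_one' := Subtype.ext (by simp)
      map_mul' := fun a b => Subtype.ext (by
        show ⁅QuotientGroup.mk' N ((a * b : C) : P), _⁆ = _ * _
        rw [Subgroup.coe_mul, map_mul]
        have hv : ⁅QuotientGroup.mk' N (b : P), QuotientGroup.mk' N t⁆ ∈ Subgroup.center (P ⧸ N) :=
          hQc (Subgroup.commutator_mem_commutator (Subgroup.mem_top _) (Subgroup.mem_top _))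
        generalize QuotientGroup.mk' N (a : P) = u
        generalize QuotientGroup.mk' N (b : P) = v at hv ⊢
        generalize QuotientGroup.mk' N t = w at hv ⊢
        rw [show ⁅u * v, w⁆ = u * ⁅v, w⁆ * u⁻¹ * ⁅u, w⁆ by simp only [commutatorElement_def]; group,
          Subgroup.mem_center_iff.1 hv u, mul_inv_cancel_right,
          Subgroup.mem_center_iff.1 hv ⁅u, w⁆]) }
  have hgker : g.ker ≤ (commutator P).subgroupOf C := by
    intro a ha
    refine hZN _ ((mem_center_quotient N).2 fun y => ?_)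
    have hNn' : (Subgroup.centralizer ({QuotientGroup.mk' N (a : P)} : Set (P ⧸ N))).comap
        (QuotientGroup.mk' N) = ⊤ := by
      set K := (Subgroup.centralizer ({QuotientGroup.mk' N (a : P)} : Set (P ⧸ N))).comap
        (QuotientGroup.mk' N)
      have hCK : C ≤ K := fun b hb => by
        rw [Subgroup.mem_comap, Subgroup.mem_centralizer_singleton_iff,
          ← commutatorElement_eq_one_iff_mul_comm, ← map_commutatorElement, QuotientGroup.mk'_apply,
          QuotientGroup.eq_one_iff]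
        exact hCC b hb a a.2
      have htK : t ∈ K := by
        rw [Subgroup.mem_comap, Subgroup.mem_centralizer_singleton_iff]
        exact (commutatorElement_eq_one_iff_mul_comm.1 (congrArg Subtype.val ha)).symm
      rcases (Nat.dvd_prime hp).1 (hCp ▸ Subgroup.index_dvd_of_le hCK) with h0 | h0
      · exact Subgroup.index_eq_one.1 h0
      · exfalso
        have e : C = K := Subgroup.eq_of_le_of_card_ge hCK (by
          have h1 := C.index_mul_card
          have h2 := K.index_mul_card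
          rw [hCp] at h1; rw [h0] at h2
          exact (Nat.eq_of_mul_eq_mul_left hp.pos (h2.trans h1.symm)).le)
        exact ht (e ▸ htK)
    have h1 := Subgroup.mem_centralizer_singleton_iff.1
      (Subgroup.mem_comap.1 (hNn' ▸ Subgroup.mem_top y))
    rw [← QuotientGroup.eq_one_iff, ← QuotientGroup.mk'_apply, map_commutatorElement,
      commutatorElement_eq_one_iff_mul_comm]
    exact h1
  have hidxle : (commutator P).index ≤ p ^ 2 := by
    rw [← Subgroup.relIndex_mul_index hcommC, hCp, sq]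
    refine Nat.mul_le_mul_right p ?_
    refine (Nat.le_of_dvd (Nat.pos_of_ne_zero Subgroup.index_ne_zero_of_finite)
      (Subgroup.index_dvd_of_le hgker)).trans ?_
    rw [Subgroup.index_ker, ← hQ]
    exact Subgroup.card_le_card_group _
  have hdeg : ∀ θ : IrrCharacter P, (θ : P → ℂ) 1 ≠ 1 → ∃ i, 1 ≤ i ∧
      charDegree (θ : P → ℂ) = p ^ i := by
    intro θ hθ
    obtain ⟨n, hn⟩ := IsPGroup.iff_card.1 hP
    obtain ⟨i, -, hi⟩ := (Nat.dvd_prime_pow hp).1
      (hn ▸ CfsgLib.Clifford.Degrees.charDegree_dvd_card θ.2)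
    refine ⟨i, Nat.pos_of_ne_zero fun h0 => hθ ?_, hi⟩
    rw [← CfsgLib.Block.charDegree_cast (irr_isCharacter θ.2), hi, h0, pow_zero, Nat.cast_one]
  obtain ⟨i, hi1, hi⟩ := hdeg χ hχ1
  rw [hi, ← pow_mul] at hχd
  have hi' : i = 1 := by
    have h5 := hχd.trans_le hidxle
    have h6 := (Nat.pow_le_pow_iff_right hp.one_lt).1 h5
    omega
  subst hi'
  -- a character not killing `N`
  obtain ⟨n, hn, hn1⟩ : ∃ n ∈ N, n ≠ 1 := by
    by_contra hcon
    push Not at hcon
    rw [(Subgroup.eq_bot_iff_forall N).2 hcon, Subgroup.card_bot] at hNc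
    exact hp.one_lt.ne hNc
  obtain ⟨θ, hθn⟩ : ∃ θ : IrrCharacter P, n ∉ ker θ := by
    have := Fintype.ofFinite P
    by_contra hcon
    push Not at hcon
    exact hn1 (isConj_one_right.1 ((isConj_iff_forall_irr n 1).2 fun θ => hcon θ).symm)
  have hθ1 : (θ : P → ℂ) 1 ≠ 1 := fun h1 => hθn (commutator_le_ker h1 (hNle hn))
  obtain ⟨j, hj1, hj⟩ := hdeg θ hθ1
  have hj2 : j = 1 := by
    have h2 := (sq_degree_le θ).1
    rw [hj, ← pow_mul] at h2
    have h3 : (Subgroup.center P).index ≤ p ^ 3 := by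
      have h4 : (Subgroup.center P).index ∣ N.index := Subgroup.index_dvd_of_le hNZ
      have h5 : Nat.card P = p ^ 4 := by
        rw [← (commutator P).index_mul_card, hcard, ← hχd, ← pow_add]
      have h6 : N.index = p ^ 3 := by
        have h7 := N.index_mul_card
        rw [hNc, h5, pow_succ] at h7
        exact Nat.eq_of_mul_eq_mul_right hp.pos h7
      exact h6 ▸ Nat.le_of_dvd (h6 ▸ pow_pos hp.pos 3) h4
    have h5 := (Nat.pow_le_pow_iff_right hp.one_lt).1 (h2.trans h3)
    omega
  have h7 : (χ : P → ℂ) 1 = (θ : P → ℂ) 1 := by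
    rw [← CfsgLib.Block.charDegree_cast (irr_isCharacter χ.2),
      ← CfsgLib.Block.charDegree_cast (irr_isCharacter θ.2), hi, hj, hj2]
  exact hθn (by rw [eq_ker_of_degree h hχ1 h7, hχk]; exact hn)

/-- **The commutator subgroup has order `p`.** -/
theorem card_commutator : ∀ (n : ℕ) (P : Type u) [Group P] [Finite P], Nat.card P = n →
    IsPGroup p P → Hyp P → (¬ ∀ a b : P, a * b = b * a) → Nat.card (commutator P) = p := by
  intro n
  induction n using Nat.strong_induction_on with
  | _ n IH =>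
    intro P _ _ hn hP h hna
    have hp : p.Prime := Fact.out
    obtain ⟨k, hk⟩ := IsPGroup.iff_card.1 (hP.to_subgroup (commutator P))
    have hne : commutator P ≠ ⊥ := fun e => hna fun a b =>
      commutatorElement_eq_one_iff_mul_comm.1 ((Subgroup.eq_bot_iff_forall _).1 e _
        (Subgroup.commutator_mem_commutator (Subgroup.mem_top _) (Subgroup.mem_top _)))
    have hk0 : k ≠ 0 := fun e => hne (Subgroup.card_eq_one.1 (by rw [hk, e, pow_zero]))
    rcases Nat.lt_or_ge k 2 with hk2 | hk2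
    · rw [hk, show k = 1 by omega, pow_one]
    exfalso
    rcases Nat.lt_or_ge k 3 with hk3 | hk3
    · have hcard : Nat.card (commutator P) = p ^ 2 := by rw [hk, show k = 2 by omega]
      by_cases hcen : commutator P ≤ Subgroup.center P
      · by_cases hexp : ∀ c ∈ commutator P, c ^ p = 1
        · exact false_of_elementary hP h hcard hcen hexp
        · push Not at hexp
          obtain ⟨c, hc, hcp⟩ := hexp
          exact false_of_cyclic hP h hcard hcen hc hcp
      · exact false_of_noncentral hP h hcard hcen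
    obtain ⟨N, hNn, hNle, -, hNc⟩ := exists_central_le hP (commutator P) hne
    have h1 := card_commutator_quotient N hNle
    rw [hNc, hk] at h1
    have hlt : Nat.card (P ⧸ N) < n := by
      rw [← hn, ← N.index_eq_card, ← N.index_mul_card, hNc]
      exact lt_mul_of_one_lt_right (Nat.pos_of_ne_zero Subgroup.index_ne_zero_of_finite) hp.one_lt
    have hna' : ¬ ∀ a b : P ⧸ N, a * b = b * a := by
      intro hab
      have hbot : commutator (P ⧸ N) = ⊥ := by
        rw [commutator_def, Subgroup.commutator_eq_bot_iff_le_centralizer]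
        exact fun a _ => Subgroup.mem_centralizer_iff.2 fun b _ => hab b a
      rw [hbot, Subgroup.card_bot, one_mul] at h1
      have h4 := Nat.pow_right_injective hp.two_le ((pow_one p).trans h1)
      omega
    rw [IH _ hlt (P ⧸ N) rfl (hP.to_quotient N) (hyp_quotient h N) hna', ← sq] at h1
    have h4 := Nat.pow_right_injective hp.two_le h1
    omega

/-- The converse direction. -/
theorem hyp_of_cyclic (hP : IsPGroup p P) (hcyc : IsCyclic (Subgroup.center P))
    (hcard : Nat.card (commutator P) = p) : Hyp P := by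
  classical
  intro χ ψ h1 h2
  have hle := commutator_le_center hcard hP
  have hfaith : ∀ θ : IrrCharacter P, (θ : P → ℂ) 1 ≠ 1 →
      ∀ lam : Subgroup.center P →* ℂˣ, (∀ (z : Subgroup.center P) (g : P),
        (θ : P → ℂ) ((z : P) * g) = (lam z : ℂ) * (θ : P → ℂ) g) → Function.Injective lam := by
    intro θ hθ lam hlam
    rw [← MonoidHom.ker_eq_bot_iff]
    by_contra hne
    obtain ⟨m, hm⟩ := IsPGroup.iff_card.1 ((hP.to_subgroup _).to_subgroup lam.ker)
    obtain ⟨z, hz⟩ := exists_prime_orderOf_dvd_card' (G := lam.ker) p (by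
      rw [hm]
      exact dvd_pow_self p fun h0 => hne (Subgroup.card_eq_one.1 (by rw [hm, h0, pow_zero])))
    have e := CfsgLib.ClassK.Kulakov.subgroup_eq_of_card
      (H := Subgroup.zpowers (z : Subgroup.center P)) (K := (commutator P).subgroupOf (Subgroup.center P))
      (by rw [Nat.card_zpowers, Nat.card_congr (Subgroup.subgroupOfEquivOfLe hle).toEquiv, hcard,
        Subgroup.orderOf_coe, hz])
    refine hθ (degree_one_of_commutator_le fun u hu => ?_)
    have h3 : (⟨u, hle hu⟩ : Subgroup.center P) ∈ Subgroup.zpowers (z : Subgroup.center P) := by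
      rw [e]; exact hu
    have h4 : lam ⟨u, hle hu⟩ = 1 := MonoidHom.mem_ker.1 (Subgroup.zpowers_le.2 z.2 h3)
    have h5 := hlam ⟨u, hle hu⟩ 1
    rw [h4, Units.val_one, one_mul, mul_one] at h5
    exact h5
  have hvan : ∀ θ : IrrCharacter P, (θ : P → ℂ) 1 ≠ 1 → ∀ g, g ∉ Subgroup.center P →
      (θ : P → ℂ) g = 0 := by
    intro θ hθ g hg
    obtain ⟨lam, hlam⟩ := exists_central θ
    rw [Subgroup.mem_center_iff] at hg
    push Not at hg
    obtain ⟨y, hy⟩ := hg
    set z : Subgroup.center P := ⟨⁅y, g⁆, hle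
      (Subgroup.commutator_mem_commutator (Subgroup.mem_top _) (Subgroup.mem_top _))⟩
    have h3 := hlam z g
    rw [show ((z : Subgroup.center P) : P) * g = y * g * y⁻¹ by
      show ⁅y, g⁆ * g = _; rw [commutatorElement_def]; group, irr_isClassFunction θ.2 g y] at h3
    by_contra hne
    have h4 : (lam z : ℂ) = 1 := mul_right_cancel₀ hne (h3.symm.trans (one_mul _).symm)
    exact hy (commutatorElement_eq_one_iff_mul_comm.1 (congrArg Subtype.val
      (hfaith θ hθ lam hlam (show lam z = lam 1 by rw [map_one]; exact Units.ext h4))))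
  obtain ⟨lam, hlam⟩ := exists_central χ
  obtain ⟨mu, hmu⟩ := exists_central ψ
  have hli := hfaith χ h1 lam hlam
  have hmi := hfaith ψ (h2 ▸ h1) mu hmu
  obtain ⟨g₀, hg₀⟩ := hcyc.exists_generator
  have hpr : IsPrimitiveRoot ((lam g₀ : ℂˣ) : ℂ) (orderOf g₀) := by
    rw [show orderOf g₀ = orderOf ((lam g₀ : ℂˣ) : ℂ) from
      (orderOf_injective ((Units.coeHom ℂ).comp lam) (Units.val_injective.comp hli) g₀).symm]
    exact IsPrimitiveRoot.orderOf _
  have hprm : IsPrimitiveRoot ((mu g₀ : ℂˣ) : ℂ) (orderOf g₀) := by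
    rw [show orderOf g₀ = orderOf ((mu g₀ : ℂˣ) : ℂ) from
      (orderOf_injective ((Units.coeHom ℂ).comp mu) (Units.val_injective.comp hmi) g₀).symm]
    exact IsPrimitiveRoot.orderOf _
  have : NeZero (orderOf g₀) := ⟨(orderOf_pos g₀).ne'⟩
  obtain ⟨k, -, hkc, hk⟩ := hpr.isPrimitiveRoot_iff.1 hprm
  obtain ⟨n, hn⟩ := IsPGroup.iff_card.1 hP
  have hkP : Nat.Coprime k (Nat.card P) := by
    rw [hn]
    refine Nat.Coprime.pow_right n ((Fact.out : p.Prime).coprime_iff_not_dvd.2 fun hd => ?_).symm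
    have hcp : p ∣ orderOf g₀ := by
      rw [orderOf_eq_card_of_forall_mem_zpowers hg₀]
      exact hcard ▸ Subgroup.card_dvd_of_le hle
    exact (Fact.out : p.Prime).one_lt.ne' (Nat.eq_one_of_dvd_coprimes hkc hd hcp)
  refine ⟨k, hkP, fun g => ?_⟩
  by_cases hg : g ∈ Subgroup.center P
  · have hkey : ∀ z : Subgroup.center P, mu z = lam z ^ k := by
      intro z
      obtain ⟨i, rfl⟩ := Subgroup.mem_zpowers_iff.1 (hg₀ z)
      rw [map_zpow, map_zpow, ← zpow_natCast (lam g₀ ^ i), ← zpow_mul, mul_comm, zpow_mul,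
        zpow_natCast]
      congr 1
      exact Units.ext (by rw [Units.val_pow_eq_pow_val, hk])
    have h3 := hmu ⟨g, hg⟩ 1
    have h4 := hlam (⟨g, hg⟩ ^ k) 1
    rw [mul_one] at h3 h4
    rw [SubgroupClass.coe_pow] at h4
    rw [h3, h4, hkey, map_pow, h2]
  · rw [hvan ψ (h2 ▸ h1) g hg, hvan χ h1 (g ^ k) fun hgk => hg ?_]
    obtain ⟨m, hm⟩ := exists_pow_eq_self_of_coprime
      (Nat.Coprime.coprime_dvd_right (orderOf_dvd_natCard g) hkP)
    rw [← hm]
    exact (Subgroup.center P).pow_mem hgk m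

end CfsgLib.BlockB.GaloisDegree
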