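import Cfsg.Agent.Lib.BlockB.ClassMul
import Cfsg.Agent.Lib.Char.Linear

/-!
# Averaging characters over cosets of a normal subgroup
-/

namespace CfsgLib.BlockB

open scoped ComplexConjugate
open CfsgLib.Char

universe u

variable {G : Type u} [Group G] [Fintype G] (N : Subgroup G) [N.Normal] [Fintype N]

theorem sum_coset_irr_of_ker {χ : G → ℂ} (hχ : Cfsg.IsIrrCharacter G χ)
    (h : ∃ n : N, χ (n : G) ≠ χ 1) (x : G) : ∑ n : N, χ ((n : G) * x) = 0 := by
  classical
  obtain ⟨d, ρ, hρ, rfl⟩ := hχ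
  obtain ⟨m, hm⟩ := h
  let f : G → ℂ := fun a => if a ∈ N then 1 else 0
  have hf : Cfsg.IsClassFunction G f := fun a b => by
    have : b * a * b⁻¹ ∈ N ↔ a ∈ N := by
      refine ⟨fun hb => ?_, fun ha => (inferInstance : N.Normal).conj_mem a ha b⟩
      simpa [mul_assoc] using (inferInstance : N.Normal).conj_mem _ hb b⁻¹
    simp only [f, this]
  have hS := classOp_eq_scalar hf ρ
  set c : ℂ := (Nat.card G : ℂ) * Cfsg.classInner f ρ.character /
    (Module.finrank ℂ (Fin d → ℂ) : ℂ) with hc
  have hSN : classOp f ρ = ∑ n : N, ρ (n : G) := by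
    unfold classOp
    rw [← Fintype.sum_equiv (Equiv.inv N) (fun n : N => ρ ((n : G)⁻¹)) _ (fun n => rfl)]
    simp only [f, ite_smul, one_smul, zero_smul, ← Finset.sum_filter]
    exact Finset.sum_subtype _ (by simp) (fun a => ρ a⁻¹)
  rw [hSN] at hS
  have hmS : ρ (m : G) * ∑ n : N, ρ (n : G) = ∑ n : N, ρ (n : G) := by
    rw [Finset.mul_sum]
    exact Fintype.sum_equiv (Equiv.mulLeft m) _ _ fun n => by simp [← map_mul]
  rw [hS, mul_smul_comm, ← Module.End.one_eq_id, mul_one] at hmS
  have hc0 : c = 0 := by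
    by_contra hc0
    apply hm
    have := smul_right_injective _ hc0 hmS
    simp [Representation.character, this]
  rw [hc0, zero_smul] at hS
  have h1 := congr_arg (fun F => LinearMap.trace ℂ (Fin d → ℂ) (F * ρ x)) hS
  simp only [Finset.sum_mul, ← map_mul, map_sum, zero_mul, map_zero] at h1
  exact h1

/-- The average of a character over a coset is the value of a character trivial on `N`. -/
theorem exists_isCharacter_coset_avg {φ : G → ℂ} (hφ : Cfsg.IsCharacter G φ) :
    ∃ ψ : G → ℂ, Cfsg.IsCharacter G ψ ∧ ∀ x, ∑ n : N, φ ((n : G) * x) = (Nat.card N : ℂ) * ψ x := by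
  classical
  have := Fintype.ofFinite (Cfsg.IrrCharacter G)
  choose k hk using fun χ : Cfsg.IrrCharacter G =>
    classInner_isCharacter_nat hφ (irr_isCharacter χ.2)
  refine ⟨∑ χ ∈ Finset.univ.filter (fun χ : Cfsg.IrrCharacter G =>
      ∀ n : N, (χ : G → ℂ) (n : G) = (χ : G → ℂ) 1), (k χ) • (χ : G → ℂ),
    isCharacter_sum _ fun χ _ => isCharacter_nsmul (irr_isCharacter χ.2) _, fun x => ?_⟩
  rw [Finset.sum_congr rfl (fun (n : N) _ =>
    classFunction_apply_eq_sum (isCharacter_isClassFunction hφ) ((n : G) * x)), Finset.sum_comm,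
    Finset.sum_apply, Finset.mul_sum, Finset.sum_filter]
  refine Finset.sum_congr rfl fun χ _ => ?_
  rw [← Finset.mul_sum, hk]
  split_ifs with h
  · have e : ∀ n : N, (χ : G → ℂ) ((n : G) * x) = (χ : G → ℂ) x := by
      obtain ⟨χ, d, ρ, hρ, rfl⟩ := χ
      intro n
      have h1 : ρ (n : G) = 1 := by
        have h2 := MonoidHom.mem_ker.1 ((mem_ker_iff_char ρ (n : G)).2 (h n))
        exact h2
      show ρ.character ((n : G) * x) = ρ.character x
      simp [Representation.character, h1]
    simp only [e, Finset.sum_const, Finset.card_univ, nsmul_eq_mul, Nat.card_eq_fintype_card,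
      Pi.smul_apply]
    ring
  · push Not at h
    rw [sum_coset_irr_of_ker N χ.2 h x, mul_zero]

end CfsgLib.BlockB
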