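import Cfsg.Agent.Lib.BlockB.DefectCount
import Cfsg.Agent.Lib.Block.LocalRing

/-!
# The sum of the involutions on characters of positive 2-defect
-/

namespace CfsgLib.BlockB

open scoped ComplexConjugate
open CfsgLib.Char

universe u

variable {G : Type u} [Group G] [Fintype G]

/-- A sum over the group of a class function, by classes. -/
theorem sum_eq_sum_conjClasses [Fintype (ConjClasses G)] {F : G → ℂ}
    (hF : Cfsg.IsClassFunction G F) :
    ∑ g : G, F g = ∑ C : ConjClasses G,
      ((Subgroup.centralizer ({Quotient.out C} : Set G)).index : ℂ) * F (Quotient.out C) := by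
  classical
  rw [← Finset.sum_fiberwise Finset.univ ConjClasses.mk]
  refine Finset.sum_congr rfl fun C _ => ?_
  rw [Finset.sum_congr rfl (g := fun _ => F (Quotient.out C)) fun g hg => ?_, Finset.sum_const,
    nsmul_eq_mul, ← natCard_carrier_eq_index]
  · congr 2
    rw [Nat.card_eq_fintype_card, Fintype.card_subtype]
    congr 1
    ext g
    simp only [Finset.mem_filter, ConjClasses.mem_carrier_iff_mk_eq]
    rw [show ConjClasses.mk (Quotient.out C) = C from Quotient.out_eq C]
  · refine isClassFunction_isConj hF (ConjClasses.mk_eq_mk_iff_isConj.1 ?_)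
    rw [(Finset.mem_filter.1 hg).2]
    exact (Quotient.out_eq C).symm

/-- The scalar of the sum of the elements of order at most two. -/
noncomputable def invSum (χ : G → ℂ) : ℂ :=
  open scoped Classical in (∑ u ∈ Finset.univ.filter (fun u : G => u * u = 1), χ u) / χ 1

/-- The number of ways of writing `h` as a product of two elements of order at most two. -/
noncomputable def invPairCount (h : G) : ℕ :=
  open scoped Classical in
    (Finset.univ.filter fun u : G => u * u = 1 ∧ (u * h) * (u * h) = 1).card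

open scoped Classical in
theorem invPairCount_isClassFunction :
    Cfsg.IsClassFunction G (fun h : G => (invPairCount h : ℂ)) := by
  intro g h
  simp only [invPairCount, Nat.cast_inj]
  refine (Finset.card_equiv (MulAut.conj h).toEquiv fun u => ?_).symm
  simp only [Finset.mem_filter, Finset.mem_univ, true_and, MulEquiv.toEquiv_eq_coe,
    MulEquiv.coe_toEquiv, MulAut.conj_apply]
  have e : h * u * h⁻¹ * (h * g * h⁻¹) = h * (u * g) * h⁻¹ := by group
  have e2 : ∀ v : G, h * v * h⁻¹ * (h * v * h⁻¹) = h * (v * v) * h⁻¹ := fun v => by group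
  rw [e, e2, e2, conj_eq_one_iff, conj_eq_one_iff]

open scoped Classical in
theorem invSum_sq (χ : Cfsg.IrrCharacter G) :
    invSum (χ : G → ℂ) ^ 2 = ∑ h : G, (invPairCount h : ℂ) * (χ : G → ℂ) h / (χ : G → ℂ) 1 := by
  set Ω := Finset.univ.filter (fun u : G => u * u = 1) with hΩ
  have h1 : ∑ u ∈ Ω, ∑ w ∈ Ω, (χ : G → ℂ) (u * w) =
      ∑ h : G, (invPairCount h : ℂ) * (χ : G → ℂ) h := by
    calc ∑ u ∈ Ω, ∑ w ∈ Ω, (χ : G → ℂ) (u * w)
        = ∑ u ∈ Ω, ∑ h : G, (if u * h ∈ Ω then (χ : G → ℂ) h else 0) := by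
          refine Finset.sum_congr rfl fun u hu => ?_
          rw [hΩ, Finset.sum_filter, ← hΩ]
          refine Fintype.sum_equiv (Equiv.mulLeft u) _ _ fun w => ?_
          have hu' : u * u = 1 := (Finset.mem_filter.1 hu).2
          simp only [Equiv.coe_mulLeft, ← mul_assoc u u, hu', one_mul]
          simp [hΩ]
      _ = ∑ h : G, ∑ u ∈ Ω, (if u * h ∈ Ω then (χ : G → ℂ) h else 0) := Finset.sum_comm
      _ = _ := by
          refine Finset.sum_congr rfl fun h _ => ?_
          rw [← Finset.sum_filter, Finset.sum_const, nsmul_eq_mul, invPairCount, hΩ,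
            Finset.filter_filter]
          simp
  have h2 : ∀ t : G, ∀ u : G, ∑ w ∈ Ω, (χ : G → ℂ) (u * (t * w * t⁻¹)) =
      ∑ w ∈ Ω, (χ : G → ℂ) (u * w) := by
    intro t u
    refine Finset.sum_equiv (MulAut.conj t).toEquiv (fun w => ?_) (fun w _ => rfl)
    have e : t * w * t⁻¹ * (t * w * t⁻¹) = t * (w * w) * t⁻¹ := by group
    simp only [hΩ, Finset.mem_filter, Finset.mem_univ, true_and, MulEquiv.toEquiv_eq_coe,
      MulEquiv.coe_toEquiv, MulAut.conj_apply, e, conj_eq_one_iff]
  have h3 : (Nat.card G : ℂ) * (∑ u ∈ Ω, ∑ w ∈ Ω, (χ : G → ℂ) (u * w)) =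
      (Nat.card G : ℂ) * ((∑ u ∈ Ω, (χ : G → ℂ) u) ^ 2 / (χ : G → ℂ) 1) := by
    calc (Nat.card G : ℂ) * (∑ u ∈ Ω, ∑ w ∈ Ω, (χ : G → ℂ) (u * w))
        = ∑ t : G, ∑ u ∈ Ω, ∑ w ∈ Ω, (χ : G → ℂ) (u * (t * w * t⁻¹)) := by
          simp only [h2]
          rw [Finset.sum_const, Finset.card_univ, nsmul_eq_mul, Nat.card_eq_fintype_card]
      _ = ∑ u ∈ Ω, ∑ w ∈ Ω, (Nat.card G : ℂ) * (χ : G → ℂ) u * (χ : G → ℂ) w / (χ : G → ℂ) 1 := by
          rw [Finset.sum_comm]
          refine Finset.sum_congr rfl fun u _ => ?_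
          rw [Finset.sum_comm]
          exact Finset.sum_congr rfl fun w _ => sum_irr_mul_conj χ u w
      _ = _ := by
          simp only [sq, Finset.sum_mul, Finset.mul_sum, Finset.sum_div]
          exact Finset.sum_congr rfl fun u _ => Finset.sum_congr rfl fun w _ => by ring
  rw [invSum, div_pow, ← hΩ, ← Finset.sum_div, ← h1, mul_left_cancel₀ natCard_ne_zero h3]
  field_simp

open scoped Classical in
theorem invSum_sq_classes [Fintype (ConjClasses G)] (χ : Cfsg.IrrCharacter G) :
    invSum (χ : G → ℂ) ^ 2 = ∑ C : ConjClasses G,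
      (invPairCount (Quotient.out C) : ℂ) * Cfsg.centralChar (χ : G → ℂ) (Quotient.out C) := by
  rw [invSum_sq, sum_eq_sum_conjClasses
    (F := fun h => (invPairCount h : ℂ) * (χ : G → ℂ) h / (χ : G → ℂ) 1)]
  · refine Finset.sum_congr rfl fun C _ => ?_
    rw [Cfsg.centralChar]
    ring
  · intro g h
    simp only [invPairCount_isClassFunction g h, irr_isClassFunction χ.2 g h]

theorem invSum_isIntegral (χ : Cfsg.IrrCharacter G) : IsIntegral ℤ (invSum (χ : G → ℂ)) := by
  classical
  have : Finite (ConjClasses G) := Finite.of_surjective _ ConjClasses.mk_surjective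
  have := Fintype.ofFinite (ConjClasses G)
  refine IsIntegral.of_pow two_pos ?_
  rw [invSum_sq_classes]
  refine IsIntegral.sum _ fun C _ => IsIntegral.mul ?_ (irr_centralChar_isIntegral χ _)
  simpa using isIntegral_algebraMap (R := ℤ) (A := ℂ) (x := (invPairCount (Quotient.out C) : ℤ))

/-- If the centralizer of `h` has even order, `h` is a product of two elements of order at most
two in an even number of ways. -/
theorem even_invPairCount (h : G) (hC : Even (Nat.card (Subgroup.centralizer ({h} : Set G)))) :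
    Even (invPairCount h) := by
  classical
  obtain ⟨z, hz⟩ := exists_prime_orderOf_dvd_card' 2 (even_iff_two_dvd.1 hC)
  have hz2 : (z : G) * z = 1 := by
    have h1 : orderOf (z : G) = 2 := by rw [Subgroup.orderOf_coe, hz]
    rw [← pow_two, ← h1, pow_orderOf_eq_one]
  have hz1 : (z : G) ≠ 1 := fun e => by
    have h1 : orderOf (z : G) = 2 := by rw [Subgroup.orderOf_coe, hz]
    rw [e, orderOf_one] at h1
    omega
  have hzh : (z : G) * h = h * z := Subgroup.mem_centralizer_singleton_iff.1 z.2
  have hzi : ∀ w : G, (z : G) * (z * w) = w := fun w => by rw [← mul_assoc, hz2, one_mul]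
  have hzh' : ∀ w : G, (z : G) * (h * w) = h * (z * w) := fun w => by
    rw [← mul_assoc, hzh, mul_assoc]
  rw [invPairCount, even_iff_two_dvd, ← ZMod.natCast_eq_zero_iff, Finset.card_eq_sum_ones,
    Nat.cast_sum]
  refine Finset.sum_involution
    (fun u _ => if u * z = z * u then u * (z : G) else z * u * z) (fun u _ => by decide) ?_ ?_ ?_
  · intro u _ _ e
    by_cases hc : u * z = z * u
    · rw [if_pos hc] at e
      exact hz1 (mul_eq_left.1 e)
    · rw [if_neg hc] at e
      apply hc
      conv_rhs => rw [← e]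
      simp only [mul_assoc, hzi]
  · intro u hu
    simp only [Finset.mem_filter, Finset.mem_univ, true_and] at hu ⊢
    by_cases hc : u * z = z * u
    · rw [if_pos hc]
      have hcc : Commute u (z : G) := hc
      have hzc : Commute (u * h) (z : G) := hcc.mul_left (Eq.symm hzh : h * z = z * h)
      refine ⟨?_, ?_⟩
      · rw [hcc.symm.mul_mul_mul_comm, hu.1, hz2, one_mul]
      · have e : u * z * h = u * h * z := by rw [mul_assoc, hzh, ← mul_assoc]
        rw [e, hzc.symm.mul_mul_mul_comm, hu.2, hz2, one_mul]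
    · rw [if_neg hc]
      refine ⟨?_, ?_⟩
      · simp only [mul_assoc, hzi]
        rw [← mul_assoc u u, hu.1, one_mul, hz2]
      · have e : (z : G) * u * z * h = z * (u * h) * z := by
          simp only [mul_assoc, hzh]
        rw [e]
        simp only [mul_assoc, hzi]
        rw [← mul_assoc h u, ← mul_assoc u, ← mul_assoc (u * (h * u)) h]
        rw [show u * (h * u) * h = 1 by rw [← mul_assoc u h u, mul_assoc (u * h) u h, hu.2],
          one_mul, hz2]
  · intro u _
    by_cases hc : u * z = z * u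
    · simp only [if_pos hc]
      have hcc : Commute u (z : G) := hc
      have h' : u * z * z = z * (u * z) := by rw [← mul_assoc, ← hc]
      rw [if_pos h', mul_assoc, hz2, mul_one]
    · simp only [if_neg hc]
      have hne : ¬ (z : G) * u * z * z = z * (z * u * z) := by
        simp only [mul_assoc, hz2, hzi, mul_one]
        exact fun e => hc e.symm
      rw [if_neg hne]
      simp only [mul_assoc, hz2, hzi, mul_one]

/-- On a character of positive 2-defect the sum of the elements of order at most two acts as an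
element of the maximal ideal. -/
theorem memLocalIdeal_invSum {M : Ideal Cfsg.AlgInt} (hM : Cfsg.IsPModular 2 M)
    (χ : Cfsg.IrrCharacter G)
    (h : (Cfsg.charDegree (χ : G → ℂ)).factorization 2 ≠ (Nat.card G).factorization 2) :
    Cfsg.MemLocalIdeal M (invSum (χ : G → ℂ)) := by
  classical
  have := CfsgLib.Block.isPrime_of_pmodular hM
  have : Finite (ConjClasses G) := Finite.of_surjective _ ConjClasses.mk_surjective
  have := Fintype.ofFinite (ConjClasses G)
  obtain ⟨j, hj⟩ := degree_mul_prime_dvd_card (p := 2) χ h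
  let x : Cfsg.AlgInt := ⟨invSum (χ : G → ℂ), invSum_isIntegral χ⟩
  suffices hx : Cfsg.MemLocalIdeal M ((x ^ 2 : Cfsg.AlgInt) : ℂ) by
    exact CfsgLib.Block.memLocalIdeal_coe_iff.2
      (Ideal.IsPrime.mem_of_pow_mem inferInstance 2 (CfsgLib.Block.memLocalIdeal_coe_iff.1 hx))
  rw [show ((x ^ 2 : Cfsg.AlgInt) : ℂ) = invSum (χ : G → ℂ) ^ 2 by simp [x], invSum_sq_classes]
  refine CfsgLib.Block.memLocalIdeal_sum _ _ fun C _ => ?_
  set g := Quotient.out C
  have hω := CfsgLib.Block.memLocalRing_of_isIntegral (M := M) (irr_centralChar_isIntegral χ g)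
  rcases Nat.even_or_odd (Nat.card (Subgroup.centralizer ({g} : Set G))) with he | ho
  · refine CfsgLib.Block.memLocalIdeal_mul_right hω ?_
    exact (CfsgLib.Block.memLocalIdeal_natCast_iff hM _).2 (even_iff_two_dvd.1 (even_invPairCount g he))
  · refine CfsgLib.Block.memLocalIdeal_mul_left (CfsgLib.Block.memLocalRing_natCast _) ?_
    set c := Nat.card (Subgroup.centralizer ({g} : Set G)) with hc
    have hcG : ((Subgroup.centralizer ({g} : Set G)).index : ℂ) * (c : ℂ) =
        (Cfsg.charDegree (χ : G → ℂ) : ℂ) * 2 * (j : ℂ) := by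
      exact_mod_cast (Subgroup.index_mul_card _).trans hj
    have hc0 : (c : ℂ) ≠ 0 := by rw [hc]; exact natCard_ne_zero
    have e : Cfsg.centralChar (χ : G → ℂ) g = (c : ℂ)⁻¹ * (((2 * j : ℕ) : ℂ) * (χ : G → ℂ) g) := by
      rw [Cfsg.centralChar, ← irr_degree_cast χ]
      have h0 : (Cfsg.charDegree (χ : G → ℂ) : ℂ) ≠ 0 := by exact_mod_cast irr_degree_ne_zero χ
      push_cast
      field_simp
      linear_combination ((χ : G → ℂ) g) * hcG
    rw [e]
    refine CfsgLib.Block.memLocalIdeal_mul_left
      (CfsgLib.Block.memLocalRing_inv_natCast hM (fun hd => ?_)) ?_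
    · exact (Nat.not_even_iff_odd.2 ho) (even_iff_two_dvd.2 hd)
    · exact CfsgLib.Block.memLocalIdeal_mul_right
        (CfsgLib.Block.memLocalRing_of_isIntegral (irr_isIntegral χ g))
        ((CfsgLib.Block.memLocalIdeal_natCast_iff hM _).2 (dvd_mul_right 2 j))

end CfsgLib.BlockB
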