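import Cfsg.Agent.Lib.Block.DefectOrder
import Cfsg.Agent.Lib.Block.Orthogonality
import Cfsg.Agent.Lib.BlockB.InvolutionSum
import Cfsg.Agent.Lib.BlockB.CosetSum

/-!
# The kernel of the principal block, degrees in the principal block
-/

namespace CfsgLib.BlockB

open CfsgLib.Char CfsgLib.Block Cfsg
open scoped ComplexConjugate

universe u

variable {G : Type u} [Group G] [Finite G] {p : ℕ} {M : Ideal AlgInt}

theorem centralChar_one_fun (g : G) :
    centralChar (fun _ : G => (1 : ℂ)) g =
      ((Subgroup.centralizer ({g} : Set G)).index : ℂ) := by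
  simp [centralChar]

/-- A normal `p'`-subgroup lies in the kernel of the principal block. -/
theorem normal_le_ker_principal (hM : IsPModular p M) (N : Subgroup G) [N.Normal]
    (hN : ¬ p ∣ Nat.card N) {χ : IrrCharacter G} (hχ : χ ∈ principalBlock M G) :
    ∀ n ∈ N, (χ : G → ℂ) n = (χ : G → ℂ) 1 := by
  classical
  have := Fintype.ofFinite G
  have := isPrime_of_pmodular hM
  have : Finite (ConjClasses G) := Finite.of_surjective _ ConjClasses.mk_surjective
  have := Fintype.ofFinite (ConjClasses G)
  have := Fintype.ofFinite N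
  by_contra hker
  push Not at hker
  obtain ⟨n, hn, hne⟩ := hker
  have hzero := sum_coset_irr_of_ker N χ.2 ⟨⟨n, hn⟩, hne⟩ 1
  simp only [mul_one] at hzero
  let F : G → ℂ := fun g => if g ∈ N then 1 - (χ : G → ℂ) g / (χ : G → ℂ) 1 else 0
  have hF : IsClassFunction G F := fun a b => by
    have : b * a * b⁻¹ ∈ N ↔ a ∈ N := by
      refine ⟨fun hb => ?_, fun ha => (inferInstance : N.Normal).conj_mem a ha b⟩
      simpa [mul_assoc] using (inferInstance : N.Normal).conj_mem _ hb b⁻¹
    simp only [F, this, irr_isClassFunction χ.2 a b]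
  have hsum : ∑ g : G, F g = (Nat.card N : ℂ) := by
    simp only [F, ← Finset.sum_filter]
    rw [Finset.sum_subtype (Finset.univ.filter fun g => g ∈ N) (p := fun g => g ∈ N) (by simp),
      Finset.sum_sub_distrib, ← Finset.sum_div]
    simp only [Finset.sum_const, Finset.card_univ, nsmul_eq_mul, mul_one]
    rw [hzero, zero_div, sub_zero, Nat.card_eq_fintype_card]
  refine hN ((memLocalIdeal_natCast_iff hM _).1 ?_)
  rw [← hsum, sum_eq_sum_conjClasses hF]
  refine memLocalIdeal_sum _ _ fun C _ => ?_
  simp only [F]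
  split_ifs
  · have h := (show SameBlock M (fun _ : G => (1 : ℂ)) (χ : G → ℂ) from hχ) C.out
    rw [centralChar_one_fun, centralChar] at h
    rwa [mul_sub, mul_one, mul_div_assoc']
  · rw [mul_zero]; exact memLocalIdeal_zero

theorem principal_sInf_eq_zero [M.IsPrime] :
    sInf ((fun χ : IrrCharacter G => (charDegree (χ : G → ℂ)).factorization p) ''
      principalBlock M G) = 0 := by
  refine Nat.sInf_eq_zero.2 (Or.inl ⟨⟨fun _ => 1, isIrrCharacter_one⟩, one_mem_principalBlock, ?_⟩)
  simp [charDegree]

theorem principal_height_zero_iff [M.IsPrime] (hp : p.Prime) {χ : IrrCharacter G} :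
    blockHeight p (principalBlock M G) (χ : G → ℂ) = 0 ↔ ¬ p ∣ charDegree (χ : G → ℂ) := by
  rw [blockHeight, principal_sInf_eq_zero, Nat.sub_zero, Nat.factorization_eq_zero_iff]
  exact ⟨fun h => (h.resolve_left (not_not.2 hp)).resolve_right (irr_degree_ne_zero χ),
    fun h => Or.inr (Or.inl h)⟩

/-- Linear characters in the principal block are closed under multiplication. -/
theorem linear_mul_mem_principal [M.IsPrime] {a b : G →* ℂˣ}
    (ha : (⟨fun g => (a g : ℂ), isIrrCharacter_linear a⟩ : IrrCharacter G) ∈ principalBlock M G)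
    (hb : (⟨fun g => (b g : ℂ), isIrrCharacter_linear b⟩ : IrrCharacter G) ∈ principalBlock M G) :
    (⟨fun g => ((a * b) g : ℂ), isIrrCharacter_linear (a * b)⟩ : IrrCharacter G) ∈
      principalBlock M G := by
  intro g
  have h1 := ha g
  have h2 := hb g
  simp only [centralChar, map_one, Units.val_one, div_one, mul_one] at h1 h2 ⊢
  have e : ((Subgroup.centralizer ({g} : Set G)).index : ℂ) -
      ((Subgroup.centralizer ({g} : Set G)).index : ℂ) * ((a * b) g : ℂ) =
      (((Subgroup.centralizer ({g} : Set G)).index : ℂ) -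
        ((Subgroup.centralizer ({g} : Set G)).index : ℂ) * (a g : ℂ)) +
      (a g : ℂ) * (((Subgroup.centralizer ({g} : Set G)).index : ℂ) -
        ((Subgroup.centralizer ({g} : Set G)).index : ℂ) * (b g : ℂ)) := by
    rw [MonoidHom.mul_apply, Units.val_mul]
    ring
  rw [e]
  exact memLocalIdeal_add h1 (memLocalIdeal_mul_left (memLocalRing_of_isIntegral
    (irr_isIntegral ⟨fun g => (a g : ℂ), isIrrCharacter_linear a⟩ g)) h2)

/-- The degree-weighted sum over the principal block is divisible by `p`. -/
theorem prime_dvd_sum_degree_sq [Fintype (IrrCharacter G)] (hM : IsPModular p M)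
    (hp : p ∣ Nat.card G) :
    open scoped Classical in
    p ∣ ∑ χ ∈ Finset.univ.filter (fun χ => χ ∈ principalBlock M G),
      charDegree (χ : G → ℂ) ^ 2 := by
  classical
  have := isPrime_of_pmodular hM
  have := Fintype.ofFinite G
  refine (memLocalIdeal_natCast_iff hM _).1 ?_
  have h1 := blockCoeff_memLocalRing hM (isPBlock_principalBlock (G := G) (M := M)) (1 : G)
  have h2 : ((∑ χ ∈ Finset.univ.filter (fun χ => χ ∈ principalBlock M G),
      charDegree (χ : G → ℂ) ^ 2 : ℕ) : ℂ) =
      (Nat.card G : ℂ) * blockCoeff (principalBlock M G) 1 := by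
    rw [blockCoeff, ← mul_assoc, mul_inv_cancel₀ natCard_ne_zero, one_mul,
      finsum_mem_eq_finite_toFinset_sum _ (Set.toFinite _), Nat.cast_sum]
    refine Finset.sum_congr (by ext; simp) fun χ _ => ?_
    rw [← irr_degree_cast χ, Complex.conj_natCast, Nat.cast_pow, sq]
  rw [h2]
  exact memLocalIdeal_mul_right h1 ((memLocalIdeal_natCast_iff hM _).2 hp)

end CfsgLib.BlockB
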