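import Cfsg.Agent.Lib.BlockA.CoverSub
import Cfsg.Agent.Lib.BlockA.BrauerMax
import Cfsg.Agent.Lib.Block.FirstMain

/-!
Blocks of a subgroup containing the centralizer of their defect group: the induced block is
defined, and centres of defect groups of the induced block stay inside the defect group.
-/

set_option autoImplicit false
set_option linter.unusedSectionVars false
set_option maxHeartbeats 1000000

namespace CfsgLib.BlockB

open Cfsg CfsgLib.Block CfsgLib.BlockA MonoidAlgebra

universe u

variable {G : Type u} [Group G] [Finite G] {p : ℕ} {M : Ideal AlgInt} [M.IsPrime]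

local notation "cen" Q => Subgroup.centralizer ((Q : Subgroup G) : Set G)

variable (hM : IsPModular p M)
include hM

/-- A coefficient of a Brauer quotient survives in the larger idempotent it divides. -/
theorem exists_coeff_of_mul {P X : Subgroup G} (hPp : IsPGroup p P) (hX : IsPGroup p X)
    (hPX : P ≤ X) {a b : MonoidAlgebra (kres M) G} (ha : IsPInv X a) (hb : IsPInv X b)
    (hab : resSub (cen P) a * resSub (cen P) b = resSub (cen P) a)
    {c : G} (hc : c ∈ cen X) (hc0 : a.coeff c ≠ 0) : ∃ x ∈ cen X, b.coeff x ≠ 0 := by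
  classical
  have := Fact.mk hM.1
  have := charP_kres hM
  have := Fintype.ofFinite G
  have hcP : c ∈ cen P := centralizer_le_centralizer hPX hc
  have h1 : (a * b).coeff c = a.coeff c := by
    have h := congrArg (fun t => t.coeff (⟨c, hcP⟩ : (cen P)))
      ((resSub_mul hM hPp (fun u hu => ha u (hPX hu)) (fun u hu => hb u (hPX hu))).trans hab)
    simpa using h
  rw [coeff_mul_of_mem_centralizer hX ha hb hc] at h1
  rw [← h1] at hc0
  obtain ⟨x, hx, hx0⟩ := Finset.exists_ne_zero_of_sum_ne_zero hc0
  exact ⟨x⁻¹ * c, Subgroup.mul_mem _ (Subgroup.inv_mem _ (Finset.mem_filter.1 hx).2) hc,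
    right_ne_zero_of_mul hx0⟩

omit hM in
/-- Idempotents of blocks of centralizers are invariant under the centralizer. -/
theorem isPInv_sIdem_self {H : Subgroup G} (f : Set (IrrCharacter H)) :
    IsPInv H (sIdem M H f) := fun _ hu x =>
  inclSub_conj_invariant H (isClassCoeff_center (blkIdem M f)) hu x

theorem isPGroup_sup_zpowers {Q : Subgroup G} (hQ : IsPGroup p Q) {z : G}
    (hz : IsPGroup p (Subgroup.zpowers z)) (hzc : z ∈ cen Q) :
    IsPGroup p ↥(Q ⊔ Subgroup.zpowers z) :=
  IsPGroup.to_sup_of_normal_left' hQ hz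
    ((Subgroup.zpowers_le.2 hzc).trans (Subgroup.centralizer_le_normalizer _))

/-- Along an inclusion of Brauer pairs, a central element of the top group keeps a coefficient. -/
theorem exists_coeff_central {P E : Subgroup G} {e : Set (IrrCharacter (cen P))}
    {g : Set (IrrCharacter (cen E))} (hg : IsBrauerPair p M E g) (hle : SubpairLE p M P e E g)
    {z : G} (hzE : z ∈ E) (hzc : z ∈ cen E) :
    P ≤ E ∧ ∃ c ∈ cen P, z * c = c * z ∧ (sIdem M (cen P) e).coeff c ≠ 0 := by
  classical
  have := Fact.mk hM.1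
  have key : ∀ a : BrauerPairIdx G, Relation.ReflTransGen (NormalSubpairRel p M) a ⟨E, g⟩ →
      a.1 ≤ E ∧ ∃ c ∈ cen a.1, z * c = c * z ∧ (sIdem M (cen a.1) a.2).coeff c ≠ 0 := by
    intro a ha
    induction ha using Relation.ReflTransGen.head_induction_on with
    | refl =>
      refine ⟨le_rfl, ?_⟩
      obtain ⟨c, hc⟩ : ∃ c, (sIdem M (cen E) g).coeff c ≠ 0 := by
        by_contra hcon
        push Not at hcon
        exact sIdem_ne_zero hM hg.2 (by ext x; simpa using hcon x)
      have hcE : c ∈ cen E := by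
        by_contra h
        exact hc (coeff_sIdem_of_not_mem g h)
      exact ⟨c, hcE, Subgroup.mem_centralizer_iff.1 hcE z hzE, hc⟩
    | @head a b hab _ ih =>
      obtain ⟨hbE, c, hc, hzc', hc0⟩ := ih
      obtain ⟨Qi, fi⟩ := a
      obtain ⟨Qj, fj⟩ := b
      have h : IsNormalSubpair p M Qi fi Qj fj := hab
      obtain ⟨η, hη⟩ := isPBlock_nonempty h.2.1.2
      obtain ⟨hij, hN, hst, hv⟩ := (isNormalSubpair_iff hM hη h.2.1 h.1).1 h
      refine ⟨hij.trans hbE, ?_⟩
      have hzQj : z ∈ cen Qj := centralizer_le_centralizer hbE hzc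
      have hzQi : z ∈ cen Qi := centralizer_le_centralizer hij hzQj
      have hXp : IsPGroup p ↥(Qj ⊔ Subgroup.zpowers z) :=
        isPGroup_sup_zpowers hM h.2.1.1 (hg.1.to_le (Subgroup.zpowers_le.2 hzE)) hzQj
      have ha : IsPInv (Qj ⊔ Subgroup.zpowers z) (sIdem M (cen Qj) fj) := by
        have hle : Qj ⊔ Subgroup.zpowers z ≤ pairStab M Qj fj :=
          sup_le (le_pairStab Qj fj) (Subgroup.zpowers_le.2 (centralizer_le_pairStab Qj fj hzQj))
        exact fun u hu => isPInv_sIdem_pairStab Qj fj u (hle hu)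
      have hinvi : IsPInv Qj (sIdem M (cen Qi) fi) := isPInv_sIdem_of_stable hM hN h.1.2 hst
      have hb : IsPInv (Qj ⊔ Subgroup.zpowers z) (sIdem M (cen Qi) fi) := by
        have hle : Qj ⊔ Subgroup.zpowers z ≤ pairStab M Qi fi := by
          refine sup_le (fun u hu => ⟨hN hu, fun x => ?_⟩)
            (Subgroup.zpowers_le.2 (centralizer_le_pairStab Qi fi hzQi))
          have h3 := hinvi u⁻¹ (Qj.inv_mem hu) x
          rwa [inv_inv] at h3
        exact fun u hu => isPInv_sIdem_pairStab Qi fi u (hle hu)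
      have hw : IsClassCoeff (resSub (cen Qj) (sIdem M (cen Qi) fi)) := isCInv_sIdem hM hij fi
      set w : Subalgebra.center (kres M) (MonoidAlgebra (kres M) (cen Qj)) :=
        ⟨resSub (cen Qj) (sIdem M (cen Qi) fi), isClassCoeff_iff_mem_center.1 hw⟩ with hwdef
      have hww : w * w = w := Subtype.ext (by
        show resSub (cen Qj) _ * resSub (cen Qj) _ = resSub (cen Qj) _
        rw [← resSub_mul hM h.2.1.1 hinvi hinvi, sIdem_idem hM h.1.2])
      rw [pairVal_eq η (isCInv_sIdem hM hij fi)] at hv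
      have hmul := congrArg Subtype.val (mul_blkIdem_of_lam_eq_one hM hww h.2.1.2 hη hv)
      have hab' : resSub (cen Qj) (sIdem M (cen Qj) fj) * resSub (cen Qj) (sIdem M (cen Qi) fi) =
          resSub (cen Qj) (sIdem M (cen Qj) fj) := by
        have e1 : resSub (cen Qj) (sIdem M (cen Qj) fj) =
            (blkIdem M fj : MonoidAlgebra (kres M) (cen Qj)) := resSub_inclSub _ _
        rw [e1, Subalgebra.mem_center_iff.1 w.2]
        exact hmul
      have hcX : c ∈ cen (Qj ⊔ Subgroup.zpowers z) := by
        have : Qj ⊔ Subgroup.zpowers z ≤ Subgroup.centralizer ({c} : Set G) := by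
          refine sup_le (fun u hu => Subgroup.mem_centralizer_singleton_iff.2
            (Subgroup.mem_centralizer_iff.1 hc u hu)) (Subgroup.zpowers_le.2
              (Subgroup.mem_centralizer_singleton_iff.2 hzc'))
        rw [Subgroup.mem_centralizer_iff]
        exact fun u hu => Subgroup.mem_centralizer_singleton_iff.1 (this hu)
      obtain ⟨x, hx, hx0⟩ := exists_coeff_of_mul hM h.2.1.1 hXp le_sup_left ha hb hab' hcX hc0
      exact ⟨x, centralizer_le_centralizer (hij.trans le_sup_left) hx,
        Subgroup.mem_centralizer_iff.1 hx z (Subgroup.mem_sup_right (Subgroup.mem_zpowers z)),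
        hx0⟩
  exact key ⟨P, e⟩ hle

variable {H : Subgroup G} {b : Set (IrrCharacter H)}

/-- Blocks of `H` with a coefficient at `C(D)` have a block of `C(D)` below them. -/
theorem exists_below {D : Subgroup G} (hD : IsPGroup p D) (hDH : D ≤ H) (hC : (cen D) ≤ H)
    (hb : IsPBlock M b) (hne : ∃ c ∈ cen D, (sIdem M H b).coeff c ≠ 0) :
    ∃ e : Set (IrrCharacter (cen D)), IsBrauerPair p M D e ∧
      resSub (cen D) (sIdem M (cen D) e) * resSub (cen D) (sIdem M H b) =
        resSub (cen D) (sIdem M (cen D) e) ∧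
      ∀ ξ ∈ e, ∀ a : Subalgebra.center (kres M) (MonoidAlgebra (kres M) H), ∀ η ∈ b,
        lam M η a = pairVal D ξ (inclSub H (a : MonoidAlgebra (kres M) H)) := by
  classical
  have := Fact.mk hM.1
  have hinv : ∀ a : Subalgebra.center (kres M) (MonoidAlgebra (kres M) H),
      IsPInv H (inclSub H (a : MonoidAlgebra (kres M) H)) := fun a u hu x =>
    inclSub_conj_invariant H (isClassCoeff_center a) hu x
  have hmulC : ∀ a a' : Subalgebra.center (kres M) (MonoidAlgebra (kres M) H),
      resSub (cen D) (inclSub H ((a * a' : Subalgebra.center (kres M) (MonoidAlgebra (kres M) H)) :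
        MonoidAlgebra (kres M) H)) =
      resSub (cen D) (inclSub H (a : MonoidAlgebra (kres M) H)) *
        resSub (cen D) (inclSub H (a' : MonoidAlgebra (kres M) H)) := fun a a' => by
    rw [MulMemClass.coe_mul, map_mul]
    exact resSub_mul hM hD (fun u hu => hinv a u (hDH hu)) (fun u hu => hinv a' u (hDH hu))
  have hCinv : ∀ a : Subalgebra.center (kres M) (MonoidAlgebra (kres M) H),
      IsCInv D (inclSub H (a : MonoidAlgebra (kres M) H)) := fun a =>
    isCInv_of_isPInv hC (hinv a)
  let Φ : Subalgebra.center (kres M) (MonoidAlgebra (kres M) H) →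
      Subalgebra.center (kres M) (MonoidAlgebra (kres M) (cen D)) := fun a =>
    ⟨resSub (cen D) (inclSub H (a : MonoidAlgebra (kres M) H)),
      isClassCoeff_iff_mem_center.1 (hCinv a)⟩
  set w := Φ (blkIdem M b) with hwdef
  have hww : w * w = w := Subtype.ext (by
    show resSub (cen D) _ * resSub (cen D) _ = resSub (cen D) _
    rw [← hmulC, blkIdem_idem hM hb])
  have hw0 : w ≠ 0 := by
    obtain ⟨c, hc, hc0⟩ := hne
    intro h0
    have h := congrArg (fun t : Subalgebra.center (kres M) (MonoidAlgebra (kres M) (cen D)) =>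
      (t : MonoidAlgebra (kres M) (cen D)).coeff ⟨c, hc⟩) h0
    exact hc0 (by simpa [w, Φ, sIdem] using h)
  obtain ⟨ξ₀, hξ₀⟩ := exists_lam_eq_one_of_idem hM hww hw0
  refine ⟨blockOf M (ξ₀ : (cen D) → ℂ), ⟨hD, isPBlock_blockOf ξ₀⟩, ?_, fun ξ hξ a η hη => ?_⟩
  · have h := congrArg Subtype.val
      (mul_blkIdem_of_lam_eq_one hM hww (isPBlock_blockOf ξ₀) (mem_blockOf_self ξ₀) hξ₀)
    rw [show resSub (cen D) (sIdem M (cen D) (blockOf M (ξ₀ : (cen D) → ℂ))) =
      (blkIdem M (blockOf M (ξ₀ : (cen D) → ℂ)) : MonoidAlgebra (kres M) (cen D)) from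
        resSub_inclSub _ _]
    exact (Subalgebra.mem_center_iff.1 w.2 _).trans h
  · have hξw : lam M ξ w = 1 := by
      rw [← lam_eq_of_sameBlock (sameBlock_of_mem (isPBlock_blockOf ξ₀) (mem_blockOf_self ξ₀) hξ)]
      exact hξ₀
    obtain ⟨n, hn⟩ := isNilpotent_sub_lam_mul_blkIdem hM hb hη a
    rw [pairVal_eq ξ (hCinv a)]
    show lam M η a = lam M ξ (Φ a)
    have hadd : ∀ x y, Φ (x + y) = Φ x + Φ y := fun x y => Subtype.ext (by
      ext g; simp [Φ])
    have hsmul : ∀ (r : kres M) x, Φ (r • x) = r • Φ x := fun r x => Subtype.ext (by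
      ext g
      show (resSub (cen D) _).coeff g = (r • resSub (cen D) _).coeff g
      rw [coeff_resSub, show (g : G) = ((⟨g, hC g.2⟩ : H) : G) from rfl, coeff_inclSub_of_mem]
      simp [coeff_inclSub_of_mem H (x : MonoidAlgebra (kres M) H) ⟨g, hC g.2⟩])
    have hΦone : Φ 1 = 1 := Subtype.ext (by
      show resSub (cen D) (inclSub H (1 : MonoidAlgebra (kres M) H)) = 1
      rw [map_one, BlockA.resSub_one])
    let ν : Subalgebra.center (kres M) (MonoidAlgebra (kres M) H) →+* kres M :=
      { toFun := fun x => lam M ξ (Φ x)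
        map_one' := by rw [hΦone, map_one]
        map_mul' := fun x y => by
          rw [show Φ (x * y) = Φ x * Φ y from Subtype.ext (hmulC x y), map_mul]
        map_zero' := by
          rw [show Φ 0 = 0 from Subtype.ext (by ext g; simp [Φ]), map_zero]
        map_add' := fun x y => by rw [hadd, map_add] }
    have hconst : ν (algebraMap (kres M) _ (lam M η a)) = lam M η a := by
      show lam M ξ (Φ _) = _
      rw [Algebra.algebraMap_eq_smul_one, hsmul, hΦone, map_smul, map_one, smul_eq_mul, mul_one]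
    have h := congrArg ν hn
    rw [map_pow, map_mul, map_sub, map_zero, hconst, show ν (blkIdem M b) = 1 from hξw, mul_one] at h
    exact (sub_eq_zero.1 (eq_zero_of_pow_eq_zero h)).symm

/-- The induced block is defined, and the pair below is a Brauer pair of it. -/
theorem exists_induced {D : Subgroup G} (hD : IsPGroup p D) (hDH : D ≤ H) (hC : (cen D) ≤ H)
    (hb : IsPBlock M b) {e : Set (IrrCharacter (cen D))} (he : IsBrauerPair p M D e)
    (hlam : ∀ ξ ∈ e, ∀ a : Subalgebra.center (kres M) (MonoidAlgebra (kres M) H), ∀ η ∈ b,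
        lam M η a = pairVal D ξ (inclSub H (a : MonoidAlgebra (kres M) H))) :
    ∃ B : Set (IrrCharacter G), IsInducedBlock M H b B ∧ IsBrauerPairOf p M B D e := by
  classical
  obtain ⟨η, hη⟩ := isPBlock_nonempty hb
  obtain ⟨ξ, hξ⟩ := isPBlock_nonempty he.2
  have hz : ∀ z : Subalgebra.center (kres M) (MonoidAlgebra (kres M) G),
      lam M η (resZ H z) = pairVal D ξ (z : MonoidAlgebra (kres M) G) := by
    intro z
    have hCz : IsCInv D (z : MonoidAlgebra (kres M) G) := isCInv_of_isClassCoeff (isClassCoeff_center z)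
    have hres : resSub (cen D) (inclSub H (resZ H z : MonoidAlgebra (kres M) H)) =
        resSub (cen D) (z : MonoidAlgebra (kres M) G) := by
      ext g
      rw [coeff_resSub, coeff_resSub, coe_resZ,
        show (g : G) = ((⟨g, hC g.2⟩ : H) : G) from rfl, coeff_inclSub_of_mem, coeff_resSub]
    have hC' : IsCInv D (inclSub H (resZ H z : MonoidAlgebra (kres M) H)) := by
      show IsClassCoeff _
      rw [hres]; exact hCz
    rw [hlam ξ hξ _ η hη, pairVal_eq ξ hC', pairVal_eq ξ hCz]
    exact congrArg _ (Subtype.ext hres)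
  let μ : Subalgebra.center (kres M) (MonoidAlgebra (kres M) G) →ₐ[kres M] kres M :=
    AlgHom.ofLinearMap ((lam M η).toLinearMap.comp (resZ H)) (by
      show lam M η (resZ H 1) = 1
      rw [hz]; exact pairVal_one D ξ) (fun x y => by
      show lam M η (resZ H (x * y)) = lam M η (resZ H x) * lam M η (resZ H y)
      rw [hz, hz, hz, pairVal_eq ξ (isCInv_of_isClassCoeff (isClassCoeff_center x)),
        pairVal_eq ξ (isCInv_of_isClassCoeff (isClassCoeff_center y)),
        pairVal_eq ξ (isCInv_of_isClassCoeff (isClassCoeff_center (x * y))), ← map_mul]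
      refine congrArg _ (Subtype.ext ?_)
      show resSub (cen D) ((x * y : Subalgebra.center _ _) : MonoidAlgebra (kres M) G) = _
      rw [MulMemClass.coe_mul]
      exact resSub_mul hM hD (isPInv_of_isClassCoeff (isClassCoeff_center x) D)
        (isPInv_of_isClassCoeff (isClassCoeff_center y) D))
  obtain ⟨χ, hχ⟩ := exists_eq_lam hM μ
  refine ⟨blockOf M (χ : G → ℂ), (isInducedBlock_iff H hb (isPBlock_blockOf χ) hη
    (mem_blockOf_self χ)).2 fun z => AlgHom.congr_fun hχ z,
    (isBrauerPairOf_iff hM he (isPBlock_blockOf χ) hξ).2 ?_⟩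
  rw [← hz, show lam M η (resZ H (blkIdem M (blockOf M (χ : G → ℂ)))) =
    μ (blkIdem M (blockOf M (χ : G → ℂ))) from rfl, hχ]
  exact (algHom_blkIdem_eq_one_iff hM (isPBlock_blockOf χ) χ).2 (mem_blockOf_self χ)

end CfsgLib.BlockB
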