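import Cfsg.Agent.Lib.Block.FirstMain
import Cfsg.Agent.Lib.Block.DefectOrder

/-!
# An inducing block with large defect groups
-/

namespace CfsgLib.BlockB

open CfsgLib.Block Cfsg MonoidAlgebra

universe u

variable {G : Type u} [Group G] [Finite G] {p : ℕ} {M : Ideal AlgInt} [M.IsPrime]

/-- If the idempotent of `B` is nonzero at an element centralizing `P` and the `p`-subgroup `R` of
`H`, some block of `H` inducing `B` has a defect group containing a conjugate of `R`. -/
theorem exists_inducing_ge (hM : IsPModular p M) {P H : Subgroup G} (hP : IsPGroup p P)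
    (hPH : P ≤ H) (hCH : Subgroup.centralizer (P : Set G) ≤ H)
    (hHN : H ≤ Subgroup.normalizer (P : Set G)) {B : Set (IrrCharacter G)} (hB : IsPBlock M B)
    {c : G} (hcP : c ∈ Subgroup.centralizer (P : Set G))
    (hc : (blkIdem M B : MonoidAlgebra (kres M) G).coeff c ≠ 0) {R : Subgroup G}
    (hR : IsPGroup p R) (hRH : R ≤ H) (hcR : c ∈ Subgroup.centralizer (R : Set G)) :
    ∃ b : Set (IrrCharacter H), IsInducedBlock M H b B ∧
      ∃ D : Subgroup H, IsDefectGroup p M b D ∧ Nat.card R ≤ Nat.card D := by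
  classical
  have := Fact.mk hM.1
  have := charP_kres hM
  obtain ⟨χ, hχ⟩ := isPBlock_nonempty hB
  set e := brHom (k := kres M) hP hCH hHN (blkIdem M B) with hedef
  have he : e * e = e := by rw [hedef, ← map_mul, blkIdem_idem hM hB]
  let c' : H := ⟨c, hCH hcP⟩
  have hec : (e : MonoidAlgebra (kres M) H).coeff c' ≠ 0 := by
    rw [hedef, coe_brHom, coeff_brRes_of_mem _ (h := c') hcP]
    exact hc
  have hcong : (e : MonoidAlgebra (kres M) H).coeff c' =
      ∑ b ∈ allBlocks M H, ((e * blkIdem M b : Subalgebra.center (kres M)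
        (MonoidAlgebra (kres M) H)) : MonoidAlgebra (kres M) H).coeff c' := by
    conv_lhs => rw [← mul_one e, ← sum_blkIdem hM, Finset.mul_sum]
    rw [AddSubmonoidClass.coe_finsetSum, coeff_sum, Finset.sum_apply']
  rw [hcong] at hec
  obtain ⟨b, hb, hbc⟩ := Finset.exists_ne_zero_of_sum_ne_zero hec
  rw [mem_allBlocks] at hb
  obtain ⟨ξ, hξ⟩ := isPBlock_nonempty hb
  have hidem : ∀ f : Subalgebra.center (kres M) (MonoidAlgebra (kres M) H), f * f = f →
      lam M ξ f = 0 → f * blkIdem M b = 0 := by
    intro f hf hf0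
    obtain ⟨n, hn⟩ := isNilpotent_sub_lam_mul_blkIdem hM hb hξ f
    rw [hf0, map_zero, sub_zero] at hn
    have hidem2 : (f * blkIdem M b) * (f * blkIdem M b) = f * blkIdem M b := by
      rw [mul_mul_mul_comm, hf, blkIdem_idem hM hb]
    have hk : ∀ k, (f * blkIdem M b) ^ (k + 1) = f * blkIdem M b := by
      intro k
      induction k with
      | zero => simp
      | succ k ih => rw [pow_succ, ih, hidem2]
    rw [← hk n, pow_succ, hn, zero_mul]
  have hone : lam M ξ e = 1 := by
    have h2 : lam M ξ e * lam M ξ e = lam M ξ e := by rw [← map_mul, he]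
    rcases mul_eq_zero.1 (show lam M ξ e * (lam M ξ e - 1) = 0 by rw [mul_sub, h2]; simp)
      with h3 | h3
    · rw [hidem e he h3] at hbc
      simp at hbc
    · exact sub_eq_zero.1 h3
  have hebe : e * blkIdem M b = blkIdem M b := by
    have h4 := hidem (1 + (-1 : kres M) • e) (by
      simp only [add_mul, mul_add, one_mul, mul_one, smul_mul_assoc, mul_smul_comm, smul_smul, he,
        smul_add, add_assoc, ← add_smul]
      simp) (by rw [map_add, map_smul, map_one, hone]; simp)
    rw [add_mul, one_mul, smul_mul_assoc, neg_one_smul, ← sub_eq_add_neg, sub_eq_zero] at h4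
    exact h4.symm
  rw [hebe] at hbc
  refine ⟨b, ?_, ?_⟩
  · obtain ⟨φ, hφ⟩ := exists_eq_lam hM ((lam M ξ).comp (brHom hP hCH hHN))
    have hφB : φ ∈ B := by
      rw [← algHom_blkIdem_eq_one_iff hM hB φ, ← hφ]
      exact hone
    refine (isInducedBlock_iff H hb hB hξ hχ).2 fun z => ?_
    rw [lam_resZ_eq_brHom hM hP hPH hCH hHN,
      lam_eq_of_sameBlock (sameBlock_of_mem hB hχ hφB), ← hφ]
    rfl
  · obtain ⟨D, hD⟩ := exists_isDefectGroup hM hb
    refine ⟨D, hD, ?_⟩
    have hR' : IsPGroup p (R.subgroupOf H) := hR.comap_subtype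
    obtain ⟨x, hx⟩ := (exists_le_conj_iff_coeff hM hb hD hR').1 ⟨c', by
      rw [Subgroup.mem_centralizer_iff]
      intro u hu
      exact Subtype.ext (Subgroup.mem_centralizer_iff.1 hcR (u : G) hu), hbc⟩
    calc Nat.card R = Nat.card (R.subgroupOf H) :=
          (Nat.card_congr (Subgroup.subgroupOfEquivOfLe hRH).toEquiv).symm
      _ ≤ Nat.card (D.map (MulAut.conj x).toMonoidHom) := Subgroup.card_le_of_le hx
      _ = Nat.card D := natCard_map_conj D x

/-- Block induction does not decrease defects. -/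
theorem blockDefect_le_of_induced (hM : IsPModular p M) {H : Subgroup G}
    {b : Set (IrrCharacter H)} {B : Set (IrrCharacter G)} (hind : IsInducedBlock M H b B) :
    blockDefect p b ≤ blockDefect p B := by
  obtain ⟨D, hD⟩ := exists_isDefectGroup hM hind.1
  obtain ⟨E, hE, hle⟩ := exists_map_subtype_le_defect hM hind hD
  have h := Subgroup.card_le_of_le hle
  rw [Subgroup.card_subtype, natCard_defectGroup hM hind.1 hD,
    natCard_defectGroup hM hind.2.1 hE] at h
  exact (Nat.pow_le_pow_iff_right hM.1.one_lt).1 h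

end CfsgLib.BlockB
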