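import Cfsg.Agent.Lib.BlockB.CenInduce
import Cfsg.Agent.Lib.BlockA.BrauerMax
import Cfsg.Agent.Lib.BlockA.PairNorm
import Cfsg.Agent.Lib.Block.KerNormal
import Cfsg.Agent.Lib.Block.LamZero
import Cfsg.Agent.Lib.Block.SecondMain
import Cfsg.Agent.Lib.OddLocal.PiCore

/-!
Normal `p'`-subgroups in kernels of blocks, along Brauer pairs.
-/

set_option autoImplicit false
set_option linter.unusedSectionVars false
set_option maxHeartbeats 1000000

namespace CfsgLib.BlockB.PiKer

open Cfsg CfsgLib.Block CfsgLib.BlockA MonoidAlgebra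

universe u

variable {G : Type u} [Group G] [Finite G] {p : ℕ} {M : Ideal AlgInt} [M.IsPrime]

local notation "cen" Q => Subgroup.centralizer ((Q : Subgroup G) : Set G)

/-- The average over a subgroup, modulo `M`. -/
noncomputable def avg (M : Ideal AlgInt) [M.IsPrime] (U : Subgroup G) : MonoidAlgebra (kres M) G :=
  open scoped Classical in mkGA fun x => if x ∈ U then (Nat.card U : kres M)⁻¹ else 0

theorem coeff_avg (U : Subgroup G) (x : G) [Decidable (x ∈ U)] :
    (avg M U).coeff x = if x ∈ U then (Nat.card U : kres M)⁻¹ else 0 := by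
  rw [avg, coeff_mkGA]
  split_ifs <;> rfl

theorem isClassCoeff_avg (U : Subgroup G) [hU : U.Normal] : IsClassCoeff (avg M U) := by
  classical
  intro g h
  rw [coeff_avg, coeff_avg]
  refine if_congr ⟨fun hh => ?_, fun hh => hU.conj_mem g hh h⟩ rfl rfl
  have := hU.conj_mem _ hh h⁻¹
  simpa [mul_assoc] using this

theorem isPInv_avg {U X : Subgroup G} (hX : X ≤ Subgroup.normalizer (U : Set G)) :
    IsPInv X (avg M U) := by
  classical
  intro u hu x
  rw [coeff_avg, coeff_avg]
  exact if_congr (Subgroup.mem_normalizer_iff.1 (hX hu) x).symm rfl rfl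

/-- The average over a normal subgroup as a central element. -/
noncomputable def avgZ (M : Ideal AlgInt) [M.IsPrime] (U : Subgroup G) [U.Normal] :
    Subalgebra.center (kres M) (MonoidAlgebra (kres M) G) :=
  ⟨avg M U, isClassCoeff_iff_mem_center.1 (isClassCoeff_avg U)⟩

theorem inclSub_avg (H : Subgroup G) (U : Subgroup H) :
    inclSub H (avg M U) = avg M (U.map H.subtype) := by
  classical
  ext x
  rw [coeff_avg, Subgroup.card_map_of_injective H.subtype_injective]
  by_cases hx : x ∈ H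
  · rw [show x = ((⟨x, hx⟩ : H) : G) from rfl, coeff_inclSub_of_mem, coeff_avg]
    exact if_congr ⟨fun h => ⟨_, h, rfl⟩, fun ⟨y, hy, e⟩ => Subtype.ext (a1 := y)
      (a2 := (⟨x, hx⟩ : H)) e ▸ hy⟩ rfl rfl
  · rw [coeff_inclSub_of_not_mem _ _ hx, if_neg]
    rintro ⟨y, -, rfl⟩
    exact hx y.2

variable (hM : IsPModular p M)
include hM

theorem redC_inv_natCast {n : ℕ} (hn : ¬ p ∣ n) :
    redC M ((n : ℂ)⁻¹) = (n : kres M)⁻¹ := by
  have hn0 : (n : ℂ) ≠ 0 := by
    have : n ≠ 0 := fun h => hn (h ▸ dvd_zero p)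
    exact_mod_cast this
  refine eq_inv_of_mul_eq_one_left ?_
  rw [← redC_natCast, ← redC_mul (memLocalRing_inv_natCast hM hn) (memLocalRing_natCast n),
    inv_mul_cancel₀ hn0, redC_one]

/-- The central character at the average decides the kernel. -/
theorem lam_avgZ_eq_one_iff (U : Subgroup G) [U.Normal] (hU : ¬ p ∣ Nat.card U)
    (χ : IrrCharacter G) :
    (lam M χ (avgZ M U) = 1 ↔ U ≤ kerIrr χ) ∧ (lam M χ (avgZ M U) = 1 ∨ lam M χ (avgZ M U) = 0) := by
  classical
  have := Fintype.ofFinite G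
  have := Fintype.ofFinite U
  let a : MonoidAlgebra ℂ G := mkGA fun x => if x ∈ U then (Nat.card U : ℂ)⁻¹ else 0
  have ha : IsLocalCentral M a := by
    refine ⟨fun g h => ?_, fun g => ?_⟩
    · simp only [a, coeff_mkGA]
      refine if_congr ⟨fun hh => ?_, fun hh => Subgroup.Normal.conj_mem inferInstance g hh h⟩ rfl rfl
      have := Subgroup.Normal.conj_mem (H := U) inferInstance _ hh h⁻¹
      simpa [mul_assoc] using this
    · simp only [a, coeff_mkGA]
      split_ifs
      · exact memLocalRing_inv_natCast hM hU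
      · exact (lring M).zero_mem
  have hred : redA M a = (avgZ M U : MonoidAlgebra (kres M) G) := by
    ext g
    simp only [avgZ, redA, a, coeff_mkGA, coeff_avg]
    split_ifs
    · exact redC_inv_natCast hM hU
    · exact redC_zero
  have hval : omegaC (χ : G → ℂ) a =
      classInner (fun n : U => (χ : G → ℂ) n) ((trivIrr : IrrCharacter U) : U → ℂ) /
        (χ : G → ℂ) 1 := by
    rw [omegaC_eq, CfsgLib.Char.classInner_def]
    congr 1
    rw [Finset.mul_sum, ← Finset.sum_subset (Finset.subset_univ (Finset.univ.filter (· ∈ U)))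
      (fun k _ hk => by simp [a, if_neg (show k ∉ U by simpa using hk)]),
      Finset.sum_subtype _ (p := (· ∈ U)) (by simp)]
    refine Finset.sum_congr rfl fun k _ => ?_
    simp [a, trivIrr]
  rw [lam_apply χ ha (avgZ M U) hred, hval]
  by_cases hk : U ≤ kerIrr χ
  · have e : (fun n : U => (χ : G → ℂ) n) = (χ : G → ℂ) 1 • ((trivIrr : IrrCharacter U) : U → ℂ) :=
      funext fun n => by simpa [trivIrr] using mem_kerIrr.1 (hk n.2)
    rw [e, CfsgLib.Char.classInner_smul_left, CfsgLib.Char.irr_classInner_self trivIrr.2, mul_one,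
      div_self (CfsgLib.Char.irr_apply_one_ne_zero χ.2), redC_one]
    simp [hk]
  · rw [not_not.1 (mt (le_kerIrr_iff_constituent χ).2 hk), zero_div, redC_zero]
    simp [hk]

/-- The Brauer homomorphism at a normalizing `p`-subgroup keeps averages. -/
theorem pairVal_avg {R U : Subgroup G} (hR : IsPGroup p R)
    (hRU : R ≤ Subgroup.normalizer (U : Set G)) (hCU : (cen R) ≤ Subgroup.normalizer (U : Set G))
    [(U.subgroupOf (cen R)).Normal] (ξ : IrrCharacter (cen R)) :
    pairVal R ξ (avg M U) = lam M ξ (avgZ M (U.subgroupOf (cen R))) := by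
  classical
  have := Fact.mk hM.1
  have := charP_kres hM
  have := Fintype.ofFinite U
  have hC : IsCInv R (avg M U) := isCInv_of_isPInv hCU (isPInv_avg le_rfl)
  rw [pairVal_eq ξ hC]
  refine congrArg _ (Subtype.ext ?_)
  show resSub (cen R) (avg M U) = avg M (U.subgroupOf (cen R))
  let _ : MulAction R U :=
    { smul := fun r u => ⟨(r : G) * u * (r : G)⁻¹, (Subgroup.mem_normalizer_iff.1 (hRU r.2) u).1 u.2⟩
      one_smul := fun u => Subtype.ext (by change (1 : G) * u * (1 : G)⁻¹ = u; simp)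
      mul_smul := fun r s u => Subtype.ext (by
        change ((r * s : R) : G) * u * ((r * s : R) : G)⁻¹ =
          (r : G) * ((s : G) * u * (s : G)⁻¹) * (r : G)⁻¹
        push_cast
        group) }
  have hcard : (Nat.card U : kres M) = (Nat.card (U.subgroupOf (cen R)) : kres M) := by
    have h := hR.card_modEq_card_fixedPoints U
    have e : Nat.card (MulAction.fixedPoints R U) = Nat.card (U.subgroupOf (cen R)) := by
      refine Nat.card_congr
        { toFun := fun u => ⟨⟨(u.1 : G), Subgroup.mem_centralizer_iff.2 fun r hr => by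
              have h1 : r * (u.1 : G) * r⁻¹ = u.1 := congrArg Subtype.val (u.2 ⟨r, hr⟩)
              calc r * (u.1 : G) = r * (u.1 : G) * r⁻¹ * r := by group
                _ = _ := by rw [h1]⟩, u.1.2⟩
          invFun := fun c => ⟨⟨((c : (cen R)) : G), c.2⟩, fun r => Subtype.ext (by
            show (r : G) * ((c : (cen R)) : G) * (r : G)⁻¹ = ((c : (cen R)) : G)
            rw [Subgroup.mem_centralizer_iff.1 (c : (cen R)).2 r r.2, mul_inv_cancel_right])⟩
          left_inv := fun u => rfl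
          right_inv := fun c => rfl }
    rw [← e]
    exact (CharP.natCast_eq_natCast _ p).2 h
  ext c
  rw [coeff_resSub, coeff_avg, coeff_avg, hcard]
  exact if_congr Iff.rfl rfl rfl

variable {κ : Set ℕ} (hpκ : p ∉ κ)
include hpκ

theorem not_dvd_piCore (H : Type u) [Group H] [Finite H] : ¬ p ∣ Nat.card (piCore κ H) :=
  fun h => hpκ (CfsgLib.OddLocal.piCore_spec κ p hM.1 h)

theorem not_dvd_piCoreOf (X : Subgroup G) : ¬ p ∣ Nat.card (piCoreOf κ X) :=
  fun h => hpκ (CfsgLib.OddLocal.piCoreOf_spec κ X p hM.1 h)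

omit hpκ in
/-- A pair is good when the core of the centralizer is in the kernel of the block. -/
def Good (κ : Set ℕ) (Q : Subgroup G) (f : Set (IrrCharacter (cen Q))) : Prop :=
  ∀ ξ ∈ f, piCore κ (cen Q) ≤ kerIrr ξ

omit hpκ in
/-- The core of the centralizer contains all elements of its kind. -/
def Full (κ : Set ℕ) (Q : Subgroup G) : Prop :=
  ∀ c : (cen Q), (∀ q : ℕ, q.Prime → q ∣ orderOf c → q ∈ κ) → c ∈ piCore κ (cen Q)

omit hM hpκ in
theorem subgroupOf_le_piCore {U K : Subgroup G} (hU : ∀ q : ℕ, q.Prime → q ∣ Nat.card U → q ∈ κ)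
    [(U.subgroupOf K).Normal] : U.subgroupOf K ≤ piCore κ K := by
  refine CfsgLib.OddLocal.le_piCore inferInstance fun q hq hd => hU q hq (hd.trans ?_)
  rw [← Subgroup.card_map_of_injective K.subtype_injective, Subgroup.subgroupOf_map_subtype]
  exact Subgroup.card_dvd_of_le inf_le_left

omit hM hpκ in
theorem normal_subgroupOf_of_le_normalizer {U K : Subgroup G}
    (h : K ≤ Subgroup.normalizer (U : Set G)) : (U.subgroupOf K).Normal :=
  ⟨fun n hn g => (Subgroup.mem_normalizer_iff.1 (h g.2) _).1 hn⟩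

/-- One normal step. -/
theorem pairVal_core_eq {Q R : Subgroup G} {f : Set (IrrCharacter (cen Q))}
    {g : Set (IrrCharacter (cen R))} (h : IsNormalSubpair p M Q f R g)
    {ξ : IrrCharacter (cen Q)} (hξ : ξ ∈ f) {η : IrrCharacter (cen R)} (hη : η ∈ g)
    [((piCoreOf κ (cen Q)).subgroupOf (cen R)).Normal] :
    (piCore κ (cen Q) ≤ kerIrr ξ) ↔ (piCoreOf κ (cen Q)).subgroupOf (cen R) ≤ kerIrr η := by
  classical
  have := Fact.mk hM.1
  obtain ⟨hQR, hRN, hst, hv⟩ := (isNormalSubpair_iff hM hη h.2.1 h.1).1 h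
  set U := piCoreOf κ (cen Q) with hU
  have hRU : R ≤ Subgroup.normalizer (U : Set G) := fun r hr =>
    CfsgLib.OddLocal.map_conj_piCoreOf κ
      (CfsgLib.BlockA.normalizer_le_normalizer_centralizer hM Q (hRN hr))
  have hQU : (cen Q) ≤ Subgroup.normalizer (U : Set G) := fun r hr =>
    CfsgLib.OddLocal.map_conj_piCoreOf κ (Subgroup.le_normalizer hr)
  have hCU : (cen R) ≤ Subgroup.normalizer (U : Set G) :=
    (centralizer_le_centralizer hQR).trans hQU
  set W := piCore κ (cen Q)
  have hW : ¬ p ∣ Nat.card W := not_dvd_piCore hM hpκ _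
  have hU' : ¬ p ∣ Nat.card (U.subgroupOf (cen R)) := fun hd =>
    hpκ ((CfsgLib.OddLocal.piCoreOf_spec κ _) p hM.1 (hd.trans (by
      rw [← Subgroup.card_map_of_injective (cen R).subtype_injective,
        Subgroup.subgroupOf_map_subtype]
      exact Subgroup.card_dvd_of_le inf_le_left)))
  have hRp := h.2.1.1
  have hfinv : IsPInv R (sIdem M (cen Q) f) := isPInv_sIdem_of_stable hM hRN h.1.2 hst
  have hfC := isCInv_sIdem hM hQR f
  have hUinv : IsPInv R (avg M U) := isPInv_avg hRU
  have hUC : IsCInv R (avg M U) := isCInv_of_isPInv hCU (isPInv_avg le_rfl)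
  obtain ⟨-, hmul⟩ := pairVal_mul hM hRp η hfinv hUinv hfC hUC
  rw [hv, one_mul, pairVal_avg hM hRp hRU hCU η] at hmul
  have hprod : sIdem M (cen Q) f * avg M U =
      inclSub (cen Q) ((blkIdem M f * avgZ M W :
        Subalgebra.center (kres M) (MonoidAlgebra (kres M) (cen Q))) : MonoidAlgebra _ _) := by
    rw [MulMemClass.coe_mul, map_mul, sIdem, hU, piCoreOf, avgZ, inclSub_avg]
  rw [← (lam_avgZ_eq_one_iff hM W hW ξ).1, ← (lam_avgZ_eq_one_iff hM _ hU' η).1, ← hmul]
  constructor
  · intro h1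
    have h2 : blkIdem M f * avgZ M W = blkIdem M f := by
      have hid : avgZ M W * avgZ M W = avgZ M W := avgZ_idem hM W hW
      rw [mul_comm]
      exact CfsgLib.BlockA.mul_blkIdem_of_lam_eq_one hM hid h.1.2 hξ h1
    rw [hprod, h2]
    exact hv
  · intro h1
    rcases (lam_avgZ_eq_one_iff hM W hW ξ).2 with h2 | h2
    · exact h2
    · exfalso
      have hid : avgZ M W * avgZ M W = avgZ M W := avgZ_idem hM W hW
      have h3 : blkIdem M f * avgZ M W = 0 := by
        by_contra hne
        have hid2 : (blkIdem M f * avgZ M W) * (blkIdem M f * avgZ M W) =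
            blkIdem M f * avgZ M W := by
          rw [mul_mul_mul_comm, blkIdem_idem hM h.1.2, hid]
        obtain ⟨ψ, hψ⟩ := exists_lam_eq_one_of_idem hM hid2 hne
        rw [map_mul, lam_blkIdem hM h.1.2] at hψ
        split_ifs at hψ with hψf
        · rw [one_mul, lam_eq_of_sameBlock (sameBlock_of_mem h.1.2 hψf hξ), h2] at hψ
          exact zero_ne_one hψ
        · rw [zero_mul] at hψ
          exact zero_ne_one hψ
      rw [hprod, h3] at h1
      simp only [ZeroMemClass.coe_zero, map_zero, pairVal_zero η] at h1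
      exact zero_ne_one h1
where
  avgZ_idem {H : Type u} [Group H] [Finite H] {p : ℕ} {M : Ideal AlgInt} [M.IsPrime]
      (hM : IsPModular p M) (W : Subgroup H) [W.Normal] (hW : ¬ p ∣ Nat.card W) :
      avgZ M W * avgZ M W = avgZ M W := by
    classical
    have := Fintype.ofFinite H
    have := Fact.mk hM.1
    have := charP_kres hM
    apply Subtype.ext
    show avg M W * avg M W = avg M W
    ext g
    have hne : (Nat.card W : kres M) ≠ 0 := fun h => hW ((CharP.cast_eq_zero_iff _ p _).1 h)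
    rw [coeff_mul_eq]
    simp only [coeff_avg]
    rw [Finset.sum_congr rfl (g := fun x => if x ∈ W then
      (if g ∈ W then (Nat.card W : kres M)⁻¹ * (Nat.card W : kres M)⁻¹ else 0) else 0)
      (fun x _ => by
        by_cases hx : x ∈ W
        · simp only [if_pos hx, W.mul_mem_cancel_left (W.inv_mem hx), mul_ite, mul_zero]
        · simp [hx]), ← Finset.sum_filter, Finset.sum_const, ← Fintype.card_subtype,
      ← Nat.card_eq_fintype_card, nsmul_eq_mul]
    split_ifs
    · rw [← mul_assoc, mul_inv_cancel₀ hne, one_mul]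
    · rw [mul_zero]

/-- Kernels go down along normal inclusions. -/
theorem good_down {Q R : Subgroup G} {f : Set (IrrCharacter (cen Q))}
    {g : Set (IrrCharacter (cen R))} (h : IsNormalSubpair p M Q f R g) (hg : Good κ R g) :
    Good κ Q f := by
  intro ξ hξ
  obtain ⟨η, hη⟩ := isPBlock_nonempty h.2.1.2
  have hQR := ((isNormalSubpair_iff hM hη h.2.1 h.1).1 h).1
  have hn := normal_subgroupOf_of_le_normalizer (U := piCoreOf κ (cen Q)) (K := cen R) fun r hr =>
    CfsgLib.OddLocal.map_conj_piCoreOf κ (Subgroup.le_normalizer (centralizer_le_centralizer hQR hr))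
  exact (pairVal_core_eq hM hpκ h hξ hη).2
    ((subgroupOf_le_piCore (CfsgLib.OddLocal.piCoreOf_spec κ _)).trans (hg η hη))

/-- Kernels go up along normal inclusions when the cores are full. -/
theorem good_up {Q R : Subgroup G} {f : Set (IrrCharacter (cen Q))}
    {g : Set (IrrCharacter (cen R))} (h : IsNormalSubpair p M Q f R g) (hf : Good κ Q f)
    (hfull : Full κ Q) : Good κ R g ∧ Full κ R := by
  obtain ⟨η₀, hη₀⟩ := isPBlock_nonempty h.2.1.2
  obtain ⟨ξ, hξ⟩ := isPBlock_nonempty h.1.2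
  have hQR := ((isNormalSubpair_iff hM hη₀ h.2.1 h.1).1 h).1
  have hn := normal_subgroupOf_of_le_normalizer (U := piCoreOf κ (cen Q)) (K := cen R) fun r hr =>
    CfsgLib.OddLocal.map_conj_piCoreOf κ (Subgroup.le_normalizer (centralizer_le_centralizer hQR hr))
  have hmem : ∀ c : (cen R), (∀ q : ℕ, q.Prime → q ∣ orderOf c → q ∈ κ) →
      c ∈ (piCoreOf κ (cen Q)).subgroupOf (cen R) := by
    intro c hc
    refine Subgroup.mem_subgroupOf.2 ⟨⟨(c : G), centralizer_le_centralizer hQR c.2⟩,
      hfull _ (fun q hq hd => hc q hq ?_), rfl⟩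
    rwa [← Subgroup.orderOf_coe] at hd ⊢
  have hle : piCore κ (cen R) ≤ (piCoreOf κ (cen Q)).subgroupOf (cen R) := fun c hc =>
    hmem c fun q hq hd => CfsgLib.OddLocal.piCore_spec κ q hq (hd.trans (by
      rw [← Subgroup.orderOf_mk c hc]; exact orderOf_dvd_natCard _))
  refine ⟨fun η hη => hle.trans ((pairVal_core_eq hM hpκ h hξ hη).1 (hf ξ hξ)), fun c hc => ?_⟩
  exact subgroupOf_le_piCore (CfsgLib.OddLocal.piCoreOf_spec κ _) (hmem c hc)

theorem good_of_subpairLE {Q R : Subgroup G} {f : Set (IrrCharacter (cen Q))}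
    {g : Set (IrrCharacter (cen R))} (h : SubpairLE p M Q f R g) (hg : Good κ R g) :
    Good κ Q f := by
  have key : ∀ a : BrauerPairIdx G, Relation.ReflTransGen (NormalSubpairRel p M) a ⟨R, g⟩ →
      Good κ a.1 a.2 := by
    intro a ha
    induction ha using Relation.ReflTransGen.head_induction_on with
    | refl => exact hg
    | head hab _ ih => exact good_down hM hpκ hab ih
  exact key ⟨Q, f⟩ h

theorem good_full_of_subpairLE {Q R : Subgroup G} {f : Set (IrrCharacter (cen Q))}
    {g : Set (IrrCharacter (cen R))} (h : SubpairLE p M Q f R g) (hf : Good κ Q f)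
    (hfull : Full κ Q) : Good κ R g ∧ Full κ R := by
  have key : ∀ b : BrauerPairIdx G, Relation.ReflTransGen (NormalSubpairRel p M) ⟨Q, f⟩ b →
      Good κ b.1 b.2 ∧ Full κ b.1 := by
    intro b hb
    induction hb with
    | refl => exact ⟨hf, hfull⟩
    | tail _ hbc ih => exact good_up hM hpκ hbc ih.1 ih.2
  exact key ⟨R, g⟩ h

omit hM hpκ in
theorem apply_mem_piCore {H K : Type u} [Group H] [Group K] [Finite H] (φ : H ≃* K) {h : H}
    (hh : h ∈ piCore κ H) : φ h ∈ piCore κ K := by
  have hn : ((piCore κ H).map φ.toMonoidHom).Normal :=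
    (inferInstance : (piCore κ H).Normal).map _ φ.surjective
  refine CfsgLib.OddLocal.le_piCore hn (fun q hq hd => ?_) ⟨h, hh, rfl⟩
  rw [Subgroup.card_map_of_injective φ.injective] at hd
  exact CfsgLib.OddLocal.piCore_spec κ q hq hd

omit hpκ in
theorem good_conj {Q : Subgroup G} {f : Set (IrrCharacter (cen Q))} (x : G)
    (hf : Good κ (Q.map (MulAut.conj x).toMonoidHom) (conjBlock Q x f)) : Good κ Q f := by
  intro ξ hξ c hc
  have hmem : irrMap (cenMap Q x) ξ ∈ conjBlock Q x f := by
    rw [conjBlock_eq_blockMap]; exact ⟨ξ, hξ, rfl⟩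
  have h := hf _ hmem (apply_mem_piCore (cenMap Q x).symm hc)
  rw [mem_kerIrr, irrMap_apply, irrMap_apply, MulEquiv.apply_symm_apply, map_one] at h
  exact h

omit hpκ in
theorem good_conj' {Q : Subgroup G} {f : Set (IrrCharacter (cen Q))} (x : G) (hf : Good κ Q f) :
    Good κ (Q.map (MulAut.conj x).toMonoidHom) (conjBlock Q x f) := by
  intro η hη c hc
  rw [conjBlock_eq_blockMap] at hη
  obtain ⟨ξ, hξ, rfl⟩ := hη
  rw [mem_kerIrr, irrMap_apply, irrMap_apply, map_one]
  exact hf ξ hξ (apply_mem_piCore (cenMap Q x) hc)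

omit hpκ in
theorem full_conj' {Q : Subgroup G} (x : G) (hf : Full κ Q) :
    Full κ (Q.map (MulAut.conj x).toMonoidHom) := by
  intro c hc
  have h := hf (cenMap Q x c) fun q hq hd => hc q hq (by rwa [MulEquiv.orderOf_eq] at hd)
  have := apply_mem_piCore (cenMap Q x).symm h
  rwa [MulEquiv.symm_apply_apply] at this

variable {B : Set (IrrCharacter G)}

/-- All pairs of a block are good when one maximal pair is. -/
theorem good_all {D : Subgroup G} {e : Set (IrrCharacter (cen D))}
    (hmax : IsMaximalBrauerPair p M B D e) (he : Good κ D e) {Q : Subgroup G}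
    {f : Set (IrrCharacter (cen Q))} (hf : IsBrauerPairOf p M B Q f) : Good κ Q f := by
  obtain ⟨x, hx⟩ := exists_conj_le_maximal hM hmax hf
  exact good_conj hM x (good_of_subpairLE hM hpκ hx he)

/-- A good pair with full core makes the maximal pairs good. -/
theorem good_maximal {D Q : Subgroup G} {e : Set (IrrCharacter (cen D))}
    {f : Set (IrrCharacter (cen Q))} (hmax : IsMaximalBrauerPair p M B D e)
    (hf : IsBrauerPairOf p M B Q f) (hg : Good κ Q f) (hfull : Full κ Q) : Good κ D e := by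
  obtain ⟨x, hx⟩ := exists_conj_le_maximal hM hmax hf
  exact (good_full_of_subpairLE hM hpκ hx (good_conj' hM x hg) (full_conj' hM x hfull)).1

/-- A block of a subgroup containing the centralizer of its defect group gives a pair of the
induced block, and transfers kernels. -/
theorem exists_pair_sub {H : Subgroup G} {b : Set (IrrCharacter H)} (hb : IsPBlock M b)
    {D : Subgroup G} (hD : IsPGroup p D) (hDH : D ≤ H) (hC : (cen D) ≤ H)
    (hne : ∃ c ∈ cen D, (sIdem M H b).coeff c ≠ 0) (hind : IsInducedBlock M H b B) :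
    ∃ e : Set (IrrCharacter (cen D)), IsBrauerPairOf p M B D e ∧
      ∀ (U : Subgroup G), (∀ q : ℕ, q.Prime → q ∣ Nat.card U → q ∈ κ) → U ≤ H →
        (U.subgroupOf H).Normal → ∀ ξ ∈ e, ∀ η ∈ b,
        ∀ [(U.subgroupOf (cen D)).Normal],
          (U.subgroupOf H ≤ kerIrr η ↔ U.subgroupOf (cen D) ≤ kerIrr ξ) := by
  obtain ⟨e, he, -, hlam⟩ := exists_below hM hD hDH hC hb hne
  obtain ⟨B', hind', hpair⟩ := exists_induced hM hD hDH hC hb he hlam
  obtain rfl : B = B' := isInducedBlock_unique H hind hind'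
  refine ⟨e, hpair, fun U hU hUH hn ξ hξ η hη hnC => ?_⟩
  have hHN : H ≤ Subgroup.normalizer (U : Set G) :=
    (Subgroup.normal_subgroupOf_iff_le_normalizer hUH).1 hn
  have hU1 : ¬ p ∣ Nat.card (U.subgroupOf H) := fun hd => hpκ (hU p hM.1
    (Nat.card_congr (Subgroup.subgroupOfEquivOfLe hUH).toEquiv ▸ hd))
  have hU2 : ¬ p ∣ Nat.card (U.subgroupOf (cen D)) := fun hd => hpκ (hU p hM.1 (hd.trans (by
    rw [← Subgroup.card_map_of_injective (cen D).subtype_injective,
      Subgroup.subgroupOf_map_subtype]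
    exact Subgroup.card_dvd_of_le inf_le_left)))
  rw [← (lam_avgZ_eq_one_iff hM _ hU1 η).1, ← (lam_avgZ_eq_one_iff hM _ hU2 ξ).1,
    hlam ξ hξ _ η hη]
  rw [show inclSub H (avgZ M (U.subgroupOf H) : MonoidAlgebra (kres M) H) = avg M U by
      rw [avgZ, inclSub_avg, Subgroup.subgroupOf_map_subtype, inf_eq_left.2 hUH],
    pairVal_avg hM hD (hDH.trans hHN) (hC.trans hHN) ξ]

omit hpκ in
theorem exists_coeff_defect {H : Subgroup G} {b : Set (IrrCharacter H)} (hb : IsPBlock M b)
    {D₀ : Subgroup H} (hD₀ : IsDefectGroup p M b D₀) {R : Subgroup H} (hR : IsPGroup p R)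
    (hRD : R ≤ D₀) : ∃ c ∈ cen (R.map H.subtype), (sIdem M H b).coeff c ≠ 0 := by
  obtain ⟨c, hc, hc0⟩ := (exists_le_conj_iff_coeff hM hb hD₀ hR).2
    ⟨1, by rwa [map_conj_one]⟩
  refine ⟨(c : G), ?_, by rwa [sIdem, coeff_inclSub_of_mem]⟩
  rw [Subgroup.mem_centralizer_iff]
  rintro _ ⟨u, hu, rfl⟩
  exact congrArg Subtype.val (Subgroup.mem_centralizer_iff.1 hc u hu)

/-- The maximal pair from the Brauer correspondent. -/
theorem exists_maximal_correspondent {D : Subgroup G} (hD : IsDefectGroup p M B D)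
    {B₁ : Set (IrrCharacter ↥(Subgroup.normalizer (D : Set G)))}
    (hB₁ : IsInducedBlock M (Subgroup.normalizer (D : Set G)) B₁ B)
    (hB₁D : IsDefectGroup p M B₁ (D.subgroupOf (Subgroup.normalizer (D : Set G)))) :
    ∃ e : Set (IrrCharacter (cen D)), IsMaximalBrauerPair p M B D e ∧
      ((∀ η ∈ B₁, piCore κ ↥(Subgroup.normalizer (D : Set G)) ≤ kerIrr η) ↔ Good κ D e) := by
  have := Fact.mk hM.1
  have hB := hB₁.2.1
  have hDp : IsPGroup p D := isPGroup_defectGroup hM hB hD
  have hDN : D ≤ (Subgroup.normalizer (D : Set G)) := Subgroup.le_normalizer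
  have hCN : (cen D) ≤ (Subgroup.normalizer (D : Set G)) := Subgroup.centralizer_le_normalizer _
  have hne : ∃ c ∈ cen D, (sIdem M (Subgroup.normalizer (D : Set G)) B₁).coeff c ≠ 0 := by
    obtain ⟨c, hc, hc0⟩ := exists_coeff_defect hM hB₁.1 hB₁D hDp.comap_subtype le_rfl
    exact ⟨c, Subgroup.mem_centralizer_iff.2 fun d hd =>
      Subgroup.mem_centralizer_iff.1 hc d ⟨⟨d, hDN hd⟩, hd, rfl⟩, hc0⟩
  obtain ⟨e, he, htr⟩ := exists_pair_sub hM hpκ hB₁.1 hDp hDN hCN hne hB₁
  refine ⟨e, isMaximal_of_card hM he hD le_rfl, ?_⟩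
  -- the core of the centralizer
  set U := piCoreOf κ (cen D) with hU
  have hUC : U ≤ cen D := CfsgLib.OddLocal.piCoreOf_le κ _
  have hUN : (U.subgroupOf (Subgroup.normalizer (D : Set G))).Normal := normal_subgroupOf_of_le_normalizer fun n hn =>
    CfsgLib.OddLocal.map_conj_piCoreOf κ (CfsgLib.BlockA.normalizer_le_normalizer_centralizer hM D hn)
  have hUCn : (U.subgroupOf (cen D)).Normal := normal_subgroupOf_of_le_normalizer fun n hn =>
    CfsgLib.OddLocal.map_conj_piCoreOf κ (Subgroup.le_normalizer hn)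
  have hUeq : U.subgroupOf (cen D) = piCore κ (cen D) :=
    Subgroup.comap_map_eq_self_of_injective (cen D).subtype_injective _
  have hUN' : U.subgroupOf (Subgroup.normalizer (D : Set G)) = piCore κ (Subgroup.normalizer (D : Set G)) := by
    refine le_antisymm (subgroupOf_le_piCore (CfsgLib.OddLocal.piCoreOf_spec κ _)) fun v hv => ?_
    set V := piCoreOf κ (Subgroup.normalizer (D : Set G)) with hV
    have hVC : V ≤ cen D := by
      intro w hw
      rw [Subgroup.mem_centralizer_iff]
      intro d hd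
      have hVn : (Subgroup.normalizer (D : Set G)) ≤ Subgroup.normalizer (V : Set G) := fun n hn =>
        CfsgLib.OddLocal.map_conj_piCoreOf κ (Subgroup.le_normalizer hn)
      have h1 : d * w * d⁻¹ * w⁻¹ ∈ V :=
        V.mul_mem ((Subgroup.mem_normalizer_iff.1 (hVn (hDN hd)) w).1 hw) (V.inv_mem hw)
      have h2 : d * w * d⁻¹ * w⁻¹ ∈ D := by
        have hwN : w ∈ (Subgroup.normalizer (D : Set G)) := CfsgLib.OddLocal.piCoreOf_le κ (Subgroup.normalizer (D : Set G)) hw
        have := D.mul_mem hd ((Subgroup.mem_normalizer_iff.1 hwN d⁻¹).1 (D.inv_mem hd))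
        simpa [mul_assoc] using this
      obtain ⟨k, hk⟩ := IsPGroup.iff_orderOf.1 hDp ⟨_, h2⟩
      rw [Subgroup.orderOf_mk] at hk
      rcases Nat.eq_zero_or_pos k with rfl | hk0
      · rw [pow_zero, orderOf_eq_one_iff, mul_inv_eq_one, mul_inv_eq_iff_eq_mul] at hk
        exact hk
      · refine absurd (CfsgLib.OddLocal.piCoreOf_spec κ (Subgroup.normalizer (D : Set G)) p hM.1 ((dvd_pow_self p hk0.ne').trans ?_))
          hpκ
        rw [← hk, ← Subgroup.orderOf_mk _ h1]
        exact orderOf_dvd_natCard _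
    have hle : V ≤ U := CfsgLib.OddLocal.le_piCoreOf hVC (fun c hc =>
      CfsgLib.OddLocal.map_conj_piCoreOf κ (Subgroup.le_normalizer (hCN hc)))
      (CfsgLib.OddLocal.piCoreOf_spec κ (Subgroup.normalizer (D : Set G)))
    exact Subgroup.mem_subgroupOf.2 (hle ⟨v, hv, rfl⟩)
  have hUspec := CfsgLib.OddLocal.piCoreOf_spec κ (cen D)
  constructor
  · intro h ξ hξ
    obtain ⟨η, hη⟩ := isPBlock_nonempty hB₁.1
    rw [← hUeq]
    exact (htr U hUspec (hUC.trans hCN) hUN ξ hξ η hη).1 (hUN' ▸ h η hη)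
  · intro h η hη
    obtain ⟨ξ, hξ⟩ := isPBlock_nonempty he.1.2
    rw [← hUN']
    exact (htr U hUspec (hUC.trans hCN) hUN ξ hξ η hη).2 (hUeq ▸ h ξ hξ)

/-- Cores of subgroups containing the centralizer of a defect group of a block inducing `B`. -/
theorem core_le_ker {D : Subgroup G} {e : Set (IrrCharacter (cen D))}
    (hmax : IsMaximalBrauerPair p M B D e) (he : Good κ D e) {H : Subgroup G}
    {b : Set (IrrCharacter H)} (hind : IsInducedBlock M H b B) {D₀ : Subgroup H}
    (hD₀ : IsDefectGroup p M b D₀) (hC : (cen (D₀.map H.subtype)) ≤ H) :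
    ∀ η ∈ b, piCore κ H ≤ kerIrr η := by
  have hD₀p := isPGroup_defectGroup hM hind.1 hD₀
  have hne := exists_coeff_defect hM hind.1 hD₀ hD₀p le_rfl
  obtain ⟨e₀, he₀, htr⟩ := exists_pair_sub hM hpκ hind.1 (hD₀p.map _)
    (Subgroup.map_subtype_le D₀) hC hne hind
  have hgood := good_all hM hpκ hmax he he₀
  intro η hη
  obtain ⟨ξ, hξ⟩ := isPBlock_nonempty he₀.1.2
  have hn : (piCoreOf κ H).subgroupOf H = piCore κ H :=
    Subgroup.comap_map_eq_self_of_injective H.subtype_injective _
  have hnC := normal_subgroupOf_of_le_normalizer (U := piCoreOf κ H) (K := cen (D₀.map H.subtype))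
    fun c hc => CfsgLib.OddLocal.map_conj_piCoreOf κ (Subgroup.le_normalizer (hC hc))
  rw [← hn]
  refine (htr _ (CfsgLib.OddLocal.piCoreOf_spec κ H) (CfsgLib.OddLocal.piCoreOf_le κ H)
    (hn.symm ▸ inferInstance) ξ hξ η hη).2 ?_
  exact (subgroupOf_le_piCore (CfsgLib.OddLocal.piCoreOf_spec κ H)).trans (hgood ξ hξ)

end CfsgLib.BlockB.PiKer
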