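import Cfsg.Agent.Lib.BlockB.SubSum
import Cfsg.Agent.Lib.BlockB.CenInduce
import Cfsg.Agent.Lib.BlockB.InducingDefect
import Cfsg.Agent.Lib.BlockB.PiKer
import Cfsg.Agent.Lib.BlockA.BlockFusion
import Cfsg.Agent.Lib.BlockA.SectionNorms

/-!
Brauer's bound for the heights through the major subsections at the centre of a defect group.
-/

set_option autoImplicit false
set_option linter.unusedSectionVars false
set_option maxHeartbeats 1000000

namespace CfsgLib.BlockB.HeightBound

open Cfsg CfsgLib.Block CfsgLib.BlockA CfsgLib.BlockB.SubSum MonoidAlgebra CfsgLib.Fusion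
open scoped ComplexConjugate

universe u

variable {G : Type u} [Group G] [Fintype G] {p : ℕ} {M : Ideal AlgInt} [M.IsPrime]

local notation "cen" Q => Subgroup.centralizer ((Q : Subgroup G) : Set G)

theorem cen_zpowers (z : G) :
    (cen (Subgroup.zpowers z)) = Subgroup.centralizer ({z} : Set G) := by
  ext v
  rw [Subgroup.mem_centralizer_iff, Subgroup.mem_centralizer_singleton_iff]
  exact ⟨fun h => (h z (Subgroup.mem_zpowers z)).symm, fun h w hw => by
    obtain ⟨k, rfl⟩ := Subgroup.mem_zpowers_iff.1 hw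
    exact (Commute.zpow_right h k).symm⟩

/-- Conjugation between the centralizers. -/
def cenConj (a z : G) :
    Subgroup.centralizer ({a * z * a⁻¹} : Set G) ≃* Subgroup.centralizer ({z} : Set G) where
  toFun c := ⟨a⁻¹ * c * a, Subgroup.mem_centralizer_singleton_iff.2 (by
    have h := Subgroup.mem_centralizer_singleton_iff.1 c.2
    calc a⁻¹ * (c : G) * a * z = a⁻¹ * ((c : G) * (a * z * a⁻¹)) * a := by group
      _ = a⁻¹ * ((a * z * a⁻¹) * (c : G)) * a := by rw [h]
      _ = z * (a⁻¹ * (c : G) * a) := by group)⟩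
  invFun c := ⟨a * c * a⁻¹, Subgroup.mem_centralizer_singleton_iff.2 (by
    have h := Subgroup.mem_centralizer_singleton_iff.1 c.2
    calc a * (c : G) * a⁻¹ * (a * z * a⁻¹) = a * ((c : G) * z) * a⁻¹ := by group
      _ = a * (z * (c : G)) * a⁻¹ := by rw [h]
      _ = a * z * a⁻¹ * (a * (c : G) * a⁻¹) := by group)⟩
  left_inv c := Subtype.ext (by simp [mul_assoc])
  right_inv c := Subtype.ext (by simp [mul_assoc])
  map_mul' c d := Subtype.ext (by simp [mul_assoc])

theorem conjFun_subgroupBlockCoeff (a z : G)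
    (b : Set (IrrCharacter (Subgroup.centralizer ({z} : Set G)))) :
    conjFun a (subgroupBlockCoeff (Subgroup.centralizer ({z} : Set G)) b) =
      subgroupBlockCoeff (Subgroup.centralizer ({a * z * a⁻¹} : Set G))
        (blockMap (cenConj a z) b) := by
  funext k
  unfold conjFun subgroupBlockCoeff
  by_cases hk : k ∈ Subgroup.centralizer ({a * z * a⁻¹} : Set G)
  · have hk' : a⁻¹ * k * a ∈ Subgroup.centralizer ({z} : Set G) := (cenConj a z ⟨k, hk⟩).2
    rw [dif_pos hk, dif_pos hk', blockCoeff_blockMap]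
    rfl
  · have hk' : a⁻¹ * k * a ∉ Subgroup.centralizer ({z} : Set G) := fun h => hk (by
      have h2 := ((cenConj a z).symm ⟨_, h⟩).2
      have e : ((cenConj a z).symm ⟨_, h⟩ : G) = k := by
        show a * (a⁻¹ * k * a) * a⁻¹ = k
        group
      rwa [e] at h2)
    rw [dif_neg hk, dif_neg hk']

theorem conjFun_conjFun (a c : G) (β : G → ℂ) : conjFun a (conjFun c β) = conjFun (a * c) β := by
  funext k
  simp only [conjFun, mul_inv_rev]
  congr 1
  group

variable (hM : IsPModular p M)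
include hM

theorem subgroupBlockCoeff_injective {H : Subgroup G} {b b' : Set (IrrCharacter H)}
    (hb : IsPBlock M b) (hb' : IsPBlock M b')
    (h : subgroupBlockCoeff H b = subgroupBlockCoeff H b') : b = b' := by
  refine blkIdem_injective hM hb hb' (Subtype.ext ?_)
  ext v
  have := congrFun h (v : G)
  rw [subgroupBlockCoeff, subgroupBlockCoeff, dif_pos v.2, dif_pos v.2] at this
  rw [coeff_blkIdem, coeff_blkIdem]
  exact congrArg _ this

open Classical in
/-- The coefficient functions of the blocks of `C(x)`, for all `p`-elements `x`. -/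
noncomputable def subIdx (p : ℕ) (M : Ideal AlgInt) [M.IsPrime] (G : Type u) [Group G] [Fintype G] :
    Finset (G × (G → ℂ)) :=
  (Finset.univ.filter fun x : G => ∃ k : ℕ, orderOf x = p ^ k).biUnion fun x =>
    (allBlocks M (Subgroup.centralizer ({x} : Set G))).image fun b =>
      (x, subgroupBlockCoeff (Subgroup.centralizer ({x} : Set G)) b)

omit hM in
theorem mem_subIdx {q : G × (G → ℂ)} :
    q ∈ subIdx p M G ↔ (∃ k : ℕ, orderOf q.1 = p ^ k) ∧
      ∃ b : Set (IrrCharacter (Subgroup.centralizer ({q.1} : Set G))), IsPBlock M b ∧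
        subgroupBlockCoeff (Subgroup.centralizer ({q.1} : Set G)) b = q.2 := by
  classical
  simp only [subIdx, Finset.mem_biUnion, Finset.mem_filter, Finset.mem_univ, true_and,
    Finset.mem_image, mem_allBlocks]
  constructor
  · rintro ⟨x, hx, b, hb, rfl⟩
    exact ⟨hx, b, hb, rfl⟩
  · rintro ⟨hx, b, hb, h⟩
    exact ⟨q.1, hx, b, hb, Prod.ext rfl h⟩

theorem subSum_re_nonneg {χ : IrrCharacter G} {q : G × (G → ℂ)} (hq : q ∈ subIdx p M G) :
    0 ≤ (subSum p (χ : G → ℂ) q.1 q.2).re ∧ (subSum p (χ : G → ℂ) q.1 q.2).im = 0 := by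
  classical
  obtain ⟨hx, b, hb, hβ⟩ := mem_subIdx.1 hq
  have := Fintype.ofFinite (Subgroup.centralizer ({q.1} : Set G))
  obtain ⟨r, hr, he⟩ := exists_real hM hx hb (k := 1) (Nat.coprime_one_left _) χ
  rw [pow_one, hβ] at he
  rw [he, Complex.ofReal_re, Complex.ofReal_im]
  exact ⟨hr, rfl⟩

open Classical in
/-- All subsections together. -/
theorem sum_subIdx (χ : IrrCharacter G) :
    ∑ q ∈ subIdx p M G, subSum p (χ : G → ℂ) q.1 q.2 = (Nat.card G : ℂ) := by
  have hp := hM.1
  rw [subIdx, Finset.sum_biUnion (fun x _ y _ hxy => by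
    rw [Function.onFun, Finset.disjoint_left]
    intro q hq hq'
    obtain ⟨_, -, rfl⟩ := Finset.mem_image.1 hq
    obtain ⟨_, -, h⟩ := Finset.mem_image.1 hq'
    exact hxy (congrArg Prod.fst h).symm)]
  have hone : ∀ g : G, ∑ x ∈ (Finset.univ.filter fun x : G => ∃ k : ℕ, orderOf x = p ^ k),
      (if IsPPart p g x then (1 : ℂ) else 0) = 1 := by
    intro g
    obtain ⟨w, hw⟩ := exists_isPPart hp g
    have hwp : ∃ k : ℕ, orderOf w = p ^ k := by obtain ⟨_, _, _, h, _⟩ := hw; exact h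
    rw [Finset.sum_eq_single_of_mem w (Finset.mem_filter.2 ⟨Finset.mem_univ _, hwp⟩)
      (fun x _ hne => if_neg fun h => hne (isPPart_unique hp h hw)), if_pos hw]
  have h1 : (Nat.card G : ℂ) = ∑ g : G, conj ((χ : G → ℂ) g) * (χ : G → ℂ) g := by
    have h := CfsgLib.Char.irr_classInner χ.2 χ.2
    rw [if_pos rfl, CfsgLib.Char.classInner_def,
      inv_mul_eq_one₀ CfsgLib.Char.natCard_ne_zero] at h
    rw [h]
    exact Finset.sum_congr rfl fun g _ => mul_comm _ _
  have h2 : ∑ g : G, conj ((χ : G → ℂ) g) * (χ : G → ℂ) g = ∑ g : G,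
      ∑ x ∈ (Finset.univ.filter fun x : G => ∃ k : ℕ, orderOf x = p ^ k),
        if IsPPart p g x then conj ((χ : G → ℂ) g) * (χ : G → ℂ) g else 0 :=
    Finset.sum_congr rfl fun g _ => by
      conv_lhs => rw [← mul_one (conj ((χ : G → ℂ) g) * (χ : G → ℂ) g), ← hone g, Finset.mul_sum]
      simp only [mul_ite, mul_one, mul_zero]
  rw [h1, h2, Finset.sum_comm]
  refine Finset.sum_congr rfl fun x hx => ?_
  have hx' := (Finset.mem_filter.1 hx).2
  have := Fintype.ofFinite (Subgroup.centralizer ({x} : Set G))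
  rw [Finset.sum_image (fun b hb b' hb' h => subgroupBlockCoeff_injective hM
    (mem_allBlocks.1 hb) (mem_allBlocks.1 hb') (congrArg Prod.snd h))]
  simp only [subSum_eq_one hM hx', pow_one]
  rw [Finset.sum_comm]
  have hcl : IsClassFunction (Subgroup.centralizer ({x} : Set G))
      (fun c : Subgroup.centralizer ({x} : Set G) => (χ : G → ℂ) (x * (c : G))) :=
    isClassFunction_shift hM hx' χ
  simp only [← Finset.mul_sum, ← Finset.sum_mul, ← map_sum, sum_blockPart hcl]
  rw [← Finset.sum_filter, sum_isPPart_eq hp hx' (fun g => conj ((χ : G → ℂ) g) * (χ : G → ℂ) g),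
    ← sum_commute_eq (p := p) (x := x) (fun v => conj ((χ : G → ℂ) (x * v)) * (χ : G → ℂ) (x * v))
      (y := x) (fun v => (Subgroup.mem_centralizer_singleton_iff).symm)]
  refine (Finset.sum_bij (fun (v : Subgroup.centralizer ({x} : Set G)) _ => (v : G))
    (fun v hv => ?_) (fun v _ w _ h => Subtype.ext h) (fun v hv => ?_) (fun v _ => rfl)).symm
  · simp only [Finset.mem_filter, Finset.mem_univ, true_and, Subgroup.orderOf_coe] at hv ⊢
    exact ⟨Subgroup.mem_centralizer_singleton_iff.1 v.2, hv⟩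
  · simp only [Finset.mem_filter, Finset.mem_univ, true_and] at hv
    exact ⟨⟨v, Subgroup.mem_centralizer_singleton_iff.2 hv.1⟩,
      by simpa [Subgroup.orderOf_mk] using hv.2, rfl⟩

open Classical in
/-- **The counting bound.** -/
theorem sum_subSum_le (χ : IrrCharacter G) {Z : Finset G} (β : G → G → ℂ) (e : ℕ)
    (hmem : ∀ z ∈ Z, (z, β z) ∈ subIdx p M G)
    (hfib : ∀ z ∈ Z, ∃ S : Finset G, S.card ≤ e ∧ ∀ z' ∈ Z, ∀ a : G,
      a * z * a⁻¹ = z' → conjFun a (β z) = β z' → z' ∈ S) :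
    ∑ z ∈ Z, (subSum p (χ : G → ℂ) z (β z)).re /
      (Nat.card (Subgroup.centralizer ({z} : Set G)) : ℝ) ≤ e := by
  set w : G × (G → ℂ) → ℝ := fun q => (subSum p (χ : G → ℂ) q.1 q.2).re with hw
  set cC : G × (G → ℂ) → ℕ := fun q => Nat.card (Subgroup.centralizer ({q.1} : Set G)) with hcC
  let Φ : G × G → G × (G → ℂ) := fun t => (t.1 * t.2 * t.1⁻¹, conjFun t.1 (β t.2))
  have hΦw : ∀ t : G × G, w (Φ t) = (subSum p (χ : G → ℂ) t.2 (β t.2)).re := fun t => by
    simp only [hw, Φ]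
    rw [subSum_conj (CfsgLib.Char.irr_isClassFunction χ.2)]
  have hΦc : ∀ t : G × G, cC (Φ t) = Nat.card (Subgroup.centralizer ({t.2} : Set G)) := fun t =>
    Nat.card_congr (cenConj t.1 t.2).toEquiv
  have hΦmem : ∀ t ∈ (Finset.univ : Finset G) ×ˢ Z, Φ t ∈ subIdx p M G := by
    intro t ht
    obtain ⟨hk, b, hb, hβ⟩ := mem_subIdx.1 (hmem t.2 (Finset.mem_product.1 ht).2)
    refine mem_subIdx.2 ⟨?_, blockMap (cenConj t.1 t.2) b, isPBlock_blockMap _ hb, ?_⟩
    · obtain ⟨k, hk⟩ := hk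
      refine ⟨k, ?_⟩
      show orderOf (t.1 * t.2 * t.1⁻¹) = _
      rw [show t.1 * t.2 * t.1⁻¹ = MulAut.conj t.1 t.2 by simp, MulEquiv.orderOf_eq, hk]
    · show _ = conjFun t.1 (β t.2)
      rw [← (show _ = β t.2 from hβ), conjFun_subgroupBlockCoeff]
  -- the fibres
  have hfibre : ∀ q ∈ subIdx p M G,
      ((((Finset.univ : Finset G) ×ˢ Z).filter fun t => Φ t = q).card) ≤ e * cC q := by
    intro q _
    set F := ((Finset.univ : Finset G) ×ˢ Z).filter fun t => Φ t = q with hF
    rcases F.eq_empty_or_nonempty with h | ⟨t₀, ht₀⟩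
    · simp [h]
    obtain ⟨ht₀p, ht₀e⟩ := Finset.mem_filter.1 ht₀
    obtain ⟨S, hS, hSmem⟩ := hfib t₀.2 (Finset.mem_product.1 ht₀p).2
    have hsnd : ∀ t ∈ F, t.2 ∈ S := by
      intro t ht
      obtain ⟨htp, hte⟩ := Finset.mem_filter.1 ht
      have e1 := congrArg Prod.fst (ht₀e.trans hte.symm)
      have e2 := congrArg Prod.snd (ht₀e.trans hte.symm)
      simp only [Φ] at e1 e2
      refine hSmem t.2 (Finset.mem_product.1 htp).2 (t.1⁻¹ * t₀.1) ?_ ?_
      · calc t.1⁻¹ * t₀.1 * t₀.2 * (t.1⁻¹ * t₀.1)⁻¹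
            = t.1⁻¹ * (t₀.1 * t₀.2 * t₀.1⁻¹) * t.1 := by group
          _ = t.2 := by rw [e1]; group
      · rw [← conjFun_conjFun, e2, conjFun_conjFun, inv_mul_cancel]
        funext k
        simp [conjFun]
    refine le_trans ?_ (Nat.mul_le_mul_right _ hS)
    rw [mul_comm]
    refine Finset.card_le_mul_card_image_of_maps_to (f := Prod.snd) hsnd (cC q) fun z _ => ?_
    rcases (F.filter fun t => t.2 = z).eq_empty_or_nonempty with h | ⟨t₁, ht₁⟩
    · simp [h]
    obtain ⟨ht₁F, rfl⟩ := Finset.mem_filter.1 ht₁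
    have ht₁e := (Finset.mem_filter.1 ht₁F).2
    rw [← ht₁e, hΦc, ← Nat.card_eq_finsetCard]
    refine Nat.card_le_card_of_injective
      (fun t => (⟨t₁.1⁻¹ * t.1.1, Subgroup.mem_centralizer_singleton_iff.2 ?_⟩ :
        Subgroup.centralizer ({t₁.2} : Set G))) ?_
    · obtain ⟨htF, ht2⟩ := Finset.mem_filter.1 t.2
      have e1 := congrArg Prod.fst ((Finset.mem_filter.1 htF).2.trans ht₁e.symm)
      simp only [Φ, ht2] at e1
      calc t₁.1⁻¹ * t.1.1 * t₁.2 = t₁.1⁻¹ * (t.1.1 * t₁.2 * t.1.1⁻¹) * t.1.1 := by group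
        _ = t₁.2 * (t₁.1⁻¹ * t.1.1) := by rw [e1]; group
    · intro t t' h
      have h1 : t.1.1 = t'.1.1 := mul_left_cancel (congrArg Subtype.val h)
      exact Subtype.ext (Prod.ext h1
        ((Finset.mem_filter.1 t.2).2.trans (Finset.mem_filter.1 t'.2).2.symm))
  have hcpos : ∀ q, (0 : ℝ) < cC q := fun q => Nat.cast_pos.2 Nat.card_pos
  have key : (Nat.card G : ℝ) * ∑ z ∈ Z, (subSum p (χ : G → ℂ) z (β z)).re /
      (Nat.card (Subgroup.centralizer ({z} : Set G)) : ℝ) ≤ (e : ℝ) * Nat.card G := by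
    calc (Nat.card G : ℝ) * ∑ z ∈ Z, (subSum p (χ : G → ℂ) z (β z)).re /
          (Nat.card (Subgroup.centralizer ({z} : Set G)) : ℝ)
        = ∑ t ∈ (Finset.univ : Finset G) ×ˢ Z, w (Φ t) / (cC (Φ t) : ℝ) := by
          rw [Finset.sum_product, Nat.card_eq_fintype_card, ← nsmul_eq_mul, ← Finset.card_univ,
            ← Finset.sum_const]
          refine Finset.sum_congr rfl fun a _ => Finset.sum_congr rfl fun z _ => ?_
          rw [hΦw, hΦc]
      _ = ∑ q ∈ subIdx p M G,
          ((((Finset.univ : Finset G) ×ˢ Z).filter fun t => Φ t = q).card : ℝ) *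
            (w q / (cC q : ℝ)) := by
          rw [← Finset.sum_fiberwise_of_maps_to hΦmem]
          refine Finset.sum_congr rfl fun q _ => ?_
          rw [Finset.sum_congr rfl (g := fun _ => w q / (cC q : ℝ))
            (fun t ht => by rw [(Finset.mem_filter.1 ht).2]), Finset.sum_const, nsmul_eq_mul]
      _ ≤ ∑ q ∈ subIdx p M G, (e : ℝ) * w q := by
          refine Finset.sum_le_sum fun q hq => ?_
          have h0 : 0 ≤ w q := (subSum_re_nonneg hM (χ := χ) hq).1
          have h1 : ((((Finset.univ : Finset G) ×ˢ Z).filter fun t => Φ t = q).card : ℝ) ≤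
              (e : ℝ) * (cC q : ℝ) := by exact_mod_cast hfibre q hq
          refine le_trans (mul_le_mul_of_nonneg_right h1 (div_nonneg h0 (hcpos q).le)) (le_of_eq ?_)
          field_simp [(hcpos q).ne']
      _ = (e : ℝ) * Nat.card G := by
          rw [← Finset.mul_sum]
          congr 1
          rw [← Complex.natCast_re, ← sum_subIdx hM χ, Complex.re_sum]
  have hG : (0 : ℝ) < Nat.card G := Nat.cast_pos.2 Nat.card_pos
  rw [mul_comm (e : ℝ)] at key
  exact le_of_mul_le_mul_left key hG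

/-- A positive family of conjugates divisible by `q = p ^ h` has mean at least `q`. -/
theorem card_units_mul_le_sum {n : ℕ} [NeZero n] {f : ℕ → ℂ} (hf : IsCyclo n f) (h : ℕ)
    (hpos : ∀ u : (ZMod n)ˣ, ∃ r : ℝ, 0 < r ∧ f (u : ZMod n).val = r)
    (hdiv : ∀ u : (ZMod n)ˣ, MemLocalRing M (f (u : ZMod n).val / ((p ^ h : ℕ) : ℂ))) :
    (Nat.card (ZMod n)ˣ : ℝ) * (p ^ h : ℕ) ≤ ∑ u : (ZMod n)ˣ, (f (u : ZMod n).val).re := by
  classical
  have hn : n ≠ 0 := NeZero.ne n
  have hp := hM.1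
  choose r hr hfr using hpos
  set q : ℕ := p ^ h with hq
  have hq0 : (0 : ℝ) < q := Nat.cast_pos.2 (pow_pos hp.pos h)
  obtain ⟨N, hN⟩ := (IsCyclo.prod (Finset.univ : Finset (ZMod n)ˣ)
    (f := fun u i => f (i * (u : ZMod n).val))
    fun u _ => by
      simpa only [mul_comm] using hf.comp_mul (u : ZMod n).val).exists_int hn (by
    intro i hi
    refine Fintype.prod_equiv (Equiv.mulLeft (ZMod.unitOfCoprime i hi)) _ _ fun u => ?_
    simp only [Equiv.coe_mulLeft, one_mul]
    rw [← hf.apply_mod hn (i * (u : ZMod n).val), Units.val_mul, ZMod.val_mul,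
      ZMod.coe_unitOfCoprime, ZMod.val_natCast, Nat.mod_mul_mod])
  simp only [one_mul] at hN
  have hNr : (N : ℝ) = ∏ u : (ZMod n)ˣ, r u := by
    have : ((∏ u : (ZMod n)ˣ, r u : ℝ) : ℂ) = (N : ℂ) := by
      rw [Complex.ofReal_prod, ← hN]
      exact Finset.prod_congr rfl fun u _ => (hfr u).symm
    have h2 := congrArg Complex.re this
    rw [Complex.ofReal_re, Complex.intCast_re] at h2
    exact h2.symm
  have hNpos : (0 : ℤ) < N := by
    have : (0 : ℝ) < N := by rw [hNr]; exact Finset.prod_pos fun u _ => hr u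
    exact_mod_cast this
  have hloc : MemLocalRing M ((N : ℂ) / ((q ^ Nat.card (ZMod n)ˣ : ℕ) : ℂ)) := by
    rw [← hN, Nat.card_eq_fintype_card, Nat.cast_pow, ← Finset.card_univ, ← Finset.prod_const,
      ← Finset.prod_div_distrib]
    exact (lring M).prod_mem fun u _ => hdiv u
  have hge : ((q ^ Nat.card (ZMod n)ˣ : ℕ) : ℤ) ≤ N := by
    have hd := pow_dvd_of_memLocalRing hM hloc
    rw [hq, ← pow_mul, hp.factorization_pow, Finsupp.single_eq_same] at hd
    rw [hq, ← pow_mul]
    exact Int.le_of_dvd hNpos hd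
  have h1 : (1 : ℝ) ≤ ∏ u : (ZMod n)ˣ, r u / q := by
    rw [Finset.prod_div_distrib, Finset.prod_const, ← hNr, Finset.card_univ,
      ← Nat.card_eq_fintype_card, le_div_iff₀ (pow_pos hq0 _), one_mul]
    exact_mod_cast hge
  have h2 : (Nat.card (ZMod n)ˣ : ℝ) ≤ ∑ u : (ZMod n)ˣ, r u / q := by
    have hpos' : ∀ u ∈ (Finset.univ : Finset (ZMod n)ˣ), 0 < r u / q := fun u _ =>
      div_pos (hr u) hq0
    have h3 : 0 ≤ ∑ u : (ZMod n)ˣ, Real.log (r u / q) := by
      rw [← Real.log_prod (fun u hu => (hpos' u hu).ne')]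
      exact Real.log_nonneg h1
    have h4 : ∑ u : (ZMod n)ˣ, Real.log (r u / q) ≤ ∑ u : (ZMod n)ˣ, (r u / q - 1) :=
      Finset.sum_le_sum fun u hu => Real.log_le_sub_one_of_pos (hpos' u hu)
    rw [Finset.sum_sub_distrib, Finset.sum_const, nsmul_eq_mul, mul_one, Finset.card_univ,
      ← Nat.card_eq_fintype_card] at h4
    linarith
  rw [← Finset.sum_div, le_div_iff₀ hq0] at h2
  refine h2.trans (le_of_eq (Finset.sum_congr rfl fun u _ => ?_))
  rw [hfr u, Complex.ofReal_re]

/-- The pair below a maximal pair at a central element of the defect group gives a major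
subsection. -/
theorem exists_major {B : Set (IrrCharacter G)} {D : Subgroup G}
    {e : Set (IrrCharacter (cen D))} (hmax : IsMaximalBrauerPair p M B D e) {z : G}
    (hz : z ∈ D) (hzc : ∀ w ∈ D, Commute w z) {f : Set (IrrCharacter (cen (Subgroup.zpowers z)))}
    (hf : SubpairLE p M (Subgroup.zpowers z) f D e) :
    ∃ b : Set (IrrCharacter (Subgroup.centralizer ({z} : Set G))),
      IsInducedBlock M (Subgroup.centralizer ({z} : Set G)) b B ∧
      subgroupBlockCoeff (Subgroup.centralizer ({z} : Set G)) b =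
        subgroupBlockCoeff (cen (Subgroup.zpowers z)) f ∧
      blockDefect p b = blockDefect p B := by
  have hfb := isBrauerPair_of_subpairLE hmax.1.1 hf
  have hfB := (isBrauerPairOf_iff_of_le hM hmax.1.1 hf hmax.1.2.1).1 hmax.1
  have hind := isInducedBlock_of_isBrauerPairOf hM hfB
  have hd : blockDefect p f = blockDefect p B := by
    refine le_antisymm (blockDefect_le_of_induced hM hind) ?_
    have hDC : D ≤ cen (Subgroup.zpowers z) := by
      rw [cen_zpowers]
      exact fun w hw => Subgroup.mem_centralizer_singleton_iff.2 (hzc w hw)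
    have h := card_inf_le hM (isBlockOver_cen (M := M) hfb.2) le_rfl
      (centralizer_le_pairStab (M := M) _ _) hmax.1.1 hf
    rw [inf_eq_left.2 hDC, natCard_defectGroup hM hmax.1.2.1 (maximal_core hM hmax).1] at h
    exact (Nat.pow_le_pow_iff_right hM.1.one_lt).1 h
  have key : ∀ H : Subgroup G, H = (cen (Subgroup.zpowers z)) →
      ∃ b : Set (IrrCharacter H), IsInducedBlock M H b B ∧
        subgroupBlockCoeff H b = subgroupBlockCoeff (cen (Subgroup.zpowers z)) f ∧
        blockDefect p b = blockDefect p B := by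
    rintro _ rfl
    exact ⟨f, hind, rfl, hd⟩
  exact key _ (cen_zpowers z).symm

/-- **Fusion at the centre of a defect group.** -/
theorem exists_stab_conj {B : Set (IrrCharacter G)} {D : Subgroup G}
    {e : Set (IrrCharacter (cen D))} (hmax : IsMaximalBrauerPair p M B D e) {z z' a : G}
    (hz : z ∈ D) (hzc : ∀ w ∈ D, Commute w z) (hz' : z' ∈ D) (hzc' : ∀ w ∈ D, Commute w z')
    (ha : a * z * a⁻¹ = z') {f : Set (IrrCharacter (cen (Subgroup.zpowers z)))}
    (hf : SubpairLE p M (Subgroup.zpowers z) f D e)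
    {f' : Set (IrrCharacter (cen (Subgroup.zpowers z')))}
    (hf' : SubpairLE p M (Subgroup.zpowers z') f' D e)
    (hβ : conjFun a (subgroupBlockCoeff (cen (Subgroup.zpowers z)) f) =
      subgroupBlockCoeff (cen (Subgroup.zpowers z')) f') :
    ∃ t ∈ pairStab M D e, t * z * t⁻¹ = z' := by
  classical
  have := Fact.mk hM.1
  have he := hmax.1.1
  set F := blockFusion hM he
  have hF := isBlockFusionSystemOn_blockFusion hM hmax
  have hfb := isBrauerPair_of_subpairLE he hf
  have hfb' := isBrauerPair_of_subpairLE he hf'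
  have hmapz : (Subgroup.zpowers z).map (MulAut.conj a).toMonoidHom = Subgroup.zpowers z' := by
    rw [MonoidHom.map_zpowers, ← ha]
    rfl
  have hidx : (⟨(Subgroup.zpowers z).map (MulAut.conj a).toMonoidHom,
      conjBlock (Subgroup.zpowers z) a f⟩ : BrauerPairIdx G) = ⟨Subgroup.zpowers z', f'⟩ := by
    refine pairIdx_ext hM hmapz (isBrauerPair_conj hM hfb a).2 hfb'.2 ?_
    ext g
    rw [coeff_sIdem_conjBlock hM]
    have hcoef : ∀ (H : Subgroup G) (c : Set (IrrCharacter H)) (g : G),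
        (sIdem M H c).coeff g = redC M (subgroupBlockCoeff H c g) := by
      intro H c g
      by_cases hg : g ∈ H
      · rw [show g = ((⟨g, hg⟩ : H) : G) from rfl, sIdem, coeff_inclSub_of_mem, coeff_blkIdem,
          subgroupBlockCoeff, dif_pos hg]
      · rw [sIdem, coeff_inclSub_of_not_mem _ _ hg, subgroupBlockCoeff, dif_neg hg, redC_zero]
    rw [hcoef, hcoef, ← hβ]
    rfl
  have hfus : IsFus p M D e (Subgroup.zpowers z) a := by
    refine ⟨hmapz.le.trans (Subgroup.zpowers_le.2 hz'), f, hf, ?_⟩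
    unfold SubpairLE at hf' ⊢
    rwa [hidx]
  -- the target is receptive
  have hzp' : Subgroup.zpowers z' ≤ D := Subgroup.zpowers_le.2 hz'
  have hDN : D ≤ Subgroup.normalizer ((Subgroup.zpowers z' : Subgroup G) : Set G) := fun w hw =>
    (Subgroup.centralizer_le_normalizer _) (by
      rw [cen_zpowers]
      exact Subgroup.mem_centralizer_singleton_iff.2 (hzc' w hw))
  obtain ⟨x, hx, F'', hF'', hcard⟩ := exists_fus_normalized hM hmax hf'
  obtain ⟨F', hF'⟩ := exists_isBlockOver hM hfb' (le_pairStab (M := M) _ f')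
    (centralizer_le_pairStab (M := M) _ f') le_rfl
  have hPD : D ⊓ pairStab M (Subgroup.zpowers z') f' = D :=
    (inf_pairStab hM he hf').trans (inf_eq_left.2 hDN)
  have hcard' : Nat.card ↥(D ⊓ pairStab M (Subgroup.zpowers z') f') = p ^ blockDefect p F' := by
    refine le_antisymm
      (card_inf_le hM hF' (centralizer_le_pairStab (M := M) _ f') le_rfl he hf') ?_
    rw [← blockDefect_over_conj hM hF' x _ (pairStab_conj hM f' x) hF'', ← hcard, hPD]
    exact Subgroup.card_le_of_le inf_le_left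
  have hrec := (automized_receptive hM hF hf' hF' hcard').2
  -- the extension
  obtain ⟨ψ, hψ, hψe⟩ := hrec.2 (Subgroup.zpowers z) (conjHom (Subgroup.zpowers z) a)
    ((hF.2 _ _).2 ⟨Subgroup.zpowers_le.2 hz, a, fun _ => rfl, hfus⟩)
    ((range_eq_map_conj fun _ => rfl).trans hmapz)
  obtain ⟨hle, g', hg', hfus'⟩ := (hF.2 _ ψ).1 hψ
  have hcomm : ∀ g ∈ D, ∀ y ∈ Subgroup.zpowers z, g * y * g⁻¹ = y := by
    intro g hg y hy
    obtain ⟨i, rfl⟩ := Subgroup.mem_zpowers_iff.1 hy
    rw [(Commute.zpow_right (hzc g hg) i).eq, mul_inv_cancel_right]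
  have hext : D ≤ FusionSystem.extender D (Subgroup.zpowers z)
      (conjHom (Subgroup.zpowers z) a) := by
    intro g hg
    refine Subgroup.subset_closure ⟨hg, ?_, 1, one_mem D, fun y hy => ?_⟩
    · refine (Subgroup.centralizer_le_normalizer _) ?_
      rw [cen_zpowers]
      exact Subgroup.mem_centralizer_singleton_iff.2 (hzc g hg)
    · simp only [one_mul, inv_one, mul_one]
      exact congrArg _ (Subtype.ext (hcomm g hg y y.2))
  have heq : FusionSystem.extender D (Subgroup.zpowers z) (conjHom (Subgroup.zpowers z) a) = D :=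
    le_antisymm hle hext
  have hfusD : IsFus p M D e D g' := by rwa [heq] at hfus'
  refine ⟨g', mem_pairStab_of_fus hM he Relation.ReflTransGen.refl hfusD
    (mem_normalizer_of_map_le hfusD.1), ?_⟩
  have h1 := hψe z (Subgroup.mem_zpowers z) (hext hz)
  rw [hg'] at h1
  exact h1.trans ha

/-- Stabilizers of the pair at `D` stabilize the block of an overgroup determined by it. -/
theorem mem_of_pairStab {D H : Subgroup G} {e : Set (IrrCharacter (cen D))} (he : IsPBlock M e)
    (hC : (cen D) ≤ H) {b : Set (IrrCharacter H)} (hb : IsPBlock M b)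
    (hlam : ∀ ξ ∈ e, ∀ a : Subalgebra.center (kres M) (MonoidAlgebra (kres M) H), ∀ η ∈ b,
        lam M η a = pairVal D ξ (inclSub H (a : MonoidAlgebra (kres M) H)))
    {t : G} (ht : t ∈ pairStab M D e) (hH : H.map (MulAut.conj t).toMonoidHom = H)
    {θ θ' : IrrCharacter H} (hθ : θ ∈ b)
    (hθ' : ∀ h h' : H, (h' : G) = t * h * t⁻¹ → (θ' : H → ℂ) h' = (θ : H → ℂ) h) : θ' ∈ b := by
  classical
  have hmemH : ∀ h : G, h ∈ H ↔ t⁻¹ * h * t ∈ H := fun h => by
    conv_lhs => rw [← hH]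
    exact mem_map_conj_iff
  let φ : H ≃* H :=
    { toFun := fun h => ⟨t⁻¹ * h * t, (hmemH h).1 h.2⟩
      invFun := fun h => ⟨t * h * t⁻¹, (hmemH _).2 (by simpa [mul_assoc] using h.2)⟩
      left_inv := fun h => Subtype.ext (by simp [mul_assoc])
      right_inv := fun h => Subtype.ext (by simp [mul_assoc])
      map_mul' := fun h k => Subtype.ext (by simp [mul_assoc]) }
  have hθeq : θ' = irrMap φ θ := Subtype.ext (funext fun h' => by
    rw [irrMap_apply, hθ' (φ h') h' (by show (h' : G) = t * (t⁻¹ * h' * t) * t⁻¹; group)])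
  subst hθeq
  obtain ⟨ξ, hξ⟩ := isPBlock_nonempty he
  refine mem_of_sameBlock hb hθ (sameBlock_of_lam_eq ?_)
  apply AlgHom.ext
  intro z
  -- transport of the central element
  let a : MonoidAlgebra (kres M) H :=
    mkGA fun h => (z : MonoidAlgebra (kres M) H).coeff (φ.symm h)
  have ha : IsClassCoeff a := fun g h => by
    simp only [a, coeff_mkGA, map_mul, map_inv]
    exact isClassCoeff_center z (φ.symm g) (φ.symm h)
  set az : Subalgebra.center (kres M) (MonoidAlgebra (kres M) H) :=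
    ⟨a, isClassCoeff_iff_mem_center.1 ha⟩ with hazdef
  have h1 : lam M (irrMap φ θ) z = lam M θ az :=
    lam_irrMap φ θ z az fun h => by simp [az, a]
  have hCinv : ∀ y : Subalgebra.center (kres M) (MonoidAlgebra (kres M) H),
      IsCInv D (inclSub H (y : MonoidAlgebra (kres M) H)) := fun y =>
    isCInv_of_isPInv hC fun u hu w => inclSub_conj_invariant H (isClassCoeff_center y) hu w
  have hlam' : ∀ i : BrauerPairIdx G, i = ⟨D, e⟩ → ∀ η ∈ i.2,
      lam M θ z = pairVal i.1 η (inclSub H (z : MonoidAlgebra (kres M) H)) := by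
    rintro _ rfl η hη
    exact hlam η hη z θ hθ
  have hmem : irrMap (cenMap D t) ξ ∈ conjBlock D t e := by
    rw [conjBlock_eq_blockMap]
    exact ⟨ξ, hξ, rfl⟩
  rw [h1, hlam ξ hξ az θ hθ, hlam' _ (conjIdx_eq_of_mem hM he ht) _ hmem]
  refine pairVal_conj (M := M) t ξ (hCinv az) fun g => ?_
  by_cases hg : g ∈ H
  · rw [show g = ((⟨g, hg⟩ : H) : G) from rfl, coeff_inclSub_of_mem,
      show t⁻¹ * ((⟨g, hg⟩ : H) : G) * t = ((φ ⟨g, hg⟩ : H) : G) from rfl, coeff_inclSub_of_mem]
    simp [az, a]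
  · rw [coeff_inclSub_of_not_mem _ _ hg, coeff_inclSub_of_not_mem _ _ (fun h => hg ((hmemH g).2 h))]

/-- **Brauer's height bound.** -/
theorem height_le {B : Set (IrrCharacter G)} {D : Subgroup G}
    {e : Set (IrrCharacter (cen D))} (hmax : IsMaximalBrauerPair p M B D e) {m : ℕ}
    (hfib : ∀ z ∈ D, (∀ w ∈ D, Commute w z) →
      ∃ S : Finset G, S.card ≤ m ∧ ∀ t ∈ pairStab M D e, t * z * t⁻¹ ∈ S)
    {χ : IrrCharacter G} (hχ : χ ∈ B) {c : ℕ} (hc : Nat.card (Subgroup.center D) = p ^ c) :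
    p ^ (c + blockHeight p B (χ : G → ℂ)) ≤ m * p ^ blockDefect p B := by
  classical
  have hp := hM.1
  have := Fact.mk hp
  set h := blockHeight p B (χ : G → ℂ) with hh
  set Z : Finset G := Finset.univ.filter fun z => z ∈ D ∧ ∀ w ∈ D, Commute w z with hZdef
  have hZmem : ∀ z, z ∈ Z ↔ z ∈ D ∧ ∀ w ∈ D, Commute w z := fun z => by simp [hZdef]
  have hZcard : Z.card = p ^ c := by
    rw [← hc, ← Nat.card_eq_finsetCard]
    refine Nat.card_congr
      { toFun := fun z => ⟨⟨z.1, ((hZmem _).1 z.2).1⟩, Subgroup.mem_center_iff.2 fun w =>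
          Subtype.ext (((hZmem _).1 z.2).2 w w.2).eq⟩
        invFun := fun z => ⟨(z.1 : G), (hZmem _).2 ⟨z.1.2, fun w hw =>
          congrArg Subtype.val (Subgroup.mem_center_iff.1 z.2 ⟨w, hw⟩)⟩⟩
        left_inv := fun z => rfl
        right_inv := fun z => rfl }
  -- the pairs
  have hex : ∀ z : G, ∃ f : Set (IrrCharacter (cen (Subgroup.zpowers z))), z ∈ D →
      SubpairLE p M (Subgroup.zpowers z) f D e := by
    intro z
    by_cases hz : z ∈ D
    · obtain ⟨f, -, hf⟩ := exists_subpair hM hmax.1.1 _ _ (Subgroup.zpowers_le.2 hz) rfl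
      exact ⟨f, fun _ => hf⟩
    · exact ⟨∅, fun h => absurd h hz⟩
  choose fz hfz using hex
  set β : G → G → ℂ := fun z => subgroupBlockCoeff (cen (Subgroup.zpowers z)) (fz z) with hβdef
  have hDp : ∀ z ∈ D, ∃ k : ℕ, orderOf z = p ^ k := fun z hz => by
    obtain ⟨k, hk⟩ := IsPGroup.iff_orderOf.1 hmax.1.1.1 ⟨z, hz⟩
    exact ⟨k, by rw [← hk, Subgroup.orderOf_mk]⟩
  have hmaj : ∀ z ∈ Z, ∃ b : Set (IrrCharacter (Subgroup.centralizer ({z} : Set G))),
      IsInducedBlock M (Subgroup.centralizer ({z} : Set G)) b B ∧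
      subgroupBlockCoeff (Subgroup.centralizer ({z} : Set G)) b = β z ∧
      blockDefect p b = blockDefect p B := fun z hz =>
    exists_major hM hmax ((hZmem z).1 hz).1 ((hZmem z).1 hz).2 (hfz z ((hZmem z).1 hz).1)
  -- the count
  have hle : ∑ z ∈ Z, (subSum p (χ : G → ℂ) z (β z)).re /
      (Nat.card (Subgroup.centralizer ({z} : Set G)) : ℝ) ≤ m := by
    refine sum_subSum_le hM χ β m (fun z hz => ?_) fun z hz => ?_
    · obtain ⟨b, hb, hbe, -⟩ := hmaj z hz
      exact mem_subIdx.2 ⟨hDp z ((hZmem z).1 hz).1, b, hb.1, hbe⟩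
    · obtain ⟨hzD, hzc⟩ := (hZmem z).1 hz
      obtain ⟨S, hS, hSm⟩ := hfib z hzD hzc
      refine ⟨S, hS, fun z' hz' a ha hβ => ?_⟩
      obtain ⟨hzD', hzc'⟩ := (hZmem z').1 hz'
      obtain ⟨t, ht, rfl⟩ := exists_stab_conj hM hmax hzD hzc hzD' hzc' ha (hfz z hzD)
        (hfz z' hzD') hβ
      exact hSm t ht
  -- the Galois mean
  set d := blockDefect p B with hd
  set n := Nat.card G with hn
  have : NeZero n := ⟨Nat.card_pos.ne'⟩
  let y : G → ℝ := fun z => ((p ^ d : ℕ) : ℝ) * (subSum p (χ : G → ℂ) z (β z)).re /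
    (Nat.card (Subgroup.centralizer ({z} : Set G)) : ℝ)
  have hpow : ∀ z ∈ Z, ∀ k : ℕ, k.Coprime (orderOf z) →
      z ^ k ∈ Z ∧ β (z ^ k) = β z ∧ Nat.card (Subgroup.centralizer ({z ^ k} : Set G)) =
        Nat.card (Subgroup.centralizer ({z} : Set G)) := by
    intro z hz k hk
    obtain ⟨hzD, hzc⟩ := (hZmem z).1 hz
    have hzp : Subgroup.zpowers (z ^ k) = Subgroup.zpowers z := by
      refine le_antisymm (Subgroup.zpowers_le.2 (pow_mem (Subgroup.mem_zpowers z) k)) ?_
      obtain ⟨i, hi⟩ := exists_pow_eq_self_of_coprime hk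
      refine Subgroup.zpowers_le.2 ?_
      have hmem := pow_mem (Subgroup.mem_zpowers (z ^ k)) i
      rwa [hi] at hmem
    refine ⟨(hZmem _).2 ⟨pow_mem hzD k, fun w hw => Commute.pow_right (hzc w hw) k⟩, ?_, ?_⟩
    · have := idx_eq_of_below hM hmax.1.1 hzp (hfz _ (pow_mem hzD k)) (hfz z hzD)
      exact congrArg (fun i : BrauerPairIdx G => subgroupBlockCoeff (cen i.1) i.2) this
    · rw [← cen_zpowers, ← cen_zpowers, hzp]
  have hmean : ∀ z ∈ Z,
      (Nat.card (ZMod n)ˣ : ℝ) * (p ^ h : ℕ) ≤ ∑ u : (ZMod n)ˣ, y (z ^ (u : ZMod n).val) := by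
    intro z hz
    obtain ⟨hzD, hzc⟩ := (hZmem z).1 hz
    obtain ⟨b, hb, hbe, hbd⟩ := hmaj z hz
    have := Fintype.ofFinite (Subgroup.centralizer ({z} : Set G))
    obtain ⟨f, hf, hfv⟩ := isCyclo_subSum hM (hDp z hzD) hb.1 χ (NeZero.ne n)
      (orderOf_dvd_natCard z)
    rw [hbd, hbe] at hfv
    have hcop : ∀ u : (ZMod n)ˣ, ((u : ZMod n).val).Coprime (orderOf z) := fun u =>
      (ZMod.val_coe_unit_coprime u).coprime_dvd_right (orderOf_dvd_natCard z)
    have hfu : ∀ u : (ZMod n)ˣ,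
        f (u : ZMod n).val = ((y (z ^ (u : ZMod n).val) : ℝ) : ℂ) ∧
        0 < y (z ^ (u : ZMod n).val) ∧
        MemLocalRing M (f (u : ZMod n).val / ((p ^ h : ℕ) : ℂ)) := by
      intro u
      obtain ⟨hkZ, hkβ, hkc⟩ := hpow z hz _ (hcop u)
      obtain ⟨b', hb', hbe', hbd'⟩ := hmaj _ hkZ
      have hx' := hDp _ ((hZmem _).1 hkZ).1
      have := Fintype.ofFinite (Subgroup.centralizer ({z ^ (u : ZMod n).val} : Set G))
      have hne := subSum_ne_zero hM hx' hb'.1 hb' hbd'.ge hχ
      have hdivl := memLocalRing_subSum_div hM hx' hb'.1 hb'.2.1 hχ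
      obtain ⟨r, hr, hre⟩ := exists_real hM hx' hb'.1 (k := 1) (Nat.coprime_one_left _) χ
      rw [pow_one, hbe'] at hre
      rw [hbe'] at hne hdivl
      rw [hkc] at hdivl
      rw [hfv _ (hcop u), ← hkβ]
      have hy : y (z ^ (u : ZMod n).val) = ((p ^ d : ℕ) : ℝ) * r /
          (Nat.card (Subgroup.centralizer ({z} : Set G)) : ℝ) := by
        simp only [y]
        rw [hre, Complex.ofReal_re, hkc]
      refine ⟨?_, ?_, hdivl⟩
      · rw [hy, hre]
        push_cast
        rfl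
      · rw [hy]
        have hr0 : r ≠ 0 := fun h0 => hne (by rw [hre, h0, Complex.ofReal_zero])
        have := lt_of_le_of_ne hr (Ne.symm hr0)
        have : (0 : ℝ) < (p ^ d : ℕ) := Nat.cast_pos.2 (pow_pos hp.pos d)
        have : (0 : ℝ) < Nat.card (Subgroup.centralizer ({z} : Set G)) :=
          Nat.cast_pos.2 Nat.card_pos
        positivity
    refine (card_units_mul_le_sum hM hf h (fun u => ⟨_, (hfu u).2.1, (hfu u).1⟩)
      fun u => (hfu u).2.2).trans (le_of_eq (Finset.sum_congr rfl fun u _ => ?_))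
    rw [(hfu u).1, Complex.ofReal_re]
  -- the permutation of the centre
  have hperm : ∀ u : (ZMod n)ˣ, ∑ z ∈ Z, y (z ^ (u : ZMod n).val) = ∑ z ∈ Z, y z := by
    intro u
    have hinj : Set.InjOn (fun z : G => z ^ (u : ZMod n).val) (Z : Set G) := fun a _ b _ hab =>
      (powCoprime (ZMod.val_coe_unit_coprime u).symm).injective hab
    have hmaps : ∀ z ∈ Z, z ^ (u : ZMod n).val ∈ Z := fun z hz =>
      (hpow z hz _ ((ZMod.val_coe_unit_coprime u).coprime_dvd_right (orderOf_dvd_natCard z))).1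
    have himg : Z.image (fun z => z ^ (u : ZMod n).val) = Z :=
      Finset.eq_of_subset_of_card_le (Finset.image_subset_iff.2 hmaps)
        (Finset.card_image_of_injOn hinj).ge
    conv_rhs => rw [← himg, Finset.sum_image hinj]
  have hU : (0 : ℝ) < Nat.card (ZMod n)ˣ := Nat.cast_pos.2 Nat.card_pos
  have hsum : ((p ^ c * p ^ h : ℕ) : ℝ) ≤ ∑ z ∈ Z, y z := by
    refine le_of_mul_le_mul_left ?_ hU
    calc (Nat.card (ZMod n)ˣ : ℝ) * ((p ^ c * p ^ h : ℕ) : ℝ)
        = ∑ z ∈ Z, (Nat.card (ZMod n)ˣ : ℝ) * (p ^ h : ℕ) := by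
          rw [Finset.sum_const, hZcard, nsmul_eq_mul]
          push_cast
          ring
      _ ≤ ∑ z ∈ Z, ∑ u : (ZMod n)ˣ, y (z ^ (u : ZMod n).val) := Finset.sum_le_sum hmean
      _ = _ := by
          rw [Finset.sum_comm, Finset.sum_congr rfl (fun u _ => hperm u), Finset.sum_const,
            Finset.card_univ, nsmul_eq_mul, Nat.card_eq_fintype_card]
  have hy : ∑ z ∈ Z, y z ≤ ((m * p ^ d : ℕ) : ℝ) := by
    simp only [y, mul_div_assoc, ← Finset.mul_sum]
    push_cast
    rw [mul_comm (m : ℝ)]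
    exact mul_le_mul_of_nonneg_left hle (by positivity)
  rw [pow_add]
  exact_mod_cast hsum.trans hy

end CfsgLib.BlockB.HeightBound
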