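import Cfsg.Prelude.Def_BlockRank
import Cfsg.Agent.Lib.BlockA.RegMatrix
import Mathlib.LinearAlgebra.Trace

/-!
The `p`-regular rank of a block as the trace of the regular projection.
-/

set_option autoImplicit false

namespace CfsgLib.BlockB

open Cfsg CfsgLib.Block CfsgLib.BlockA
open scoped ComplexConjugate

universe u

variable {G : Type u} [Group G] [Fintype G] {p : ℕ} {M : Ideal AlgInt} [M.IsPrime]

theorem pRegularPart_eq_regInd_mul (χ : G → ℂ) :
    pRegularPart p χ = fun g => regInd p g * χ g := by
  funext g
  unfold pRegularPart regInd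
  by_cases h : p ∣ orderOf g
  · rw [if_neg (show ¬ IsPRegular p g from not_not_intro h), if_pos h, zero_mul]
  · rw [if_pos (show IsPRegular p g from h), if_neg h, one_mul]

theorem classInner_regInd_eq_regEntry [Fact p.Prime] (χ ξ : IrrCharacter G) :
    classInner (fun x => regInd p x * (χ : G → ℂ) x) (ξ : G → ℂ) =
      (regEntry p χ ξ : ℂ) / ((p ^ (Nat.card G).factorization p : ℕ) : ℂ) := by
  have hq : ((p ^ (Nat.card G).factorization p : ℕ) : ℂ) ≠ 0 :=
    Nat.cast_ne_zero.2 (pow_ne_zero _ (Fact.out : p.Prime).ne_zero)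
  rw [eq_div_iff hq, regEntry_cast, mul_comm, ← CfsgLib.Char.classInner_smul_left]
  congr 1
  funext x
  simp only [Pi.smul_apply, smul_eq_mul, regInd]
  split_ifs <;> ring

variable (hM : IsPModular p M) {B : Set (IrrCharacter G)} (hB : IsPBlock M B)
include hM hB

/-- The rank of a block is the trace of its regular projection. -/
theorem blockRank_eq_sum :
    ((blockRank p B : ℕ) : ℂ) = ∑ χ ∈ B.toFinite.toFinset,
      classInner (fun x => regInd p x * (χ : G → ℂ) x) (χ : G → ℂ) := by
  classical
  have := Fintype.ofFinite (IrrCharacter G)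
  let v : B → (G → ℂ) := fun χ => ((χ : IrrCharacter G) : G → ℂ)
  let row : B → (B → ℂ) := fun χ ξ =>
    classInner (fun x => regInd p x * v χ x) (v ξ)
  let L : (B → ℂ) →ₗ[ℂ] (G → ℂ) := Fintype.linearCombination ℂ v
  let T : (B → ℂ) →ₗ[ℂ] (B → ℂ) := Fintype.linearCombination ℂ row
  have hLinj : Function.Injective L := by
    have hli : LinearIndependent ℂ v := CfsgLib.Char.irr_linearIndependent.comp
      (fun χ : B => (χ : IrrCharacter G)) Subtype.val_injective
    exact linearIndependent_iff_injective_fintypeLinearCombination.1 hli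
  have hLT : ∀ w, L (T w) = fun g => regInd p g * L w g := by
    intro w
    have h1 : ∀ χ : B, L (row χ) = fun g => regInd p g * v χ g := fun χ => by
      funext g
      rw [regInd_mul_eq_sum hM hB χ.2 g, finsum_mem_eq_finite_toFinset_sum _ B.toFinite]
      simp only [L, Fintype.linearCombination_apply, Finset.sum_apply, Pi.smul_apply, smul_eq_mul]
      exact (Finset.sum_subtype B.toFinite.toFinset (p := (· ∈ B)) (by simp)
        (fun ψ : IrrCharacter G => classInner (fun x => regInd p x * v χ x) (ψ : G → ℂ) *
          (ψ : G → ℂ) g)).symm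
    rw [show T w = ∑ χ, w χ • row χ from Fintype.linearCombination_apply ℂ row w, map_sum]
    funext g
    rw [Finset.sum_apply]
    simp only [L, Fintype.linearCombination_apply, Finset.sum_apply, Finset.mul_sum]
    refine Finset.sum_congr rfl fun χ _ => ?_
    have h2 := congrFun (h1 χ) g
    simp only [L, Fintype.linearCombination_apply, Finset.sum_apply, Pi.smul_apply,
      smul_eq_mul] at h2 ⊢
    rw [← mul_left_comm (w χ), ← h2, Finset.mul_sum]
    refine Finset.sum_congr rfl fun ξ _ => ?_
    ring
  have hidem : ∀ w, T (T w) = T w := fun w => hLinj (by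
    rw [hLT, hLT]
    funext g
    rw [← mul_assoc]
    congr 1
    unfold regInd
    split_ifs <;> simp)
  have hproj : LinearMap.IsProj (LinearMap.range T) T :=
    ⟨fun w => LinearMap.mem_range_self T w, fun w hw => by obtain ⟨u, rfl⟩ := hw; exact hidem u⟩
  have htr := hproj.trace
  have hspan : Submodule.span ℂ ((fun χ : IrrCharacter G => pRegularPart p (χ : G → ℂ)) '' B) =
      (LinearMap.range T).map L := by
    rw [Fintype.range_linearCombination, Submodule.map_span]
    congr 1
    ext f
    simp only [Set.mem_image, Set.mem_range, exists_exists_eq_and]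
    have hrow : ∀ χ : B, L (row χ) = pRegularPart p (v χ) := fun χ => by
      have h := hLT (Pi.single χ 1)
      rw [show T (Pi.single χ 1) = row χ by
        simp [T, Fintype.linearCombination_apply_single]] at h
      rw [h, pRegularPart_eq_regInd_mul]
      funext g
      simp [L, Fintype.linearCombination_apply_single]
    constructor
    · rintro ⟨χ, hχ, rfl⟩
      exact ⟨⟨χ, hχ⟩, hrow ⟨χ, hχ⟩⟩
    · rintro ⟨χ, rfl⟩
      exact ⟨χ, χ.2, (hrow χ).symm⟩
  rw [blockRank, hspan, ← (Submodule.equivMapOfInjective L hLinj _).finrank_eq, ← htr,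
    LinearMap.trace_eq_matrix_trace ℂ (Pi.basisFun ℂ B), Matrix.trace,
    Finset.sum_subtype B.toFinite.toFinset (p := (· ∈ B)) (by simp)]
  refine Finset.sum_congr rfl fun χ _ => ?_
  simp [T, row, v, Fintype.linearCombination_apply_single]

/-- The rank through the integer matrix. -/
theorem blockRank_mul_pow [Fact p.Prime] :
    ((p ^ (Nat.card G).factorization p : ℕ) : ℤ) * (blockRank p B : ℤ) =
      ∑ χ ∈ B.toFinite.toFinset, regEntry p χ χ := by
  have h := blockRank_eq_sum hM hB
  simp only [classInner_regInd_eq_regEntry, ← Finset.sum_div] at h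
  rw [eq_div_iff (Nat.cast_ne_zero.2 (pow_ne_zero _ (Fact.out : p.Prime).ne_zero))] at h
  rw [mul_comm]
  exact_mod_cast h

omit [M.IsPrime] hM hB in
/-- The rank is at most the number of members. -/
theorem blockRank_le_card : blockRank p B ≤ Nat.card B := by
  classical
  have := Fintype.ofFinite B
  unfold blockRank
  rw [Set.image_eq_range, Nat.card_eq_fintype_card]
  exact finrank_range_le_card _

end CfsgLib.BlockB
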