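import Cfsg.Agent.Lib.BlockB.ClassMul
import Cfsg.Agent.Lib.Char.Brauer
import Mathlib.GroupTheory.SchurZassenhaus

/-!
# Characters of defect zero vanish on singular elements
-/

namespace CfsgLib.BlockB

open scoped ComplexConjugate
open CfsgLib.Char Module

universe u

/-- An elementary group is the product of a Sylow `p`-subgroup and a centralizing complement. -/
theorem exists_split_of_isElementary {E : Type u} [Group E] [Finite E] {r : ℕ} (hr : r.Prime)
    (h : Cfsg.IsElementary r E) (p : ℕ) [Fact p.Prime] :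
    ∃ (P : Sylow p E) (K : Subgroup E), ¬ p ∣ Nat.card K ∧
      Subgroup.IsComplement' (P : Subgroup E) K ∧
      ∀ k ∈ K, ∀ y ∈ (P : Subgroup E), k * y = y * k := by
  obtain ⟨x, hx, hcop, j, hj⟩ := h
  have hp : p.Prime := Fact.out
  have : Fact r.Prime := ⟨hr⟩
  have hxn : (Subgroup.zpowers x).Normal := ⟨fun n hn g => by
    rw [Subgroup.mem_center_iff.mp (Subgroup.zpowers_le.mpr hx hn) g, mul_inv_cancel_right]
    exact hn⟩
  have hmul := (Subgroup.zpowers x).card_mul_index
  obtain ⟨P⟩ := Sylow.nonempty (p := p) (G := E)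
  rw [Nat.card_zpowers, hj] at hmul
  by_cases hpr : p = r
  · subst hpr
    have hnd : ¬ p ∣ orderOf x := fun hd =>
      hp.not_dvd_one (hcop ▸ Nat.dvd_gcd hd dvd_rfl)
    have hPc : Nat.card (P : Subgroup E) = p ^ j := by
      rw [P.card_eq_multiplicity, ← hmul, Nat.factorization_mul (orderOf_pos x).ne'
        (pow_ne_zero _ hp.ne_zero)]
      simp [Nat.factorization_eq_zero_of_not_dvd hnd, hp.factorization_self]
    refine ⟨P, Subgroup.zpowers x, by rwa [Nat.card_zpowers], ?_, fun k hk y _ =>
      (Subgroup.mem_center_iff.mp (Subgroup.zpowers_le.mpr hx hk) y).symm⟩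
    refine Subgroup.isComplement'_of_coprime (by rw [hPc, Nat.card_zpowers, ← hmul, mul_comm]) ?_
    rw [hPc, Nat.card_zpowers]
    exact Nat.Coprime.pow_left _ ((hp.coprime_iff_not_dvd).mpr hnd)
  · have hPcen : ∀ y ∈ (P : Subgroup E), y ∈ Subgroup.center E := by
      intro y hy
      obtain ⟨i, hi⟩ := IsPGroup.iff_orderOf.1 P.2 ⟨y, hy⟩
      rw [Subgroup.orderOf_mk] at hi
      have h1 : orderOf (QuotientGroup.mk' (Subgroup.zpowers x) y) ∣ p ^ i :=
        hi ▸ orderOf_map_dvd _ y
      have h2 : orderOf (QuotientGroup.mk' (Subgroup.zpowers x) y) ∣ r ^ j :=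
        hj ▸ Subgroup.index_eq_card (Subgroup.zpowers x) ▸ orderOf_dvd_natCard _
      have h3 := Nat.dvd_gcd h1 h2
      rw [(Nat.Coprime.pow i j ((Nat.coprime_primes hp hr).mpr hpr)).gcd_eq_one, Nat.dvd_one,
        orderOf_eq_one_iff] at h3
      exact Subgroup.zpowers_le.mpr hx ((QuotientGroup.eq_one_iff y).mp h3)
    have hPn : (P : Subgroup E).Normal := ⟨fun n hn g => by
      rw [Subgroup.mem_center_iff.mp (hPcen n hn) g, mul_inv_cancel_right]
      exact hn⟩
    obtain ⟨K, hK⟩ := Subgroup.exists_right_complement'_of_coprime (N := (P : Subgroup E))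
      P.card_coprime_index
    refine ⟨P, K, ?_, hK, fun k _ y hy => Subgroup.mem_center_iff.mp (hPcen y hy) k⟩
    intro hd
    apply P.not_dvd_index
    rwa [hK.symm.index_eq_card]

variable {G : Type u} [Group G]

/-- A character of `p`-defect zero vanishes on `p`-singular elements. -/
theorem irr_apply_eq_zero_of_defect_zero [Finite G] {p : ℕ} [Fact p.Prime]
    (χ : Cfsg.IrrCharacter G)
    (h : p ^ (Nat.card G).factorization p ∣ Cfsg.charDegree (χ : G → ℂ))
    {g : G} (hg : p ∣ orderOf g) : (χ : G → ℂ) g = 0 := by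
  classical
  have := Fintype.ofFinite G
  have hp : p.Prime := Fact.out
  set θ : G → ℂ := fun x => if p ∣ orderOf x then 0 else (χ : G → ℂ) x with hθdef
  have hθcf : Cfsg.IsClassFunction G θ := fun a b => by
    have ho : orderOf (b * a * b⁻¹) = orderOf a := MulEquiv.orderOf_eq (MulAut.conj b) a
    simp only [θ, ho, irr_isClassFunction χ.2 a b]
  obtain ⟨d, hd⟩ := h
  set a := (Nat.card G).factorization p with ha
  set m := Nat.card G / p ^ a with hm
  have hGm : Nat.card G = p ^ a * m := (Nat.ordProj_mul_ordCompl_eq_self _ p).symm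
  have hpm : ¬ p ∣ m := Nat.not_dvd_ordCompl hp Nat.card_pos.ne'
  have hgen : Cfsg.IsGeneralizedCharacter G θ := by
    refine brauer_characterization hθcf fun E r hr hE => ?_
    refine isGeneralized_of_int (fun u v => hθcf (u : G) (v : G)) fun lam hlam => ?_
    obtain ⟨P, K, hK, hPK, hcomm⟩ := exists_split_of_isElementary hr hE p
    obtain ⟨n, hn⟩ := classInner_isCharacter_nat
      (isCharacter_comp (irr_isCharacter χ.2) (E.subtype.comp K.subtype))
      (isCharacter_comp (irr_isCharacter hlam) K.subtype)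
    have hcardE : Nat.card (P : Subgroup E) * Nat.card K = Nat.card E := hPK.card_mul_card
    have hsum : ∑ e : E, θ e * conj ((lam : E → ℂ) e) = (Nat.card K : ℂ) * n := by
      rw [← hn, classInner_def, ← mul_assoc, mul_inv_cancel₀ natCard_ne_zero, one_mul]
      let f : ↥(P : Subgroup E) × K ≃ E :=
        Equiv.ofBijective (fun yk => (yk.1 : E) * yk.2) hPK
      rw [← f.sum_comp, Fintype.sum_prod_type, Finset.sum_eq_single 1]
      · refine Finset.sum_congr rfl fun k _ => ?_
        have hf : f (1, k) = (k : E) := one_mul _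
        have hkr : ¬ p ∣ orderOf (((k : E)) : G) := fun hd => hK (hd.trans (by
          rw [Subgroup.orderOf_coe, Subgroup.orderOf_coe]
          exact orderOf_dvd_natCard k))
        rw [hf]
        simp only [θ, if_neg hkr, Function.comp_apply]
        rfl
      · intro y _ hy
        refine Finset.sum_eq_zero fun k _ => ?_
        have hf : f (y, k) = (y : E) * k := rfl
        have hc : Commute ((y : E) : G) ((k : E) : G) :=
          (congrArg Subtype.val (hcomm k k.2 y y.2)).symm
        obtain ⟨i, hi⟩ := IsPGroup.iff_orderOf.1 P.2 y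
        have hord : p ∣ orderOf ((f (y, k) : E) : G) := by
          rw [hf, Subgroup.coe_mul, hc.orderOf_mul_eq_mul_orderOf_of_coprime]
          · refine Dvd.dvd.mul_right ?_ _
            rw [Subgroup.orderOf_coe, Subgroup.orderOf_coe, hi]
            rcases i with _ | i
            · exact absurd (orderOf_eq_one_iff.1 (by simpa using hi)) hy
            · exact dvd_pow_self p i.succ_ne_zero
          · rw [Subgroup.orderOf_coe, Subgroup.orderOf_coe, Subgroup.orderOf_coe,
              Subgroup.orderOf_coe, hi]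
            exact Nat.Coprime.pow_left _ ((hp.coprime_iff_not_dvd).mpr fun hd =>
              hK (hd.trans (orderOf_dvd_natCard k)))
        simp only [θ, if_pos hord, zero_mul]
      · exact fun h => absurd (Finset.mem_univ _) h
    have hdiv : Nat.card (P : Subgroup E) ∣ n := by
      have hcop : Nat.Coprime (Nat.card (P : Subgroup E)) (Nat.card K * m) := by
        obtain ⟨i, hi⟩ := IsPGroup.iff_card.1 P.2
        rw [hi]
        refine Nat.Coprime.pow_left _ ((hp.coprime_iff_not_dvd).mpr fun hd => ?_)
        exact (hp.dvd_mul.1 hd).elim hK hpm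
      refine hcop.dvd_of_dvd_mul_right (?_ : _ ∣ n * (Nat.card K * m))
      refine CfsgLib.Char.dvd_of_isIntegral_div Nat.card_pos ?_
      have e : ((n * (Nat.card K * m) : ℕ) : ℂ) / (Nat.card (P : Subgroup E) : ℂ) =
          ∑ k : K, ((m : ℂ) * (χ : G → ℂ) (k : E) / (Nat.card (P : Subgroup E) : ℂ)) *
            conj ((lam : E → ℂ) k) := by
        rw [classInner_def, inv_mul_eq_iff_eq_mul₀ natCard_ne_zero] at hn
        push_cast
        rw [show (n : ℂ) * ((Nat.card K : ℂ) * m) = m * ((Nat.card K : ℂ) * n) by ring, ← hn,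
          Finset.mul_sum, Finset.sum_div]
        refine Finset.sum_congr rfl fun k _ => ?_
        simp only [Function.comp_apply, MonoidHom.coe_comp, Subgroup.coe_subtype]
        ring
      rw [e]
      refine IsIntegral.sum _ fun k _ => IsIntegral.mul ?_ ?_
      · set C := Subgroup.centralizer ({((k : E) : G)} : Set G) with hC
        have hle : (P : Subgroup E).map E.subtype ≤ C := by
          rintro _ ⟨y, hy, rfl⟩
          rw [Subgroup.mem_centralizer_singleton_iff]
          exact (congrArg Subtype.val (hcomm k k.2 y hy)).symm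
        obtain ⟨c, hc⟩ := Subgroup.card_dvd_of_le hle
        rw [Subgroup.card_subtype] at hc
        have hidx := C.index_mul_card
        have e2 : (m : ℂ) * (χ : G → ℂ) (k : E) / (Nat.card (P : Subgroup E) : ℂ) =
            ((c * d : ℕ) : ℂ) * Cfsg.centralChar (χ : G → ℂ) (k : E) := by
          have e3 : Cfsg.centralChar (χ : G → ℂ) ((k : E) : G) =
              (C.index : ℂ) * (χ : G → ℂ) (k : E) / (χ : G → ℂ) 1 := rfl
          rw [e3, ← irr_degree_cast χ, hd]
          rw [hc, hGm] at hidx
          have hidx' : (C.index : ℂ) * ((Nat.card (P : Subgroup E) : ℂ) * c) =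
              ((p : ℂ) ^ a * m) := by exact_mod_cast hidx
          have hd0 : (d : ℂ) ≠ 0 := by
            have := irr_degree_ne_zero χ
            rw [hd] at this
            exact_mod_cast (mul_ne_zero_iff.1 this).2
          have hp0 : (p : ℂ) ≠ 0 := by exact_mod_cast hp.ne_zero
          have hP0 : (Nat.card (P : Subgroup E) : ℂ) ≠ 0 := natCard_ne_zero
          push_cast
          field_simp
          linear_combination -((χ : G → ℂ) (k : E)) * hidx'
        rw [e2]
        exact IsIntegral.mul (by
          simpa using isIntegral_algebraMap (R := ℤ) (A := ℂ) (x := ((c * d : ℕ) : ℤ)))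
          (irr_centralChar_isIntegral χ _)
      · have hk : conj ((lam : E → ℂ) k) = (lam : E → ℂ) (k : E)⁻¹ :=
          (char_inv (irr_isCharacter hlam) _).symm
        rw [hk]
        exact irr_isIntegral ⟨lam, hlam⟩ _
    obtain ⟨q, hq⟩ := hdiv
    refine ⟨q, ?_⟩
    rw [classInner_def, hsum, hq, ← hcardE]
    have hP0 : (Nat.card (P : Subgroup E) : ℂ) ≠ 0 := natCard_ne_zero
    have hK0 : (Nat.card K : ℂ) ≠ 0 := natCard_ne_zero
    push_cast
    field_simp
  obtain ⟨z, hz⟩ := classInner_isGeneralized_int hgen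
    (isGeneralized_of_isCharacter (irr_isCharacter χ.2))
  have hself := irr_classInner_self χ.2
  rw [classInner_self_eq_norm] at hself
  have hz' : (z : ℂ) = (Nat.card G : ℂ)⁻¹ *
      ∑ x : G, ((if p ∣ orderOf x then 0 else ‖(χ : G → ℂ) x‖ ^ 2 : ℝ) : ℂ) := by
    rw [← hz, classInner_def]
    congr 1
    refine Finset.sum_congr rfl fun x _ => ?_
    simp only [θ]
    split_ifs <;> simp [Complex.mul_conj']
  rw [← Complex.ofReal_sum, ← Complex.ofReal_natCast, ← Complex.ofReal_inv, ← Complex.ofReal_mul,
    ← Complex.ofReal_intCast, Complex.ofReal_inj] at hz'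
  rw [Complex.ofReal_eq_one] at hself
  have hN : (0 : ℝ) < (Nat.card G : ℝ)⁻¹ := by
    have : 0 < Nat.card G := Nat.card_pos
    positivity
  set A := ∑ x : G, (if p ∣ orderOf x then 0 else ‖(χ : G → ℂ) x‖ ^ 2 : ℝ) with hA
  set B := ∑ x : G, ‖(χ : G → ℂ) x‖ ^ 2 with hB
  have hA0 : 0 < A := by
    refine Finset.sum_pos' (fun x _ => by split_ifs <;> positivity) ⟨1, Finset.mem_univ _, ?_⟩
    rw [orderOf_one, if_neg hp.not_dvd_one]
    have := norm_pos_iff.mpr (irr_apply_one_ne_zero χ.2)
    positivity
  have hAB : A ≤ B := Finset.sum_le_sum fun x _ => by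
    split_ifs
    · positivity
    · exact le_rfl
  have hzpos : (1 : ℝ) ≤ (z : ℝ) := by
    have : (0 : ℝ) < (z : ℝ) := hz' ▸ mul_pos hN hA0
    exact_mod_cast (show (0 : ℤ) < z by exact_mod_cast this)
  have hAeq : A = B := by
    refine le_antisymm hAB (le_of_mul_le_mul_left ?_ hN)
    rw [← hz']
    rw [hself]
    exact hzpos
  have := (Finset.sum_eq_sum_iff_of_le (fun x _ => by
    split_ifs
    · positivity
    · exact le_rfl)).1 hAeq g (Finset.mem_univ g)
  rw [if_pos hg] at this
  exact norm_eq_zero.mp (pow_eq_zero_iff two_ne_zero |>.1 this.symm)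

end CfsgLib.BlockB
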