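import Cfsg.Agent.Lib.Char.FS
import Cfsg.Agent.Lib.Char.Induce

/-!
# The number of square roots through Frobenius–Schur indicators
-/

namespace CfsgLib.BlockB

open scoped ComplexConjugate
open CfsgLib.Char

universe u

variable {G : Type u} [Group G] [Fintype G]

/-- The indicator of an irreducible character. -/
noncomputable def fsInd (χ : Cfsg.IrrCharacter G) : ℂ :=
  (Nat.card G : ℂ)⁻¹ * ∑ s : G, (χ : G → ℂ) (s * s)

theorem fsInd_cases (χ : Cfsg.IrrCharacter G) :
    (fsInd χ = 0 ∧ ¬ ∀ s : G, ((χ : G → ℂ) s).im = 0) ∨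
    ((fsInd χ = 1 ∨ fsInd χ = -1) ∧ ∀ s : G, ((χ : G → ℂ) s).im = 0) := by
  obtain ⟨χ, n, ρ, hρ, rfl⟩ := χ
  obtain ⟨h1, h2⟩ := fs_indicator ρ
  by_cases h : fsInd (⟨ρ.character, n, ρ, hρ, rfl⟩ : Cfsg.IrrCharacter G) = 0
  · exact Or.inl ⟨h, by simpa using h2.1 h⟩
  · exact Or.inr ⟨h1.resolve_left h, by simpa using mt h2.2 h⟩

/-- The number of square roots of an element. -/
noncomputable def sqrtCount (x : G) : ℂ :=
  open scoped Classical in (((Finset.univ : Finset G).filter fun s => s * s = x).card : ℂ)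

theorem sqrtCount_isClassFunction : Cfsg.IsClassFunction G (sqrtCount (G := G)) := by
  classical
  intro x h
  simp only [sqrtCount]
  congr 1
  refine Finset.card_equiv (MulAut.conj h⁻¹).toEquiv fun s => ?_
  simp only [Finset.mem_filter, Finset.mem_univ, true_and, MulEquiv.toEquiv_eq_coe,
    MulEquiv.coe_toEquiv, ← map_mul, MulAut.conj_apply, inv_inv]
  constructor
  · intro e
    rw [show h⁻¹ * s * h * (h⁻¹ * s * h) = h⁻¹ * (s * s) * h by simp [mul_assoc], e]
    group
  · intro e; rw [← e]; group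

theorem classInner_sqrtCount (χ : Cfsg.IrrCharacter G) :
    Cfsg.classInner (sqrtCount (G := G)) (χ : G → ℂ) = fsInd χ := by
  classical
  rw [classInner_def, fsInd]
  congr 1
  have h1 : ∑ x : G, sqrtCount x * conj ((χ : G → ℂ) x) =
      ∑ s : G, conj ((χ : G → ℂ) (s * s)) := by
    rw [← Finset.sum_fiberwise Finset.univ (fun s : G => s * s)
      (fun s => conj ((χ : G → ℂ) (s * s)))]
    refine Finset.sum_congr rfl fun x _ => ?_
    rw [Finset.sum_congr rfl (g := fun _ => conj ((χ : G → ℂ) x))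
      (fun s hs => by rw [(Finset.mem_filter.mp hs).2]), Finset.sum_const, nsmul_eq_mul]
    rfl
  rw [h1]
  refine Fintype.sum_equiv (Equiv.inv G) _ _ fun s => ?_
  rw [← char_inv (irr_isCharacter χ.2), mul_inv_rev]
  rfl

theorem sqrtCount_eq_sum [Fintype (Cfsg.IrrCharacter G)] (x : G) :
    sqrtCount x = ∑ χ : Cfsg.IrrCharacter G, fsInd χ * (χ : G → ℂ) x := by
  have h := classFunction_apply_eq_sum (sqrtCount_isClassFunction (G := G)) x
  simp only [classInner_sqrtCount] at h
  exact h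

end CfsgLib.BlockB
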