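import Cfsg.Agent.Lib.Char.Basic
import Cfsg.Agent.Lib.Char.Inner
import Cfsg.Agent.Lib.Clifford.Intertwiner
import Mathlib.LinearAlgebra.Determinant

/-!
Determinants of characters: sums, twists, pullbacks.
-/

set_option autoImplicit false
set_option linter.unusedSectionVars false

namespace CfsgLib.BlockB.DetCalculus

open CfsgLib

universe u v

variable {G : Type u} [Group G]

/-- Some representation with character `f` has determinant `d`. -/
def HasDet (f : G → ℂ) (d : G →* ℂˣ) : Prop :=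
  ∃ (n : ℕ) (σ : Representation ℂ G (Fin n → ℂ)),
    σ.character = f ∧ ∀ x, LinearMap.det (σ x) = (d x : ℂ)

theorem hasDet_of_rep {V : Type*} [AddCommGroup V] [Module ℂ V] [FiniteDimensional ℂ V]
    (ρ : Representation ℂ G V) {d : G →* ℂˣ} (h : ∀ x, LinearMap.det (ρ x) = (d x : ℂ)) :
    HasDet ρ.character d := by
  refine ⟨Module.finrank ℂ V, Char.mapRep (Module.finBasis ℂ V).equivFun ρ,
    (Representation.char_iso (Char.mapRepEquiv _ ρ)).symm, fun x => ?_⟩
  rw [← h x]
  exact LinearMap.det_conj (ρ x) (Module.finBasis ℂ V).equivFun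

theorem exists_hasDet {f : G → ℂ} (hf : Cfsg.IsCharacter G f) : ∃ d, HasDet f d := by
  obtain ⟨n, ρ, rfl⟩ := hf
  exact ⟨(Units.map LinearMap.det).comp (Clifford.repUnits ρ), n, ρ, rfl, fun x => rfl⟩

theorem HasDet.unique [Finite G] {f : G → ℂ} {d d' : G →* ℂˣ} (h : HasDet f d)
    (h' : HasDet f d') : d = d' := by
  obtain ⟨n, σ, hσ, hd⟩ := h
  obtain ⟨m, τ, hτ, hd'⟩ := h'
  obtain ⟨φ⟩ := Char.equiv_of_char_eq σ τ (hσ.trans hτ.symm)
  ext x
  rw [← hd, ← hd', ← φ.conj_apply_self x, LinearEquiv.conj_apply, LinearMap.comp_assoc,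
    LinearMap.det_conj]

theorem hasDet_zero : HasDet (0 : G → ℂ) 1 := by
  refine ⟨0, Representation.trivial ℂ G (Fin 0 → ℂ), ?_, fun x => ?_⟩
  · ext g
    simp [Representation.character,
      Subsingleton.elim (Representation.trivial ℂ G (Fin 0 → ℂ) g) 0]
  · rw [show Representation.trivial ℂ G (Fin 0 → ℂ) x = LinearMap.id from Subsingleton.elim _ _]
    simp

theorem HasDet.add {f g : G → ℂ} {d d' : G →* ℂˣ} (h : HasDet f d) (h' : HasDet g d') :
    HasDet (f + g) (d * d') := by
  obtain ⟨n, σ, rfl, hd⟩ := h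
  obtain ⟨m, τ, rfl, hd'⟩ := h'
  rw [← Char.char_prod]
  refine hasDet_of_rep _ fun x => ?_
  rw [MonoidHom.mul_apply, Units.val_mul, ← hd, ← hd']
  exact LinearMap.det_prodMap _ _

theorem HasDet.nsmul {f : G → ℂ} {d : G →* ℂˣ} (h : HasDet f d) :
    ∀ k : ℕ, HasDet (k • f) (d ^ k)
  | 0 => by
    rw [zero_smul, show d ^ 0 = 1 from MonoidHom.ext fun x => by simp]
    exact hasDet_zero
  | k + 1 => by
    rw [succ_nsmul, show d ^ (k + 1) = d ^ k * d from MonoidHom.ext fun x => by simp [pow_succ]]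
    exact (HasDet.nsmul h k).add h

theorem HasDet.sum {ι : Type*} (s : Finset ι) {f : ι → G → ℂ} {d : ι → G →* ℂˣ}
    (h : ∀ i ∈ s, HasDet (f i) (d i)) : HasDet (∑ i ∈ s, f i) (∏ i ∈ s, d i) := by
  classical
  induction s using Finset.induction_on with
  | empty => rw [Finset.sum_empty, Finset.prod_empty]; exact hasDet_zero
  | insert a t ha ih =>
    rw [Finset.sum_insert ha, Finset.prod_insert ha]
    exact (h a (Finset.mem_insert_self a t)).add (ih fun i hi => h i (Finset.mem_insert_of_mem hi))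

theorem HasDet.comp {H : Type v} [Group H] {f : G → ℂ} {d : G →* ℂˣ} (h : HasDet f d)
    (e : H →* G) : HasDet (f ∘ e) (d.comp e) := by
  obtain ⟨n, σ, rfl, hd⟩ := h
  exact ⟨n, σ.comp e, rfl, fun x => hd (e x)⟩

/-- Twisting by a linear character multiplies the determinant by its power of the degree. -/
theorem HasDet.twist {f : G → ℂ} {d : G →* ℂˣ} (h : HasDet f d) (l : G →* ℂˣ) {n : ℕ}
    (hn : f 1 = n) : HasDet (fun x => (l x : ℂ) * f x) (l ^ n * d) := by
  obtain ⟨m, σ, rfl, hd⟩ := h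
  have hmn : m = n := by
    rw [Representation.char_one, Module.finrank_fin_fun] at hn
    exact_mod_cast hn
  let τ : Representation ℂ G (Fin m → ℂ) :=
    { toFun := fun x => (l x : ℂ) • σ x
      map_one' := by simp
      map_mul' := fun a b => by rw [map_mul, map_mul, Units.val_mul, smul_mul_smul_comm] }
  refine ⟨m, τ, ?_, fun x => ?_⟩
  · funext x
    show LinearMap.trace ℂ (Fin m → ℂ) ((l x : ℂ) • σ x) = _
    rw [map_smul, smul_eq_mul]
    rfl
  · show LinearMap.det ((l x : ℂ) • σ x) = _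
    rw [LinearMap.det_smul, Module.finrank_fin_fun, hd, hmn, MonoidHom.mul_apply, Units.val_mul,
      MonoidHom.pow_apply, Units.val_pow_eq_pow_val]

theorem hasDet_linear (l : G →* ℂˣ) : HasDet (fun x => (l x : ℂ)) l := by
  rw [← Char.char_linRep]
  refine hasDet_of_rep _ fun x => ?_
  show LinearMap.det ((l x : ℂ) • (LinearMap.id : ℂ →ₗ[ℂ] ℂ)) = _
  simp

end CfsgLib.BlockB.DetCalculus
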