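import Cfsg.Agent.Lib.BlockB.Convolution
import Cfsg.Agent.Lib.BlockA.Galois
import Mathlib.NumberTheory.Cyclotomic.Gal
import Mathlib.FieldTheory.Galois.Basic
import Mathlib.Analysis.SpecialFunctions.Log.Basic

/-!
# Galois-stable families of character values
-/

namespace CfsgLib.BlockB

open Polynomial
open scoped ComplexConjugate

universe u

/-- The standard primitive root of unity. -/
noncomputable def zetaN (n : ℕ) : ℂ := Complex.exp (2 * Real.pi * Complex.I / n)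

theorem zetaN_isPrimitiveRoot {n : ℕ} (hn : n ≠ 0) : IsPrimitiveRoot (zetaN n) n :=
  Complex.isPrimitiveRoot_exp n hn

/-- A sequence given by an integral polynomial at the powers of the standard root of unity. -/
def IsCyclo (n : ℕ) (f : ℕ → ℂ) : Prop :=
  ∃ P : ℤ[X], ∀ k : ℕ, f k = aeval (zetaN n ^ k) P

theorem IsCyclo.mul {n : ℕ} {f g : ℕ → ℂ} (hf : IsCyclo n f) (hg : IsCyclo n g) :
    IsCyclo n (fun k => f k * g k) := by
  obtain ⟨P, hP⟩ := hf
  obtain ⟨Q, hQ⟩ := hg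
  exact ⟨P * Q, fun k => by simp only [map_mul, hP, hQ]⟩

theorem IsCyclo.sum {n : ℕ} {ι : Type*} (s : Finset ι) {f : ι → ℕ → ℂ}
    (hf : ∀ i ∈ s, IsCyclo n (f i)) : IsCyclo n (fun k => ∑ i ∈ s, f i k) := by
  classical
  induction s using Finset.induction_on with
  | empty => exact ⟨0, fun k => by simp⟩
  | @insert a s ha ih =>
    obtain ⟨P, hP⟩ := hf a (Finset.mem_insert_self _ _)
    obtain ⟨Q, hQ⟩ := ih fun i hi => hf i (Finset.mem_insert_of_mem hi)
    refine ⟨P + Q, fun k => ?_⟩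
    simp only [Finset.sum_insert ha, map_add, hP k]
    exact congrArg _ (hQ k)

theorem IsCyclo.prod {n : ℕ} {ι : Type*} (s : Finset ι) {f : ι → ℕ → ℂ}
    (hf : ∀ i ∈ s, IsCyclo n (f i)) : IsCyclo n (fun k => ∏ i ∈ s, f i k) := by
  classical
  induction s using Finset.induction_on with
  | empty => exact ⟨1, fun k => by simp⟩
  | @insert a s ha ih =>
    obtain ⟨P, hP⟩ := hf a (Finset.mem_insert_self _ _)
    obtain ⟨Q, hQ⟩ := ih fun i hi => hf i (Finset.mem_insert_of_mem hi)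
    refine ⟨P * Q, fun k => ?_⟩
    simp only [Finset.prod_insert ha, map_mul, hP k]
    exact congrArg _ (hQ k)

theorem IsCyclo.comp_mul {n : ℕ} {f : ℕ → ℂ} (hf : IsCyclo n f) (m : ℕ) :
    IsCyclo n (fun k => f (k * m)) := by
  obtain ⟨P, hP⟩ := hf
  exact ⟨P.comp (X ^ m), fun k => by simp only [hP, aeval_comp, map_pow, aeval_X, ← pow_mul]⟩

theorem IsCyclo.conj {n : ℕ} (hn : n ≠ 0) {f : ℕ → ℂ} (hf : IsCyclo n f) :
    IsCyclo n (fun k => conj (f k)) := by
  obtain ⟨P, hP⟩ := hf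
  refine ⟨P.comp (X ^ (n - 1)), fun k => ?_⟩
  have e : conj (zetaN n) = zetaN n ^ (n - 1) := by
    have h1 := (zetaN_isPrimitiveRoot hn).pow_eq_one
    rw [← Complex.inv_eq_conj (Complex.norm_eq_one_of_pow_eq_one h1 hn)]
    refine inv_eq_of_mul_eq_one_right ?_
    rw [← pow_succ', Nat.sub_add_cancel (Nat.one_le_iff_ne_zero.2 hn), h1]
  show conj (f k) = _
  rw [hP, aeval_comp, map_pow, aeval_X, ← pow_mul, mul_comm, pow_mul, ← e, ← map_pow,
    aeval_def, aeval_def, Polynomial.hom_eval₂]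
  exact congrArg (fun φ => eval₂ φ _ P) (RingHom.ext_int _ _)

theorem IsCyclo.isIntegral {n : ℕ} (hn : n ≠ 0) {f : ℕ → ℂ} (hf : IsCyclo n f) (k : ℕ) :
    IsIntegral ℤ (f k) := by
  obtain ⟨P, hP⟩ := hf
  rw [hP]
  have hz : IsIntegral ℤ (zetaN n ^ k) :=
    ((zetaN_isPrimitiveRoot hn).isIntegral (Nat.pos_of_ne_zero hn)).pow k
  exact adjoin_le_integralClosure hz (aeval_mem_adjoin_singleton ℤ _)

/-- A value fixed by the Galois group is an integer. -/
theorem IsCyclo.exists_int {n : ℕ} (hn : n ≠ 0) {f : ℕ → ℂ} (hf : IsCyclo n f)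
    (h : ∀ k : ℕ, k.Coprime n → f k = f 1) : ∃ m : ℤ, f 1 = m := by
  have : NeZero n := ⟨hn⟩
  have hζ := zetaN_isPrimitiveRoot hn
  set F : IntermediateField ℚ ℂ := IntermediateField.adjoin ℚ {zetaN n}
  have : IsCyclotomicExtension {n} ℚ F := by
    change IsCyclotomicExtension {n} ℚ (IntermediateField.adjoin ℚ {zetaN n}).toSubalgebra
    rw [IntermediateField.adjoin_simple_toSubalgebra_of_isAlgebraic
      ((hζ.isIntegral (Nat.pos_of_ne_zero hn)).tower_top (A := ℚ)).isAlgebraic]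
    exact hζ.adjoin_isCyclotomicExtension ℚ
  have : FiniteDimensional ℚ F := IsCyclotomicExtension.finiteDimensional {n} ℚ F
  have : IsGalois ℚ F := IsCyclotomicExtension.isGalois {n} ℚ F
  have hint := hf.isIntegral hn 1
  obtain ⟨P, hP⟩ := hf
  let z : F := ⟨zetaN n, IntermediateField.mem_adjoin_simple_self ℚ _⟩
  have hz : IsPrimitiveRoot z n := IsPrimitiveRoot.of_map_of_injective
    (f := F.val) (show IsPrimitiveRoot (F.val z) n from hζ) F.val.injective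
  have hval : ∀ k : ℕ, ((aeval (z ^ k) P : F) : ℂ) = f k := fun k => by
    rw [hP]
    exact (Polynomial.aeval_algHom_apply (F.val.restrictScalars ℤ) (z ^ k) P).symm
  set x : F := aeval (z ^ 1) P with hx
  have hmem : x ∈ (⊥ : IntermediateField ℚ F) := by
    rw [IsGalois.mem_bot_iff_fixed]
    intro σ
    have hσz : IsPrimitiveRoot (σ z) n := hz.map_of_injective σ.injective
    obtain ⟨i, _, hi⟩ := hz.eq_pow_of_pow_eq_one hσz.pow_eq_one
    have hcop : i.Coprime n :=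
      (hz.pow_iff_coprime (Nat.pos_of_ne_zero hn) i).1 (by rw [hi]; exact hσz)
    apply Subtype.ext
    rw [hx, hval 1, pow_one, ← h i hcop, ← hval i, hi]
    exact congrArg Subtype.val
      (Polynomial.aeval_algHom_apply (σ.toAlgHom.restrictScalars ℤ) z P).symm
  obtain ⟨q, hq⟩ := IntermediateField.mem_bot.1 hmem
  have hq' : f 1 = (q : ℂ) := by
    rw [← hval 1, ← hx, ← hq]
    simp [eq_ratCast]
  rw [hq'] at hint ⊢
  obtain ⟨m, hm⟩ := CfsgLib.Char.exists_int_of_isIntegral_rat hint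
  exact ⟨m, by rw [hm]; norm_cast⟩

section Family

variable {ι : Type*} (s : Finset ι) (f : ι → ℕ → ℂ) {n : ℕ}

theorem one_le_prod_norm (hn : n ≠ 0) (hf : ∀ i ∈ s, IsCyclo n (f i))
    (hperm : ∀ k : ℕ, k.Coprime n → ∃ e : {i // i ∈ s} ≃ {i // i ∈ s},
      ∀ i : {i // i ∈ s}, f (e i).1 1 = f i.1 k)
    (hne : ∀ i ∈ s, f i 1 ≠ 0) : 1 ≤ ∏ i ∈ s, ‖f i 1‖ := by
  obtain ⟨m, hm⟩ := (IsCyclo.prod s fun i hi =>
    (hf i hi).mul ((hf i hi).conj hn)).exists_int hn (by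
      intro k hk
      obtain ⟨e, he⟩ := hperm k hk
      simp only [← Finset.prod_coe_sort s]
      conv_rhs => rw [← e.prod_comp]
      exact Finset.prod_congr rfl fun i _ => by rw [he])
  have h2 : (m : ℂ) = (((∏ i ∈ s, ‖f i 1‖) ^ 2 : ℝ) : ℂ) := by
    rw [← hm, ← Finset.prod_pow, Complex.ofReal_prod]
    exact Finset.prod_congr rfl fun i _ => by rw [Complex.mul_conj', Complex.ofReal_pow]
  have hpos : 0 < ∏ i ∈ s, ‖f i 1‖ := Finset.prod_pos fun i hi => norm_pos_iff.2 (hne i hi)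
  have h3 : (m : ℝ) = (∏ i ∈ s, ‖f i 1‖) ^ 2 := by
    have := congrArg Complex.re h2
    rwa [Complex.intCast_re, Complex.ofReal_re] at this
  have h4 : (0 : ℤ) < m := by
    have : (0 : ℝ) < m := by rw [h3]; positivity
    exact_mod_cast this
  have h5 : (1 : ℝ) ≤ (∏ i ∈ s, ‖f i 1‖) ^ 2 := by rw [← h3]; exact_mod_cast h4
  nlinarith

theorem card_le_sum_norm_pow (hn : n ≠ 0) (hf : ∀ i ∈ s, IsCyclo n (f i))
    (hperm : ∀ k : ℕ, k.Coprime n → ∃ e : {i // i ∈ s} ≃ {i // i ∈ s},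
      ∀ i : {i // i ∈ s}, f (e i).1 1 = f i.1 k)
    (hne : ∀ i ∈ s, f i 1 ≠ 0) (j : ℕ) : (s.card : ℝ) ≤ ∑ i ∈ s, ‖f i 1‖ ^ j := by
  have h := one_le_prod_norm s f hn hf hperm hne
  have hpos : ∀ i ∈ s, 0 < ‖f i 1‖ ^ j := fun i hi => pow_pos (norm_pos_iff.2 (hne i hi)) j
  have h1 : 0 ≤ ∑ i ∈ s, Real.log (‖f i 1‖ ^ j) := by
    rw [← Real.log_prod (fun i hi => (hpos i hi).ne'), Finset.prod_pow]
    exact Real.log_nonneg (one_le_pow₀ h)
  have h2 : ∑ i ∈ s, Real.log (‖f i 1‖ ^ j) ≤ ∑ i ∈ s, (‖f i 1‖ ^ j - 1) :=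
    Finset.sum_le_sum fun i hi => Real.log_le_sub_one_of_pos (hpos i hi)
  rw [Finset.sum_sub_distrib, Finset.sum_const, nsmul_eq_mul, mul_one] at h2
  linarith

end Family

variable {G : Type u} [Group G] [Finite G]

theorem isCyclo_char {χ : G → ℂ} (hχ : Cfsg.IsCharacter G χ) (g : G) :
    IsCyclo (Nat.card G) (fun k => χ (g ^ k)) := by
  obtain ⟨d, ρ, rfl⟩ := hχ
  obtain ⟨ι, hι, b, μ, -, h2, h3, -⟩ := CfsgLib.Char.exists_char_eigen ρ g
  have hn : Nat.card G ≠ 0 := Nat.card_pos.ne'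
  have : NeZero (Nat.card G) := ⟨hn⟩
  obtain ⟨c, hc⟩ := orderOf_dvd_natCard g
  have hj : ∀ i, ∃ j, zetaN (Nat.card G) ^ j = μ i := fun i => by
    obtain ⟨j, -, hj⟩ := (zetaN_isPrimitiveRoot hn).eq_pow_of_pow_eq_one
      (show μ i ^ Nat.card G = 1 by rw [hc, pow_mul, h2, one_pow])
    exact ⟨j, hj⟩
  choose j hj using hj
  refine ⟨∑ i, X ^ j i, fun k => ?_⟩
  show ρ.character (g ^ k) = _
  rw [h3, map_sum]
  refine Finset.sum_congr rfl fun i _ => ?_
  rw [map_pow, aeval_X, ← pow_mul, mul_comm, pow_mul, hj]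

/-- The Galois conjugate of an irreducible character. -/
def galIrr {k : ℕ} (hk : k.Coprime (Nat.card G)) (χ : Cfsg.IrrCharacter G) :
    Cfsg.IrrCharacter G :=
  ⟨fun g => (χ : G → ℂ) (g ^ k), CfsgLib.BlockA.isIrrCharacter_comp_pow hk χ.2⟩

theorem galIrr_injective {k : ℕ} (hk : k.Coprime (Nat.card G)) :
    Function.Injective (galIrr (G := G) hk) := by
  intro χ ψ h
  apply Subtype.ext
  funext g
  obtain ⟨x, rfl⟩ := (powCoprime hk.symm).surjective g
  exact congr_fun (congrArg Subtype.val h) x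

theorem exists_powCoprime_perm {k : ℕ} (hk : k.Coprime (Nat.card G)) (T : Finset G)
    (hT : ∀ g ∈ T, g ^ k ∈ T) :
    ∃ e : {g // g ∈ T} ≃ {g // g ∈ T}, ∀ g : {g // g ∈ T}, (e g).1 = g.1 ^ k := by
  refine ⟨Equiv.ofBijective (fun g => ⟨g.1 ^ k, hT g.1 g.2⟩) ⟨?_, ?_⟩, fun g => rfl⟩
  · intro a b h
    exact Subtype.ext ((powCoprime hk.symm).injective (congrArg Subtype.val h))
  · refine Finite.surjective_of_injective fun a b h => ?_
    exact Subtype.ext ((powCoprime hk.symm).injective (congrArg Subtype.val h))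

theorem exists_galIrr_perm {k : ℕ} (hk : k.Coprime (Nat.card G))
    (S : Finset (Cfsg.IrrCharacter G)) (hS : ∀ χ ∈ S, galIrr hk χ ∈ S) :
    ∃ e : {χ // χ ∈ S} ≃ {χ // χ ∈ S}, ∀ χ : {χ // χ ∈ S}, (e χ).1 = galIrr hk χ.1 := by
  refine ⟨Equiv.ofBijective (fun χ => ⟨galIrr hk χ.1, hS χ.1 χ.2⟩) ⟨?_, ?_⟩, fun χ => rfl⟩
  · intro a b h
    exact Subtype.ext (galIrr_injective hk (congrArg Subtype.val h))
  · refine Finite.surjective_of_injective fun a b h => ?_
    exact Subtype.ext (galIrr_injective hk (congrArg Subtype.val h))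

/-- Galois conjugation preserves zeros. -/
theorem char_pow_eq_zero_iff {χ : G → ℂ} (hχ : Cfsg.IsCharacter G χ) {k : ℕ}
    (hk : k.Coprime (Nat.card G)) (g : G) : χ (g ^ k) = 0 ↔ χ g = 0 := by
  have key : ∀ (g : G) {k : ℕ}, k.Coprime (Nat.card G) → χ g = 0 → χ (g ^ k) = 0 := by
    intro g k hk h0
    have hn : Nat.card G ≠ 0 := Nat.card_pos.ne'
    obtain ⟨P, hP⟩ := isCyclo_char hχ g
    have h1 := hP 1
    have h2 := hP k
    simp only [pow_one] at h1 h2
    rw [h0] at h1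
    show χ (g ^ k) = 0
    rw [h2]
    have hζ := zetaN_isPrimitiveRoot hn
    have hmin : minpoly ℤ (zetaN (Nat.card G)) ∣ P :=
      minpoly.isIntegrallyClosed_dvd (hζ.isIntegral (Nat.pos_of_ne_zero hn)) h1.symm
    obtain ⟨Q, rfl⟩ := hmin
    have hcop : IsPrimitiveRoot (zetaN (Nat.card G) ^ k) (Nat.card G) :=
      hζ.pow_of_coprime k hk
    rw [map_mul, IsPrimitiveRoot.minpoly_eq_pow_coprime hζ hk, minpoly.aeval, zero_mul]
  refine ⟨fun h => ?_, key g hk⟩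
  obtain ⟨m, hm1, hm2⟩ : ∃ m : ℕ, m.Coprime (Nat.card G) ∧ (g ^ k) ^ m = g := by
    obtain ⟨m, -, hm⟩ := Nat.exists_mul_mod_eq_of_coprime 1 hk Nat.card_pos.ne'
    refine ⟨m, ?_, ?_⟩
    · refine Nat.Coprime.coprime_mul_left (k := k) ?_
      have : Nat.gcd (Nat.card G) (k * m) = 1 := by
        rw [Nat.gcd_rec, hm]
        rcases eq_or_ne (Nat.card G) 1 with e | e
        · simp [e]
        · rw [Nat.one_mod_eq_one.2 e, Nat.gcd_one_left]
      exact Nat.coprime_comm.1 this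
    · rw [← pow_mul]
      have : k * m ≡ 1 [MOD Nat.card G] := hm
      exact (pow_eq_pow_iff_modEq.2 (this.of_dvd (orderOf_dvd_natCard g))).trans (pow_one g)
  have := key (g ^ k) hm1 h
  rwa [hm2] at this

end CfsgLib.BlockB
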