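import Cfsg.Agent.Lib.BlockB.DefectZero
import Cfsg.Agent.Lib.Char.Linear
import Cfsg.Agent.Lib.Char.Induce
import Cfsg.Prelude.Def_Solvable
import Mathlib.GroupTheory.Sylow

/-!
# Kernels and codegrees of irreducible characters
-/

namespace CfsgLib.BlockB

open scoped ComplexConjugate
open CfsgLib.Char Module

universe u

variable {G : Type u} [Group G] [Finite G]

/-- The kernel of an irreducible character. -/
def charKer (χ : Cfsg.IrrCharacter G) : Subgroup G where
  carrier := {g | (χ : G → ℂ) g = (χ : G → ℂ) 1}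
  one_mem' := rfl
  mul_mem' := by
    intro a b ha hb
    obtain ⟨χ, n, ρ, hρ, rfl⟩ := χ
    exact (mem_ker_iff_char ρ (a * b)).1
      (Subgroup.mul_mem _ ((mem_ker_iff_char ρ a).2 ha) ((mem_ker_iff_char ρ b).2 hb))
  inv_mem' := by
    intro a ha
    obtain ⟨χ, n, ρ, hρ, rfl⟩ := χ
    exact (mem_ker_iff_char ρ a⁻¹).1 (Subgroup.inv_mem _ ((mem_ker_iff_char ρ a).2 ha))

theorem mem_charKer {χ : Cfsg.IrrCharacter G} {g : G} :
    g ∈ charKer χ ↔ (χ : G → ℂ) g = (χ : G → ℂ) 1 := Iff.rfl

instance charKer_normal (χ : Cfsg.IrrCharacter G) : (charKer χ).Normal :=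
  ⟨fun n hn g => by rw [mem_charKer, irr_isClassFunction χ.2 n g]; exact hn⟩

theorem natCard_ker_subtype (χ : Cfsg.IrrCharacter G) :
    Nat.card {g : G // (χ : G → ℂ) g = (χ : G → ℂ) 1} = Nat.card (charKer χ) := rfl

/-- An irreducible character as a faithful character of the quotient by its kernel. -/
theorem exists_faithful_lift (χ : Cfsg.IrrCharacter G) :
    ∃ ψ : Cfsg.IrrCharacter (G ⧸ charKer χ),
      (∀ g : G, (ψ : G ⧸ charKer χ → ℂ) g = (χ : G → ℂ) g) ∧
      Cfsg.charDegree (ψ : G ⧸ charKer χ → ℂ) = Cfsg.charDegree (χ : G → ℂ) ∧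
      ∀ x, (ψ : G ⧸ charKer χ → ℂ) x = (ψ : G ⧸ charKer χ → ℂ) 1 → x = 1 := by
  obtain ⟨ψ, hψ, h⟩ := isIrr_quotient_lift (charKer χ) χ.2 (fun n hn => hn)
  have e : ∀ g : G, ψ g = (χ : G → ℂ) g := fun g => (congr_fun h g).symm
  refine ⟨⟨ψ, hψ⟩, e, ?_, ?_⟩
  · have : (Cfsg.charDegree ψ : ℂ) = (Cfsg.charDegree (χ : G → ℂ) : ℂ) := by
      rw [irr_degree_cast χ, charDegree_cast (irr_isCharacter hψ), ← e 1]
      rfl
    exact_mod_cast this
  · intro x
    induction x using QuotientGroup.induction_on with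
    | H g =>
      intro hg
      refine (QuotientGroup.eq_one_iff g).2 ?_
      rw [mem_charKer, ← e g, ← e 1]
      exact hg

theorem degree_dvd_index_charKer (χ : Cfsg.IrrCharacter G) :
    Cfsg.charDegree (χ : G → ℂ) ∣ (charKer χ).index := by
  obtain ⟨ψ, -, hd, -⟩ := exists_faithful_lift χ
  rw [← hd, Subgroup.index_eq_card]
  exact irr_degree_dvd_card ψ

/-- The codegree. -/
noncomputable def codeg (χ : Cfsg.IrrCharacter G) : ℕ :=
  Nat.card G / (Nat.card {g : G // (χ : G → ℂ) g = (χ : G → ℂ) 1} * Cfsg.charDegree (χ : G → ℂ))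

theorem codeg_mul_degree (χ : Cfsg.IrrCharacter G) :
    codeg χ * Cfsg.charDegree (χ : G → ℂ) = (charKer χ).index := by
  rw [codeg, natCard_ker_subtype, ← Nat.div_div_eq_div_mul,
    show Nat.card G / Nat.card (charKer χ) = (charKer χ).index from by
      rw [← (charKer χ).card_mul_index, Nat.mul_div_cancel_left _ Nat.card_pos],
    Nat.div_mul_cancel (degree_dvd_index_charKer χ)]

theorem codeg_dvd_card (χ : Cfsg.IrrCharacter G) : codeg χ ∣ Nat.card G :=
  (Dvd.intro _ (codeg_mul_degree χ)).trans (Subgroup.index_dvd_card _)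

theorem exists_prime_dvd_codeg {p : ℕ} [Fact p.Prime] (hp : p ∣ Nat.card G) :
    ∃ χ : Cfsg.IrrCharacter G, p ∣ codeg χ := by
  classical
  have := Fintype.ofFinite G
  have := Fintype.ofFinite (Cfsg.IrrCharacter G)
  by_contra hne
  push Not at hne
  obtain ⟨x, hx⟩ := exists_prime_orderOf_dvd_card' p hp
  have hx1 : x ≠ 1 := fun e => (Fact.out : p.Prime).ne_one (by rw [← hx, e, orderOf_one])
  have hval : ∀ χ : Cfsg.IrrCharacter G, (χ : G → ℂ) 1 * (χ : G → ℂ) x =
      ((if x ∈ charKer χ then ‖(χ : G → ℂ) 1‖ ^ 2 else 0 : ℝ) : ℂ) := by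
    intro χ
    split_ifs with hk
    · rw [mem_charKer.1 hk, ← irr_degree_cast χ, Complex.norm_natCast]
      push_cast
      ring
    · obtain ⟨ψ, hval, hd, -⟩ := exists_faithful_lift χ
      have h0 : (ψ : G ⧸ charKer χ → ℂ) (x : G ⧸ charKer χ) = 0 := by
        refine irr_apply_eq_zero_of_defect_zero (p := p) ψ ?_ ?_
        · rw [hd, ← Subgroup.index_eq_card, ← codeg_mul_degree χ]
          have hc : codeg χ ≠ 0 := fun e => hne χ (e ▸ dvd_zero p)
          rw [Nat.factorization_mul hc (irr_degree_ne_zero χ), Finsupp.add_apply,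
            Nat.factorization_eq_zero_of_not_dvd (hne χ), zero_add]
          exact Nat.ordProj_dvd _ _
        · have h1 : orderOf (x : G ⧸ charKer χ) ∣ p :=
            hx ▸ orderOf_map_dvd (QuotientGroup.mk' (charKer χ)) x
          rcases (Nat.dvd_prime (Fact.out : p.Prime)).1 h1 with h | h
          · exact absurd ((QuotientGroup.eq_one_iff x).1 (orderOf_eq_one_iff.1 h)) hk
          · rw [h]
      rw [← hval x, h0, mul_zero, Complex.ofReal_zero]
  have h := sum_irr_mul_degree x
  rw [if_neg hx1, Finset.sum_congr rfl (fun χ _ => hval χ), ← Complex.ofReal_sum,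
    Complex.ofReal_eq_zero,
    Finset.sum_eq_zero_iff_of_nonneg (fun χ _ => by split <;> positivity)] at h
  have h1 := h ⟨fun _ => 1, isIrrCharacter_one⟩ (Finset.mem_univ _)
  rw [if_pos (mem_charKer.2 rfl : x ∈ charKer (⟨fun _ => 1, isIrrCharacter_one⟩ : Cfsg.IrrCharacter G))] at h1
  simp at h1

theorem eq_one_of_charKer_eq_top (χ : Cfsg.IrrCharacter G) (h : charKer χ = ⊤) :
    (χ : G → ℂ) = fun _ => 1 := by
  have := Fintype.ofFinite G
  have hc : ∀ g, (χ : G → ℂ) g = (χ : G → ℂ) 1 := fun g => mem_charKer.1 (h ▸ Subgroup.mem_top g)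
  have hs := irr_classInner_self χ.2
  obtain ⟨d, hd⟩ := char_apply_one_eq_nat (irr_isCharacter χ.2)
  simp only [classInner_def, hc, Finset.sum_const, Finset.card_univ, nsmul_eq_mul,
    ← Nat.card_eq_fintype_card, ← mul_assoc, inv_mul_cancel₀ natCard_ne_zero, one_mul, hd,
    Complex.conj_natCast] at hs
  have : d = 1 := Nat.eq_one_of_mul_eq_one_right (m := d) (n := d) (by exact_mod_cast hs)
  funext g
  rw [hc, hd, this, Nat.cast_one]

theorem sum_degree_sq [Fintype (Cfsg.IrrCharacter G)] :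
    ∑ χ : Cfsg.IrrCharacter G, Cfsg.charDegree (χ : G → ℂ) ^ 2 = Nat.card G := by
  classical
  have := Fintype.ofFinite G
  have h := sum_irr_sq (G := G)
  simp only [← irr_degree_cast] at h
  exact_mod_cast h

/-- Some nontrivial irreducible character has degree prime to a prime divisor of the order. -/
theorem exists_ne_one_not_dvd_degree {p : ℕ} [Fact p.Prime] (hp : p ∣ Nat.card G) :
    ∃ χ : Cfsg.IrrCharacter G, (χ : G → ℂ) ≠ (fun _ => 1) ∧
      ¬ p ∣ Cfsg.charDegree (χ : G → ℂ) := by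
  classical
  have := Fintype.ofFinite (Cfsg.IrrCharacter G)
  by_contra hne
  push Not at hne
  let χ0 : Cfsg.IrrCharacter G := ⟨fun _ => 1, isIrrCharacter_one⟩
  have h0 : Cfsg.charDegree (χ0 : G → ℂ) = 1 := by
    have := irr_degree_cast χ0
    rw [show (χ0 : G → ℂ) 1 = 1 from rfl] at this
    exact_mod_cast this
  have h := sum_degree_sq (G := G)
  rw [← Finset.add_sum_erase _ _ (Finset.mem_univ χ0), h0] at h
  have h2 : p ∣ ∑ χ ∈ Finset.univ.erase χ0, Cfsg.charDegree (χ : G → ℂ) ^ 2 :=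
    Finset.dvd_sum fun χ hχ => dvd_pow (hne χ fun e =>
      (Finset.mem_erase.1 hχ).1 (Subtype.ext e)) two_ne_zero
  rw [← h, Nat.dvd_add_left h2, one_pow, Nat.dvd_one] at hp
  exact (Fact.out : p.Prime).ne_one hp

/-- A faithful character of prime codegree forces a self-centralizing normal Sylow subgroup of
prime order. -/
theorem exists_normal_of_prime_codeg {p : ℕ} [Fact p.Prime] (χ : Cfsg.IrrCharacter G)
    (hfaith : ∀ g : G, (χ : G → ℂ) g = (χ : G → ℂ) 1 → g = 1)
    (hcod : Nat.card G = p * Cfsg.charDegree (χ : G → ℂ)) :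
    ∃ P : Subgroup G, P.Normal ∧ Nat.card P = p ∧
      P.index = Cfsg.charDegree (χ : G → ℂ) ∧ ¬ p ∣ Cfsg.charDegree (χ : G → ℂ) ∧
      Subgroup.centralizer (P : Set G) = P := by
  classical
  have := Fintype.ofFinite G
  have := Fintype.ofFinite (Cfsg.IrrCharacter G)
  have hp : p.Prime := Fact.out
  set d := Cfsg.charDegree (χ : G → ℂ) with hd
  have hd0 : 0 < d := irr_degree_pos χ
  let χ0 : Cfsg.IrrCharacter G := ⟨fun _ => 1, isIrrCharacter_one⟩
  have hne : χ ≠ χ0 := by
    intro e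
    have : Subsingleton G := ⟨fun a b => by
      rw [hfaith a (by rw [e]), hfaith b (by rw [e])]⟩
    have h1 : Nat.card G = 1 := Nat.card_of_subsingleton 1
    rw [hcod] at h1
    exact hp.ne_one (Nat.eq_one_of_mul_eq_one_right h1)
  have hdp : d < p := by
    have h0 : Cfsg.charDegree (χ0 : G → ℂ) = 1 := by
      have := irr_degree_cast χ0
      rw [show (χ0 : G → ℂ) 1 = 1 from rfl] at this
      exact_mod_cast this
    have h := sum_degree_sq (G := G)
    rw [← Finset.add_sum_erase _ _ (Finset.mem_univ χ0), h0, hcod,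
      ← Finset.add_sum_erase _ _ (Finset.mem_erase.2 ⟨hne, Finset.mem_univ _⟩)] at h
    by_contra hle
    push Not at hle
    have := Nat.mul_le_mul_right d hle
    rw [sq d, one_pow] at h
    omega
  have hpd : ¬ p ∣ d := fun h => absurd (Nat.le_of_dvd hd0 h) (not_le.2 hdp)
  obtain ⟨S⟩ := Sylow.nonempty (p := p) (G := G)
  have hS : Nat.card (S : Subgroup G) = p := by
    rw [S.card_eq_multiplicity, hcod, Nat.factorization_mul hp.ne_zero hd0.ne']
    simp [Nat.factorization_eq_zero_of_not_dvd hpd, hp.factorization_self]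
  have hidx : (S : Subgroup G).index = d := by
    have := (S : Subgroup G).card_mul_index
    rw [hS, hcod] at this
    exact Nat.eq_of_mul_eq_mul_left hp.pos this
  have hn1 : Nat.card (Sylow p G) = 1 := by
    have h1 := card_sylow_modEq_one p G
    have h2 : Nat.card (Sylow p G) ≤ d := Nat.le_of_dvd hd0 (hidx ▸ S.card_dvd_index)
    rw [Nat.ModEq, Nat.mod_eq_of_lt (h2.trans_lt hdp), Nat.mod_eq_of_lt hp.one_lt] at h1
    exact h1
  have hSn : (S : Subgroup G).Normal := by
    rw [← Subgroup.normalizer_eq_top_iff, ← Subgroup.index_eq_one]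
    exact S.card_eq_index_normalizer.symm.trans hn1
  refine ⟨S, hSn, hS, hidx, hpd, ?_⟩
  set P : Subgroup G := (S : Subgroup G)
  have hPcyc : IsCyclic P := isCyclic_of_prime_card hS
  have hcomm : ∀ a b : P, a * b = b * a := fun a b => mul_comm' a b
  have hres : Cfsg.IsCharacter P (fun y : P => (χ : G → ℂ) y) :=
    isCharacter_restrict (irr_isCharacter χ.2) P
  obtain ⟨μ, hμ⟩ : ∃ μ : Cfsg.IrrCharacter P,
      Cfsg.classInner (fun y : P => (χ : G → ℂ) y) (μ : P → ℂ) ≠ 0 := by
    by_contra h0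
    push Not at h0
    have hz : (fun y : P => (χ : G → ℂ) y) = 0 :=
      classFunction_eq_zero (isCharacter_isClassFunction hres) fun ψ hψ => h0 ⟨ψ, hψ⟩
    exact irr_apply_one_ne_zero χ.2 (congr_fun hz 1)
  have hIcl : Cfsg.IsCharacter G (Cfsg.indFun P (μ : P → ℂ)) :=
    isCharacter_indFun P (irr_isCharacter μ.2)
  have hμ' : Cfsg.classInner (Cfsg.indFun P (μ : P → ℂ)) (χ : G → ℂ) ≠ 0 := by
    rw [frobenius_reciprocity P _ _ (irr_isClassFunction χ.2), ← classInner_conj_symm]
    exact fun e => hμ (by simpa using e)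
  have hI1 : Cfsg.indFun P (μ : P → ℂ) 1 = (d : ℂ) := by
    rw [indFun_apply_one, hidx, irr_degree_one_of_comm hcomm μ.2, mul_one]
  have hIeq : Cfsg.indFun P (μ : P → ℂ) = (χ : G → ℂ) := by
    have hsum := classFunction_apply_eq_sum (isCharacter_isClassFunction hIcl) (1 : G)
    choose k hk using fun ψ : Cfsg.IrrCharacter G =>
      classInner_isCharacter_nat hIcl (irr_isCharacter ψ.2)
    simp only [hk, ← irr_degree_cast, hI1] at hsum
    have hsum' : d = ∑ ψ : Cfsg.IrrCharacter G, k ψ * Cfsg.charDegree (ψ : G → ℂ) := by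
      exact_mod_cast hsum
    rw [← Finset.add_sum_erase _ _ (Finset.mem_univ χ), ← hd] at hsum'
    have hk1 : 1 ≤ k χ := Nat.one_le_iff_ne_zero.2 fun e => hμ' (by rw [hk, e, Nat.cast_zero])
    have hle := Nat.mul_le_mul_right d hk1
    have hrest : ∑ ψ ∈ Finset.univ.erase χ, k ψ * Cfsg.charDegree (ψ : G → ℂ) = 0 := by omega
    have hkχ : k χ = 1 := by
      have h3 : k χ * d = 1 * d := by omega
      exact Nat.eq_of_mul_eq_mul_right hd0 h3
    rw [classFunction_eq_sum (isCharacter_isClassFunction hIcl), Finset.sum_eq_single χ]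
    · rw [hk, hkχ, Nat.cast_one, one_smul]
    · intro ψ _ hψ
      have := Finset.sum_eq_zero_iff.1 hrest ψ (Finset.mem_erase.2 ⟨hψ, Finset.mem_univ _⟩)
      rw [mul_eq_zero, or_iff_left (irr_degree_ne_zero ψ)] at this
      rw [hk, this, Nat.cast_zero, zero_smul]
    · exact fun h => absurd (Finset.mem_univ _) h
  set C := Subgroup.centralizer (P : Set G) with hC
  have hPC : P ≤ C := fun a ha => Subgroup.mem_centralizer_iff.2 fun b hb =>
    congrArg Subtype.val (hcomm ⟨b, hb⟩ ⟨a, ha⟩)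
  have h1 := irr_classInner_self χ.2
  nth_rw 1 [← hIeq] at h1
  rw [frobenius_reciprocity P _ _ (irr_isClassFunction χ.2), ← hIeq] at h1
  let μt : G → P → ℂ := fun t y =>
    (μ : P → ℂ) ⟨t⁻¹ * y * t, by simpa using hSn.conj_mem y y.2 t⁻¹⟩
  have hind : ∀ y : P, Cfsg.indFun P (μ : P → ℂ) (y : G) =
      (Nat.card P : ℂ)⁻¹ * ∑ t : G, μt t y := fun y => by
    rw [indFun_def]
    congr 1
    exact Finset.sum_congr rfl fun t _ => extendByZero_of_mem _ _
  have hchar : ∀ t : G, Cfsg.IsCharacter P (μt t) := fun t =>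
    isCharacter_comp (irr_isCharacter μ.2)
      (({ toFun := fun y => ⟨t⁻¹ * y * t, by simpa using hSn.conj_mem y y.2 t⁻¹⟩
          map_one' := Subtype.ext (by simp)
          map_mul' := fun a b => Subtype.ext (by simp [mul_assoc]) } : P →* P))
  choose k hk using fun t : G => classInner_isCharacter_nat (irr_isCharacter μ.2) (hchar t)
  have h2 : (Nat.card P : ℂ)⁻¹ * ∑ t : G, (k t : ℂ) = 1 := by
    rw [← h1]
    simp only [classInner_def, hind, map_mul, map_inv₀, Complex.conj_natCast, map_sum, ← hk]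
    simp only [Finset.mul_sum]
    rw [Finset.sum_comm]
    exact Finset.sum_congr rfl fun y _ => Finset.sum_congr rfl fun t _ => by ring
  rw [inv_mul_eq_iff_eq_mul₀ natCard_ne_zero, mul_one] at h2
  have h2' : ∑ t : G, k t = Nat.card P := by exact_mod_cast h2
  have hk1 : ∀ t ∈ C, k t = 1 := by
    intro t ht
    have e : μt t = (μ : P → ℂ) := funext fun y => congrArg (μ : P → ℂ) (Subtype.ext (by
      show t⁻¹ * (y : G) * t = y
      rw [mul_assoc, Subgroup.mem_centralizer_iff.1 ht y y.2, inv_mul_cancel_left]))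
    have := hk t
    rw [e, irr_classInner_self μ.2] at this
    exact_mod_cast this.symm
  have hcard : Nat.card C ≤ Nat.card P := by
    rw [← h2', Nat.card_eq_fintype_card, Fintype.card_subtype, Finset.card_eq_sum_ones]
    refine le_trans (le_of_eq (Finset.sum_congr rfl fun t ht => (hk1 t ?_).symm))
      (Finset.sum_le_sum_of_subset (Finset.filter_subset _ _))
    exact (Finset.mem_filter.1 ht).2
  exact (Subgroup.eq_of_le_of_card_ge hPC hcard).symm

end CfsgLib.BlockB
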