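import Cfsg.Agent.Lib.BlockB.ItoPSolvable
import Cfsg.Agent.Lib.Char.Burnside
import Cfsg.Agent.Lib.Char.Monomial
import Cfsg.Agent.Lib.Clifford.CentralTypeEmbed
import Cfsg.Agent.Lib.Clifford.Berger
import Cfsg.Agent.Lib.Clifford.Constituents
import Cfsg.Agent.Lib.Comp.Subnormal
import Cfsg.Agent.Lib.StructC.RelIndex
import Cfsg.Agent.Lib.InvChar.Basic
import Cfsg.Agent.Lib.OddLocal.FittingHall

/-!
Primitive characters of groups with two prime divisors and nilpotent quotient by a nilpotent normal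
subgroup: the degree divides a class size.
-/

set_option autoImplicit false
set_option linter.unusedSectionVars false

namespace CfsgLib.BlockB.PrimitiveClassSize

open CfsgLib
open scoped ComplexConjugate commutatorElement

universe u v

section Fixed

/-- The fixed points of an automorphism. -/
def fixedBy {V : Type v} [Group V] (h : MulAut V) : Subgroup V :=
  h.toMonoidHom.eqLocus (MonoidHom.id V)

theorem mem_fixedBy {V : Type v} [Group V] {h : MulAut V} {a : V} :
    a ∈ fixedBy h ↔ h a = a := Iff.rfl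

/-- A fixed-point-free nilpotent coprime group has an element with few fixed points. -/
theorem exists_small_fixed : ∀ (n : ℕ) (V : Type v) [Group V] [Finite V], Nat.card V ≤ n →
    (∀ a b : V, a * b = b * a) → ∀ R : Subgroup (MulAut V), Group.IsNilpotent R →
      (Nat.card R).Coprime (Nat.card V) → (∀ a : V, (∀ r ∈ R, r a = a) → a = 1) →
      ∃ h ∈ R, Nat.card (fixedBy h) * Nat.card (fixedBy h) ≤ Nat.card V := by
  intro n
  induction n using Nat.strong_induction_on with
  | _ n ih =>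
    intro V _ _ hn hab R hnil hcop hfix
    classical
    rcases eq_or_ne R ⊥ with hR | hR
    · refine ⟨1, R.one_mem, ?_⟩
      have h1 : ∀ a : V, a = 1 := fun a => hfix a fun r hr => by
        rw [Subgroup.mem_bot.1 (hR.le hr)]; rfl
      have hV : Subsingleton V := ⟨fun a b => (h1 a).trans (h1 b).symm⟩
      rw [Nat.card_unique (α := V), Nat.card_unique (α := fixedBy (1 : MulAut V))]
    have : Nontrivial R := (Subgroup.nontrivial_iff_ne_bot R).2 hR
    obtain ⟨z, hz, hz1⟩ := (Subgroup.center R).ne_bot_iff_exists_ne_one.1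
      (Group.IsNilpotent.center_ne_bot (G := R)) |> fun ⟨a, ha⟩ => (⟨a.1, a.2, fun e => ha (Subtype.ext e)⟩ :
        ∃ z : R, z ∈ Subgroup.center R ∧ z ≠ 1)
    set W : Subgroup V := fixedBy (z : MulAut V) with hW
    have hWne : W ≠ ⊤ := fun h => hz1 (Subtype.ext (MulEquiv.ext fun a =>
      mem_fixedBy.1 (show a ∈ W from h ▸ Subgroup.mem_top a)))
    have hcomm : ∀ r : R, ∀ a : V, (z : MulAut V) ((r : MulAut V) a) = (r : MulAut V) ((z : MulAut V) a) := by
      intro r a
      have h := congrArg (fun t : R => (t : MulAut V) a) (Subgroup.mem_center_iff.1 hz r)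
      exact h.symm
    have hmap : ∀ r : R, ∀ a ∈ W, (r : MulAut V) a ∈ W := fun r a ha => by
      rw [hW, mem_fixedBy, hcomm, mem_fixedBy.1 ha]
    let res : R →* MulAut W :=
      { toFun := fun r =>
          { toFun := fun a => ⟨(r : MulAut V) a, hmap r a a.2⟩
            invFun := fun a => ⟨((r⁻¹ : R) : MulAut V) a, hmap r⁻¹ a a.2⟩
            left_inv := fun a => Subtype.ext (by simp)
            right_inv := fun a => Subtype.ext (by simp)
            map_mul' := fun a b => Subtype.ext (map_mul (r : MulAut V) (a : V) b) }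
        map_one' := MulEquiv.ext fun a => Subtype.ext rfl
        map_mul' := fun r s => MulEquiv.ext fun a => Subtype.ext rfl }
    have hlt : Nat.card W < Nat.card V := lt_of_le_of_ne
      (Nat.le_of_dvd Nat.card_pos (Subgroup.card_subgroup_dvd_card W))
      fun h => hWne (Subgroup.eq_top_of_card_eq W h)
    obtain ⟨_, ⟨r, rfl⟩, hsmall⟩ := ih (Nat.card W) (lt_of_lt_of_le hlt hn) W le_rfl
      (fun a b => Subtype.ext (hab a b)) res.range
      (Group.nilpotent_of_surjective res.rangeRestrict res.rangeRestrict_surjective)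
      (Nat.Coprime.of_dvd (Subgroup.card_range_dvd res) (Subgroup.card_subgroup_dvd_card W) hcop)
      (fun a ha => Subtype.ext (hfix a fun t ht => congrArg Subtype.val (ha _ ⟨⟨t, ht⟩, rfl⟩)))
    set A : Subgroup V := fixedBy (r : MulAut V) with hA
    set B : Subgroup V := fixedBy ((r * z : R) : MulAut V) with hB
    have hWn : W.Normal := ⟨fun a ha g => by rwa [hab g a, mul_inv_cancel_right]⟩
    have hBi : ∀ b, b ∈ B ↔ (r : MulAut V) ((z : MulAut V) b) = b := fun b => Iff.rfl
    have hcW : ∀ a ∈ W, (a ∈ A ↔ a ∈ B) := fun a ha => by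
      rw [hBi, mem_fixedBy.1 ha]; rfl
    -- fixed points on the quotient
    have hquot : ∀ b : V, b⁻¹ * (z : MulAut V) b ∈ W → b ∈ W := by
      intro b hb
      set w := b⁻¹ * (z : MulAut V) b
      have hpow : ∀ k : ℕ, ((z ^ k : R) : MulAut V) b = b * w ^ k := by
        intro k
        induction k with
        | zero => simp
        | succ k ih' =>
          rw [pow_succ', Subgroup.coe_mul, MulAut.mul_apply, ih', map_mul, map_pow,
            mem_fixedBy.1 hb, pow_succ', ← mul_assoc]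
          simp [w]
      have h := hpow (orderOf z)
      rw [pow_orderOf_eq_one] at h
      have h1 : w ^ orderOf z = 1 := by simpa using h.symm
      have hw : w = 1 := by
        rw [← orderOf_eq_one_iff]
        exact Nat.eq_one_of_dvd_coprimes (hcop.coprime_dvd_left (orderOf_dvd_natCard z))
          (orderOf_dvd_of_pow_eq_one h1) (orderOf_dvd_natCard w)
      exact mem_fixedBy.2 (eq_of_inv_mul_eq_one hw).symm
    let f : A × B →* V ⧸ W :=
      { toFun := fun ab => QuotientGroup.mk ((ab.1 : V) * ab.2)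
        map_one' := by simp
        map_mul' := fun x y => by
          rw [← QuotientGroup.mk_mul]
          congr 1
          show (x.1 : V) * y.1 * ((x.2 : V) * y.2) = (x.1 : V) * x.2 * ((y.1 : V) * y.2)
          rw [mul_assoc, mul_assoc, ← mul_assoc (y.1 : V), hab (y.1 : V), mul_assoc] }
    let C : Subgroup W := fixedBy (res r)
    have hker : ∀ k ∈ f.ker, (k.1 : V) ∈ W ∧ (k.2 : V) ∈ W := by
      rintro ⟨⟨a, ha⟩, ⟨b, hb⟩⟩ hk
      have hk' : a * b ∈ W := (QuotientGroup.eq_one_iff (a * b)).1 hk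
      have hra : (r : MulAut V) a = a := ha
      have hrb : (r : MulAut V) b * b⁻¹ ∈ W := by
        have e : (r : MulAut V) b * b⁻¹ = (r : MulAut V) (a * b) * (a * b)⁻¹ := by
          rw [map_mul, hra, mul_inv_rev, hab a ((r : MulAut V) b), ← mul_assoc, mul_assoc _ a,
            hab a b⁻¹, ← mul_assoc, mul_assoc _ a, mul_inv_cancel, mul_one]
        rw [e]
        exact W.mul_mem (hmap r _ hk') (W.inv_mem hk')
      have hzb : b⁻¹ * (z : MulAut V) b ∈ W := by
        have e : (r : MulAut V) (b⁻¹ * (z : MulAut V) b) = ((r : MulAut V) b * b⁻¹)⁻¹ := by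
          rw [map_mul, map_inv, (hBi b).1 hb, mul_inv_rev, inv_inv, hab]
        have h1 := hmap r⁻¹ _ (e ▸ W.inv_mem hrb)
        simpa using h1
      have hbW : b ∈ W := hquot b hzb
      exact ⟨(Subgroup.mul_mem_cancel_right W hbW).1 hk', hbW⟩
    let ι : f.ker → C × C := fun k =>
      (⟨⟨k.1.1, (hker k.1 k.2).1⟩, Subtype.ext (mem_fixedBy.1 k.1.1.2)⟩,
       ⟨⟨k.1.2, (hker k.1 k.2).2⟩, Subtype.ext (mem_fixedBy.1
        ((hcW _ (hker k.1 k.2).2).2 k.1.2.2))⟩)
    have hι : Function.Injective ι := fun k l h => by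
      simp only [ι, Prod.mk.injEq] at h
      exact Subtype.ext (Prod.ext (Subtype.ext (congrArg (fun t : C => ((t : W) : V)) h.1))
        (Subtype.ext (congrArg (fun t : C => ((t : W) : V)) h.2)))
    have h1 : Nat.card A * Nat.card B = Nat.card f.ker * Nat.card f.range := by
      rw [← Nat.card_prod, Subgroup.card_eq_card_quotient_mul_card_subgroup f.ker,
        Nat.card_congr (QuotientGroup.quotientKerEquivRange f).toEquiv, mul_comm]
    have h2 : Nat.card A * Nat.card B ≤ Nat.card V := by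
      rw [h1, Subgroup.card_eq_card_quotient_mul_card_subgroup W, mul_comm (Nat.card f.ker)]
      refine Nat.mul_le_mul (Nat.le_of_dvd Nat.card_pos (Subgroup.card_subgroup_dvd_card _)) ?_
      refine (Nat.card_le_card_of_injective ι hι).trans ?_
      rw [Nat.card_prod]
      exact hsmall
    rcases le_total (Nat.card A) (Nat.card B) with h | h
    · exact ⟨r, r.2, (Nat.mul_le_mul_left _ h).trans h2⟩
    · exact ⟨(r * z : R), (r * z).2, (Nat.mul_le_mul_right _ h).trans h2⟩

end Fixed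

variable {G : Type u} [Group G] [Fintype G]

/-- Primitive: not induced from a proper subgroup. -/
def IsPrim (χ : G → ℂ) : Prop :=
  ¬ ∃ (H : Subgroup G), H ≠ ⊤ ∧ ∃ θ : H → ℂ, Cfsg.IsCharacter H θ ∧ Cfsg.indFun H θ = χ

theorem exists_homogeneous {χ : G → ℂ} (hχ : Cfsg.IsIrrCharacter G χ) (hprim : IsPrim χ)
    (N : Subgroup G) [N.Normal] [Fintype N] :
    ∃ (θ : N → ℂ) (e : ℕ), Cfsg.IsIrrCharacter N θ ∧ (fun n : N => χ n) = (e : ℂ) • θ ∧
      Cfsg.charDegree χ = e * Cfsg.charDegree θ ∧ e ≠ 0 := by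
  classical
  obtain ⟨θ, hθ, hne⟩ := Clifford.exists_irr_constituent_restrict (N := N) hχ
  by_cases hT : Clifford.inertia θ = ⊤
  · obtain ⟨i, hi⟩ := Char.classInner_isCharacter_nat
      (Char.isCharacter_restrict (Char.irr_isCharacter hχ) N) (Char.irr_isCharacter hθ)
    have h := Clifford.restrict_eq_smul_of_invariant hχ hθ
      (fun g => Clifford.mem_inertia_iff_conjFn.1 (hT ▸ Subgroup.mem_top g)) hne
    rw [hi] at h
    refine ⟨θ, i, hθ, h, ?_, fun h0 => hne (by rw [hi, h0, Nat.cast_zero])⟩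
    have h1 := congrFun h 1
    simp only [Pi.smul_apply, smul_eq_mul, OneMemClass.coe_one] at h1
    rw [← BlockB.charDegree_cast (Char.irr_isCharacter hχ),
      ← BlockB.charDegree_cast (Char.irr_isCharacter hθ)] at h1
    exact_mod_cast h1
  · have := Fintype.ofFinite (Clifford.inertia θ)
    obtain ⟨ψ, hψ, hind, -⟩ := Clifford.exists_indFun_inertia (Clifford.inertia θ)
      (Clifford.le_inertia (Char.irr_isClassFunction hθ)) hθ
      (fun g => Clifford.mem_inertia_iff_conjFn) hχ hne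
    exact absurd ⟨_, hT, ψ, Char.irr_isCharacter hψ, hind⟩ hprim

theorem sum_norm_sq_le {χ : G → ℂ} {N M : Subgroup G} [Fintype N] [Fintype M] (hNM : N ≤ M) :
    ∑ x : N, ‖χ x‖ ^ 2 ≤ ∑ x : M, ‖χ x‖ ^ 2 := by
  classical
  rw [← Finset.sum_subtype (Finset.univ.filter (· ∈ N)) (by simp) (fun x => ‖χ x‖ ^ 2),
    ← Finset.sum_subtype (Finset.univ.filter (· ∈ M)) (by simp) (fun x => ‖χ x‖ ^ 2)]
  exact Finset.sum_le_sum_of_subset_of_nonneg
    (fun x hx => Finset.mem_filter.2 ⟨Finset.mem_univ x, hNM (Finset.mem_filter.1 hx).2⟩)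
    (fun x _ _ => by positivity)

theorem sum_norm_sq_smul {Y : Type u} [Group Y] [Fintype Y] {θ : Y → ℂ}
    (hθ : Cfsg.IsIrrCharacter Y θ) (e : ℕ) :
    ∑ x, ‖((e : ℂ) • θ) x‖ ^ 2 = (e : ℝ) ^ 2 * Nat.card Y :=
  (Clifford.sumSq_smul e θ).trans (by rw [Clifford.sumSq_irr hθ])

/-- Multiplicities between two normal subgroups. -/
theorem multiplicity_step {χ : G → ℂ} {N M : Subgroup G} [N.Normal] [Fintype N] [Fintype M]
    (hNM : N ≤ M) {θ : N → ℂ} {η : M → ℂ} (hθ : Cfsg.IsIrrCharacter N θ)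
    (hη : Cfsg.IsIrrCharacter M η) {e f : ℕ} (hN : (fun n : N => χ n) = (e : ℂ) • θ)
    (hM : (fun m : M => χ m) = (f : ℂ) • η) (he : e ≠ 0) (hf : f ≠ 0) :
    ∃ m : ℕ, e = f * m ∧ m ∣ N.relIndex M ∧ m * m ≤ N.relIndex M := by
  classical
  let K := N.subgroupOf M
  have := Fintype.ofFinite K
  let ε : K ≃* N := Subgroup.subgroupOfEquivOfLe hNM
  let θ' : K → ℂ := θ ∘ ε
  have hθ' : Cfsg.IsIrrCharacter K θ' :=
    Char.isIrrCharacter_comp_surjective hθ ε.toMonoidHom ε.surjective
  have hres : (fun k : K => η k) = ((e : ℂ) / f) • θ' := by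
    funext k
    have h1 := congrFun hN (ε k)
    have h2 := congrFun hM (k : M)
    simp only [Pi.smul_apply, smul_eq_mul] at h1 h2 ⊢
    rw [show ((ε k : N) : G) = ((k : M) : G) from rfl, h2] at h1
    rw [div_mul_eq_mul_div, eq_div_iff (Nat.cast_ne_zero.2 hf), mul_comm, h1]
    rfl
  obtain ⟨m, hm, hdvd⟩ := Clifford.degree_quot_dvd_index (N := K) hη hθ' (by
    rw [hres, Char.classInner_smul_left, Char.irr_classInner_self hθ', mul_one]
    exact div_ne_zero (Nat.cast_ne_zero.2 he) (Nat.cast_ne_zero.2 hf))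
  have hem : e = f * m := by
    have h := congrFun hres 1
    simp only [Pi.smul_apply, smul_eq_mul, OneMemClass.coe_one] at h
    rw [hm] at h
    have h' := mul_right_cancel₀ (Char.irr_apply_one_ne_zero hθ') h
    rw [eq_div_iff (Nat.cast_ne_zero.2 hf)] at h'
    exact_mod_cast (h'.symm.trans (mul_comm _ _) : (e : ℂ) = f * m)
  refine ⟨m, hem, hdvd, ?_⟩
  have h := sum_norm_sq_le (χ := χ) hNM
  have e1 : ∑ x : N, ‖χ x‖ ^ 2 = (e : ℝ) ^ 2 * Nat.card N := by
    rw [← sum_norm_sq_smul hθ e, ← hN]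
  have e2 : ∑ x : M, ‖χ x‖ ^ 2 = (f : ℝ) ^ 2 * Nat.card M := by
    rw [← sum_norm_sq_smul hη f, ← hM]
  rw [e1, e2] at h
  have h' : e ^ 2 * Nat.card N ≤ f ^ 2 * Nat.card M := by exact_mod_cast h
  have hcard : Nat.card N * N.relIndex M = Nat.card M := by
    rw [← Nat.card_congr ε.toEquiv]
    exact Subgroup.card_mul_index K
  rw [hem, ← hcard] at h'
  refine Nat.le_of_mul_le_mul_left ?_
    (show 0 < f ^ 2 * Nat.card N from Nat.mul_pos (pow_pos (Nat.pos_of_ne_zero hf) 2) Nat.card_pos)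
  calc f ^ 2 * Nat.card N * (m * m) = (f * m) ^ 2 * Nat.card N := by ring
    _ ≤ f ^ 2 * (Nat.card N * N.relIndex M) := h'
    _ = f ^ 2 * Nat.card N * N.relIndex M := by ring

/-- With nilpotent quotient the restriction of a primitive character is irreducible. -/
theorem degree_eq_of_nilpotent_quotient {χ : G → ℂ} (hχ : Cfsg.IsIrrCharacter G χ)
    (hprim : IsPrim χ) : ∀ (n : ℕ) (N : Subgroup G) [N.Normal] [Fintype N], N.index ≤ n →
      Group.IsNilpotent (G ⧸ N) → ∀ (θ : N → ℂ) (e : ℕ), Cfsg.IsIrrCharacter N θ →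
      (fun x : N => χ x) = (e : ℂ) • θ → e ≠ 0 → e = 1 := by
  intro n
  induction n using Nat.strong_induction_on with
  | _ n ih =>
    intro N _ _ hn hnil θ e hθ hres he
    classical
    rcases eq_or_ne N ⊤ with htop | htop
    · have h1 : ∑ x : N, ‖χ x‖ ^ 2 = (e : ℝ) ^ 2 * Nat.card N := by
        rw [← sum_norm_sq_smul hθ e, ← hres]
      have h2 : ∑ x : N, ‖χ x‖ ^ 2 = Nat.card G := by
        rw [← Finset.sum_subtype (Finset.univ.filter (· ∈ N)) (by simp) (fun x => ‖χ x‖ ^ 2),
          ← Clifford.sumSq_irr hχ, Clifford.sumSq]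
        exact Finset.sum_congr (Finset.filter_true_of_mem fun x _ => htop ▸ Subgroup.mem_top x)
          fun _ _ => rfl
      rw [h2, show Nat.card N = Nat.card G by rw [htop, Subgroup.card_top]] at h1
      have h3 : (Nat.card G : ℕ) = e ^ 2 * Nat.card G := by exact_mod_cast h1
      have h4 : e ^ 2 = 1 := (Nat.eq_of_mul_eq_mul_right Nat.card_pos ((one_mul _).trans h3)).symm
      exact (pow_eq_one_iff_left two_ne_zero).1 h4
    have : Nontrivial (G ⧸ N) := QuotientGroup.nontrivial_iff.2 htop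
    have hc : Nontrivial (Subgroup.center (G ⧸ N)) := (Subgroup.nontrivial_iff_ne_bot _).2
      (Group.IsNilpotent.center_ne_bot (G := G ⧸ N))
    obtain ⟨r, hr, hrd⟩ := Nat.exists_prime_and_dvd
      (Finite.one_lt_card_iff_nontrivial.2 hc).ne'
    have : Fact r.Prime := ⟨hr⟩
    obtain ⟨⟨z, hz⟩, hzo⟩ := exists_prime_orderOf_dvd_card' r hrd
    rw [Subgroup.orderOf_mk] at hzo
    have hzn : (Subgroup.zpowers z).Normal := ⟨fun a ha g => by
      rwa [Subgroup.mem_center_iff.1 (Subgroup.zpowers_le.2 hz ha) g, mul_inv_cancel_right]⟩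
    let M : Subgroup G := (Subgroup.zpowers z).comap (QuotientGroup.mk' N)
    have : M.Normal := hzn.comap _
    have := Fintype.ofFinite M
    have hNM : N ≤ M := fun x hx => by
      show (QuotientGroup.mk' N x) ∈ Subgroup.zpowers z
      rw [QuotientGroup.mk'_apply, (QuotientGroup.eq_one_iff x).2 hx]
      exact Subgroup.one_mem _
    have hMi : M.index * r = N.index := by
      rw [Subgroup.index_comap_of_surjective _ (QuotientGroup.mk'_surjective N), ← hzo,
        ← Nat.card_zpowers, Subgroup.index_mul_card, Subgroup.index_eq_card]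
    have hrel : N.relIndex M = r := by
      have h := Subgroup.relIndex_mul_index hNM
      rw [← hMi, mul_comm M.index] at h
      exact Nat.eq_of_mul_eq_mul_right (Nat.pos_of_ne_zero M.index_ne_zero_of_finite) h
    have hMlt' : M.index < N.index :=
      hMi ▸ lt_mul_of_one_lt_right (Nat.pos_of_ne_zero M.index_ne_zero_of_finite) hr.one_lt
    have hMlt : M.index < n := hMlt'.trans_le hn
    obtain ⟨η, f, hη, hMres, -, hf⟩ := exists_homogeneous hχ hprim M
    have hf1 : f = 1 := ih M.index hMlt M le_rfl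
      (Group.nilpotent_of_surjective (QuotientGroup.map N M (MonoidHom.id G) hNM) fun y => by
        obtain ⟨x, rfl⟩ := QuotientGroup.mk_surjective y
        exact ⟨QuotientGroup.mk x, rfl⟩) η f hη hMres hf
    obtain ⟨m, hm, hmd, hmle⟩ := multiplicity_step hNM hθ hη hres hMres he hf
    rw [hrel] at hmd hmle
    rcases (Nat.dvd_prime hr).1 hmd with h | h
    · rw [hm, hf1, h]
    · rw [h] at hmle
      exact absurd hmle (not_le.2 (lt_mul_of_one_lt_right hr.pos hr.one_lt))

section Rep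

variable {d : ℕ} {σ : Representation ℂ G (Fin d → ℂ)} [hσ : σ.IsIrreducible]

theorem irr : Cfsg.IsIrrCharacter G σ.character := ⟨d, σ, hσ, rfl⟩

theorem scalar_comm {z : G} (hz : z ∈ Char.scalarSubgroup σ) (g : G) : σ (z * g) = σ (g * z) := by
  obtain ⟨ω, hω⟩ := hz
  rw [map_mul, map_mul, hω, ← Module.End.one_eq_id, smul_mul_assoc, mul_smul_comm, one_mul,
    mul_one]

theorem degree_char : Cfsg.charDegree σ.character = d := by
  have h := BlockB.charDegree_cast (Char.irr_isCharacter (irr (σ := σ)))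
  rw [Representation.char_one, Module.finrank_fin_fun] at h
  exact_mod_cast h

/-- Normal subgroups with commutative image consist of scalars. -/
theorem le_scalar (hprim : IsPrim σ.character) (A : Subgroup G) [A.Normal]
    (hA : ∀ a ∈ A, ∀ b ∈ A, σ (a * b) = σ (b * a)) : A ≤ Char.scalarSubgroup σ := by
  classical
  have := Fintype.ofFinite A
  obtain ⟨θ, e, hθ, hres, hdeg, he⟩ := exists_homogeneous irr hprim A
  obtain ⟨k, τ, hτ, rfl⟩ := hθ
  rw [degree_char] at hdeg
  have hk : Cfsg.charDegree τ.character = k := by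
    have h := BlockB.charDegree_cast (Char.irr_isCharacter (⟨k, τ, hτ, rfl⟩ :
      Cfsg.IsIrrCharacter A τ.character))
    rw [Representation.char_one, Module.finrank_fin_fun] at h
    exact_mod_cast h
  rw [hk] at hdeg
  have hker : ∀ c : A, σ (c : G) = 1 → τ c = 1 := by
    intro c hc
    have h1 := congrFun hres c
    simp only [Pi.smul_apply, smul_eq_mul] at h1
    have hχc : σ.character (c : G) = (d : ℂ) := by
      show LinearMap.trace ℂ _ (σ (c : G)) = _
      rw [hc, LinearMap.trace_one, Module.finrank_fin_fun]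
    rw [hχc, hdeg, Nat.cast_mul] at h1
    have h2 : τ.character c = (k : ℂ) := (mul_left_cancel₀ (Nat.cast_ne_zero.2 he) h1).symm
    obtain ⟨ω, hω⟩ := (Char.norm_char_eq_iff τ c).1 (by
      rw [h2, Module.finrank_fin_fun, Complex.norm_natCast])
    have hk0 : (k : ℂ) ≠ 0 := by
      rw [← hk]
      exact (BlockB.charDegree_cast (Char.irr_isCharacter (⟨k, τ, hτ, rfl⟩ :
        Cfsg.IsIrrCharacter A τ.character))) ▸ Char.irr_apply_one_ne_zero ⟨k, τ, hτ, rfl⟩
    have hω1 : ω = 1 := by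
      have h3 : LinearMap.trace ℂ _ (τ c) = (k : ℂ) := h2
      rw [hω, map_smul, LinearMap.trace_id, Module.finrank_fin_fun, smul_eq_mul] at h3
      exact mul_right_cancel₀ hk0 (h3.trans (one_mul _).symm)
    rw [hω, hω1, one_smul, Module.End.one_eq_id]
  intro a ha
  obtain ⟨ω, hω⟩ := Char.exists_scalar_of_commute τ (τ ⟨a, ha⟩) fun g => by
    rw [← Module.End.mul_eq_comp, ← Module.End.mul_eq_comp, ← map_mul, ← map_mul]
    have h : τ ((⟨a, ha⟩ * g) * (g * ⟨a, ha⟩)⁻¹) = 1 := by
      refine hker _ ?_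
      show σ (a * g * (g * a)⁻¹) = 1
      rw [map_mul, hA a ha g g.2, ← map_mul, mul_inv_cancel, map_one]
    calc τ (⟨a, ha⟩ * g) = τ ((⟨a, ha⟩ * g) * (g * ⟨a, ha⟩)⁻¹) * τ (g * ⟨a, ha⟩) := by
          rw [← map_mul, inv_mul_cancel_right]
      _ = τ (g * ⟨a, ha⟩) := by rw [h, one_mul]
  refine (Char.norm_char_eq_iff σ a).1 ?_
  have h1 := congrFun hres ⟨a, ha⟩
  simp only [Pi.smul_apply, smul_eq_mul] at h1
  rw [h1, norm_mul, Complex.norm_natCast, (Char.norm_char_eq_iff τ _).2 ⟨ω, hω⟩,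
    Module.finrank_fin_fun, Module.finrank_fin_fun, hdeg, Nat.cast_mul]

theorem commutatorElement_scalar {z : G} (hz : z ∈ Char.scalarSubgroup σ) (g : G) :
    QuotientGroup.mk' (MonoidHom.ker σ) z * QuotientGroup.mk' (MonoidHom.ker σ) g =
      QuotientGroup.mk' (MonoidHom.ker σ) g * QuotientGroup.mk' (MonoidHom.ker σ) z := by
  rw [← map_mul, ← map_mul, QuotientGroup.mk'_eq_mk']
  refine ⟨(z * g)⁻¹ * (g * z), ?_, by group⟩
  rw [MonoidHom.mem_ker, map_mul, ← scalar_comm hz g, ← map_mul, inv_mul_cancel, map_one]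

/-- An element commuting with everything modulo scalars is a scalar. -/
theorem mem_scalar_of_central (hprim : IsPrim σ.character) {x : G}
    (hx : ∀ g : G, ⁅g, x⁆ ∈ Char.scalarSubgroup σ) : x ∈ Char.scalarSubgroup σ := by
  have : (Char.scalarSubgroup σ).Normal := Char.scalarSubgroup_normal σ
  let π := QuotientGroup.mk' (Char.scalarSubgroup σ)
  have hc : π x ∈ Subgroup.center _ := Subgroup.mem_center_iff.2 fun y => by
    obtain ⟨g, rfl⟩ := QuotientGroup.mk'_surjective _ y
    refine commutatorElement_eq_one_iff_mul_comm.1 ?_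
    rw [← map_commutatorElement]
    exact (QuotientGroup.eq_one_iff _).2 (hx g)
  have : (Subgroup.zpowers (π x)).Normal := ⟨fun a ha g => by
    rwa [Subgroup.mem_center_iff.1 (Subgroup.zpowers_le.2 hc ha) g, mul_inv_cancel_right]⟩
  have hle := le_scalar hprim ((Subgroup.zpowers (π x)).comap π) ?_
  · exact hle (Subgroup.mem_zpowers (π x))
  have hdec : ∀ a ∈ (Subgroup.zpowers (π x)).comap π,
      ∃ (i : ℤ) (z : G), z ∈ Char.scalarSubgroup σ ∧ a = x ^ i * z := by
    intro a ha
    obtain ⟨i, hi⟩ := Subgroup.mem_zpowers_iff.1 ha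
    refine ⟨i, (x ^ i)⁻¹ * a, ?_, by group⟩
    rw [← QuotientGroup.eq_one_iff]
    show π _ = 1
    rw [map_mul, map_inv, map_zpow, hi, inv_mul_cancel]
  intro a ha b hb
  obtain ⟨i, z, hz, rfl⟩ := hdec a ha
  obtain ⟨j, w, hw, rfl⟩ := hdec b hb
  have c1 := scalar_comm hz
  have c2 := scalar_comm hw
  simp only [map_mul] at c1 c2 ⊢
  have hij : σ (x ^ i) * σ (x ^ j) = σ (x ^ j) * σ (x ^ i) := by
    rw [← map_mul, ← map_mul, ← zpow_add, ← zpow_add, add_comm]
  calc σ (x ^ i) * σ z * (σ (x ^ j) * σ w)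
      = σ (x ^ i) * σ (x ^ j) * (σ z * σ w) := by
        rw [mul_assoc, ← mul_assoc (σ z), c1, mul_assoc (σ (x ^ j)), ← mul_assoc]
    _ = σ (x ^ j) * σ (x ^ i) * (σ w * σ z) := by rw [hij, c1]
    _ = σ (x ^ j) * σ w * (σ (x ^ i) * σ z) := by
        rw [mul_assoc, ← mul_assoc (σ (x ^ i)), ← c2, mul_assoc (σ w), ← mul_assoc]

/-- A normal `p`-subgroup is commutative modulo scalars. -/
theorem commutator_le_scalar (hprim : IsPrim σ.character) {p : ℕ} [Fact p.Prime]
    (P : Subgroup G) [P.Normal] (hP : IsPGroup p P) :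
    ⁅P, P⁆ ≤ Char.scalarSubgroup σ := by
  classical
  set Z := Char.scalarSubgroup σ with hZ
  have : Z.Normal := Char.scalarSubgroup_normal σ
  let π := QuotientGroup.mk' Z
  have hπ : Function.Surjective π := QuotientGroup.mk'_surjective Z
  have : (P.map π).Normal := (inferInstance : P.Normal).map π hπ
  have : (Subgroup.centralizer ((P.map π : Subgroup (G ⧸ Z)) : Set (G ⧸ Z))).Normal := inferInstance
  let J : Subgroup G := ⁅P, P⁆ ⊓ (Subgroup.centralizer ((P.map π : Subgroup _) : Set (G ⧸ Z))).comap π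
  have : J.Normal := inferInstance
  have hJ : J ≤ Z := by
    refine le_scalar hprim J ?_
    let κ := QuotientGroup.mk' (MonoidHom.ker σ)
    have hcen : ⁅J.map κ, P.map κ⁆ ≤ Subgroup.center _ := by
      rw [← Subgroup.map_commutator]
      rintro _ ⟨c, hc, rfl⟩
      refine Subgroup.mem_center_iff.2 fun y => ?_
      obtain ⟨g, rfl⟩ := QuotientGroup.mk'_surjective _ y
      refine (commutatorElement_scalar ?_ g).symm
      refine (show ⁅J, P⁆ ≤ Z from Subgroup.commutator_le.2 fun j hj y hy => ?_) hc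
      rw [← QuotientGroup.eq_one_iff (N := Z)]
      show π _ = 1
      rw [map_commutatorElement, commutatorElement_eq_one_iff_mul_comm]
      exact ((Subgroup.mem_centralizer_iff.1 hj.2) (π y) ⟨y, hy, rfl⟩).symm
    have h3 : ⁅⁅P.map κ, J.map κ⁆, P.map κ⁆ = ⊥ := by
      rw [Subgroup.commutator_comm (P.map κ) (J.map κ),
        Subgroup.commutator_eq_bot_iff_le_centralizer]
      exact hcen.trans (Subgroup.center_le_centralizer _)
    have h4 : ⁅⁅J.map κ, P.map κ⁆, P.map κ⁆ = ⊥ := by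
      rw [Subgroup.commutator_comm (J.map κ) (P.map κ)]; exact h3
    have h5 : ⁅⁅P.map κ, P.map κ⁆, J.map κ⁆ = ⊥ :=
      Subgroup.commutator_commutator_eq_bot_of_rotate h3 h4
    intro a ha b hb
    have hb' : κ b ∈ J.map κ := ⟨b, hb, rfl⟩
    have ha' : κ a ∈ ⁅P.map κ, P.map κ⁆ := by
      rw [← Subgroup.map_commutator]; exact ⟨a, ha.1, rfl⟩
    have h6 := Subgroup.mem_bot.1 (h5 ▸ Subgroup.commutator_mem_commutator ha' hb')
    rw [← map_commutatorElement] at h6
    have h7 : σ ⁅a, b⁆ = 1 := MonoidHom.mem_ker.1 ((QuotientGroup.eq_one_iff _).1 h6)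
    calc σ (a * b) = σ ⁅a, b⁆ * σ (b * a) := by rw [← map_mul, commutatorElement_def]; group
      _ = σ (b * a) := by rw [h7, one_mul]
  by_contra hle
  have hPp : IsPGroup p (P.map π) := hP.map π
  have hne : (⁅P, P⁆.map π).subgroupOf (P.map π) ≠ ⊥ := by
    rw [Ne, Subgroup.subgroupOf_eq_bot, disjoint_iff,
      inf_eq_left.2 (Subgroup.map_mono (Subgroup.commutator_le_left P P)), Subgroup.map_eq_bot_iff,
      QuotientGroup.ker_mk']
    exact hle
  have : ((⁅P, P⁆.map π).subgroupOf (P.map π)).Normal :=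
    ((inferInstance : ⁅P, P⁆.Normal).map π hπ).subgroupOf _
  obtain ⟨z, hz, hz1, hzc⟩ := InvChar.exists_mem_center_of_normal hPp _ hne
  obtain ⟨x, hx, hxz⟩ := Subgroup.mem_subgroupOf.1 hz
  refine hz1 (Subtype.ext ?_)
  rw [← hxz]
  refine (QuotientGroup.eq_one_iff x).2 (hJ ⟨hx, Subgroup.mem_centralizer_iff.2 fun y hy => ?_⟩)
  rw [hxz]
  exact congrArg Subtype.val (Subgroup.mem_center_iff.1 hzc ⟨y, hy⟩)

/-- The part for one prime. -/
theorem exists_part (hprim : IsPrim σ.character) (N : Subgroup G) [N.Normal]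
    [Group.IsNilpotent N] (hnil : Group.IsNilpotent (G ⧸ N)) {p q : ℕ} [Fact p.Prime]
    [hq : Fact q.Prime] (hpq : p ≠ q) (hG : ∀ r : ℕ, r.Prime → r ∣ Nat.card G → r = p ∨ r = q) :
    ∃ (a : ℕ) (x : G ⧸ N), p ^ a ∣ d ∧ (∀ b : ℕ, p ^ b ∣ d → b ≤ a) ∧
      (∃ i : ℕ, orderOf x = q ^ i) ∧
      ∀ g : G, x ∈ Subgroup.zpowers (QuotientGroup.mk' N g) →
        p ^ a ∣ (Subgroup.centralizer ({g} : Set G)).index := by
  classical
  set Z := Char.scalarSubgroup σ with hZdef
  have : Z.Normal := Char.scalarSubgroup_normal σ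
  let π := QuotientGroup.mk' Z
  have hπ : Function.Surjective π := QuotientGroup.mk'_surjective Z
  -- the Sylow subgroup of `N`
  let P₀ : Sylow p N := default
  have hP₀n : (P₀ : Subgroup N).Normal :=
    (Group.isNilpotent_of_finite_tfae (G := N)).out 0 3 rfl rfl |>.mp inferInstance p inferInstance P₀
  have : (P₀ : Subgroup N).Characteristic := P₀.characteristic_of_normal hP₀n
  let P : Subgroup G := (P₀ : Subgroup N).map N.subtype
  have hPN : P ≤ N := Subgroup.map_subtype_le _
  have hPp : IsPGroup p P := P₀.2.map _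
  have hPrel : ¬ p ∣ P.relIndex N := by
    have e : P.relIndex N = (P₀ : Subgroup N).index := by
      show (P.subgroupOf N).index = _
      rw [Subgroup.subgroupOf, Subgroup.comap_map_eq_self_of_injective N.subtype_injective]
    rw [e]
    exact P₀.not_dvd_index
  have := Fintype.ofFinite P
  have := Fintype.ofFinite N
  -- degrees
  obtain ⟨θ, e, hθ, hresN, hdegN, he⟩ := exists_homogeneous irr hprim N
  obtain rfl : e = 1 := degree_eq_of_nilpotent_quotient irr hprim N.index N le_rfl hnil θ e hθ hresN he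
  obtain ⟨φ, f, hφ, hresP, hdegP, hf⟩ := exists_homogeneous irr hprim P
  obtain ⟨m, hm, hmd, -⟩ := multiplicity_step hPN hφ hθ hresP hresN hf he
  rw [one_mul] at hm
  subst hm
  rw [degree_char] at hdegP
  obtain ⟨j, hj⟩ := hPp.exists_card_eq
  obtain ⟨a, -, ha⟩ := (Nat.dvd_prime_pow (Fact.out : p.Prime)).1
    (hj ▸ BlockB.irr_degree_dvd_card (⟨φ, hφ⟩ : Cfsg.IrrCharacter P))
  have hd : d = f * p ^ a := by rw [hdegP, ← ha]
  have hfp : ¬ p ∣ f := fun h => hPrel (h.trans hmd)
  -- the quotient modulo scalars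
  let A : Subgroup (G ⧸ Z) := P.map π
  have : A.Normal := (inferInstance : P.Normal).map π hπ
  have hAp : IsPGroup p A := hPp.map π
  have hAc : ∀ a b : A, a * b = b * a := by
    rintro ⟨_, x, hx, rfl⟩ ⟨_, y, hy, rfl⟩
    refine Subtype.ext (commutatorElement_eq_one_iff_mul_comm.1 ?_)
    rw [← map_commutatorElement]
    exact (QuotientGroup.eq_one_iff _).2
      (commutator_le_scalar hprim P hPp (Subgroup.commutator_mem_commutator hx hy))
  let Φ : G →* MulAut A := MulAut.conjNormal.comp π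
  have hΦ : ∀ g (y : A), ((Φ g y : A) : G ⧸ Z) = π g * y * (π g)⁻¹ :=
    fun g y => MulAut.conjNormal_apply _ y
  have hfixiff : ∀ g (y : A), Φ g y = y ↔ π g * y = y * π g := fun g y => by
    rw [Subtype.ext_iff, hΦ, mul_inv_eq_iff_eq_mul]
  -- `N` acts trivially
  have hNker : N ≤ Φ.ker := by
    intro n hn
    refine MonoidHom.mem_ker.2 (MulEquiv.ext fun ⟨y, hy⟩ => ?_)
    obtain ⟨u, hu, rfl⟩ := hy
    refine (hfixiff n _).2 ?_
    let Q₀ : Sylow q N := default
    have hQ₀n : (Q₀ : Subgroup N).Normal :=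
      (Group.isNilpotent_of_finite_tfae (G := N)).out 0 3 rfl rfl |>.mp inferInstance q hq Q₀
    have htop : (P₀ : Subgroup N) ⊔ Q₀ = ⊤ := by
      by_contra hne
      obtain ⟨r, hr, hrd⟩ := Nat.exists_prime_and_dvd
        (fun h => hne (Subgroup.index_eq_one.1 h))
      rcases hG r hr (hrd.trans ((Subgroup.index_dvd_card _).trans
        (Subgroup.card_subgroup_dvd_card N))) with rfl | rfl
      · exact P₀.not_dvd_index (hrd.trans (Subgroup.index_dvd_of_le le_sup_left))
      · exact Q₀.not_dvd_index (hrd.trans (Subgroup.index_dvd_of_le le_sup_right))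
    have hdisj : Disjoint (P₀ : Subgroup N) (Q₀ : Subgroup N) :=
      IsPGroup.disjoint_of_ne p q hpq _ _ P₀.2 Q₀.2
    obtain ⟨u₀, hu₀, rfl⟩ := hu
    have hmem : (⟨n, hn⟩ : N) ∈ (P₀ : Subgroup N) ⊔ Q₀ := htop ▸ Subgroup.mem_top _
    rw [← SetLike.mem_coe, Subgroup.coe_mul_of_right_le_normalizer_left] at hmem
    swap
    · rw [Subgroup.normalizer_eq_top_iff.2 hP₀n]; exact le_top
    obtain ⟨a₁, ha₁, b₁, hb₁, hab⟩ := hmem
    have hn' : n = (a₁ : G) * b₁ := (congrArg Subtype.val hab).symm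
    have h1 : π (a₁ : G) * π (u₀ : G) = π (u₀ : G) * π (a₁ : G) :=
      congrArg Subtype.val (hAc ⟨_, _, ⟨a₁, ha₁, rfl⟩, rfl⟩ ⟨_, _, ⟨u₀, hu₀, rfl⟩, rfl⟩)
    have h2 : π (b₁ : G) * π (u₀ : G) = π (u₀ : G) * π (b₁ : G) := by
      rw [← map_mul, ← map_mul]
      exact congrArg (fun t : N => π (t : G))
        (Subgroup.commute_of_normal_of_disjoint _ _ hQ₀n hP₀n hdisj.symm b₁ u₀ hb₁ hu₀).eq
    show π n * π (u₀ : G) = π (u₀ : G) * π n
    rw [hn', map_mul, mul_assoc, h2, ← mul_assoc, h1, mul_assoc]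
  let Ψ : G ⧸ N →* MulAut A := QuotientGroup.lift N Φ hNker
  have hΨ : ∀ g : G, Ψ (QuotientGroup.mk' N g) = Φ g := fun g => rfl
  let S : Sylow q (G ⧸ N) := default
  have hSn : (S : Subgroup (G ⧸ N)).Normal :=
    (Group.isNilpotent_of_finite_tfae (G := G ⧸ N)).out 0 3 rfl rfl |>.mp hnil q hq S
  let R : Subgroup (MulAut A) := (S : Subgroup (G ⧸ N)).map Ψ
  have hRq : IsPGroup q R := S.2.map Ψ
  have hcop : (Nat.card R).Coprime (Nat.card A) := by
    obtain ⟨i, hi⟩ := hRq.exists_card_eq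
    obtain ⟨k, hk⟩ := hAp.exists_card_eq
    rw [hi, hk]
    exact Nat.Coprime.pow i k ((Nat.coprime_primes Fact.out Fact.out).2 hpq.symm)
  have hfix : ∀ y : A, (∀ r ∈ R, r y = y) → y = 1 := by
    intro y hy
    by_contra hy1
    -- a fixed point of the whole group
    let W : Subgroup (G ⧸ Z) :=
      { carrier := {v | v ∈ A ∧ ∀ g : G, QuotientGroup.mk' N g ∈ (S : Subgroup (G ⧸ N)) →
          π g * v = v * π g}
        one_mem' := ⟨A.one_mem, fun g _ => by rw [mul_one, one_mul]⟩
        mul_mem' := fun {v w} hv hw => ⟨A.mul_mem hv.1 hw.1, fun g hg => by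
          rw [← mul_assoc, hv.2 g hg, mul_assoc, hw.2 g hg, mul_assoc]⟩
        inv_mem' := fun {v} hv => ⟨A.inv_mem hv.1, fun g hg =>
          ((Commute.inv_right (hv.2 g hg : Commute (π g) v))).eq⟩ }
    have : W.Normal := ⟨fun v hv c => by
      obtain ⟨g, rfl⟩ := hπ c
      refine ⟨(inferInstance : A.Normal).conj_mem v hv.1 _, fun s hs => ?_⟩
      have h := hv.2 (g⁻¹ * s * g) (by
        rw [map_mul, map_mul, map_inv]
        simpa using hSn.conj_mem _ hs (QuotientGroup.mk' N g)⁻¹)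
      rw [map_mul, map_mul, map_inv] at h
      calc π s * (π g * v * (π g)⁻¹)
          = π g * ((π g)⁻¹ * π s * π g * v) * (π g)⁻¹ := by group
        _ = π g * (v * ((π g)⁻¹ * π s * π g)) * (π g)⁻¹ := by rw [h]
        _ = π g * v * (π g)⁻¹ * π s := by group⟩
    have hyW : (y : G ⧸ Z) ∈ W := ⟨y.2, fun g hg => (hfixiff g y).1 (hy _ ⟨_, hg, hΨ g⟩)⟩
    let T : Sylow p G := default
    have hPT : P ≤ (T : Subgroup G) := by
      have hsup : IsPGroup p ↥((T : Subgroup G) ⊔ P) := T.2.to_sup_of_normal_right hPp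
      exact le_sup_right.trans (T.3 hsup le_sup_left).le
    let T' : Subgroup (G ⧸ Z) := (T : Subgroup G).map π
    have hT' : IsPGroup p T' := T.2.map π
    have hWT : W ≤ T' := fun v hv => Subgroup.map_mono hPT hv.1
    have hWne : W.subgroupOf T' ≠ ⊥ := by
      rw [Ne, Subgroup.subgroupOf_eq_bot, disjoint_iff, inf_eq_left.2 hWT]
      exact fun h => hy1 (Subtype.ext (Subgroup.mem_bot.1 (h ▸ hyW)))
    obtain ⟨z, hzW, hz1, hzc⟩ := InvChar.exists_mem_center_of_normal hT' (W.subgroupOf T') hWne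
    rw [Subgroup.mem_subgroupOf] at hzW
    obtain ⟨u, hu, huz⟩ := hWT hzW
    refine hz1 (Subtype.ext ?_)
    rw [← huz]
    refine (QuotientGroup.eq_one_iff u).2 (mem_scalar_of_central hprim fun g => ?_)
    rw [← hZdef, ← QuotientGroup.eq_one_iff (N := Z)]
    show π _ = 1
    rw [map_commutatorElement, huz, commutatorElement_eq_one_iff_mul_comm]
    have htop : Subgroup.comap π (Subgroup.centralizer ({(z : G ⧸ Z)} : Set (G ⧸ Z))) = ⊤ := by
      by_contra hne
      obtain ⟨r, hr, hrd⟩ := Nat.exists_prime_and_dvd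
        (fun h => hne (Subgroup.index_eq_one.1 h))
      rcases hG r hr (hrd.trans (Subgroup.index_dvd_card _)) with rfl | rfl
      · refine T.not_dvd_index (hrd.trans (Subgroup.index_dvd_of_le fun t ht => ?_))
        exact Subgroup.mem_centralizer_singleton_iff.2
          (congrArg Subtype.val (Subgroup.mem_center_iff.1 hzc ⟨π t, t, ht, rfl⟩))
      · let Q : Sylow r G := default
        refine Q.not_dvd_index (hrd.trans (Subgroup.index_dvd_of_le fun t ht => ?_))
        refine Subgroup.mem_centralizer_singleton_iff.2 (hzW.2 t ?_)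
        obtain ⟨g', hg'⟩ := (Q.2.map (QuotientGroup.mk' N)).exists_le_sylow
        have hS : g' = S := by
          have := Sylow.unique_of_normal S hSn
          exact Subsingleton.elim g' S
        exact hS ▸ hg' ⟨t, ht, rfl⟩
    exact Subgroup.mem_centralizer_singleton_iff.1
      (show g ∈ Subgroup.comap π (Subgroup.centralizer ({(z : G ⧸ Z)} : Set (G ⧸ Z))) from
        htop ▸ Subgroup.mem_top g)
  obtain ⟨h, ⟨x, hxS, rfl⟩, hsmall⟩ := exists_small_fixed _ A le_rfl hAc R
    (hRq.isNilpotent) hcop hfix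
  refine ⟨a, x, hd ▸ dvd_mul_left _ _, fun b hb => ?_, ?_, fun g hg => ?_⟩
  · rw [hd] at hb
    have hc : (p ^ b).Coprime f :=
      ((Fact.out : p.Prime).coprime_iff_not_dvd.2 hfp).pow_left b
    exact (Nat.pow_dvd_pow_iff_le_right (Fact.out : p.Prime).one_lt).1
      (hc.dvd_of_dvd_mul_left hb)
  · obtain ⟨i, hi⟩ := IsPGroup.iff_orderOf.1 S.2 ⟨x, hxS⟩
    exact ⟨i, by rw [← hi, Subgroup.orderOf_mk]⟩
  -- `φ(1)² ≤ #A`
  have hsq : p ^ a * p ^ a ≤ Nat.card A := by
    let D : Subgroup G := P ⊓ Z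
    have := Fintype.ofFinite D
    have h := sum_norm_sq_le (χ := σ.character) (show D ≤ P from inf_le_left)
    have e2 : ∑ y : P, ‖σ.character y‖ ^ 2 = (f : ℝ) ^ 2 * Nat.card P := by
      rw [← sum_norm_sq_smul hφ f, ← hresP]
    have e1 : ∀ y : D, ‖σ.character y‖ = (d : ℝ) := fun y => by
      rw [(Char.norm_char_eq_iff σ (y : G)).2 y.2.2, Module.finrank_fin_fun]
    rw [e2, Finset.sum_congr rfl (fun y _ => by rw [e1 y]), Finset.sum_const, Finset.card_univ,
      nsmul_eq_mul, ← Nat.card_eq_fintype_card] at h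
    have h' : Nat.card D * d ^ 2 ≤ f ^ 2 * Nat.card P := by exact_mod_cast h
    have hcard : Nat.card D * Nat.card A = Nat.card P := by
      have e : Nat.card A = D.relIndex P := by
        show Nat.card (P.map π) = _
        rw [← Subgroup.relIndex_ker P π, QuotientGroup.ker_mk']
        exact (Subgroup.inf_relIndex_left P Z).symm
      rw [e, ← Nat.card_congr (Subgroup.subgroupOfEquivOfLe (show D ≤ P from inf_le_left)).toEquiv]
      exact Subgroup.card_mul_index _
    rw [hd, ← hcard] at h'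
    refine Nat.le_of_mul_le_mul_left ?_
      (show 0 < f ^ 2 * Nat.card D from Nat.mul_pos (pow_pos (Nat.pos_of_ne_zero hf) 2) Nat.card_pos)
    calc f ^ 2 * Nat.card D * (p ^ a * p ^ a) = Nat.card D * (f * p ^ a) ^ 2 := by ring
      _ ≤ f ^ 2 * (Nat.card D * Nat.card A) := h'
      _ = f ^ 2 * Nat.card D * Nat.card A := by ring
  -- fixed points of `g`
  let C : Subgroup G := Subgroup.centralizer ({g} : Set G)
  let F : Subgroup A := fixedBy (Ψ x)
  let πP : P →* A :=
    { toFun := fun u => ⟨π u, u, u.2, rfl⟩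
      map_one' := Subtype.ext (map_one π)
      map_mul' := fun u v => Subtype.ext (map_mul π (u : G) v) }
  have hπP : Function.Surjective πP := fun ⟨_, u, hu, huv⟩ => ⟨⟨u, hu⟩, Subtype.ext huv⟩
  have hCF : (C.subgroupOf P).map πP ≤ F := by
    rintro y ⟨⟨u, huP⟩, hu, rfl⟩
    set y := πP ⟨u, huP⟩
    have huy : π u = (y : G ⧸ Z) := rfl
    have hgy : Φ g y = y := (hfixiff g y).2 (by
      rw [← huy, ← map_mul, ← map_mul,
        show g * u = u * g from (Subgroup.mem_centralizer_singleton_iff.1 hu).symm])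
    let St : Subgroup (G ⧸ N) :=
      { carrier := {γ | Ψ γ y = y}
        one_mem' := by simp
        mul_mem' := fun {γ δ} hγ hδ => by
          show Ψ (γ * δ) y = y
          rw [map_mul, MulAut.mul_apply, show Ψ δ y = y from hδ]; exact hγ
        inv_mem' := fun {γ} hγ => by
          show Ψ γ⁻¹ y = y
          rw [map_inv]
          conv_lhs => rw [← show Ψ γ y = y from hγ]
          exact MulEquiv.symm_apply_apply _ y }
    exact (Subgroup.zpowers_le (H := St)).2 (show QuotientGroup.mk' N g ∈ St from hgy) hg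
  obtain ⟨i, hi⟩ := (hAp.to_subgroup F).exists_card_eq
  obtain ⟨k, hk⟩ := hAp.exists_card_eq
  rw [hk] at hsq hsmall
  rw [show Nat.card (fixedBy (Ψ x)) = p ^ i from hi, ← pow_add] at hsmall
  rw [← pow_add] at hsq
  have hle1 := (Nat.pow_le_pow_iff_right (Fact.out : p.Prime).one_lt).1 hsmall
  have hle2 := (Nat.pow_le_pow_iff_right (Fact.out : p.Prime).one_lt).1 hsq
  have hFi : F.index = p ^ (k - i) := by
    have h := Subgroup.card_mul_index F
    rw [hi, hk, ← Nat.add_sub_cancel' (show i ≤ k by omega), pow_add] at h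
    exact Nat.eq_of_mul_eq_mul_left (pow_pos (Fact.out : p.Prime).pos i) h
  have h1 : p ^ a ∣ ((C.subgroupOf P).map πP).index :=
    ((Nat.pow_dvd_pow p (show a ≤ k - i by omega)).trans hFi.symm.dvd).trans
      (Subgroup.index_dvd_of_le hCF)
  exact (h1.trans (Subgroup.index_map_dvd _ hπP)).trans
    (StructC.relIndex_dvd_index_right P C)

end Rep

/-- **The degree divides a class size.** -/
theorem exists_dvd_class {χ : G → ℂ} (hχ : Cfsg.IsIrrCharacter G χ) (hprim : IsPrim χ)
    (N : Subgroup G) [N.Normal] [Group.IsNilpotent N] (hnil : Group.IsNilpotent (G ⧸ N))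
    (h2 : (Nat.card G).primeFactors.card = 2) :
    ∃ g : G, Cfsg.charDegree χ ∣ (Subgroup.centralizer ({g} : Set G)).index := by
  classical
  obtain ⟨p, q, hpq, hset⟩ := Finset.card_eq_two.1 h2
  have hp : Fact p.Prime := ⟨Nat.prime_of_mem_primeFactors (hset ▸ Finset.mem_insert_self p {q})⟩
  have hq : Fact q.Prime := ⟨Nat.prime_of_mem_primeFactors
    (hset ▸ Finset.mem_insert_of_mem (Finset.mem_singleton_self q))⟩
  have hG : ∀ r : ℕ, r.Prime → r ∣ Nat.card G → r = p ∨ r = q := fun r hr hrd => by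
    have h : r ∈ (Nat.card G).primeFactors := Nat.mem_primeFactors.2 ⟨hr, hrd, Nat.card_pos.ne'⟩
    rwa [hset, Finset.mem_insert, Finset.mem_singleton] at h
  have hd : Cfsg.charDegree χ ∣ Nat.card G := BlockB.irr_degree_dvd_card ⟨χ, hχ⟩
  obtain ⟨d, σ, hσ, rfl⟩ := hχ
  rw [degree_char (σ := σ)] at hd ⊢
  obtain ⟨a, x, hpa, hamax, ⟨i, hi⟩, hx⟩ := exists_part hprim N hnil hpq hG
  obtain ⟨b, y, hqb, hbmax, ⟨j, hj⟩, hy⟩ := exists_part hprim N hnil hpq.symm
    (fun r hr h => (hG r hr h).symm)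
  have hcop : (orderOf x).Coprime (orderOf y) := by
    rw [hi, hj]
    exact Nat.Coprime.pow i j ((Nat.coprime_primes hq.out hp.out).2 hpq.symm)
  have hcomm : Commute x y := OddLocal.commute_of_coprime_of_isNilpotent hnil hcop
  obtain ⟨g, hg⟩ := QuotientGroup.mk'_surjective N (x * y)
  have mem : ∀ {u v : G ⧸ N}, Commute u v → (orderOf u).Coprime (orderOf v) →
      u ∈ Subgroup.zpowers (u * v) := by
    intro u v huv hc
    obtain ⟨m, hm⟩ := exists_pow_eq_self_of_coprime (x := u) (n := orderOf v) hc.symm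
    have e : (u * v) ^ (orderOf v * m) = u := by
      rw [pow_mul, huv.mul_pow, pow_orderOf_eq_one, mul_one, hm]
    have h := Subgroup.npow_mem_zpowers (u * v) (orderOf v * m)
    rwa [e] at h
  have h1 := hx g (hg ▸ mem hcomm hcop)
  have h2' := hy g (hg ▸ hcomm.eq ▸ mem hcomm.symm hcop.symm)
  refine ⟨g, ?_⟩
  refine Nat.dvd_trans ((Nat.dvd_iff_prime_pow_dvd_dvd (p ^ a * q ^ b) d).2 fun r k hr hk => ?_)
    ((((Nat.coprime_primes hp.out hq.out).2 hpq).pow a b).mul_dvd_of_dvd_of_dvd h1 h2')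
  rcases k with _ | k
  · simp
  rcases hG r hr (((dvd_pow_self r k.succ_ne_zero).trans hk).trans hd) with rfl | rfl
  · exact (Nat.pow_dvd_pow _ (hamax _ hk)).trans (dvd_mul_right _ _)
  · exact (Nat.pow_dvd_pow _ (hbmax _ hk)).trans (dvd_mul_left _ _)

end CfsgLib.BlockB.PrimitiveClassSize
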