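import Cfsg.Agent.Lib.BlockB.GaloisAvg
import Cfsg.Agent.Lib.Char.Linear

/-!
# Values at elements of prime power order, characters of a quotient
-/

namespace CfsgLib.BlockB

open Polynomial

universe u

variable {G : Type u} [Group G] [Finite G]

/-- A character of degree prime to `p` does not vanish on `p`-elements. -/
theorem char_ne_zero_of_not_dvd_degree {p k : ℕ} [hp : Fact p.Prime] {χ : G → ℂ}
    (hχ : Cfsg.IsCharacter G χ) {g : G} (hg : orderOf g = p ^ k)
    (hd : ¬ p ∣ Cfsg.charDegree χ) : χ g ≠ 0 := by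
  intro h0
  obtain ⟨d, ρ, rfl⟩ := hχ
  obtain ⟨ι, hι, b, μ, -, h2, h3, -⟩ := CfsgLib.Char.exists_char_eigen ρ g
  have hn : p ^ k ≠ 0 := pow_ne_zero _ hp.out.ne_zero
  have : NeZero (p ^ k) := ⟨hn⟩
  have hζ := zetaN_isPrimitiveRoot hn
  have hj : ∀ i, ∃ j, zetaN (p ^ k) ^ j = μ i := fun i => by
    obtain ⟨j, -, hj⟩ := hζ.eq_pow_of_pow_eq_one (show μ i ^ p ^ k = 1 by rw [← hg, h2])
    exact ⟨j, hj⟩
  choose j hj using hj
  set P : ℤ[X] := ∑ i, X ^ j i with hP
  have hcard : Cfsg.charDegree ρ.character = Fintype.card ι := by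
    have h := charDegree_cast (χ := ρ.character) ⟨d, ρ, rfl⟩
    rw [← pow_zero g, h3 0] at h
    simp only [pow_zero, Finset.sum_const, Finset.card_univ, nsmul_eq_mul, mul_one] at h
    exact_mod_cast h
  have he : aeval (zetaN (p ^ k)) P = 0 := by
    rw [hP, map_sum, ← h0, ← pow_one g, h3 1]
    exact Finset.sum_congr rfl fun i _ => by rw [map_pow, aeval_X, hj, pow_one]
  have hdvd : cyclotomic (p ^ k) ℤ ∣ P := by
    rw [cyclotomic_eq_minpoly hζ (Nat.pos_of_ne_zero hn)]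
    exact minpoly.isIntegrallyClosed_dvd (hζ.isIntegral (Nat.pos_of_ne_zero hn)) he
  obtain ⟨Q, hQ⟩ := hdvd
  have h1 := congrArg (Polynomial.eval (1 : ℤ)) hQ
  rw [hP, eval_finsetSum, eval_mul] at h1
  simp only [eval_pow, eval_X, one_pow, Finset.sum_const, Finset.card_univ, nsmul_eq_mul,
    mul_one] at h1
  rcases k with _ | k
  · have hc : Fintype.card ι = 0 := by
      have : (Fintype.card ι : ℤ) = 0 := by rw [h1]; simp [cyclotomic_one]
      exact_mod_cast this
    exact hd (by rw [hcard, hc]; exact dvd_zero p)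
  · rw [eval_one_cyclotomic_prime_pow] at h1
    refine hd (Int.natCast_dvd_natCast.1 ?_)
    rw [hcard, h1]
    exact dvd_mul_right _ _

/-- The irreducible characters with `N` in the kernel are those of the quotient. -/
noncomputable def quotIrrEquiv (N : Subgroup G) [N.Normal] :
    Cfsg.IrrCharacter (G ⧸ N) ≃
      {χ : Cfsg.IrrCharacter G // ∀ n ∈ N, (χ : G → ℂ) n = (χ : G → ℂ) 1} :=
  Equiv.ofBijective (fun ψ => ⟨⟨(ψ : G ⧸ N → ℂ) ∘ QuotientGroup.mk' N,
      CfsgLib.Char.isIrrCharacter_comp_surjective ψ.2 _ (QuotientGroup.mk'_surjective N)⟩,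
    fun n hn => by simp [(QuotientGroup.eq_one_iff n).2 hn]⟩)
    ⟨fun a b h => Subtype.ext (funext fun x => by
      obtain ⟨g, rfl⟩ := QuotientGroup.mk'_surjective N x
      exact congr_fun (congrArg (fun z => ((z.1 : Cfsg.IrrCharacter G) : G → ℂ)) h) g),
    fun χ => by
      obtain ⟨ψ, hψ, he⟩ := CfsgLib.Char.isIrr_quotient_lift N χ.1.2 χ.2
      exact ⟨⟨ψ, hψ⟩, Subtype.ext (Subtype.ext he.symm)⟩⟩

theorem quotIrrEquiv_apply (N : Subgroup G) [N.Normal] (ψ : Cfsg.IrrCharacter (G ⧸ N)) (g : G) :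
    (((quotIrrEquiv N ψ).1 : Cfsg.IrrCharacter G) : G → ℂ) g = (ψ : G ⧸ N → ℂ) g := rfl

end CfsgLib.BlockB
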