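import Cfsg.Agent.Lib.BlockB.RelDegreeComponents
import Cfsg.Agent.Lib.BlockB.PEltValue
import Cfsg.Agent.Lib.Char.Linear

/-!
The character degree graph of a solvable group through the relative degrees over the derived group.
-/

set_option autoImplicit false
set_option linter.unusedSectionVars false

namespace CfsgLib.BlockB.DegreeGraphComponents

open CfsgLib CfsgLib.BlockB.RelDegreeGraph

universe u

variable {G : Type u} [Group G] [Finite G]

/-- Nonlinear degrees are relative degrees over the derived subgroup. -/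
theorem mem_relCharDegrees {d : ℕ} (hd : d ∈ Cfsg.charDegrees G) (h1 : d ≠ 1) :
    d ∈ Cfsg.relCharDegrees (commutator G) := by
  obtain ⟨χ, rfl⟩ := hd
  refine ⟨χ, ?_, rfl⟩
  by_contra hcon
  push Not at hcon
  apply h1
  obtain ⟨ψ, hψ⟩ := (quotIrrEquiv (commutator G)).surjective ⟨χ, hcon⟩
  have hcomm : ∀ a b : G ⧸ commutator G, a * b = b * a := fun a b =>
    mul_comm (G := Abelianization G) a b
  have h2 := Char.irr_degree_one_of_comm hcomm ψ.2
  have h3 : (χ : G → ℂ) 1 = 1 := by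
    rw [← h2, ← QuotientGroup.mk_one (N := commutator G), ← quotIrrEquiv_apply, hψ]
  rw [← BlockB.charDegree_cast (Char.irr_isCharacter χ.2)] at h3
  exact_mod_cast h3

theorem charDegrees_of_rel {N : Subgroup G} {d : ℕ} (hd : d ∈ Cfsg.relCharDegrees N) :
    d ∈ Cfsg.charDegrees G := by
  obtain ⟨χ, -, rfl⟩ := hd
  exact ⟨χ, rfl⟩

/-- Primes of one degree are joined. -/
theorem reachable_of_same {d : ℕ} (hd : d ∈ Cfsg.charDegrees G) {p q : ℕ} (hp : p.Prime)
    (hq : q.Prime) (hpd : p ∣ d) (hqd : q ∣ d) :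
    ((Cfsg.degreeGraph G).induce (Cfsg.degreePrimes G)).Reachable
      ⟨p, hp, d, hd, hpd⟩ ⟨q, hq, d, hd, hqd⟩ := by
  rcases eq_or_ne p q with rfl | hne
  · exact SimpleGraph.Reachable.refl _
  · exact SimpleGraph.Adj.reachable (show (Cfsg.degreeGraph G).Adj p q from ⟨hne, hp, hq, d, hd,
      ((Nat.coprime_primes hp hq).2 hne).mul_dvd_of_dvd_of_dvd hpd hqd⟩)

/-- Walks of degrees give walks of primes. -/
theorem reachable_primes {x y : Cfsg.relCharDegrees (commutator G)}
    (h : (graph (commutator G)).Reachable x y) :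
    ∀ {p q : ℕ} (hp : p.Prime) (hq : q.Prime) (hpx : p ∣ x.1) (hqy : q ∣ y.1),
      ((Cfsg.degreeGraph G).induce (Cfsg.degreePrimes G)).Reachable
        ⟨p, hp, x.1, charDegrees_of_rel x.2, hpx⟩ ⟨q, hq, y.1, charDegrees_of_rel y.2, hqy⟩ := by
  obtain ⟨w⟩ := h
  induction w with
  | @nil x => exact fun hp hq hpx hqy => reachable_of_same (charDegrees_of_rel x.2) hp hq hpx hqy
  | @cons x z y hxz w ih =>
    intro p q hp hq hpx hqy
    obtain ⟨r, hr, hrg⟩ := Nat.exists_prime_and_dvd (ne_of_gt hxz.2)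
    exact (reachable_of_same (charDegrees_of_rel x.2) hp hr hpx
      (hrg.trans (Nat.gcd_dvd_left _ _))).trans (ih hr hq (hrg.trans (Nat.gcd_dvd_right _ _)) hqy)

/-- Two classes of nonlinear degrees, each connected. -/
theorem exists_two_classes [Group.IsSolvable G] :
    ∃ P : Cfsg.relCharDegrees (commutator G) → Prop,
      ∀ x y, (P x ↔ P y) → (graph (commutator G)).Reachable x y := by
  classical
  rcases eq_or_ne (commutator G) ⊥ with hbot | hne
  · refine ⟨fun _ => True, fun x => ?_⟩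
    obtain ⟨χ, ⟨z, hz, hne⟩, -⟩ := x.2
    rw [hbot, Subgroup.mem_bot] at hz
    exact absurd (by rw [hz]) hne
  have hlt : ⁅commutator G, commutator G⁆ < commutator G :=
    Group.IsSolvable.commutator_lt_of_ne_bot hne
  set m := ⁅commutator G, commutator G⁆.relIndex (commutator G)
  have hm1 : m ≠ 1 := fun h => hlt.not_ge (Subgroup.relIndex_eq_one.1 h)
  refine ⟨fun x => ∃ r : ℕ, r.Prime ∧ r ∣ m ∧ ¬ r ∣ x.1, fun x y hiff => ?_⟩
  by_cases hx : ∃ r : ℕ, r.Prime ∧ r ∣ m ∧ ¬ r ∣ x.1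
  · obtain ⟨r, hr, hrm, hrx⟩ := hx
    obtain ⟨t, ht, htm, hty⟩ := hiff.1 ⟨r, hr, hrm, hrx⟩
    exact reachable_of_not_dvd le_rfl hr ht hrm htm hrx hty
  · have hy : ¬ ∃ r : ℕ, r.Prime ∧ r ∣ m ∧ ¬ r ∣ y.1 := fun h => hx (hiff.2 h)
    push Not at hx hy
    obtain ⟨r, hr, hrm⟩ := Nat.exists_prime_and_dvd hm1
    exact link_dvd hr.one_lt (hx r hr hrm) (hy r hr hrm) (ne_zero_of_mem x.2)

/-- **At most two components.** -/
theorem card_components_le_two [Group.IsSolvable G] :
    Nat.card ((Cfsg.degreeGraph G).induce (Cfsg.degreePrimes G)).ConnectedComponent ≤ 2 := by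
  classical
  obtain ⟨P, hP⟩ := exists_two_classes (G := G)
  have hsel : ∀ v : Cfsg.degreePrimes G,
      ∃ x : Cfsg.relCharDegrees (commutator G), v.1 ∣ x.1 := by
    rintro ⟨p, hp, d, hd, hpd⟩
    exact ⟨⟨d, mem_relCharDegrees hd (fun e => hp.one_lt.ne' (Nat.dvd_one.1 (e ▸ hpd)))⟩, hpd⟩
  choose f hf using hsel
  refine (Nat.card_le_card_of_injective
    (fun c : ((Cfsg.degreeGraph G).induce (Cfsg.degreePrimes G)).ConnectedComponent =>
      decide (P (f c.out))) fun c c' h => ?_).trans (by simp)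
  have h' : P (f c.out) ↔ P (f c'.out) := by simpa using h
  rw [← Quot.out_eq c, ← Quot.out_eq c']
  exact SimpleGraph.ConnectedComponent.sound
    (reachable_primes (hP _ _ h') c.out.2.1 c'.out.2.1 (hf _) (hf _))

end CfsgLib.BlockB.DegreeGraphComponents
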