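import Cfsg.Agent.Lib.Block.Covering
import Cfsg.Agent.Lib.Block.PSolvable
import Cfsg.Agent.Lib.Char.CliffordApps
import Cfsg.Agent.Lib.Char.Fixed
import Cfsg.Agent.Lib.Char.Induce
import Cfsg.Agent.Lib.Clifford.Correspondence
import Cfsg.Agent.Lib.Clifford.Degree
import Cfsg.Agent.Lib.BlockB.ClassMul
import Cfsg.Agent.Lib.StructB.Misc
import Cfsg.Agent.Lib.StructC.PSolvableQuot
import Cfsg.Agent.Lib.PLength.Primitive

/-!
Ito's theorem for `p`-solvable groups: all irreducible degrees are prime to `p` exactly when the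
Sylow `p`-subgroup is abelian and normal.
-/

set_option autoImplicit false
set_option linter.unusedSectionVars false
set_option linter.style.haveILetI false

namespace CfsgLib.BlockB.ItoPSolvable

open CfsgLib

universe u

variable {G : Type u} [Group G] [Finite G] {p : ℕ} [Fact p.Prime]

/-- The degree of a constituent of the restriction to a normal subgroup divides the degree. -/
theorem charDegree_dvd_of_constituent (N : Subgroup G) [N.Normal] [Fintype G] [Fintype N]
    {χ : G → ℂ} (hχ : Cfsg.IsIrrCharacter G χ) {θ : N → ℂ} (hθ : Cfsg.IsIrrCharacter N θ)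
    (hne : Cfsg.classInner (fun m : N => χ m) θ ≠ 0) :
    Cfsg.charDegree θ ∣ Cfsg.charDegree χ := by
  obtain ⟨e, he, -⟩ := Clifford.degree_quot_dvd_index hχ hθ hne
  rw [← BlockB.charDegree_cast (Char.irr_isCharacter hχ),
    ← BlockB.charDegree_cast (Char.irr_isCharacter hθ)] at he
  exact ⟨e, by rw [mul_comm]; exact_mod_cast he⟩

/-- Degrees prime to `p` pass to normal subgroups. -/
theorem degrees_normal (N : Subgroup G) [N.Normal]
    (h : ∀ χ : Cfsg.IrrCharacter G, ¬ p ∣ Cfsg.charDegree (χ : G → ℂ))
    (θ : Cfsg.IrrCharacter N) : ¬ p ∣ Cfsg.charDegree (θ : N → ℂ) := by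
  have := Fintype.ofFinite G
  have := Fintype.ofFinite N
  obtain ⟨χ, hχ⟩ := Block.exists_over_constituent (G := G) θ
  exact fun hd => h χ (hd.trans (charDegree_dvd_of_constituent N χ.2 θ.2 hχ))

/-- Degrees prime to `p` pass to quotients. -/
theorem degrees_quotient (N : Subgroup G) [N.Normal]
    (h : ∀ χ : Cfsg.IrrCharacter G, ¬ p ∣ Cfsg.charDegree (χ : G → ℂ))
    (ψ : Cfsg.IrrCharacter (G ⧸ N)) : ¬ p ∣ Cfsg.charDegree (ψ : G ⧸ N → ℂ) :=
  h ⟨_, Char.isIrrCharacter_comp_surjective ψ.2 (QuotientGroup.mk' N)
    (QuotientGroup.mk'_surjective N)⟩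

/-- A `p`-group with all degrees prime to `p` is abelian. -/
theorem comm_of_isPGroup (hG : IsPGroup p G)
    (h : ∀ χ : Cfsg.IrrCharacter G, ¬ p ∣ Cfsg.charDegree (χ : G → ℂ)) (a b : G) :
    a * b = b * a := by
  refine Char.comm_iff_forall_degree_one.2 (fun χ => ?_) a b
  obtain ⟨k, hk⟩ := hG.exists_card_eq
  obtain ⟨j, -, hj⟩ := (Nat.dvd_prime_pow (Fact.out : p.Prime)).1
    (hk ▸ BlockB.irr_degree_dvd_card χ)
  rw [← BlockB.charDegree_cast (Char.irr_isCharacter χ.2), hj]
  rcases j with _ | j
  · simp
  · exact absurd (hj ▸ dvd_pow_self p (Nat.succ_ne_zero j)) (h χ)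

/-- **Ito's theorem for `p`-solvable groups.** -/
theorem normal_and_comm : ∀ (n : ℕ) (G : Type u) [Group G] [Finite G], Nat.card G ≤ n →
    Cfsg.IsPSolvable p G → (∀ χ : Cfsg.IrrCharacter G, ¬ p ∣ Cfsg.charDegree (χ : G → ℂ)) →
    ∀ P : Sylow p G, (P : Subgroup G).Normal ∧ IsMulCommutative P := by
  intro n
  induction n with
  | zero => intro G _ _ hc; exact absurd hc (by have := Nat.card_pos (α := G); omega)
  | succ n ih =>
    intro G _ _ hc hs h P
    have hp := (Fact.out : p.Prime)
    have := Fintype.ofFinite G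
    rcases subsingleton_or_nontrivial G with hG | hG
    · exact ⟨⟨fun x hx g => by rwa [Subsingleton.elim (g * x * g⁻¹) x]⟩,
        ⟨⟨fun a b => Subsingleton.elim _ _⟩⟩⟩
    have hcomm : ∀ N : Subgroup G, N.Normal → IsPGroup p N → IsMulCommutative N := fun N _ hN =>
      ⟨⟨comm_of_isPGroup hN (degrees_normal N h)⟩⟩
    have hlt : ∀ N : Subgroup G, N ≠ ⊥ → Nat.card (G ⧸ N) ≤ n := by
      intro N hN
      rw [← Subgroup.index_eq_card]
      have h1 := N.index_mul_card
      have h2 : 1 < Nat.card N := Subgroup.one_lt_card_iff_ne_bot N |>.2 hN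
      have h3 : 0 < N.index := Nat.pos_of_ne_zero Subgroup.index_ne_zero_of_finite
      have h4 : N.index < Nat.card G := by
        rw [← h1]; exact lt_mul_of_one_lt_right h3 h2
      omega
    by_cases hM : Cfsg.pPrimeCore p G = ⊥
    · -- trivial `p'`-core
      set Q := Cfsg.pCore p G with hQ
      have hQn : Q.Normal := CfsgLib.Solvable.pCore_normal p G
      have hQ1 : Q ≠ ⊥ := PLength.pCore_ne_bot_of_isPSolvable hs hM
      have hPn := (ih (G ⧸ Q) (hlt Q hQ1) (StructC.isPSolvable_quotient Q hs)
        (degrees_quotient Q h) (P.mapSurjective (QuotientGroup.mk'_surjective Q))).1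
      have hQP : Q ≤ (P : Subgroup G) := CfsgLib.Solvable.pCore_le_sylow P
      have he : ((P : Subgroup G).map (QuotientGroup.mk' Q)).comap (QuotientGroup.mk' Q) = P := by
        rw [Subgroup.comap_map_eq, QuotientGroup.ker_mk', sup_eq_left.2 hQP]
      have hPN : (P : Subgroup G).Normal := by
        rw [← he]
        exact Subgroup.Normal.comap hPn _
      exact ⟨hPN, hcomm _ hPN P.isPGroup'⟩
    · set M := Cfsg.pPrimeCore p G with hMdef
      have hMn : M.Normal := CfsgLib.Solvable.pPrimeCore_normal p G
      have hMc : (Nat.card M).Coprime p := CfsgLib.Solvable.pPrimeCore_coprime p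
      obtain ⟨hPn, hPc⟩ := ih (G ⧸ M) (hlt M hM) (StructC.isPSolvable_quotient M hs)
        (degrees_quotient M h) (P.mapSurjective (QuotientGroup.mk'_surjective M))
      have hPM : ∀ x ∈ (P : Subgroup G), x ∈ M → x = 1 := by
        intro x hx hxM
        obtain ⟨k, hk⟩ := P.isPGroup' ⟨x, hx⟩
        have h1 : orderOf x ∣ p ^ k := orderOf_dvd_of_pow_eq_one (congrArg Subtype.val hk :)
        have h2 : orderOf x ∣ Nat.card M := by
          rw [← Subgroup.orderOf_mk x hxM]; exact orderOf_dvd_natCard _
        exact orderOf_eq_one_iff.1 (Nat.eq_one_of_dvd_coprimes (hMc.pow_right k) h2 h1)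
      have hPab : IsMulCommutative P := by
        constructor; constructor
        intro a b
        have h1 : ((a * b : P) : G ⧸ M) = ((b * a : P) : G ⧸ M) :=
          congrArg Subtype.val (hPc.is_comm.comm ⟨_, ⟨a, a.2, rfl⟩⟩ ⟨_, ⟨b, b.2, rfl⟩⟩)
        exact inv_mul_eq_one.1 (Subtype.ext (hPM _
          (Subgroup.mul_mem _ (Subgroup.inv_mem _ (a * b : P).2) (b * a : P).2)
          (QuotientGroup.eq.1 h1)))
      refine ⟨?_, hPab⟩
      -- `K = M P`
      set K := M ⊔ (P : Subgroup G) with hKdef
      have hK : K.Normal := by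
        have e : K = ((P : Subgroup G).map (QuotientGroup.mk' M)).comap (QuotientGroup.mk' M) := by
          rw [Subgroup.comap_map_eq, QuotientGroup.ker_mk', sup_comm]
        rw [e]
        exact Subgroup.Normal.comap hPn _
      have := Fintype.ofFinite K
      set M' := M.subgroupOf K with hM'
      have := Fintype.ofFinite M'
      have hidx : ∃ k, M'.index = p ^ k := by
        obtain ⟨k, hk⟩ := P.isPGroup'.exists_card_eq
        have h1 : M'.index ∣ p ^ k := by
          rw [← hk]
          show M.relIndex K ∣ _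
          rw [hKdef, sup_comm, Subgroup.relIndex_sup_right]
          exact (Subgroup.index_dvd_card _)
        obtain ⟨j, -, hj⟩ := (Nat.dvd_prime_pow hp).1 h1
        exact ⟨j, hj⟩
      -- every character of `M` is invariant in `K`
      have hinv : ∀ θ : M' → ℂ, Cfsg.IsIrrCharacter M' θ → ∀ x : K,
          Clifford.conjFn x θ = θ := by
        intro θ hθ
        obtain ⟨η, hη⟩ := Block.exists_over_constituent (G := K) (⟨θ, hθ⟩ : Cfsg.IrrCharacter M')
        set T := Clifford.inertia (G := K) θ with hT
        have := Fintype.ofFinite T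
        obtain ⟨ψ, hψ, hind, -⟩ := Clifford.exists_indFun_inertia T
          (Clifford.le_inertia (Char.irr_isClassFunction hθ)) hθ
          (fun g => Clifford.mem_inertia_iff_conjFn) η.2 hη
        have hTtop : T = ⊤ := by
          rw [← Subgroup.index_eq_one]
          obtain ⟨k, hk⟩ := hidx
          obtain ⟨j, -, hj⟩ := (Nat.dvd_prime_pow hp).1 (hk ▸ Subgroup.index_dvd_of_le
            (Clifford.le_inertia (Char.irr_isClassFunction hθ)) : T.index ∣ p ^ k)
          rw [hj]
          rcases j with _ | j
          · simp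
          · exfalso
            refine degrees_normal K h η ?_
            obtain ⟨d, hd⟩ := Char.char_apply_one_eq_nat (Char.irr_isCharacter hψ)
            have he : Cfsg.charDegree (η : K → ℂ) = T.index * d := by
              apply Nat.cast_injective (R := ℂ)
              rw [BlockB.charDegree_cast (Char.irr_isCharacter η.2), ← hind, Char.indFun_apply_one,
                hd, Nat.cast_mul]
            rw [he, hj]
            exact (dvd_pow_self p (Nat.succ_ne_zero j)).mul_right _
        intro x
        exact Clifford.mem_inertia_iff_conjFn.1 (show x ∈ T by rw [hTtop]; exact Subgroup.mem_top x)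
      -- so every element of `P` fixes every class of `M`
      have hcl : ∀ (x : K) (C : ConjClasses M'),
          ConjClasses.map (MulAut.conjNormal (H := M') x).toMonoidHom C = C := by
        intro x
        have := Fintype.ofFinite (ConjClasses M')
        have e1 := Char.natCard_fixed_irr_equiv (MulAut.conjNormal (H := M') x)
        have e2 : Nat.card {χ : Cfsg.IrrCharacter M' //
            (χ : M' → ℂ) ∘ (MulAut.conjNormal (H := M') x) = (χ : M' → ℂ)} =
            Nat.card (Cfsg.IrrCharacter M') := by
          refine Nat.card_congr (Equiv.subtypeUnivEquiv fun χ => ?_)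
          have := hinv χ χ.2 x
          funext m
          refine Eq.trans ?_ (congr_fun this m)
          exact congrArg (χ : M' → ℂ) (Subtype.ext (by simp [Clifford.coe_conjN]))
        rw [e2, Char.irr_card_eq] at e1
        intro C
        by_contra hC
        have hlt' : Nat.card {C : ConjClasses M' //
            ConjClasses.map (MulAut.conjNormal (H := M') x).toMonoidHom C = C} <
            Nat.card (ConjClasses M') := Finite.card_subtype_lt hC
        omega
      -- fixed points in every class
      have := Fintype.ofFinite M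
      set C0 := (Subgroup.centralizer (P : Set G)).subgroupOf M with hC0
      have hC0top : C0 = ⊤ := by
        refine StructB.eq_top_of_conj_cover C0 fun g => ?_
        let g' : M' := ⟨⟨g, Subgroup.mem_sup_left g.2⟩, Subgroup.mem_subgroupOf.2 g.2⟩
        let X := {y : G // ∃ z : M, y = (z : G) * (g : G) * (z : G)⁻¹}
        letI : MulAction P X :=
          { smul := fun x y => ⟨(x : G) * y.1 * (x : G)⁻¹, by
              obtain ⟨z, hz⟩ := y.2
              have hc := hcl ⟨x, Subgroup.mem_sup_right x.2⟩ (ConjClasses.mk g')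
              obtain ⟨w, hw⟩ := isConj_iff.1 (ConjClasses.mk_eq_mk_iff_isConj.1 hc.symm)
              have hw' : ((w : K) : G) * (g : G) * ((w : K) : G)⁻¹ = (x : G) * g * (x : G)⁻¹ := by
                have := congrArg (fun t : M' => ((t : K) : G)) hw
                simpa [g'] using this
              refine ⟨⟨(x : G) * z * (x : G)⁻¹, hMn.conj_mem _ z.2 _⟩ *
                ⟨((w : K) : G), Subgroup.mem_subgroupOf.1 w.2⟩, ?_⟩
              rw [hz]
              calc (x : G) * ((z : G) * g * (z : G)⁻¹) * (x : G)⁻¹
                  = (x : G) * z * (x : G)⁻¹ * ((x : G) * g * (x : G)⁻¹) *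
                    ((x : G) * z * (x : G)⁻¹)⁻¹ := by group
                _ = _ := by rw [← hw']; simp [mul_assoc]⟩
            one_smul := fun y => Subtype.ext (by
              show ((1 : P) : G) * y.1 * ((1 : P) : G)⁻¹ = y.1
              simp)
            mul_smul := fun a b y => Subtype.ext (by
              show ((a * b : P) : G) * y.1 * ((a * b : P) : G)⁻¹ =
                (a : G) * ((b : G) * y.1 * (b : G)⁻¹) * (a : G)⁻¹
              simp [mul_assoc]) }
        have hXc : Nat.card X ∣ Nat.card M := by
          rw [← Char.natCard_carrier_mul_centralizer (G := M) g]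
          refine (dvd_of_eq (Nat.card_congr ?_)).trans (Dvd.intro _ rfl)
          exact
            { toFun := fun y => ⟨⟨y.1, by
                obtain ⟨z, hz⟩ := y.2
                exact hz ▸ M.mul_mem (M.mul_mem z.2 g.2) (M.inv_mem z.2)⟩, by
                obtain ⟨z, hz⟩ := y.2
                exact ConjClasses.mem_carrier_iff_mk_eq.2 (ConjClasses.mk_eq_mk_iff_isConj.2
                  (isConj_iff.2 ⟨z, Subtype.ext hz.symm⟩).symm)⟩
              invFun := fun y => ⟨(y.1 : G), by
                obtain ⟨z, hz⟩ := isConj_iff.1 (ConjClasses.mk_eq_mk_iff_isConj.1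
                  (ConjClasses.mem_carrier_iff_mk_eq.1 y.2).symm)
                exact ⟨z, (congrArg Subtype.val hz).symm⟩⟩
              left_inv := fun y => rfl
              right_inv := fun y => rfl }
        obtain ⟨⟨y, z, hy⟩, hfix⟩ := P.isPGroup'.nonempty_fixed_point_of_prime_not_dvd_card X
          (fun hd => (hp.coprime_iff_not_dvd.1 hMc.symm) (hd.trans hXc))
        refine ⟨z, Subgroup.mem_subgroupOf.2 (Subgroup.mem_centralizer_iff.2 fun x hx => ?_)⟩
        have := congrArg Subtype.val (hfix ⟨x, hx⟩)
        have e : ((z * g * z⁻¹ : M) : G) = y := hy.symm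
        rw [e]
        exact mul_inv_eq_iff_eq_mul.1 this
      have hcent : ∀ m ∈ M, ∀ x ∈ (P : Subgroup G), x * m = m * x := fun m hm x hx =>
        Subgroup.mem_centralizer_iff.1
          (Subgroup.mem_subgroupOf.1 (hC0top ▸ Subgroup.mem_top (⟨m, hm⟩ : M))) x hx
      -- `P` is normal
      constructor
      intro x hx g
      have hxK : g * x * g⁻¹ ∈ K := hK.conj_mem _ (Subgroup.mem_sup_right hx) g
      rw [hKdef, Subgroup.mem_sup_of_normal_left] at hxK
      obtain ⟨m, hm, y, hy, he⟩ := hxK
      suffices m = 1 by rw [← he, this, one_mul]; exact hy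
      obtain ⟨k, hk⟩ := P.isPGroup' ⟨x, hx⟩
      obtain ⟨l, hl⟩ := P.isPGroup' ⟨y, hy⟩
      have hx' : x ^ p ^ k = 1 := (congrArg Subtype.val hk :)
      have hy' : y ^ p ^ l = 1 := (congrArg Subtype.val hl :)
      have hcmy : Commute m y := (hcent m hm y hy).symm
      have h1 : (m * y) ^ p ^ (k + l) = 1 := by
        rw [he, conj_pow, pow_add, pow_mul, hx', one_pow, mul_one, mul_inv_cancel]
      rw [hcmy.mul_pow, pow_add p k l, mul_comm (p ^ k), pow_mul y, hy', one_pow, mul_one] at h1
      have h2 : orderOf m ∣ p ^ (l + k) := by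
        rw [pow_add]; exact orderOf_dvd_of_pow_eq_one h1
      have h3 : orderOf m ∣ Nat.card M := by
        rw [← Subgroup.orderOf_mk m hm]; exact orderOf_dvd_natCard _
      exact orderOf_eq_one_iff.1 (Nat.eq_one_of_dvd_coprimes (hMc.pow_right _) h3 h2)

/-- An abelian normal Sylow subgroup makes every degree prime to `p`. -/
theorem not_dvd_of_normal_comm (P : Sylow p G) (hn : (P : Subgroup G).Normal)
    (hc : IsMulCommutative P) (χ : Cfsg.IrrCharacter G) :
    ¬ p ∣ Cfsg.charDegree (χ : G → ℂ) := by
  intro hd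
  obtain ⟨m, ρ, hρ, he⟩ := χ.2
  have h1 := Char.ito_degree_dvd_index ρ (P : Subgroup G)
    fun a ha b hb => congrArg Subtype.val (hc.is_comm.comm ⟨a, ha⟩ ⟨b, hb⟩)
  have h2 : Cfsg.charDegree (χ : G → ℂ) = Module.finrank ℂ (Fin m → ℂ) := by
    apply Nat.cast_injective (R := ℂ)
    rw [BlockB.charDegree_cast (Char.irr_isCharacter χ.2), ← he, Representation.char_one]
  exact P.not_dvd_index (hd.trans (h2 ▸ h1))

end CfsgLib.BlockB.ItoPSolvable
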