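import Cfsg.Agent.Lib.Block.BRDegrees
import Cfsg.Agent.Lib.Block.PrimeSylowPrincipal
import Cfsg.Agent.Lib.BlockB.DegreeGraphComponents
import Cfsg.Agent.Lib.BlockB.ItoPSolvable
import Cfsg.Agent.Lib.Char.Burnside
import Cfsg.Agent.Lib.Clifford.CentralTypeEmbed
import Cfsg.Agent.Lib.BlockB.PModular
import Cfsg.Agent.Lib.InvChar.Basic

/-!
Groups all of whose nonlinear degrees are prime: no perfect ones, hence at most three degrees.
-/

set_option autoImplicit false
set_option linter.unusedSectionVars false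

namespace CfsgLib.BlockB.PrimeDegrees

open CfsgLib
open scoped ComplexConjugate

universe u

section Simple

variable {S : Type u} [Group S] [Finite S] [IsSimpleGroup S]

theorem norm_ne_degree {χ : S → ℂ} (hχ : Cfsg.IsIrrCharacter S χ)
    (h1 : Cfsg.charDegree χ ≠ 1) {z : S} (hz : z ≠ 1) :
    ‖χ z‖ ≠ (Cfsg.charDegree χ : ℝ) := by
  intro hn
  have := Fintype.ofFinite S
  have hc := Clifford.CentralTypeEmbed.cast_deg hχ
  obtain ⟨d, σ, hσ, rfl⟩ := hχ
  rw [Representation.char_one] at hc
  have hd : Cfsg.charDegree σ.character = Module.finrank ℂ (Fin d → ℂ) := by exact_mod_cast hc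
  rw [hd] at hn
  obtain ⟨ω, hω⟩ := (Char.norm_char_eq_iff σ z).1 hn
  have hmem : z ∈ Char.scalarSubgroup σ := ⟨ω, hω⟩
  have htop : Char.scalarSubgroup σ = ⊤ :=
    ((Char.scalarSubgroup_normal σ).eq_bot_or_eq_top).resolve_left
      fun h => hz (Subgroup.mem_bot.1 (h ▸ hmem))
  refine h1 (hd.trans (Char.finrank_eq_one_of_scalar σ fun g => ?_))
  exact (htop ▸ Subgroup.mem_top g : g ∈ Char.scalarSubgroup σ)

/-- A prime degree is the order of the Sylow subgroup. -/
theorem sylow_card_of_degree {r : ℕ} [hr : Fact r.Prime] (χ : Cfsg.IrrCharacter S)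
    (hdeg : Cfsg.charDegree (χ : S → ℂ) = r) (R : Sylow r S) : Nat.card R = r := by
  classical
  have := Fintype.ofFinite S
  have := Fintype.ofFinite (R : Subgroup S)
  have := Fintype.ofFinite (Cfsg.IrrCharacter (R : Subgroup S))
  have h1 : Cfsg.charDegree (χ : S → ℂ) ≠ 1 := hdeg ▸ hr.out.one_lt.ne'
  have hvan : ∀ z : (R : Subgroup S), z ∈ Subgroup.center (R : Subgroup S) → z ≠ 1 →
      (χ : S → ℂ) (z : S) = 0 := by
    intro z hz hz1
    have hle : (R : Subgroup S) ≤ Subgroup.centralizer ({(z : S)} : Set S) := fun w hw =>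
      Subgroup.mem_centralizer_singleton_iff.2
        (congrArg Subtype.val (Subgroup.mem_center_iff.1 hz ⟨w, hw⟩))
    have hnd : ¬ r ∣ (Subgroup.centralizer ({(z : S)} : Set S)).index := fun h =>
      R.not_dvd_index (h.trans (Subgroup.index_dvd_of_le hle))
    obtain ⟨χ, d, σ, hσ, rfl⟩ := χ
    have hd : Cfsg.charDegree σ.character = Module.finrank ℂ (Fin d → ℂ) := by
      have hc := Clifford.CentralTypeEmbed.cast_deg (Char.isIrrCharacter_of_rep σ)
      rw [Representation.char_one] at hc
      exact_mod_cast hc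
    rcases Char.char_eq_zero_or_norm_of_coprime σ (z : S) (by
      rw [← hd, hdeg]; exact hr.out.coprime_iff_not_dvd.2 hnd) with h | h
    · exact h
    · exact absurd (hd ▸ h)
        (norm_ne_degree (Char.isIrrCharacter_of_rep σ) h1 fun e => hz1 (Subtype.ext e))
  set f : ↥(R : Subgroup S) → ℂ := fun w => (χ : S → ℂ) (w : S) with hf
  have hfc : Cfsg.IsCharacter (R : Subgroup S) f :=
    Char.isCharacter_restrict (Char.irr_isCharacter χ.2) _
  have hf1 : f 1 = (r : ℂ) := by
    rw [hf]
    show (χ : S → ℂ) 1 = _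
    rw [← BlockB.charDegree_cast (Char.irr_isCharacter χ.2), hdeg]
  have hdvd : r ∣ Nat.card S := hdeg ▸ BlockB.irr_degree_dvd_card χ
  have hRne : Nontrivial (R : Subgroup S) := Finite.one_lt_card_iff_nontrivial.1
    (lt_of_lt_of_le hr.out.one_lt (Nat.le_of_dvd Nat.card_pos (R.dvd_card_of_dvd_card hdvd)))
  obtain ⟨j, hj⟩ := R.2.exists_card_eq
  -- the Sylow subgroup is abelian
  have hab : ∀ a b : (R : Subgroup S), a * b = b * a := by
    by_contra hna
    have hcne : commutator (R : Subgroup S) ≠ ⊥ := fun h => hna fun a b => by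
      rw [commutator_def, Subgroup.commutator_eq_bot_iff_le_centralizer] at h
      exact Subgroup.mem_centralizer_iff.1 (h (Subgroup.mem_top b)) a (Subgroup.mem_top a)
    obtain ⟨z, hz, hzZ, hz1⟩ : ∃ z ∈ commutator (R : Subgroup S),
        z ∈ Subgroup.center (R : Subgroup S) ∧ z ≠ 1 := by
      obtain ⟨z, h1, h2, h3⟩ := InvChar.exists_mem_center_of_normal R.2 (commutator _) hcne
      exact ⟨z, h1, h3, h2⟩
    choose m hm using fun φ : Cfsg.IrrCharacter (R : Subgroup S) =>
      Char.classInner_isCharacter_nat hfc (Char.irr_isCharacter φ.2)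
    have hres : f = ∑ φ : Cfsg.IrrCharacter (R : Subgroup S), (m φ : ℂ) • (φ : ↥(R : Subgroup S) → ℂ) := by
      conv_lhs => rw [Char.classFunction_eq_sum (Char.isCharacter_isClassFunction hfc)]
      exact Finset.sum_congr rfl fun φ _ => by rw [hm]
    have hsum : ∑ φ : Cfsg.IrrCharacter (R : Subgroup S),
        m φ * Cfsg.charDegree (φ : ↥(R : Subgroup S) → ℂ) = r := by
      have h := congrFun hres 1
      rw [hf1, Finset.sum_apply] at h
      have h' : (r : ℂ) = ((∑ φ : Cfsg.IrrCharacter (R : Subgroup S),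
          m φ * Cfsg.charDegree (φ : ↥(R : Subgroup S) → ℂ) : ℕ) : ℂ) := by
        rw [h, Nat.cast_sum]
        refine Finset.sum_congr rfl fun φ _ => ?_
        rw [Pi.smul_apply, smul_eq_mul, Nat.cast_mul,
          BlockB.charDegree_cast (Char.irr_isCharacter φ.2)]
      exact_mod_cast h'.symm
    by_cases hbig : ∃ φ : Cfsg.IrrCharacter (R : Subgroup S),
        m φ ≠ 0 ∧ Cfsg.charDegree (φ : ↥(R : Subgroup S) → ℂ) ≠ 1
    · obtain ⟨φ, hmφ, hφ1⟩ := hbig
      have hle : m φ * Cfsg.charDegree (φ : ↥(R : Subgroup S) → ℂ) ≤ r := le_of_le_of_eq (Finset.single_le_sum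
        (f := fun φ : Cfsg.IrrCharacter (R : Subgroup S) => m φ * Cfsg.charDegree (φ : ↥(R : Subgroup S) → ℂ))
        (fun _ _ => Nat.zero_le _) (Finset.mem_univ φ)) hsum
      have hφd : r ∣ Cfsg.charDegree (φ : ↥(R : Subgroup S) → ℂ) := by
        obtain ⟨i, -, hi⟩ := (Nat.dvd_prime_pow hr.out).1 (hj ▸ BlockB.irr_degree_dvd_card φ)
        rcases i with _ | i
        · exact absurd hi hφ1
        · exact hi ▸ dvd_pow_self r i.succ_ne_zero
      have hge : r ≤ Cfsg.charDegree (φ : ↥(R : Subgroup S) → ℂ) := Nat.le_of_dvd (Nat.pos_of_ne_zero fun e => by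
        have h0 := BlockB.irr_degree_dvd_card φ
        rw [e, zero_dvd_iff] at h0
        exact Nat.card_pos.ne' h0) hφd
      have hm1 : m φ = 1 := by nlinarith [Nat.pos_of_ne_zero hmφ, hr.out.pos]
      have hfφ : f = (φ : ↥(R : Subgroup S) → ℂ) := by
        conv_lhs => rw [hres]
        rw [Finset.sum_eq_single φ]
        · rw [hm1, Nat.cast_one, one_smul]
        · intro ψ _ hψ
          have hz0 : m ψ * Cfsg.charDegree (ψ : ↥(R : Subgroup S) → ℂ) = 0 := by
            have h := Finset.sum_le_univ_sum_of_nonneg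
              (f := fun φ : Cfsg.IrrCharacter (R : Subgroup S) => m φ * Cfsg.charDegree (φ : ↥(R : Subgroup S) → ℂ))
              (s := {φ, ψ}) (fun _ => Nat.zero_le _)
            rw [Finset.sum_pair hψ.symm, hsum, hm1, one_mul] at h
            omega
          rcases Nat.mul_eq_zero.1 hz0 with h | h
          · rw [h, Nat.cast_zero, zero_smul]
          · exfalso
            have h0 := BlockB.irr_degree_dvd_card ψ
            rw [h, zero_dvd_iff] at h0
            exact Nat.card_pos.ne' h0
        · intro h; exact absurd (Finset.mem_univ φ) h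
      have h := Clifford.CentralTypeEmbed.norm_of_central φ.2 hzZ
      rw [← hfφ] at h
      rw [show f z = (χ : S → ℂ) (z : S) from rfl, hvan z hzZ hz1, norm_zero] at h
      rw [hfφ] at h
      have hz0 : Cfsg.charDegree (φ : ↥(R : Subgroup S) → ℂ) = 0 := by exact_mod_cast h.symm
      have := hr.out.pos
      omega
    · push Not at hbig
      have h0 : f z = (r : ℂ) := by
        rw [← hf1, hres, Finset.sum_apply, Finset.sum_apply]
        refine Finset.sum_congr rfl fun φ _ => ?_
        rcases eq_or_ne (m φ) 0 with h | h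
        · simp [h]
        · obtain ⟨l, hl⟩ := Char.exists_hom_of_degree_one (Char.irr_isCharacter φ.2)
            (by rw [← BlockB.charDegree_cast (Char.irr_isCharacter φ.2), hbig φ h, Nat.cast_one])
          simp only [Pi.smul_apply, hl, map_one]
          rw [MonoidHom.mem_ker.1 (Abelianization.commutator_subset_ker l hz)]
      rw [show f z = (χ : S → ℂ) (z : S) from rfl, hvan z hzZ hz1] at h0
      exact hr.out.ne_zero (by exact_mod_cast h0.symm)
  -- it has order `r`
  have hvan' : ∀ z : (R : Subgroup S), z ≠ 1 → f z = 0 := fun z hz =>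
    hvan z (Subgroup.mem_center_iff.2 fun w => hab w z) hz
  obtain ⟨k, hk⟩ := Char.classInner_isCharacter_nat hfc
    (Char.irr_isCharacter (Char.isIrrCharacter_one (G := (R : Subgroup S))))
  rw [Char.classInner_def, Finset.sum_eq_single (1 : (R : Subgroup S))
    (fun z _ hz => by rw [hvan' z hz, zero_mul]) (fun h => absurd (Finset.mem_univ _) h),
    hf1, map_one, mul_one, inv_mul_eq_iff_eq_mul₀ (Nat.cast_ne_zero.2 Nat.card_pos.ne')] at hk
  have hk' : r = Nat.card (R : Subgroup S) * k := by exact_mod_cast hk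
  rcases (Nat.dvd_prime hr.out).1 (Dvd.intro k hk'.symm) with h | h
  · exact absurd h (Finite.one_lt_card_iff_nontrivial.2 hRne).ne'
  · exact h

/-- No irreducible degree two. -/
theorem degree_ne_two (hperf : commutator S = ⊤) (χ : Cfsg.IrrCharacter S) :
    Cfsg.charDegree (χ : S → ℂ) ≠ 2 := by
  intro h2
  have := Fintype.ofFinite S
  have : Fact (Nat.Prime 2) := ⟨Nat.prime_two⟩
  obtain ⟨t, ht⟩ := exists_prime_orderOf_dvd_card' (G := S) 2 (h2 ▸ BlockB.irr_degree_dvd_card χ)
  have ht1 : t ≠ 1 := fun e => by rw [e, orderOf_one] at ht; norm_num at ht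
  obtain ⟨χ, d, σ, hσ, rfl⟩ := χ
  have hc := Clifford.CentralTypeEmbed.cast_deg (Char.isIrrCharacter_of_rep σ)
  rw [h2, Representation.char_one, Module.finrank_fin_fun] at hc
  obtain rfl : d = 2 := by exact_mod_cast hc.symm
  refine norm_ne_degree (Char.isIrrCharacter_of_rep σ) (by rw [h2]; norm_num) ht1 ?_
  rw [h2]
  let d' : S →* ℂˣ := (Units.map LinearMap.det).comp (Clifford.repUnits σ)
  have hdet : LinearMap.det (σ t) = 1 := by
    have hk : t ∈ d'.ker := (Abelianization.commutator_subset_ker d') (hperf ▸ Subgroup.mem_top t)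
    exact congrArg Units.val (MonoidHom.mem_ker.1 hk)
  set A := LinearMap.toMatrix' (σ t) with hA
  have hAA : A * A = 1 := by
    rw [hA, ← LinearMap.toMatrix'_mul, ← map_mul,
      show t * t = 1 by rw [← pow_two, ← ht, pow_orderOf_eq_one], map_one,
      LinearMap.toMatrix'_one]
  have hAd : A.det = 1 := by rw [hA, LinearMap.det_toMatrix']; exact hdet
  have htr : σ.character t = A 0 0 + A 1 1 := by
    show LinearMap.trace ℂ _ (σ t) = _
    rw [LinearMap.trace_eq_matrix_trace ℂ (Pi.basisFun ℂ (Fin 2)),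
      LinearMap.toMatrix_eq_toMatrix', Matrix.trace_fin_two, hA]
  rw [Matrix.det_fin_two] at hAd
  have e00 := congrFun (congrFun hAA 0) 0
  have e01 := congrFun (congrFun hAA 0) 1
  have e10 := congrFun (congrFun hAA 1) 0
  have e11 := congrFun (congrFun hAA 1) 1
  simp [Matrix.mul_apply, Fin.sum_univ_two] at e00 e01 e10 e11
  have hsq : (A 0 0 + A 1 1) ^ 2 = 4 := by linear_combination e00 + e11 + 2 * hAd
  rw [htr]
  rcases (show A 0 0 + A 1 1 = 2 ∨ A 0 0 + A 1 1 = -2 from
    sq_eq_sq_iff_eq_or_eq_neg.1 (by rw [hsq]; norm_num)) with h | h <;> simp [h]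

/-- A perfect simple group has a degree that is neither one nor prime. -/
theorem not_prime_degrees (hperf : commutator S = ⊤)
    (hall : ∀ χ : Cfsg.IrrCharacter S,
      Cfsg.charDegree (χ : S → ℂ) = 1 ∨ (Cfsg.charDegree (χ : S → ℂ)).Prime) : False := by
  classical
  have := Fintype.ofFinite S
  have := Fintype.ofFinite (Cfsg.IrrCharacter S)
  have hone : ∀ χ : Cfsg.IrrCharacter S, Cfsg.charDegree (χ : S → ℂ) = 1 →
      (χ : S → ℂ) = fun _ => 1 := fun χ h => Block.BrauerReynolds.eq_one_of_degree_one hperf χ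
    (by rw [← BlockB.charDegree_cast (Char.irr_isCharacter χ.2), h, Nat.cast_one])
  have hdata : ∀ χ : Cfsg.IrrCharacter S, (χ : S → ℂ) = (fun _ => 1) ∨
      (Cfsg.charDegree (χ : S → ℂ)).Prime := fun χ => (hall χ).imp_left (hone χ)
  obtain ⟨χ₀, hχ₀⟩ : ∃ χ : Cfsg.IrrCharacter S, (Cfsg.charDegree (χ : S → ℂ)).Prime := by
    by_contra hno
    push Not at hno
    have hcomm : ∀ a b : S, a * b = b * a := fun a b =>
      Char.comm_iff_forall_degree_one.2 (fun χ => by
        rw [← BlockB.charDegree_cast (Char.irr_isCharacter χ.2),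
          (hall χ).resolve_right (hno χ), Nat.cast_one]) a b
    have hbot : commutator S = ⊥ := by
      rw [commutator_def, Subgroup.commutator_eq_bot_iff_le_centralizer]
      exact fun x _ => Subgroup.mem_centralizer_iff.2 fun z _ => hcomm z x
    rw [hbot] at hperf
    exact bot_ne_top hperf
  obtain ⟨χm, hχm, hmax⟩ := Finset.exists_max_image
    (Finset.univ.filter fun χ : Cfsg.IrrCharacter S => (Cfsg.charDegree (χ : S → ℂ)).Prime)
    (fun χ => Cfsg.charDegree (χ : S → ℂ)) ⟨χ₀, Finset.mem_filter.2 ⟨Finset.mem_univ _, hχ₀⟩⟩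
  set p := Cfsg.charDegree (χm : S → ℂ) with hp
  have : Fact p.Prime := ⟨(Finset.mem_filter.1 hχm).2⟩
  have hpodd : p % 2 = 1 := Nat.odd_iff.1
    ((Fact.out : p.Prime).odd_of_ne_two (degree_ne_two hperf χm))
  let P : Sylow p S := default
  have hP := sylow_card_of_degree χm rfl P
  obtain ⟨M, hM⟩ := BlockB.exists_isPModular (p := p) Fact.out
  set e := (Subgroup.centralizer ((P : Subgroup S) : Set S)).relIndex
    (Subgroup.normalizer ((P : Subgroup S) : Set S)) with he
  have he2 : 2 ≤ e := Block.BrauerReynolds.two_le_relIndex hperf P hP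
  obtain ⟨E, a, hE, -, hshape, hdeg, -, hgram, -⟩ := Block.PrimeRows.exists_rows p M hM P hP e he.symm
  have hucard : Nat.card (ZMod p)ˣ = p - 1 := by rw [Nat.card_eq_fintype_card, ZMod.card_units]
  have hEle : e ≤ p - 1 := hucard ▸ hE ▸ Subgroup.card_le_card_group E
  -- nontrivial members have no constant row
  have hnc : ∀ χ ∈ Cfsg.principalBlock M S, (χ : S → ℂ) ≠ (fun _ => 1) →
      ∀ c : ℤ, (c = 1 ∨ c = -1) → ¬ ∀ v, a χ v = c := by
    intro χ hχ hχ1 c hc hall'
    have hw := (hdata χ).resolve_left hχ1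
    have hwp : Cfsg.charDegree (χ : S → ℂ) ≤ p :=
      hmax χ (Finset.mem_filter.2 ⟨Finset.mem_univ _, hw⟩)
    have hw2 := hw.two_le
    have hwodd : Cfsg.charDegree (χ : S → ℂ) % 2 = 1 :=
      Nat.odd_iff.1 (hw.odd_of_ne_two (degree_ne_two hperf χ))
    have h := hdeg χ hχ
    simp only [hall', Finset.sum_const, Finset.card_univ, ZMod.card_units, nsmul_eq_mul] at h
    obtain ⟨q, hq⟩ := (Int.modEq_iff_dvd.1 h)
    rw [Nat.cast_sub (Fact.out : p.Prime).one_lt.le, Nat.cast_one] at hq
    have hq' : (Cfsg.charDegree (χ : S → ℂ) : ℤ) = (p : ℤ) * (c - q) - c := by linarith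
    have hwp' : (Cfsg.charDegree (χ : S → ℂ) : ℤ) ≤ p := by exact_mod_cast hwp
    have hw2' : (2 : ℤ) ≤ Cfsg.charDegree (χ : S → ℂ) := by exact_mod_cast hw2
    have hp0 : (0 : ℤ) < p := by exact_mod_cast (Fact.out : p.Prime).pos
    rcases hc with rfl | rfl
    · have h3 : (1 : ℤ) - q = 1 := by
        rcases lt_trichotomy ((1 : ℤ) - q) 1 with h' | h' | h'
        · nlinarith
        · exact h'
        · nlinarith
      rw [h3, mul_one] at hq'
      omega
    · have h3 : (-1 : ℤ) - q ≤ 0 := by
        by_contra h'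
        push Not at h'
        nlinarith
      nlinarith
  -- two points in different cosets
  have hEtop : ∃ s : (ZMod p)ˣ, s ∉ E := by
    by_contra hall'
    push Not at hall'
    obtain ⟨χ, hχ, hχ1⟩ : ∃ χ ∈ Cfsg.principalBlock M S, (χ : S → ℂ) ≠ fun _ => 1 := by
      by_contra hno
      push Not at hno
      have hg := hgram 1 1
      rw [if_pos (hall' _), finsum_mem_eq_finite_toFinset_sum _ (Cfsg.principalBlock M S).toFinite,
        Finset.sum_congr rfl (g := fun χ => a χ 1 * a χ 1) (fun _ _ => rfl)] at hg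
      have hle : ∑ χ ∈ (Cfsg.principalBlock M S).toFinite.toFinset, a χ 1 * a χ 1 ≤ 1 := by
        have hsub : (Cfsg.principalBlock M S).toFinite.toFinset ⊆
            {(⟨fun _ => 1, Char.isIrrCharacter_one⟩ : Cfsg.IrrCharacter S)} := fun χ hχ =>
          Finset.mem_singleton.2 (Subtype.ext (hno χ ((Set.Finite.mem_toFinset _).1 hχ)))
        refine (Finset.sum_le_card_nsmul _ _ 1 fun χ hχ => ?_).trans ?_
        · obtain ⟨c, hc, h | ⟨w, h⟩⟩ := hshape χ ((Set.Finite.mem_toFinset _).1 hχ)
          · rw [h 1]; rcases hc with rfl | rfl <;> norm_num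
          · rw [(h 1).1 (hall' _)]; rcases hc with rfl | rfl <;> norm_num
        · have := Finset.card_le_card hsub
          rw [Finset.card_singleton] at this
          simp only [nsmul_eq_mul, mul_one]
          exact_mod_cast this
      omega
    obtain ⟨c, hc, h | ⟨w, h⟩⟩ := hshape χ hχ
    · exact hnc χ hχ hχ1 c hc h
    · exact hnc χ hχ hχ1 c hc fun v => (h v).1 (hall' _)
  obtain ⟨s, hs⟩ := hEtop
  have hg := hgram 1 s
  rw [if_neg (by rwa [inv_one, one_mul]), zero_add,
    finsum_mem_eq_finite_toFinset_sum _ (Cfsg.principalBlock M S).toFinite] at hg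
  have hterm : ∀ χ ∈ (Cfsg.principalBlock M S).toFinite.toFinset,
      a χ 1 * a χ s ≤ if (χ : S → ℂ) = (fun _ => 1) then 1 else 0 := by
    intro χ hχ
    rw [Set.Finite.mem_toFinset] at hχ
    obtain ⟨c, hc, h | ⟨w, h⟩⟩ := hshape χ hχ
    · have h1 : (χ : S → ℂ) = fun _ => 1 := by
        by_contra h1
        exact hnc χ hχ h1 c hc h
      rw [h 1, h s, if_pos h1]
      rcases hc with rfl | rfl <;> norm_num
    · have h0 : a χ 1 * a χ s = 0 := by
        by_cases hw : w⁻¹ * 1 ∈ E
        · rw [(h s).2 fun hs' => hs ?_, mul_zero]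
          rw [mul_one] at hw
          simpa using E.mul_mem (E.inv_mem hw) hs'
        · rw [(h 1).2 hw, zero_mul]
      rw [h0]
      split_ifs <;> norm_num
  have hle := Finset.sum_le_sum hterm
  rw [hg, Finset.sum_boole] at hle
  have hcard : ((Cfsg.principalBlock M S).toFinite.toFinset.filter
      fun χ : Cfsg.IrrCharacter S => (χ : S → ℂ) = fun _ => 1).card ≤ 1 :=
    Finset.card_le_one.2 fun x hx y hy => Subtype.ext
      ((Finset.mem_filter.1 hx).2.trans (Finset.mem_filter.1 hy).2.symm)
  omega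

end Simple

variable {G : Type u} [Group G] [Finite G]

/-- A group with prime degrees has derived group perfect only if trivial. -/
theorem eq_bot_of_perfect (hprime : ∀ d ∈ Cfsg.charDegrees G, d = 1 ∨ d.Prime)
    (hperf : ⁅commutator G, commutator G⁆ = commutator G) : commutator G = ⊥ := by
  classical
  by_contra hne
  set N := commutator G with hN
  have hNn : Nontrivial N := (Subgroup.nontrivial_iff_ne_bot N).2 hne
  obtain ⟨M, hM, hMmax⟩ := Set.Finite.exists_maximal (Set.toFinite
    {M : Subgroup N | M.Normal ∧ M ≠ ⊤}) ⟨⊥, inferInstance, bot_ne_top⟩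
  have : M.Normal := hM.1
  have hnt : Nontrivial (N ⧸ M) := QuotientGroup.nontrivial_iff.2 hM.2
  have hsimple : IsSimpleGroup (N ⧸ M) := ⟨fun H hH => by
    by_cases htop : H.comap (QuotientGroup.mk' M) = ⊤
    · exact Or.inr (Subgroup.comap_injective (QuotientGroup.mk'_surjective M)
        (htop.trans (Subgroup.comap_top _).symm))
    · left
      have hle : M ≤ H.comap (QuotientGroup.mk' M) := fun y hy => by
        simp [(QuotientGroup.eq_one_iff y).mpr hy]
      have h := hMmax (show _ ∈ {M : Subgroup N | M.Normal ∧ M ≠ ⊤} from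
        ⟨hH.comap _, htop⟩) hle
      rw [← Subgroup.map_comap_eq_self_of_surjective (QuotientGroup.mk'_surjective M) H,
        le_antisymm h hle, QuotientGroup.map_mk'_self]⟩
  have hNperf : commutator N = ⊤ := by
    refine Subgroup.map_injective N.subtype_injective ?_
    rw [Subgroup.map_subtype_commutator, hperf, ← MonoidHom.range_eq_map, Subgroup.range_subtype]
  refine not_prime_degrees (S := N ⧸ M) ?_ fun ψ => ?_
  · rw [eq_top_iff, ← Subgroup.map_top_of_surjective _ (QuotientGroup.mk'_surjective M), ← hNperf,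
      commutator_def, commutator_def, Subgroup.map_commutator,
      Subgroup.map_top_of_surjective _ (QuotientGroup.mk'_surjective M)]
  · have := Fintype.ofFinite G
    have := Fintype.ofFinite N
    let θ : Cfsg.IrrCharacter N := ⟨_, Char.isIrrCharacter_comp_surjective ψ.2
      (QuotientGroup.mk' M) (QuotientGroup.mk'_surjective M)⟩
    obtain ⟨χ, hχ⟩ := Block.exists_over_constituent (G := G) θ
    have hd := ItoPSolvable.charDegree_dvd_of_constituent N χ.2 θ.2 hχ
    have he : Cfsg.charDegree (θ : N → ℂ) = Cfsg.charDegree (ψ : N ⧸ M → ℂ) := by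
      have h1 : (θ : N → ℂ) 1 = (ψ : N ⧸ M → ℂ) 1 := congrArg (ψ : N ⧸ M → ℂ) (map_one _)
      rw [← BlockB.charDegree_cast (Char.irr_isCharacter θ.2),
        ← BlockB.charDegree_cast (Char.irr_isCharacter ψ.2)] at h1
      exact_mod_cast h1
    rw [← he]
    rcases hprime _ ⟨χ, rfl⟩ with h | h
    · exact Or.inl (Nat.dvd_one.1 (h ▸ hd))
    · rcases (Nat.dvd_prime h).1 hd with h' | h'
      · exact Or.inl h'
      · exact Or.inr (h' ▸ h)

/-- **At most three degrees.** -/
theorem card_charDegrees_le_three (hprime : ∀ d ∈ Cfsg.charDegrees G, d = 1 ∨ d.Prime) :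
    Nat.card (Cfsg.charDegrees G) ≤ 3 := by
  classical
  rcases eq_or_ne (commutator G) ⊥ with hbot | hne
  · have hsub : Cfsg.charDegrees G ⊆ {1} := by
      rintro _ ⟨χ, rfl⟩
      have hcomm : ∀ a b : G, a * b = b * a := fun a b => by
        have h := hbot
        rw [commutator_def, Subgroup.commutator_eq_bot_iff_le_centralizer] at h
        exact Subgroup.mem_centralizer_iff.1 (h (Subgroup.mem_top b)) a (Subgroup.mem_top a)
      have h1 := Char.irr_degree_one_of_comm hcomm χ.2
      rw [← BlockB.charDegree_cast (Char.irr_isCharacter χ.2)] at h1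
      exact Set.mem_singleton_iff.2 (by exact_mod_cast h1)
    have h := Set.ncard_le_ncard hsub (Set.finite_singleton _)
    rw [Set.ncard_singleton] at h
    rw [Nat.card_coe_set_eq]
    omega
  · have hlt : ⁅commutator G, commutator G⁆ < commutator G :=
      lt_of_le_of_ne (Subgroup.commutator_le_right _ _)
        fun h => hne (eq_bot_of_perfect hprime h)
    set m := ⁅commutator G, commutator G⁆.relIndex (commutator G)
    have hm1 : m ≠ 1 := fun h => hlt.not_ge (Subgroup.relIndex_eq_one.1 h)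
    have hpr : ∀ x : Cfsg.relCharDegrees (commutator G), x.1.Prime := by
      rintro ⟨d, χ, ⟨z, hz, hne'⟩, rfl⟩
      rcases hprime _ ⟨χ, rfl⟩ with h | h
      · exfalso
        obtain ⟨l, hl⟩ := Char.exists_hom_of_degree_one (Char.irr_isCharacter χ.2)
          (by rw [← BlockB.charDegree_cast (Char.irr_isCharacter χ.2), h, Nat.cast_one])
        exact hne' (by simp only [hl]; rw [MonoidHom.mem_ker.1 (Abelianization.commutator_subset_ker l hz),
          map_one])
      · exact h
    have hone : ∀ x y : Cfsg.relCharDegrees (commutator G),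
        (RelDegreeGraph.graph (commutator G)).Reachable x y → x = y := by
      rintro x y ⟨w⟩
      induction w with
      | nil => rfl
      | @cons x z y hxz w ih =>
        exfalso
        have hg : Nat.gcd x.1 z.1 = 1 := (Nat.coprime_primes (hpr x) (hpr z)).2 hxz.1
        exact absurd hxz.2 (by simp only [Function.Embedding.subtype_apply, hg]; exact lt_irrefl 1)
    have htwo : Nat.card (Cfsg.relCharDegrees (commutator G)) ≤ 2 := by
      refine (Nat.card_le_card_of_injective (fun x : Cfsg.relCharDegrees (commutator G) =>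
        decide (∃ r : ℕ, r.Prime ∧ r ∣ m ∧ ¬ r ∣ x.1)) fun x y h => hone x y ?_).trans (by simp)
      have h' : (∃ r : ℕ, r.Prime ∧ r ∣ m ∧ ¬ r ∣ x.1) ↔
          ∃ r : ℕ, r.Prime ∧ r ∣ m ∧ ¬ r ∣ y.1 := by simpa using h
      by_cases hx : ∃ r : ℕ, r.Prime ∧ r ∣ m ∧ ¬ r ∣ x.1
      · obtain ⟨r, hr, hrm, hrx⟩ := hx
        obtain ⟨t, ht, htm, hty⟩ := h'.1 ⟨r, hr, hrm, hrx⟩
        exact RelDegreeGraph.reachable_of_not_dvd le_rfl hr ht hrm htm hrx hty
      · have hy : ¬ ∃ r : ℕ, r.Prime ∧ r ∣ m ∧ ¬ r ∣ y.1 := fun h => hx (h'.2 h)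
        push Not at hx hy
        obtain ⟨r, hr, hrm⟩ := Nat.exists_prime_and_dvd hm1
        exact RelDegreeGraph.link_dvd hr.one_lt (hx r hr hrm) (hy r hr hrm)
          (RelDegreeGraph.ne_zero_of_mem x.2)
    have hsub : Cfsg.charDegrees G ⊆ insert 1 (Cfsg.relCharDegrees (commutator G)) := fun d hd => by
      rcases eq_or_ne d 1 with h | h
      · exact Set.mem_insert_iff.2 (Or.inl h)
      · exact Set.mem_insert_iff.2 (Or.inr (DegreeGraphComponents.mem_relCharDegrees hd h))
    have hfin : (Cfsg.relCharDegrees (commutator G)).Finite := by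
      refine (Set.finite_range fun χ : Cfsg.IrrCharacter G => Cfsg.charDegree (χ : G → ℂ)).subset ?_
      rintro _ ⟨χ, -, rfl⟩; exact ⟨χ, rfl⟩
    have h := Set.ncard_le_ncard hsub (hfin.insert 1)
    have h2 := Set.ncard_insert_le 1 (Cfsg.relCharDegrees (commutator G))
    rw [Nat.card_coe_set_eq] at htwo ⊢
    omega

end CfsgLib.BlockB.PrimeDegrees
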