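import Cfsg.Agent.Lib.BlockB.SubsectionForm
import Cfsg.Agent.Lib.BlockA.SectionNonzero
import Cfsg.Agent.Lib.BlockA.BrauerConj
import Cfsg.Agent.Lib.Block.Covering

/-!
The sum `∑ |χ^(x,b)|²` of a subsection written with a coefficient function on the whole group:
integrality, divisibility by the height, positivity.
-/

set_option autoImplicit false
set_option linter.unusedSectionVars false
set_option maxHeartbeats 1000000

namespace CfsgLib.BlockB.SubSum

open Cfsg MonoidAlgebra CfsgLib.Block CfsgLib.BlockA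
open scoped ComplexConjugate

universe u

variable {G : Type u} [Group G] [Fintype G] {p : ℕ} {M : Ideal AlgInt} [M.IsPrime]

/-- The part of `χ` cut out by the coefficient function `β`. -/
noncomputable def subFun (χ β : G → ℂ) (g : G) : ℂ := ∑ k : G, β k * χ (k * g)

open Classical in
/-- The sum over the `p`-regular elements commuting with `x` of the part times the character. -/
noncomputable def subSum (p : ℕ) (χ : G → ℂ) (x : G) (β : G → ℂ) : ℂ :=
  ∑ v : G with (Commute v x ∧ ¬ p ∣ orderOf v), conj (subFun χ β (x * v)) * χ (x * v)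

/-- The conjugate coefficient function. -/
def conjFun (a : G) (β : G → ℂ) : G → ℂ := fun k => β (a⁻¹ * k * a)

open Classical in
theorem subSum_conj {χ : G → ℂ} (hχ : IsClassFunction G χ) (x a : G) (β : G → ℂ) :
    subSum p χ (a * x * a⁻¹) (conjFun a β) = subSum p χ x β := by
  have hfun : ∀ g, subFun χ (conjFun a β) (a * g * a⁻¹) = subFun χ β g := by
    intro g
    unfold subFun conjFun
    refine Fintype.sum_equiv (MulAut.conj a⁻¹).toEquiv _ _ fun k => ?_
    simp only [MulEquiv.toEquiv_eq_coe, MulEquiv.coe_toEquiv, MulAut.conj_apply, inv_inv]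
    congr 1
    rw [← hχ (a⁻¹ * k * a * g) a]
    congr 1
    group
  unfold subSum
  refine Finset.sum_equiv (MulAut.conj a⁻¹).toEquiv (fun v => ?_) (fun v _ => ?_)
  · simp only [MulEquiv.toEquiv_eq_coe, MulEquiv.coe_toEquiv, Finset.mem_filter,
      Finset.mem_univ, true_and, MulEquiv.orderOf_eq]
    refine and_congr_left fun _ => ?_
    have e : MulAut.conj a⁻¹ (a * x * a⁻¹) = x := by simp [mul_assoc]
    conv_rhs => rw [← e]
    exact (commute_map_iff (MulAut.conj a⁻¹).injective).symm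
  · simp only [MulEquiv.toEquiv_eq_coe, MulEquiv.coe_toEquiv, MulAut.conj_apply, inv_inv]
    rw [show a * x * a⁻¹ * v = a * (x * (a⁻¹ * v * a)) * a⁻¹ by group, hfun,
      hχ (x * (a⁻¹ * v * a)) a]

theorem blockCoeff_conj {H : Type u} [Group H] [Finite H] (b : Set (IrrCharacter H)) (k : H) :
    conj (blockCoeff b k) = blockCoeff b k⁻¹ := by
  simp only [blockCoeff, finsum_mem_eq_finite_toFinset_sum _ b.toFinite, map_mul, map_inv₀,
    Complex.conj_natCast, map_sum]
  congr 1
  refine Finset.sum_congr rfl fun χ _ => ?_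
  rw [irr_conj_eq χ.2, irr_conj_eq χ.2, inv_one]

section Centralizer

variable {x : G} [Fintype (Subgroup.centralizer ({x} : Set G))]

local notation "CC" => Subgroup.centralizer (Singleton.singleton x : Set G)

theorem subFun_coeff (b : Set (IrrCharacter CC)) {χ : G → ℂ} (hχ : IsClassFunction G χ)
    {y : G} (hy : CC ≤ Subgroup.centralizer ({y} : Set G)) (v : CC) :
    subFun χ (subgroupBlockCoeff CC b) (y * (v : G)) =
      blockPart b (fun c : CC => χ (y * (c : G))) v := by
  classical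
  have hcl : IsClassFunction CC (fun c : CC => χ (y * (c : G))) := fun c h => by
    show χ (y * _) = _
    have h1 : (h : G) * y = y * (h : G) := Subgroup.mem_centralizer_singleton_iff.1 (hy h.2)
    show _ = χ (y * (c : G))
    conv_rhs => rw [← hχ (y * (c : G)) (h : G)]
    congr 1
    push_cast
    rw [← mul_assoc (h : G) y, h1]
    group
  rw [blockPart_eq_sum b hcl, subFun]
  rw [← Finset.sum_filter_add_sum_filter_not Finset.univ (fun k : G => k ∈ CC),
    Finset.sum_eq_zero (s := Finset.univ.filter fun k : G => ¬ k ∈ CC) (fun k hk => by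
      rw [subgroupBlockCoeff, dif_neg (Finset.mem_filter.1 hk).2, zero_mul]), add_zero]
  rw [@Finset.sum_subtype G ℂ _ (fun k : G => k ∈ CC) inferInstance
    (Finset.univ.filter fun k : G => k ∈ CC) (fun k => by simp)]
  refine Finset.sum_congr (by ext; simp) fun k _ => ?_
  rw [subgroupBlockCoeff, dif_pos k.2]
  congr 2
  have h1 : (k : G) * y = y * (k : G) := Subgroup.mem_centralizer_singleton_iff.1 (hy k.2)
  push_cast
  rw [← mul_assoc, h1, mul_assoc]

open Classical in
theorem sum_commute_eq (f : G → ℂ) {y : G}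
    (hy : ∀ v : G, Commute v y ↔ v ∈ CC) :
    ∑ v : G with (Commute v y ∧ ¬ p ∣ orderOf v), f v = ∑ v : CC, regInd p v * f v := by
  rw [Finset.sum_congr rfl (g := fun v : CC => if ¬ p ∣ orderOf v then f v else 0)
    (fun v _ => by unfold regInd; split_ifs <;> simp), ← Finset.sum_filter]
  refine Finset.sum_bij (fun v hv => (⟨v, (hy v).1 (Finset.mem_filter.1 hv).2.1⟩ : CC))
    (fun v hv => ?_) (fun v _ w _ h => congrArg Subtype.val h) (fun w hw => ?_)
    (fun v _ => rfl)
  · simp only [Finset.mem_filter, Finset.mem_univ, true_and, Subgroup.orderOf_mk]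
    exact (Finset.mem_filter.1 hv).2.2
  · refine ⟨w, ?_, rfl⟩
    simp only [Finset.mem_filter, Finset.mem_univ, true_and, Subgroup.orderOf_coe] at hw ⊢
    exact ⟨(hy w).2 w.2, hw⟩

variable (hM : IsPModular p M) (hx : ∃ k : ℕ, orderOf x = p ^ k)
include hM hx

theorem irr_pow_mul (θ : IrrCharacter CC) (k : ℕ) (v : CC) :
    (θ : CC → ℂ) ((⟨x, Subgroup.mem_centralizer_singleton_iff.2 rfl⟩ : CC) ^ k * v) =
      centralRoot x θ ^ k * (θ : CC → ℂ) v := by
  induction k with
  | zero => simp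
  | succ k ih =>
    rw [pow_succ', mul_assoc, (centralRoot_spec hM hx θ).2.2, ih, pow_succ', mul_assoc]

/-- The expansion at the powers of `x`. -/
theorem apply_pow_mul [Fintype (IrrCharacter CC)] (χ : IrrCharacter G) (k : ℕ) (v : CC) :
    (χ : G → ℂ) (x ^ k * (v : G)) =
      ∑ θ : IrrCharacter CC, ((resMult x χ θ : ℂ) * centralRoot x θ ^ k) * (θ : CC → ℂ) v := by
  have h := CfsgLib.Char.classFunction_apply_eq_sum (CfsgLib.Char.isCharacter_isClassFunction
    (CfsgLib.Char.isCharacter_restrict (CfsgLib.Char.irr_isCharacter χ.2) CC))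
    ((⟨x, Subgroup.mem_centralizer_singleton_iff.2 rfl⟩ : CC) ^ k * v)
  simp only [Subgroup.coe_mul, SubmonoidClass.coe_pow] at h
  rw [h]
  refine Finset.sum_congr rfl fun θ _ => ?_
  rw [irr_pow_mul hM hx, resMult_cast hM hx]
  ring

variable (b : Set (IrrCharacter (Subgroup.centralizer ({x} : Set G))))

theorem blockPart_pow (χ : IrrCharacter G) (k : ℕ) (v : CC) :
    blockPart b (fun c : CC => (χ : G → ℂ) (x ^ k * (c : G))) v = ∑ θ ∈ b.toFinite.toFinset,
      ((resMult x χ θ : ℂ) * centralRoot x θ ^ k) * (θ : CC → ℂ) v := by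
  classical
  have := Fintype.ofFinite (IrrCharacter CC)
  simp only [apply_pow_mul hM hx χ k, blockPart_sum_smul, blockPart_irr, mul_ite, mul_zero]
  rw [← Finset.sum_filter]
  exact Finset.sum_congr (by ext; simp) fun _ _ => rfl

variable {b}
variable (hb : IsPBlock M b)
include hb

/-- Pairing the `b`-part against a member of `b` only sees the whole function. -/
theorem sum_regInd_conj_mul (χ : IrrCharacter G) (k : ℕ) {θ : IrrCharacter CC} (hθ : θ ∈ b) :
    ∑ v : CC, regInd p v * (conj ((θ : CC → ℂ) v) * (χ : G → ℂ) (x ^ k * (v : G))) =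
      ∑ η ∈ b.toFinite.toFinset, ((resMult x χ η : ℂ) * centralRoot x η ^ k) *
        regPair p (η : CC → ℂ) (θ : CC → ℂ) := by
  classical
  have := Fintype.ofFinite (IrrCharacter CC)
  rw [Finset.sum_subset (Finset.subset_univ b.toFinite.toFinset) (fun η _ hη => by
    rw [regPair_symm, regPair_eq_zero hM hb hθ (fun h => hη (b.toFinite.mem_toFinset.2 h)),
      mul_zero])]
  simp only [apply_pow_mul hM hx χ k, regPair, Finset.mul_sum]
  rw [Finset.sum_comm]
  refine Finset.sum_congr rfl fun η _ => Finset.sum_congr rfl fun v _ => ?_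
  rw [irr_conj_eq θ.2]
  ring

/-- The subsection sum at the powers of `x`. -/
theorem sum_part_conj (χ : IrrCharacter G) (k : ℕ) :
    ∑ v : CC, regInd p v * (conj (blockPart b (fun c : CC => (χ : G → ℂ) (x ^ k * (c : G))) v) *
        (χ : G → ℂ) (x ^ k * (v : G))) =
      ∑ θ ∈ b.toFinite.toFinset, ∑ η ∈ b.toFinite.toFinset,
        conj ((resMult x χ θ : ℂ) * centralRoot x θ ^ k) *
          (((resMult x χ η : ℂ) * centralRoot x η ^ k) * regPair p (η : CC → ℂ) (θ : CC → ℂ)) := by
  simp only [← Finset.mul_sum]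
  rw [← Finset.sum_congr rfl (fun θ hθ => congrArg _ (sum_regInd_conj_mul hM hx hb χ k
    (b.toFinite.mem_toFinset.1 hθ)))]
  simp only [blockPart_pow hM hx, map_sum, map_mul, Finset.sum_mul, Finset.mul_sum]
  rw [Finset.sum_comm]
  refine Finset.sum_congr rfl fun θ _ => Finset.sum_congr rfl fun v _ => ?_
  ring

/-- The subsection sum is a norm. -/
theorem sum_part_norm (χ : IrrCharacter G) (k : ℕ) :
    ∑ v : CC, regInd p v * (conj (blockPart b (fun c : CC => (χ : G → ℂ) (x ^ k * (c : G))) v) *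
        (χ : G → ℂ) (x ^ k * (v : G))) =
      ∑ v : CC, regInd p v * (conj (blockPart b (fun c : CC => (χ : G → ℂ) (x ^ k * (c : G))) v) *
        blockPart b (fun c : CC => (χ : G → ℂ) (x ^ k * (c : G))) v) := by
  rw [sum_part_conj hM hx hb]
  simp only [blockPart_pow hM hx, map_sum, map_mul, Finset.sum_mul, Finset.mul_sum, regPair]
  rw [Finset.sum_comm (s := b.toFinite.toFinset)]
  conv_rhs => rw [Finset.sum_comm]
  refine Finset.sum_congr rfl fun θ _ => ?_
  conv_rhs => rw [Finset.sum_comm]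
  refine Finset.sum_congr rfl fun η _ => Finset.sum_congr rfl fun v _ => ?_
  rw [irr_conj_eq η.2]
  ring

omit hb in
theorem commute_pow_iff {k : ℕ} (hk : k.Coprime (orderOf x)) (v : G) :
    Commute v (x ^ k) ↔ v ∈ CC := by
  rw [Subgroup.mem_centralizer_singleton_iff]
  refine ⟨fun h => ?_, fun h => Commute.pow_right h k⟩
  obtain ⟨m, hm⟩ := exists_pow_eq_self_of_coprime hk
  have h2 := Commute.pow_right h m
  rwa [hm] at h2

omit hb in
theorem centralizer_le_pow (k : ℕ) : CC ≤ Subgroup.centralizer ({x ^ k} : Set G) := fun v hv =>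
  Subgroup.mem_centralizer_singleton_iff.2
    (Commute.pow_right (Subgroup.mem_centralizer_singleton_iff.1 hv) k)

omit hb in
theorem subSum_eq_sum {k : ℕ} (hk : k.Coprime (orderOf x)) (χ : IrrCharacter G) :
    subSum p (χ : G → ℂ) (x ^ k) (subgroupBlockCoeff CC b) =
      ∑ v : CC, regInd p v * (conj (blockPart b (fun c : CC => (χ : G → ℂ) (x ^ k * (c : G))) v) *
        (χ : G → ℂ) (x ^ k * (v : G))) := by
  classical
  rw [subSum, sum_commute_eq (x := x) _ (commute_pow_iff hM hx hk)]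
  refine Finset.sum_congr rfl fun v _ => ?_
  rw [subFun_coeff b (CfsgLib.Char.irr_isClassFunction χ.2) (centralizer_le_pow hM hx k) v]

omit hb in
theorem subSum_eq_one (χ : IrrCharacter G) :
    subSum p (χ : G → ℂ) x (subgroupBlockCoeff CC b) =
      ∑ v : CC, regInd p v * (conj (blockPart b (fun c : CC => (χ : G → ℂ) (x ^ 1 * (c : G))) v) *
        (χ : G → ℂ) (x ^ 1 * (v : G))) := by
  have := subSum_eq_sum hM hx (b := b) (k := 1) (Nat.coprime_one_left _) χ
  rwa [pow_one] at this ⊢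

/-- The subsection sums are nonnegative. -/
theorem exists_real {k : ℕ} (hk : k.Coprime (orderOf x)) (χ : IrrCharacter G) :
    ∃ r : ℝ, 0 ≤ r ∧ subSum p (χ : G → ℂ) (x ^ k) (subgroupBlockCoeff CC b) = r := by
  rw [subSum_eq_sum hM hx hk, sum_part_norm hM hx hb]
  refine ⟨∑ v : CC, if p ∣ orderOf v then 0 else
    ‖blockPart b (fun c : CC => (χ : G → ℂ) (x ^ k * (c : G))) v‖ ^ 2,
    Finset.sum_nonneg fun v _ => by split_ifs <;> positivity, ?_⟩
  rw [Complex.ofReal_sum]
  refine Finset.sum_congr rfl fun v _ => ?_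
  unfold regInd
  split_ifs
  · simp
  · rw [Complex.conj_mul']
    simp

/-- The scaled subsection sums form a cyclotomic family. -/
theorem isCyclo_subSum (χ : IrrCharacter G) {n : ℕ} (hn : n ≠ 0) (hxn : orderOf x ∣ n) :
    ∃ f : ℕ → ℂ, IsCyclo n f ∧ ∀ k : ℕ, k.Coprime (orderOf x) →
      f k = ((p ^ blockDefect p b : ℕ) : ℂ) *
        subSum p (χ : G → ℂ) (x ^ k) (subgroupBlockCoeff CC b) / (Nat.card CC : ℂ) := by
  classical
  have := Fact.mk hM.1
  have : NeZero n := ⟨hn⟩
  set s := sInf ((fun φ : IrrCharacter CC =>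
    (charDegree (φ : CC → ℂ)).factorization p) '' b) with hs
  have hroot : ∀ θ : IrrCharacter CC, IsCyclo n (fun k => centralRoot x θ ^ k) := fun θ => by
    obtain ⟨c, hc⟩ := hxn
    obtain ⟨j, -, hj⟩ := (zetaN_isPrimitiveRoot hn).eq_pow_of_pow_eq_one
      (show centralRoot x θ ^ n = 1 by
        rw [hc, pow_mul, (centralRoot_spec hM hx θ).2.1, one_pow])
    exact ⟨Polynomial.X ^ j, fun k => by
      show centralRoot x θ ^ k = _
      rw [map_pow, Polynomial.aeval_X, ← hj, ← pow_mul, ← pow_mul, mul_comm]⟩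
  refine ⟨fun k => ∑ θ ∈ b.toFinite.toFinset, ∑ η ∈ b.toFinite.toFinset,
      (((resMult x χ θ : ℤ) * (resMult x χ η : ℤ) * (regEntry p η θ / ((p ^ s : ℕ) : ℤ)) : ℤ) : ℂ) *
        (conj (centralRoot x θ ^ k) * centralRoot x η ^ k),
    IsCyclo.sum _ fun θ _ => IsCyclo.sum _ fun η _ =>
      (isCyclo_intCast _ _).mul (((hroot θ).conj hn).mul (hroot η)), fun k hk => ?_⟩
  rw [subSum_eq_sum hM hx hk, sum_part_conj hM hx hb, Finset.mul_sum, Finset.sum_div]
  refine Finset.sum_congr rfl fun θ hθ => ?_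
  rw [Finset.mul_sum, Finset.sum_div]
  refine Finset.sum_congr rfl fun η hη => ?_
  have hdvd : ((p ^ s : ℕ) : ℤ) ∣ regEntry p η θ := by
    refine dvd_trans ?_ (pow_dvd_regEntry hM η θ)
    exact_mod_cast Nat.pow_dvd_pow p
      (show s ≤ (charDegree (θ : CC → ℂ)).factorization p from
        Nat.sInf_le ⟨θ, b.toFinite.mem_toFinset.1 hθ, rfl⟩)
  have hadd := sInf_degree_add_blockDefect hM hb
  rw [← hs] at hadd
  rw [← ordCompl_mul_regEntry η θ, Int.cast_mul, Int.cast_mul, Int.cast_div hdvd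
    (by exact_mod_cast pow_ne_zero s hM.1.ne_zero)]
  have hcard : (Nat.card CC : ℂ) = ((p ^ s : ℕ) : ℂ) * ((p ^ blockDefect p b : ℕ) : ℂ) *
      ((ordCompl[p] (Nat.card CC) : ℕ) : ℂ) := by
    rw [← Nat.cast_mul, ← Nat.cast_mul, ← pow_add, hadd, Nat.ordProj_mul_ordCompl_eq_self]
  rw [hcard]
  simp only [map_mul, Complex.conj_natCast, Int.cast_natCast, map_pow]
  have h1 : ((p ^ s : ℕ) : ℂ) ≠ 0 := Nat.cast_ne_zero.2 (pow_ne_zero _ hM.1.ne_zero)
  have h2 : ((p ^ blockDefect p b : ℕ) : ℂ) ≠ 0 := Nat.cast_ne_zero.2 (pow_ne_zero _ hM.1.ne_zero)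
  have h3 : ((ordCompl[p] (Nat.card CC) : ℕ) : ℂ) ≠ 0 :=
    Nat.cast_ne_zero.2 (Nat.ordCompl_pos p Nat.card_pos.ne').ne'
  field_simp

omit hb in
open Classical in
/-- A function on the `p`-section of `x` as a local central element. -/
theorem exists_sectionSum (Ψ : G → ℂ)
    (hinv : ∀ c ∈ CC, ∀ v : G, v ∈ CC → ¬ p ∣ orderOf v → Ψ (c * (x * v) * c⁻¹) = Ψ (x * v))
    (hloc : ∀ g, MemLocalRing M (Ψ g)) :
    ∃ a : MonoidAlgebra ℂ G, IsLocalCentral M a ∧ ∀ χ : IrrCharacter G,
      omegaC (χ : G → ℂ) a = (Nat.card G : ℂ) / (Nat.card CC : ℂ) *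
        (∑ v : CC, regInd p v * (Ψ (x * (v : G)) * (χ : G → ℂ) (x * (v : G)))) /
          (χ : G → ℂ) 1 := by
  have hp := hM.1
  have hC0 : (Nat.card CC : ℂ) ≠ 0 := Nat.cast_ne_zero.2 Nat.card_pos.ne'
  let F : G → ℂ := fun g => (Nat.card CC : ℂ)⁻¹ *
    ∑ t : G, if IsPPart p g (t * x * t⁻¹) then Ψ (t⁻¹ * g * t) else 0
  refine ⟨mkGA F, ⟨fun g h => ?_, fun g => ?_⟩, fun χ => ?_⟩
  · rw [coeff_mkGA, coeff_mkGA]
    simp only [F]
    congr 1
    refine Fintype.sum_equiv (Equiv.mulLeft h⁻¹) _ _ fun t => ?_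
    simp only [Equiv.coe_mulLeft]
    refine if_congr ⟨fun hh => ?_, fun hh => ?_⟩ (congrArg Ψ (by group)) rfl
    · convert isPPart_conj hh h⁻¹ using 1 <;> group
    · convert isPPart_conj hh h using 1 <;> group
  · rw [coeff_mkGA]
    simp only [F]
    by_cases hex : ∃ t : G, IsPPart p g (t * x * t⁻¹)
    · obtain ⟨t₀, ht₀⟩ := hex
      obtain ⟨y, hy, hyc, -, hyp⟩ := id ht₀
      set v := t₀⁻¹ * y * t₀ with hv
      have hvC : v ∈ CC := Subgroup.mem_centralizer_singleton_iff.2 (by
        calc t₀⁻¹ * y * t₀ * x = t₀⁻¹ * (y * (t₀ * x * t₀⁻¹)) * t₀ := by group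
          _ = t₀⁻¹ * ((t₀ * x * t₀⁻¹) * y) * t₀ := by rw [hyc]
          _ = x * (t₀⁻¹ * y * t₀) := by group)
      have hvr : ¬ p ∣ orderOf v := by
        rwa [hv, show t₀⁻¹ * y * t₀ = MulAut.conj t₀⁻¹ y by simp, MulEquiv.orderOf_eq]
      have hg : t₀⁻¹ * g * t₀ = x * v := by
        rw [hv, ← hy]; group
      have hterm : ∀ t : G, (if IsPPart p g (t * x * t⁻¹) then Ψ (t⁻¹ * g * t) else 0) =
          if t₀⁻¹ * t ∈ CC then Ψ (x * v) else 0 := by
        intro t
        have hiff : IsPPart p g (t * x * t⁻¹) ↔ t₀⁻¹ * t ∈ CC := by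
          rw [Subgroup.mem_centralizer_singleton_iff]
          constructor
          · intro h
            have e := isPPart_unique hp h ht₀
            calc t₀⁻¹ * t * x = t₀⁻¹ * (t * x * t⁻¹) * t := by group
              _ = x * (t₀⁻¹ * t) := by rw [e]; group
          · intro h
            convert ht₀ using 1
            calc t * x * t⁻¹ = t₀ * (t₀⁻¹ * t * x) * t⁻¹ := by group
              _ = t₀ * x * t₀⁻¹ := by rw [h]; group
        refine if_ctx_congr hiff (fun h => ?_) (fun _ => rfl)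
        rw [← hinv _ ((CC).inv_mem h) v hvC hvr, ← hg]
        congr 1
        group
      rw [Finset.sum_congr rfl fun t _ => hterm t, ← Finset.sum_filter, Finset.sum_const,
        nsmul_eq_mul,
        show (Finset.univ.filter fun t => t₀⁻¹ * t ∈ CC).card = Nat.card CC from ?_,
        ← mul_assoc, inv_mul_cancel₀ hC0, one_mul]
      · exact hloc _
      · rw [← Nat.card_eq_finsetCard]
        exact Nat.card_congr
          { toFun := fun t => ⟨t₀⁻¹ * t.1, (Finset.mem_filter.1 t.2).2⟩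
            invFun := fun c => ⟨t₀ * (c : G), Finset.mem_filter.2 ⟨Finset.mem_univ _, by simp⟩⟩
            left_inv := fun t => Subtype.ext (mul_inv_cancel_left t₀ t.1)
            right_inv := fun c => Subtype.ext (inv_mul_cancel_left t₀ (c : G)) }
    · rw [Finset.sum_eq_zero fun t _ => if_neg fun h => hex ⟨t, h⟩, mul_zero]
      exact (lring M).zero_mem
  · rw [omegaC_eq]
    congr 1
    simp only [coeff_mkGA, F]
    rw [Finset.sum_congr rfl (fun g _ => mul_assoc _ _ _), ← Finset.mul_sum]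
    simp only [Finset.sum_mul, ite_mul, zero_mul]
    rw [Finset.sum_comm, Finset.sum_congr rfl (g := fun _ : G =>
      ∑ v : CC, regInd p v * (Ψ (x * (v : G)) * (χ : G → ℂ) (x * (v : G)))) fun t _ => ?_,
      Finset.sum_const, Finset.card_univ, nsmul_eq_mul, ← Nat.card_eq_fintype_card]
    · rw [div_eq_mul_inv]; ring
    · rw [← sum_commute_eq (x := x) (fun v => Ψ (x * v) * (χ : G → ℂ) (x * v)) (y := x)
        (fun v => (Subgroup.mem_centralizer_singleton_iff).symm)]
      have h1 := sum_isPPart_eq hp hx (fun g => Ψ g * (χ : G → ℂ) g)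
      calc ∑ g : G, (if IsPPart p g (t * x * t⁻¹) then Ψ (t⁻¹ * g * t) * (χ : G → ℂ) g else 0)
          = ∑ g : G, (if IsPPart p g x then Ψ g * (χ : G → ℂ) g else 0) := by
            refine Fintype.sum_equiv (MulAut.conj t⁻¹).toEquiv _ _ fun g => ?_
            simp only [MulEquiv.toEquiv_eq_coe, MulEquiv.coe_toEquiv, MulAut.conj_apply, inv_inv]
            refine if_congr ⟨fun h => ?_, fun h => ?_⟩ ?_ rfl
            · convert isPPart_conj h t⁻¹ using 1 <;> group
            · convert isPPart_conj h t using 1 <;> group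
            · congr 1
              conv_rhs => rw [← CfsgLib.Char.irr_isClassFunction χ.2 (t⁻¹ * g * t) t]
              congr 1
              group
        _ = _ := by
            rw [← Finset.sum_filter, h1]
            refine Finset.sum_bij (fun v _ => (v : G)) (fun v hv => ?_)
              (fun v _ w _ h => Subtype.ext h) (fun w hw => ?_) (fun v _ => rfl)
            · simp only [Finset.mem_filter, Finset.mem_univ, true_and, Subgroup.orderOf_coe] at hv ⊢
              exact ⟨Subgroup.mem_centralizer_singleton_iff.1 v.2, hv⟩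
            · simp only [Finset.mem_filter, Finset.mem_univ, true_and] at hw
              exact ⟨⟨w, Subgroup.mem_centralizer_singleton_iff.2 hw.1⟩,
                by simpa [Subgroup.orderOf_mk] using hw.2, rfl⟩

omit hb in
theorem subFun_conj_mem {χ : G → ℂ} (hχ : IsClassFunction G χ) {c : G} (hc : c ∈ CC) (g : G)
    (b : Set (IrrCharacter CC)) :
    subFun χ (subgroupBlockCoeff CC b) (c * g * c⁻¹) = subFun χ (subgroupBlockCoeff CC b) g := by
  classical
  unfold subFun
  refine Fintype.sum_equiv (MulAut.conj c⁻¹).toEquiv _ _ fun k => ?_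
  simp only [MulEquiv.toEquiv_eq_coe, MulEquiv.coe_toEquiv, MulAut.conj_apply, inv_inv]
  congr 1
  · unfold subgroupBlockCoeff
    by_cases hk : k ∈ CC
    · have hk' : c⁻¹ * k * c ∈ CC := (CC).mul_mem ((CC).mul_mem ((CC).inv_mem hc) hk) hc
      rw [dif_pos hk, dif_pos hk']
      have h := blockSum_isClassCoeff b ⟨k, hk⟩ (⟨c, hc⟩⁻¹ : CC)
      simp only [blockSum, coeff_mkGA] at h
      rw [← h]
      congr 1
      exact Subtype.ext (by simp)
    · have hk' : c⁻¹ * k * c ∉ CC := fun hh => hk (by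
        have h := (CC).mul_mem ((CC).mul_mem hc hh) ((CC).inv_mem hc)
        simpa [mul_assoc] using h)
      rw [dif_neg hk, dif_neg hk']
  · rw [← hχ (c⁻¹ * k * c * g) c]
    congr 1
    group

/-- The scaled subsection sum is divisible by the height. -/
theorem memLocalRing_subSum_div {B : Set (IrrCharacter G)} (hB : IsPBlock M B)
    {χ : IrrCharacter G} (hχ : χ ∈ B) :
    MemLocalRing M (((p ^ blockDefect p B : ℕ) : ℂ) *
      subSum p (χ : G → ℂ) x (subgroupBlockCoeff CC b) / (Nat.card CC : ℂ) /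
        ((p ^ blockHeight p B (χ : G → ℂ) : ℕ) : ℂ)) := by
  classical
  have hp := hM.1
  have hcl := CfsgLib.Char.irr_isClassFunction χ.2
  have hloc : ∀ g, MemLocalRing M (conj (subFun (χ : G → ℂ) (subgroupBlockCoeff CC b) g)) := by
    intro g
    rw [subFun, map_sum]
    refine memLocalRing_sum _ _ fun k _ => ?_
    rw [map_mul, irr_conj_eq χ.2]
    refine memLocalRing_mul ?_ (memLocalRing_irr_apply χ _)
    unfold subgroupBlockCoeff
    split_ifs with hk
    · rw [blockCoeff_conj]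
      exact blockCoeff_memLocalRing hM hb _
    · rw [map_zero]; exact (lring M).zero_mem
  obtain ⟨a, ha, hom⟩ := exists_sectionSum hM hx
    (fun g => conj (subFun (χ : G → ℂ) (subgroupBlockCoeff CC b) g))
    (fun c hc v _ _ => by rw [subFun_conj_mem hM hx hcl hc]) hloc
  have hS : subSum p (χ : G → ℂ) x (subgroupBlockCoeff CC b) =
      ∑ v : CC, regInd p v * (conj (subFun (χ : G → ℂ) (subgroupBlockCoeff CC b) (x * (v : G))) *
        (χ : G → ℂ) (x * (v : G))) := by
    rw [subSum, sum_commute_eq (x := x) _ (fun v => (Subgroup.mem_centralizer_singleton_iff).symm)]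
  have h1 : (χ : G → ℂ) 1 = (charDegree (χ : G → ℂ) : ℂ) :=
    (charDegree_cast (CfsgLib.Char.irr_isCharacter χ.2)).symm
  have hd0 := charDegree_ne_zero χ.2
  have key := memLocalRing_mul (memLocalRing_omegaC χ.2 ha)
    (memLocalRing_natCast_div hM (a := p ^ blockDefect p B * charDegree (χ : G → ℂ))
      (b := Nat.card G * p ^ blockHeight p B (χ : G → ℂ))
      (mul_ne_zero Nat.card_pos.ne' (pow_ne_zero _ hp.ne_zero)) (Or.inr ?_))
  · convert key using 1
    rw [hom χ, ← hS, h1]
    push_cast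
    have : (charDegree (χ : G → ℂ) : ℂ) ≠ 0 := Nat.cast_ne_zero.2 hd0
    have : (Nat.card G : ℂ) ≠ 0 := Nat.cast_ne_zero.2 Nat.card_pos.ne'
    have : (p : ℂ) ≠ 0 := Nat.cast_ne_zero.2 hp.ne_zero
    field_simp
  · rw [Nat.factorization_mul Nat.card_pos.ne' (pow_ne_zero _ hp.ne_zero),
      Nat.factorization_mul (pow_ne_zero _ hp.ne_zero) hd0, Finsupp.add_apply, Finsupp.add_apply,
      Nat.Prime.factorization_pow hp, Nat.Prime.factorization_pow hp, Finsupp.single_eq_same,
      Finsupp.single_eq_same, ← sInf_degree_add_blockDefect hM hB, blockHeight]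
    have : sInf ((fun ψ : IrrCharacter G => (charDegree (ψ : G → ℂ)).factorization p) '' B) ≤
        (charDegree (χ : G → ℂ)).factorization p := Nat.sInf_le ⟨χ, hχ, rfl⟩
    omega

/-- **No member vanishes on a major subsection.** -/
theorem subSum_ne_zero {B : Set (IrrCharacter G)} (hind : IsInducedBlock M CC b B)
    (hd : blockDefect p B ≤ blockDefect p b) {χ : IrrCharacter G} (hχ : χ ∈ B) :
    subSum p (χ : G → ℂ) x (subgroupBlockCoeff CC b) ≠ 0 := by
  classical
  have hp := hM.1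
  have hB := hind.2.1
  obtain ⟨ξ, hξ, hξ0⟩ := exists_height_zero hM hB
  obtain ⟨θ₀, hθ₀, hθh⟩ := exists_height_zero hM hb
  have hD0 : (θ₀ : CC → ℂ) 1 ≠ 0 := CfsgLib.Char.irr_apply_one_ne_zero θ₀.2
  let Ψ : G → ℂ := fun g => if h : x⁻¹ * g ∈ CC then (θ₀ : CC → ℂ) (⟨x⁻¹ * g, h⟩ : CC)⁻¹ else 0
  have hΨ : ∀ v : CC, Ψ (x * (v : G)) = (θ₀ : CC → ℂ) v⁻¹ := fun v => by
    have h : x⁻¹ * (x * (v : G)) ∈ CC := by rw [inv_mul_cancel_left]; exact v.2
    simp only [Ψ, dif_pos h]
    exact congrArg _ (congrArg _ (Subtype.ext (inv_mul_cancel_left x (v : G))))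
  obtain ⟨a, ha, hom⟩ := exists_sectionSum hM hx Ψ (fun c hc v hv _ => by
    have e : c * (x * v) * c⁻¹ = x * ((⟨c, hc⟩ * ⟨v, hv⟩ * ⟨c, hc⟩⁻¹ : CC) : G) := by
      have h1 : c * x = x * c := Subgroup.mem_centralizer_singleton_iff.1 hc
      push_cast
      rw [← mul_assoc c x, h1]
      group
    rw [e, hΨ, show x * v = x * ((⟨v, hv⟩ : CC) : G) from rfl, hΨ]
    simp only [mul_inv_rev, inv_inv, ← mul_assoc]
    exact CfsgLib.Char.irr_isClassFunction θ₀.2 _ _) (fun g => by
    simp only [Ψ]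
    split_ifs
    · exact memLocalRing_irr_apply θ₀ _
    · exact (lring M).zero_mem)
  -- the height-zero member
  have hres : IsCharacter CC (fun c : CC => (ξ : G → ℂ) c) :=
    CfsgLib.Char.isCharacter_restrict (CfsgLib.Char.irr_isCharacter ξ.2) _
  have hne := (lam_regZ_restrict_ne_zero_iff hM hind hθ₀ ξ).2 ⟨hξ, hξ0⟩
  rw [lam_regZ] at hne
  set a' : MonoidAlgebra ℂ CC := mkGA fun v : CC =>
    regInd p v * (ξ : G → ℂ) (x * ((v⁻¹ : CC) : G)) with ha'
  have hla' : IsLocalCentral M a' := by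
    refine ⟨fun v h => ?_, fun v => ?_⟩
    · rw [ha', coeff_mkGA, coeff_mkGA, regInd_isClassFunction p v h]
      congr 1
      have h1 : (h : G) * x = x * (h : G) := Subgroup.mem_centralizer_singleton_iff.1 h.2
      conv_rhs => rw [← CfsgLib.Char.irr_isClassFunction ξ.2 _ (h : G)]
      congr 1
      simp only [mul_inv_rev, inv_inv, Subgroup.coe_mul, Subgroup.coe_inv]
      rw [← mul_assoc (h : G) x, h1]
      group
    · rw [ha', coeff_mkGA]
      refine memLocalRing_mul ?_ (memLocalRing_irr_apply ξ _)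
      unfold regInd
      split_ifs
      · exact (lring M).zero_mem
      · simpa using memLocalRing_natCast (M := M) 1
  have hred : redC M (omegaC (θ₀ : CC → ℂ) a') =
      redC M (omegaC (θ₀ : CC → ℂ) (regSum p fun c : CC => (ξ : G → ℂ) c)) := by
    refine redC_omegaC_eq_of_redA_eq θ₀.2 hla' (isLocalCentral_regSum hres) ?_
    ext v
    simp only [redA, ha', coeff_mkGA, coeff_regSum]
    unfold regInd
    split_ifs with hv
    · simp
    · rw [one_mul]
      exact redC_char_mul_pelement hM (CfsgLib.Char.irr_isCharacter ξ.2)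
        (Subgroup.mem_centralizer_singleton_iff.1 (v⁻¹).2).symm hx
  have hω : ∀ φ : IrrCharacter G, omegaC (φ : G → ℂ) a = (Nat.card G : ℂ) / (Nat.card CC : ℂ) *
      (∑ v : CC, regInd p v * ((θ₀ : CC → ℂ) v⁻¹ * (φ : G → ℂ) (x * (v : G)))) /
        (φ : G → ℂ) 1 := fun φ => by simp only [hom φ, hΨ]
  have hξne : redC M (omegaC (ξ : G → ℂ) a) ≠ 0 := by
    intro h0
    refine hne (hred ▸ ?_)
    have hS : omegaC (θ₀ : CC → ℂ) a' =
        (∑ v : CC, regInd p v * ((θ₀ : CC → ℂ) v⁻¹ * (ξ : G → ℂ) (x * (v : G)))) /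
          (θ₀ : CC → ℂ) 1 := by
      rw [omegaC_eq, ha']
      congr 1
      refine Fintype.sum_equiv (Equiv.inv CC) _ _ fun v => ?_
      simp only [coeff_mkGA, Equiv.inv_apply, regInd_inv, inv_inv]
      ring
    have h1 : (ξ : G → ℂ) 1 = (charDegree (ξ : G → ℂ) : ℂ) :=
      (charDegree_cast (CfsgLib.Char.irr_isCharacter ξ.2)).symm
    have h2 : (θ₀ : CC → ℂ) 1 = (charDegree (θ₀ : CC → ℂ) : ℂ) :=
      (charDegree_cast (CfsgLib.Char.irr_isCharacter θ₀.2)).symm
    have hd1 := charDegree_ne_zero ξ.2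
    have hd2 := charDegree_ne_zero θ₀.2
    have hr : MemLocalRing M (((Nat.card CC * charDegree (ξ : G → ℂ) : ℕ) : ℂ) /
        ((Nat.card G * charDegree (θ₀ : CC → ℂ) : ℕ) : ℂ)) := by
      refine memLocalRing_natCast_div hM (mul_ne_zero Nat.card_pos.ne' hd2) (Or.inr ?_)
      rw [Nat.factorization_mul Nat.card_pos.ne' hd2, Nat.factorization_mul Nat.card_pos.ne' hd1,
        Finsupp.add_apply, Finsupp.add_apply, (blockHeight_eq_zero_iff hM hB hξ).1 hξ0,
        (blockHeight_eq_zero_iff hM hb hθ₀).1 hθh]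
      have e1 := sInf_degree_add_blockDefect hM hB
      have e2 := sInf_degree_add_blockDefect hM hb
      omega
    have he : omegaC (θ₀ : CC → ℂ) a' = omegaC (ξ : G → ℂ) a *
        (((Nat.card CC * charDegree (ξ : G → ℂ) : ℕ) : ℂ) /
          ((Nat.card G * charDegree (θ₀ : CC → ℂ) : ℕ) : ℂ)) := by
      rw [hS, hω, h1, h2]
      push_cast
      have : (charDegree (ξ : G → ℂ) : ℂ) ≠ 0 := Nat.cast_ne_zero.2 hd1
      have : (charDegree (θ₀ : CC → ℂ) : ℂ) ≠ 0 := Nat.cast_ne_zero.2 hd2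
      have : (Nat.card G : ℂ) ≠ 0 := Nat.cast_ne_zero.2 Nat.card_pos.ne'
      have : (Nat.card CC : ℂ) ≠ 0 := Nat.cast_ne_zero.2 Nat.card_pos.ne'
      field_simp
    rw [he, redC_mul (memLocalRing_omegaC ξ.2 ha) hr, h0, zero_mul]
  intro h0
  have hpart : ∀ v : CC, regInd p v *
      blockPart b (fun c : CC => (χ : G → ℂ) (x ^ 1 * (c : G))) v = 0 := by
    rw [subSum_eq_one hM hx, sum_part_norm hM hx hb] at h0
    have h2 : ((∑ v : CC, if p ∣ orderOf v then (0 : ℝ) else
        ‖blockPart b (fun c : CC => (χ : G → ℂ) (x ^ 1 * (c : G))) v‖ ^ 2 : ℝ) : ℂ) = 0 := by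
      rw [← h0, Complex.ofReal_sum]
      refine Finset.sum_congr rfl fun v _ => ?_
      unfold regInd
      split_ifs
      · simp
      · rw [Complex.conj_mul']
        simp
    have h3 := (Finset.sum_eq_zero_iff_of_nonneg
      (fun v _ => by split_ifs <;> positivity)).1 (Complex.ofReal_eq_zero.1 h2)
    intro v
    have h4 := h3 v (Finset.mem_univ v)
    unfold regInd
    split_ifs at h4 ⊢ with hv
    · simp
    · simpa using h4
  have hzero : ∑ v : CC, regInd p v * ((θ₀ : CC → ℂ) v⁻¹ * (χ : G → ℂ) (x * (v : G))) = 0 := by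
    calc _ = ∑ v : CC, regInd p v * (conj ((θ₀ : CC → ℂ) v) * (χ : G → ℂ) (x ^ 1 * (v : G))) := by
          simp only [irr_conj_eq θ₀.2, pow_one]
      _ = ∑ v : CC, regInd p v * (conj ((θ₀ : CC → ℂ) v) *
          blockPart b (fun c : CC => (χ : G → ℂ) (x ^ 1 * (c : G))) v) := by
          rw [sum_regInd_conj_mul hM hx hb χ 1 hθ₀]
          simp only [blockPart_pow hM hx, Finset.mul_sum, regPair]
          rw [Finset.sum_comm]
          refine Finset.sum_congr rfl fun v _ => Finset.sum_congr rfl fun η _ => ?_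
          rw [irr_conj_eq θ₀.2]
          ring
      _ = 0 := Finset.sum_eq_zero fun v _ => by
          rw [mul_left_comm, hpart v, mul_zero]
  refine hξne ?_
  rw [← (redC_eq_iff (memLocalRing_omegaC χ.2 ha) (memLocalRing_omegaC ξ.2 ha)).2
    (omegaC_sub_memLocalIdeal ha (sameBlock_of_mem hB hχ hξ)), hω, hzero, mul_zero, zero_div,
    redC_zero]

end Centralizer

end CfsgLib.BlockB.SubSum
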