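import Cfsg.Agent.Lib.BlockB.StarAct
import Cfsg.Agent.Lib.BlockA.SectionNonzero
import Mathlib.GroupTheory.GroupAction.Quotient

/-!
Members of given height, counted through the action of the linear characters trivial on the focal
subgroup.
-/

set_option autoImplicit false
set_option linter.unusedSectionVars false
set_option maxHeartbeats 1000000

namespace CfsgLib.BlockB.Star

open Cfsg CfsgLib.Block CfsgLib.BlockA CfsgLib.BlockB.SubSum CfsgLib.BlockB.HeightBound
open scoped commutatorElement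

universe u

/-- An action with every stabiliser inside `K` has a number of points divisible by the index. -/
theorem index_dvd_card {Λ X : Type*} [Group Λ] [Finite Λ] [Finite X] [MulAction Λ X]
    (K : Subgroup Λ) (h : ∀ x : X, MulAction.stabilizer Λ x ≤ K) : K.index ∣ Nat.card X := by
  classical
  have := Fintype.ofFinite (Quotient (MulAction.orbitRel Λ X))
  rw [Nat.card_congr (MulAction.selfEquivSigmaOrbits Λ X), Nat.card_sigma]
  refine Finset.dvd_sum fun ω _ => ?_
  rw [Nat.card_coe_set_eq, ← MulAction.index_stabilizer]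
  exact Subgroup.index_dvd_of_le (h _)

/-- A non-trivial element of a finite abelian quotient is seen by a linear character. -/
theorem dvd_of_stab {A X : Type*} [CommGroup A] [Finite A] [Finite X] [MulAction (A →* ℂˣ) X]
    (T : Subgroup A) (h : ∀ (μ : A →* ℂˣ) (x : X), μ • x = x → ∀ t ∈ T, μ t = 1) :
    Nat.card T ∣ Nat.card X := by
  have hfin : Finite (A →* ℂˣ) := Nat.finite_of_card_ne_zero
    (by rw [CommGroup.card_monoidHom_of_hasEnoughRootsOfUnity]; exact Nat.card_pos.ne')
  have h1 : (MonoidHom.domRestrictHom T ℂˣ).ker.index = Nat.card T := by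
    rw [Subgroup.index_ker, MonoidHom.range_eq_top.2 (MonoidHom.domRestrict_surjective ℂ T),
      Subgroup.card_top, CommGroup.card_monoidHom_of_hasEnoughRootsOfUnity]
  rw [← h1]
  refine index_dvd_card _ fun x μ hμ => ?_
  rw [MonoidHom.mem_ker]
  exact MonoidHom.ext fun t => h μ x hμ t t.2

variable {G : Type u} [Group G] [Fintype G] {p : ℕ} {M : Ideal AlgInt} [M.IsPrime]
  {B : Set (IrrCharacter G)} {P : Subgroup G}
  {e : Set (IrrCharacter (Subgroup.centralizer (P : Set G)))} {F : FusionSystem P}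

local notation "cen" Q => Subgroup.centralizer ((Q : Subgroup G) : Set G)

theorem focal_le (F : FusionSystem P) : F.focalSubgroup ≤ P := by
  refine (Subgroup.closure_le _).2 ?_
  rintro _ ⟨Q, φ, x, hφ, rfl⟩
  exact P.mul_mem (P.inv_mem ((F.le_of_mem hφ).1 x.2)) ((F.le_of_mem hφ).2 x)

theorem commutator_le_focal (F : FusionSystem P) :
    commutator P ≤ F.focalSubgroup.subgroupOf P := by
  rw [commutator_def, Subgroup.commutator_le]
  intro a _ b _
  rw [Subgroup.mem_subgroupOf]
  have hmem := F.conj_mem (P := P) (g := (a : G)) le_rfl a.2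
  have h1 : ((b : G))⁻¹ * ((a : G) * (b : G) * (a : G)⁻¹) ∈ F.focalSubgroup :=
    Subgroup.subset_closure ⟨P, conjHom P (a : G), b, hmem, rfl⟩
  have hnorm : ∀ c ∈ P, ∀ z ∈ F.focalSubgroup, c * z * c⁻¹ ∈ F.focalSubgroup := by
    intro c hc z hz
    have hz' := focal_le F hz
    have hm := F.conj_mem (P := P) (g := c) le_rfl hc
    have h2 : z⁻¹ * (c * z * c⁻¹) ∈ F.focalSubgroup :=
      Subgroup.subset_closure ⟨P, conjHom P c, ⟨z, hz'⟩, hm, rfl⟩
    have := F.focalSubgroup.mul_mem hz h2
    rwa [mul_inv_cancel_left] at this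
  have h3 := hnorm _ b.2 _ h1
  simp only [commutatorElement_def, Subgroup.coe_mul, Subgroup.coe_inv]
  have e : (b : G) * ((b : G)⁻¹ * ((a : G) * (b : G) * (a : G)⁻¹)) * (b : G)⁻¹ =
      (a : G) * (b : G) * (a : G)⁻¹ * (b : G)⁻¹ := by group
  rwa [e] at h3

theorem focal_normal (F : FusionSystem P) : (F.focalSubgroup.subgroupOf P).Normal := by
  refine ⟨fun n hn g => ?_⟩
  have h := commutator_le_focal F
    (Subgroup.commutator_mem_commutator (Subgroup.mem_top g) (Subgroup.mem_top n))
  have := (F.focalSubgroup.subgroupOf P).mul_mem h hn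
  simpa [commutatorElement_def, mul_assoc] using this

/-- The linear character read on `P`. -/
def linOn (N : Subgroup P) [N.Normal] (μ : P ⧸ N →* ℂˣ) : P → ℂ :=
  fun y => (μ (QuotientGroup.mk' N y) : ℂ)

variable (hM : IsPModular p M) (hF : IsBlockFusionSystemOn p M B P e F)
include hM hF

theorem isStable_linOn (N : Subgroup P) [N.Normal] (hN : F.focalSubgroup.subgroupOf P ≤ N)
    (μ : P ⧸ N →* ℂˣ) : IsStable p M P e (linOn N μ) := by
  intro x y g hg hgxy
  have hmem : conjHom (Subgroup.zpowers (x : G)) g ∈ F.Hom (Subgroup.zpowers (x : G)) :=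
    (hF.2 _ _).2 ⟨Subgroup.zpowers_le.2 x.2, g, fun _ => rfl, hg.1, hg.2⟩
  have h1 : (x : G)⁻¹ * (y : G) ∈ F.focalSubgroup := by
    refine Subgroup.subset_closure ⟨_, _, ⟨(x : G), Subgroup.mem_zpowers _⟩, hmem, ?_⟩
    rw [← hgxy]
    rfl
  have h2 : x⁻¹ * y ∈ N := hN (Subgroup.mem_subgroupOf.2 (by simpa using h1))
  unfold linOn
  rw [show QuotientGroup.mk' N y = QuotientGroup.mk' N x from (QuotientGroup.eq.2 h2).symm]

/-- **Orbit counting.** Characters of a given height are counted by a subgroup of the quotient by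
the focal subgroup on which no fixed member is non-trivial. -/
theorem dvd_card_height (h : ℕ) [hN : (F.focalSubgroup.subgroupOf P).Normal]
    (Z : Subgroup P)
    (hT : ∀ χ ∈ B, blockHeight p B ((χ : IrrCharacter G) : G → ℂ) = h →
      ∀ y ∈ Z, ∀ lam : P → ℂ, IsStable p M P e lam →
        (χ : G → ℂ) = star p M P e (χ : G → ℂ) lam → lam y = 1) :
    Nat.card (Z.map (QuotientGroup.mk' (F.focalSubgroup.subgroupOf P))) ∣ Nat.card {χ : IrrCharacter G // χ ∈ B ∧ blockHeight p B (χ : G → ℂ) = h} := by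
  classical
  set N := F.focalSubgroup.subgroupOf P
  let hcomm : CommGroup (P ⧸ N) :=
    { mul_comm := fun a b => by
        induction a using QuotientGroup.induction_on with
        | _ a =>
        induction b using QuotientGroup.induction_on with
        | _ b =>
        rw [← QuotientGroup.mk_mul, ← QuotientGroup.mk_mul, QuotientGroup.eq]
        have h1 : ⁅b⁻¹, a⁻¹⁆ ∈ N := commutator_le_focal F
          (Subgroup.commutator_mem_commutator (Subgroup.mem_top _) (Subgroup.mem_top _))
        simpa [commutatorElement_def, mul_assoc] using h1 }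
  have hmax := hF.1
  have hst := fun μ : P ⧸ N →* ℂˣ => isStable_linOn hM hF N le_rfl μ
  set X := {χ : IrrCharacter G // χ ∈ B ∧ blockHeight p B (χ : G → ℂ) = h}
  have hex : ∀ (μ : P ⧸ N →* ℂˣ) (χ : X), ∃ ψ : X, ((ψ.1 : IrrCharacter G) : G → ℂ) =
      star p M P e ((χ.1 : IrrCharacter G) : G → ℂ) (linOn N μ) := fun μ χ => by
    obtain ⟨ψ, hψB, hψ, hdeg⟩ :=
      exists_member hM hmax χ.2.1 (μ.comp (QuotientGroup.mk' N)) (hst μ)
    refine ⟨⟨ψ, hψB, ?_⟩, hψ⟩
    rw [← χ.2.2, blockHeight, blockHeight, hdeg]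
  choose act hact using hex
  let _ : MulAction (P ⧸ N →* ℂˣ) X :=
    { smul := act
      one_smul := fun χ => Subtype.ext (Subtype.ext (by
        show ((act 1 χ).1 : G → ℂ) = (χ.1 : G → ℂ)
        rw [hact, show linOn N (1 : P ⧸ N →* ℂˣ) = fun _ => (1 : ℂ) from funext fun _ => rfl,
          star_one hM hmax χ.2.1]))
      mul_smul := fun μ ν χ => Subtype.ext (Subtype.ext (by
        show ((act (μ * ν) χ).1 : G → ℂ) = ((act μ (act ν χ)).1 : G → ℂ)
        rw [hact, hact, star_star hM hmax (hst ν) (hact ν χ)]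
        congr 1
        funext y
        simp only [linOn, MonoidHom.mul_apply, Units.val_mul, mul_comm])) }
  refine dvd_of_stab (X := X) _ fun μ χ hfix t ht => ?_
  obtain ⟨y, hy, rfl⟩ := ht
  refine Units.ext ?_
  have h1 := hT χ.1 χ.2.1 χ.2.2 y hy (linOn N μ) (hst μ) (by
    rw [← hact μ χ]
    exact congrArg (fun z : X => ((z.1 : IrrCharacter G) : G → ℂ)) hfix.symm)
  simpa [linOn] using h1

omit hF in
/-- A fixed member of height zero forces the value one. -/
theorem eq_one_of_fixed_height_zero (hmax : IsMaximalBrauerPair p M B P e) {χ : IrrCharacter G}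
    (hχ : χ ∈ B) (h0 : blockHeight p B (χ : G → ℂ) = 0) (y : P) {lam : P → ℂ}
    (hlam : IsStable p M P e lam) (hfix : (χ : G → ℂ) = star p M P e (χ : G → ℂ) lam) :
    lam y = 1 := by
  classical
  by_contra hne
  have hy : ∃ k : ℕ, orderOf (y : G) = p ^ k := by
    have := Fact.mk hM.1
    obtain ⟨k, hk⟩ := IsPGroup.iff_orderOf.1 hmax.1.1.1 y
    exact ⟨k, by rw [Subgroup.orderOf_coe, hk]⟩
  obtain ⟨f, hfp, hf⟩ := exists_subpair hM hmax.1.1 _ (Subgroup.zpowers (y : G))
    (Subgroup.zpowers_le.2 y.2) rfl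
  have key : ∀ H : Subgroup G, H = (cen (Subgroup.zpowers (y : G))) →
      ∃ b : Set (IrrCharacter H), IsPBlock M b ∧
        subgroupBlockCoeff H b = subgroupBlockCoeff (cen (Subgroup.zpowers (y : G))) f := by
    rintro _ rfl
    exact ⟨f, (isBrauerPair_of_subpairLE hmax.1.1 hf).2, rfl⟩
  obtain ⟨b, hb, hbc⟩ := key _ (cen_zpowers (y : G)).symm
  have hrep : Rep p M P e (y : G)
      (subgroupBlockCoeff (Subgroup.centralizer ({(y : G)} : Set G)) b) y :=
    ⟨1, f, by group, hf, by rw [hbc, conjFun_one]⟩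
  obtain ⟨v, hv, hne0⟩ := exists_blockPart_ne_zero hM hχ h0 hy (induced_of_rep hM hmax hb hrep)
  exact hne0 (blockPart_eq_zero_of_fixed hM hmax hlam hfix hy hb hrep hne hv)

omit hF in
/-- A fixed member forces the value one at the centre. -/
theorem eq_one_of_fixed_central (hmax : IsMaximalBrauerPair p M B P e) {χ : IrrCharacter G}
    (hχ : χ ∈ B) (y : P) (hyc : ∀ w ∈ P, Commute w (y : G)) {lam : P → ℂ}
    (hlam : IsStable p M P e lam) (hfix : (χ : G → ℂ) = star p M P e (χ : G → ℂ) lam) :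
    lam y = 1 := by
  classical
  by_contra hne
  have hy : ∃ k : ℕ, orderOf (y : G) = p ^ k := by
    have := Fact.mk hM.1
    obtain ⟨k, hk⟩ := IsPGroup.iff_orderOf.1 hmax.1.1.1 y
    exact ⟨k, by rw [Subgroup.orderOf_coe, hk]⟩
  obtain ⟨f, -, hf⟩ := exists_subpair hM hmax.1.1 _ (Subgroup.zpowers (y : G))
    (Subgroup.zpowers_le.2 y.2) rfl
  obtain ⟨b, hind, hbc, hd⟩ := exists_major hM hmax y.2 hyc hf
  have hrep : Rep p M P e (y : G)
      (subgroupBlockCoeff (Subgroup.centralizer ({(y : G)} : Set G)) b) y :=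
    ⟨1, f, by group, hf, by rw [hbc, conjFun_one]⟩
  refine subSum_ne_zero hM hy hind.1 hind hd.ge hχ ?_
  rw [subSum_eq_one hM hy]
  refine Finset.sum_eq_zero fun v _ => ?_
  by_cases hv : p ∣ orderOf v
  · simp [regInd, hv]
  · simp only [pow_one]
    rw [blockPart_eq_zero_of_fixed hM hmax hlam hfix hy hind.1 hrep hne hv, map_zero, zero_mul,
      mul_zero]

end CfsgLib.BlockB.Star
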