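import Cfsg.Agent.Lib.Block.SecondMain
import Cfsg.Agent.Lib.BlockA.RegMatrix
import Cfsg.Agent.Lib.Char.Induce

/-!
The degree of the block part of an induced character.
-/

set_option autoImplicit false

namespace CfsgLib.BlockB

open Cfsg CfsgLib.Block
open scoped ComplexConjugate

universe u

variable {G : Type u} [Group G] [Fintype G] {p : ℕ} {M : Ideal AlgInt} [M.IsPrime]

/-- If `b` induces `B` then the `B`-part of `ψ^G` has degree congruent to `ψ^G 1` relative to it. -/
theorem memLocalIdeal_indFun_blockDegree (hM : IsPModular p M) {H : Subgroup G}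
    {b : Set (IrrCharacter H)} {B : Set (IrrCharacter G)} (hind : IsInducedBlock M H b B)
    {ψ : IrrCharacter H} (hψ : ψ ∈ b) :
    MemLocalIdeal M ((∑ᶠ χ ∈ B, classInner (indFun H (ψ : H → ℂ)) (χ : G → ℂ) * (χ : G → ℂ) 1) /
      ((H.index : ℂ) * (ψ : H → ℂ) 1) - 1) := by
  classical
  have := Fintype.ofFinite H
  have hB := hind.2.1
  obtain ⟨χ₀, hχ₀⟩ := isPBlock_nonempty hB
  have hloc := isLocalCentral_blockSum hM hB
  have hψ0 := CfsgLib.Char.irr_apply_one_ne_zero ψ.2
  set ω := omegaC (ψ : H → ℂ) (resSub H (blockSum B)) with hω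
  have hmod : MemLocalIdeal M (ω - 1) := by
    have h1 := (isInducedBlock_iff H hind.1 hB hψ hχ₀).1 hind (blkIdem M B)
    rw [lam_blkIdem hM hB, if_pos hχ₀] at h1
    rw [lam_apply ψ (isLocalCentral_resSub H hloc) (resZ H (blkIdem M B))
      (by rw [coe_resZ, redA_resSub]; rfl), ← redC_one (M := M)] at h1
    exact (redC_eq_iff (memLocalRing_omegaC ψ.2 (isLocalCentral_resSub H hloc))
      (by simpa using memLocalRing_natCast (M := M) 1)).1 h1
  have hsum : (∑ᶠ χ ∈ B, classInner (indFun H (ψ : H → ℂ)) (χ : G → ℂ) * (χ : G → ℂ) 1) =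
      ∑ g : G, blockCoeff B g * indFun H (ψ : H → ℂ) g := by
    have h := blockPart_eq_sum B (CfsgLib.Char.indFun_isClassFunction H (ψ : H → ℂ)) (1 : G)
    simp only [mul_one] at h
    rw [← h]
    unfold blockPart
    refine finsum_mem_congr rfl fun χ _ => ?_
    congr 2
    exact Subsingleton.elim _ _
  have hcl := blockSum_isClassCoeff B
  have hinner : ∀ x : G,
      ∑ g : G, blockCoeff B g * extendByZero H (ψ : H → ℂ) (x⁻¹ * g * x) =
        ω * (ψ : H → ℂ) 1 := by
    intro x
    rw [hω, omegaC_eq, div_mul_cancel₀ _ hψ0, ← Equiv.sum_comp (MulAut.conj x).toEquiv,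
      ← Finset.sum_subset (Finset.subset_univ (Finset.univ.filter (· ∈ H))) (fun g _ hg => by
        have hg' : g ∉ H := by simpa using hg
        simp only [MulEquiv.toEquiv_eq_coe, MulEquiv.coe_toEquiv, MulAut.conj_apply]
        rw [show x⁻¹ * (x * g * x⁻¹) * x = g by group,
          CfsgLib.Char.extendByZero_of_not_mem _ hg', mul_zero]),
      Finset.sum_subtype (Finset.univ.filter (· ∈ H)) (p := (· ∈ H)) (by simp)]
    refine Finset.sum_congr rfl fun h _ => ?_
    simp only [MulEquiv.toEquiv_eq_coe, MulEquiv.coe_toEquiv, MulAut.conj_apply, coeff_resSub]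
    rw [show x⁻¹ * (x * (h : G) * x⁻¹) * x = h by group,
      CfsgLib.Char.extendByZero_of_mem _ h.2]
    congr 1
    have h2 := hcl (h : G) x
    simpa [blockSum] using h2
  have hval : ∑ g : G, blockCoeff B g * indFun H (ψ : H → ℂ) g =
      (H.index : ℂ) * ((ψ : H → ℂ) 1) * ω := by
    simp only [CfsgLib.Char.indFun_def, Finset.mul_sum, mul_left_comm (blockCoeff B _)]
    rw [Finset.sum_comm]
    simp only [← Finset.mul_sum, hinner, Finset.sum_const, Finset.card_univ, nsmul_eq_mul,
      ← Nat.card_eq_fintype_card]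
    rw [← H.index_mul_card, Nat.cast_mul]
    have : (Nat.card H : ℂ) ≠ 0 := by exact_mod_cast Nat.card_pos.ne'
    field_simp
  rw [hsum, hval, mul_div_cancel_left₀ _
    (mul_ne_zero (Nat.cast_ne_zero.2 Subgroup.index_ne_zero_of_finite) hψ0)]
  exact hmod

/-- The `p`-part of the degree of the `B`-part of `ψ^G` is that of `ψ^G`. -/
theorem exists_indFun_blockDegree (hM : IsPModular p M) {H : Subgroup G}
    {b : Set (IrrCharacter H)} {B : Set (IrrCharacter G)} (hind : IsInducedBlock M H b B)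
    {ψ : IrrCharacter H} (hψ : ψ ∈ b) :
    ∃ a : IrrCharacter G → ℕ,
      (∀ χ : IrrCharacter G, classInner (indFun H (ψ : H → ℂ)) (χ : G → ℂ) = (a χ : ℂ)) ∧
      MemLocalIdeal M (((∑ χ ∈ B.toFinite.toFinset, a χ * charDegree (χ : G → ℂ) : ℕ) : ℂ) /
        ((H.index * charDegree (ψ : H → ℂ) : ℕ) : ℂ) - 1) ∧
      ((∑ χ ∈ B.toFinite.toFinset, a χ * charDegree (χ : G → ℂ) : ℕ)).factorization p =
        (H.index * charDegree (ψ : H → ℂ)).factorization p := by
  classical
  have := Fintype.ofFinite H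
  choose a ha using fun χ : IrrCharacter G => CfsgLib.Char.classInner_isCharacter_nat
    (CfsgLib.Char.isCharacter_indFun H (CfsgLib.Char.irr_isCharacter ψ.2))
    (CfsgLib.Char.irr_isCharacter χ.2)
  have h := memLocalIdeal_indFun_blockDegree hM hind hψ
  rw [finsum_mem_eq_finite_toFinset_sum _ B.toFinite] at h
  simp only [ha, ← charDegree_cast (CfsgLib.Char.irr_isCharacter ψ.2)] at h
  rw [Finset.sum_congr rfl fun χ _ => by
    rw [← charDegree_cast (CfsgLib.Char.irr_isCharacter χ.2), ← Nat.cast_mul], ← Nat.cast_sum,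
    ← Nat.cast_mul] at h
  set N := ∑ χ ∈ B.toFinite.toFinset, a χ * charDegree (χ : G → ℂ)
  set Dn := H.index * charDegree (ψ : H → ℂ) with hDn
  refine ⟨a, ha, h, ?_⟩
  have hDn0 : Dn ≠ 0 := mul_ne_zero Subgroup.index_ne_zero_of_finite (charDegree_ne_zero ψ.2)
  have hN0 : N ≠ 0 := fun e => by
    rw [e, Nat.cast_zero, zero_div, zero_sub] at h
    exact not_memLocalIdeal_one (M := M) (by simpa using memLocalIdeal_neg h)
  rcases lt_trichotomy (N.factorization p) (Dn.factorization p) with hlt | heq | hgt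
  · have h2 := memLocalIdeal_natCast_div hM (b := N) (a := Dn) hN0 (Or.inr hlt)
    have hloc : MemLocalRing M ((N : ℂ) / (Dn : ℂ)) := by
      have := memLocalRing_add (memLocalRing_of_memLocalIdeal h)
        (by simpa using memLocalRing_natCast (M := M) 1 : MemLocalRing M (1 : ℂ))
      rwa [sub_add_cancel] at this
    have h3 := memLocalIdeal_mul_left hloc h2
    rw [div_mul_div_cancel₀ (Nat.cast_ne_zero.2 hDn0), div_self (Nat.cast_ne_zero.2 hN0)] at h3
    exact absurd h3 not_memLocalIdeal_one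
  · exact heq
  · have h2 := memLocalIdeal_natCast_div hM (b := Dn) (a := N) hDn0 (Or.inr hgt)
    have h3 := memLocalIdeal_sub h2 h
    rw [sub_sub_cancel] at h3
    exact absurd h3 not_memLocalIdeal_one

end CfsgLib.BlockB
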