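import Cfsg.Agent.Lib.BlockB.SubsectionKernel
import Cfsg.Agent.Lib.BlockB.InducedDegree
import Cfsg.Agent.Lib.BlockB.RegRank
import Cfsg.Agent.Lib.BlockB.GaloisAvg
import Cfsg.Agent.Lib.Block.LamZero

/-!
The contributions of a subsection: Galois-stable integrality, trace, non-vanishing at height zero.
-/

set_option autoImplicit false
set_option linter.unusedSectionVars false

namespace CfsgLib.BlockB

open Cfsg CfsgLib.Block CfsgLib.BlockA
open scoped ComplexConjugate

universe u

theorem isCyclo_intCast (n : ℕ) (z : ℤ) : IsCyclo n (fun _ => (z : ℂ)) :=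
  ⟨Polynomial.C z, fun k => by simp⟩

theorem IsCyclo.eq_int_of_coprime {n : ℕ} (hn : n ≠ 0) {f : ℕ → ℂ} (hf : IsCyclo n f) {m : ℤ}
    (h : f 1 = m) {k : ℕ} (hk : k.Coprime n) : f k = m := by
  obtain ⟨P, hP⟩ := hf
  have : NeZero n := ⟨hn⟩
  have hζ := zetaN_isPrimitiveRoot hn
  have h1 : Polynomial.aeval (zetaN n) (P - Polynomial.C m) = 0 := by
    have h2 := hP 1
    rw [pow_one, h] at h2
    simp [← h2]
  obtain ⟨Q, hQ⟩ :=
    minpoly.isIntegrallyClosed_dvd (hζ.isIntegral (Nat.pos_of_ne_zero hn)) h1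
  have h3 : Polynomial.aeval (zetaN n ^ k) (P - Polynomial.C m) = 0 := by
    rw [hQ, map_mul, IsPrimitiveRoot.minpoly_eq_pow_coprime hζ hk, minpoly.aeval, zero_mul]
  rw [map_sub, Polynomial.aeval_C, sub_eq_zero] at h3
  rw [hP, h3]
  simp

theorem IsCyclo.apply_mod {n : ℕ} (hn : n ≠ 0) {f : ℕ → ℂ} (hf : IsCyclo n f) (k : ℕ) :
    f (k % n) = f k := by
  obtain ⟨P, hP⟩ := hf
  rw [hP, hP, ← pow_eq_pow_mod k (zetaN_isPrimitiveRoot hn).pow_eq_one]

theorem sum_normSq_inner {V α : Type*} [Fintype V] [Fintype α] (f : α → V → ℂ) :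
    ∑ i, ∑ i', (∑ v, f i v * conj (f i' v)) * conj (∑ v, f i v * conj (f i' v)) =
      ∑ v, ∑ w, (∑ i, f i v * conj (f i w)) * conj (∑ i, f i v * conj (f i w)) := by
  calc ∑ i, ∑ i', (∑ v, f i v * conj (f i' v)) * conj (∑ v, f i v * conj (f i' v))
      = ∑ i, ∑ i', ∑ v, ∑ w, f i v * conj (f i w) * (conj (f i' v) * f i' w) := by
        refine Finset.sum_congr rfl fun i _ => Finset.sum_congr rfl fun i' _ => ?_
        rw [map_sum, Finset.sum_mul_sum]
        refine Finset.sum_congr rfl fun v _ => Finset.sum_congr rfl fun w _ => ?_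
        rw [map_mul, Complex.conj_conj]
        ring
    _ = ∑ v, ∑ w, ∑ i, ∑ i', f i v * conj (f i w) * (conj (f i' v) * f i' w) := by
        rw [Finset.sum_congr rfl fun i _ => Finset.sum_comm, Finset.sum_comm]
        refine Finset.sum_congr rfl fun v _ => ?_
        rw [Finset.sum_congr rfl fun i _ => Finset.sum_comm, Finset.sum_comm]
    _ = _ := by
        refine Finset.sum_congr rfl fun v _ => Finset.sum_congr rfl fun w _ => ?_
        rw [map_sum, Finset.sum_mul_sum]
        refine Finset.sum_congr rfl fun i _ => Finset.sum_congr rfl fun i' _ => ?_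
        rw [map_mul, Complex.conj_conj]

/-- Two families with the same kernel have the same sum of squared inner products. -/
theorem sum_normSq_inner_eq {V ι κ : Type*} [Fintype V] [Fintype ι] [Fintype κ]
    (φ : ι → V → ℂ) (ψ : κ → V → ℂ)
    (h : ∀ v w, ∑ i, φ i v * conj (φ i w) = ∑ j, ψ j v * conj (ψ j w)) :
    ∑ i, ∑ i', (∑ v, φ i v * conj (φ i' v)) * conj (∑ v, φ i v * conj (φ i' v)) =
      ∑ j, ∑ j', (∑ v, ψ j v * conj (ψ j' v)) * conj (∑ v, ψ j v * conj (ψ j' v)) := by
  rw [sum_normSq_inner φ, sum_normSq_inner ψ]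
  simp only [h]

variable {G : Type u} [Group G] [Fintype G] {p : ℕ} {M : Ideal AlgInt} [M.IsPrime]
variable (hM : IsPModular p M) {x : G} (hx : ∃ k : ℕ, orderOf x = p ^ k)

/-- The scalar by which `x` acts in a character of its centralizer. -/
noncomputable def centralRoot (x : G) (θ : IrrCharacter (Subgroup.centralizer ({x} : Set G))) : ℂ :=
  (θ : Subgroup.centralizer ({x} : Set G) → ℂ)
      ⟨x, Subgroup.mem_centralizer_singleton_iff.2 rfl⟩ /
    (θ : Subgroup.centralizer ({x} : Set G) → ℂ) 1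

/-- The multiplicity of `θ` in the restriction of `χ`. -/
noncomputable def resMult (x : G) (χ : IrrCharacter G)
    (θ : IrrCharacter (Subgroup.centralizer ({x} : Set G))) : ℕ :=
  haveI := Fintype.ofFinite (Subgroup.centralizer ({x} : Set G))
  ⌊(classInner (fun c : Subgroup.centralizer ({x} : Set G) => (χ : G → ℂ) c)
    (θ : Subgroup.centralizer ({x} : Set G) → ℂ)).re⌋₊

include hM hx

theorem centralRoot_spec (θ : IrrCharacter (Subgroup.centralizer ({x} : Set G))) :
    ‖centralRoot x θ‖ = 1 ∧ centralRoot x θ ^ orderOf x = 1 ∧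
    ∀ v, (θ : Subgroup.centralizer ({x} : Set G) → ℂ)
        (⟨x, Subgroup.mem_centralizer_singleton_iff.2 rfl⟩ * v) =
      centralRoot x θ * (θ : Subgroup.centralizer ({x} : Set G) → ℂ) v := by
  obtain ⟨ω, h1, h2, h3⟩ := exists_central_scalar hM hx θ
    (z := (⟨x, Subgroup.mem_centralizer_singleton_iff.2 rfl⟩ :
      Subgroup.centralizer ({x} : Set G)))
    (fun c => Subtype.ext (Subgroup.mem_centralizer_singleton_iff.1 c.2).symm)
  have h0 : centralRoot x θ = ω := by
    have h4 := h3 1
    rw [mul_one] at h4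
    rw [centralRoot, h4, mul_div_cancel_right₀ _ (CfsgLib.Char.irr_apply_one_ne_zero θ.2)]
  refine ⟨h0 ▸ h1, ?_, h0 ▸ h3⟩
  rw [h0]
  rw [Subgroup.orderOf_mk] at h2
  exact h2

theorem resMult_cast [Fintype (Subgroup.centralizer ({x} : Set G))] (χ : IrrCharacter G)
    (θ : IrrCharacter (Subgroup.centralizer ({x} : Set G))) :
    classInner (fun c : Subgroup.centralizer ({x} : Set G) => (χ : G → ℂ) c)
      (θ : Subgroup.centralizer ({x} : Set G) → ℂ) = (resMult x χ θ : ℂ) := by
  obtain ⟨k, hk⟩ := CfsgLib.Char.classInner_isCharacter_nat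
    (CfsgLib.Char.isCharacter_restrict (CfsgLib.Char.irr_isCharacter χ.2)
      (Subgroup.centralizer ({x} : Set G))) (CfsgLib.Char.irr_isCharacter θ.2)
  rw [resMult, show (Fintype.ofFinite (Subgroup.centralizer ({x} : Set G))) =
    (inferInstance : Fintype _) from Subsingleton.elim _ _, hk]
  simp

theorem classInner_shift [Fintype (Subgroup.centralizer ({x} : Set G))] (χ : IrrCharacter G)
    (θ : IrrCharacter (Subgroup.centralizer ({x} : Set G))) :
    classInner (fun c : Subgroup.centralizer ({x} : Set G) => (χ : G → ℂ) (x * (c : G)))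
      (θ : Subgroup.centralizer ({x} : Set G) → ℂ) = centralRoot x θ * (resMult x χ θ : ℂ) := by
  obtain ⟨h1, -, h3⟩ := centralRoot_spec hM hx θ
  rw [← resMult_cast hM hx, CfsgLib.Char.classInner_def, CfsgLib.Char.classInner_def,
    mul_left_comm]
  congr 1
  rw [Finset.mul_sum]
  refine Fintype.sum_equiv
    (Equiv.mulLeft (⟨x, Subgroup.mem_centralizer_singleton_iff.2 rfl⟩ :
      Subgroup.centralizer ({x} : Set G))) _ _ fun c => ?_
  simp only [Equiv.coe_mulLeft, Subgroup.coe_mul, h3, map_mul]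
  have h4 : centralRoot x θ * conj (centralRoot x θ) = 1 := by
    rw [Complex.mul_conj', h1]; simp
  linear_combination
    -((χ : G → ℂ) (x * (c : G)) * conj ((θ : Subgroup.centralizer ({x} : Set G) → ℂ) c)) * h4

theorem sectionFun_eq [Fintype (Subgroup.centralizer ({x} : Set G))]
    (b : Set (IrrCharacter (Subgroup.centralizer ({x} : Set G)))) (χ : IrrCharacter G)
    (v : Subgroup.centralizer ({x} : Set G)) :
    sectionFun p x b (χ : G → ℂ) v = ∑ θ ∈ b.toFinite.toFinset,
      centralRoot x θ * (resMult x χ θ : ℂ) *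
        (regInd p v * (θ : Subgroup.centralizer ({x} : Set G) → ℂ) v) := by
  rw [sectionFun, blockPart, finsum_mem_eq_finite_toFinset_sum _ b.toFinite, Finset.mul_sum]
  refine Finset.sum_congr rfl fun θ _ => ?_
  rw [show (Fintype.ofFinite (Subgroup.centralizer ({x} : Set G))) =
    (inferInstance : Fintype _) from Subsingleton.elim _ _, classInner_shift hM hx]
  ring

/-- The contribution of a subsection, as a Galois family. -/
noncomputable def subEntry (p : ℕ) [Fintype (Subgroup.centralizer ({x} : Set G))]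
    (b : Set (IrrCharacter (Subgroup.centralizer ({x} : Set G)))) (χ ξ : IrrCharacter G) (k : ℕ) :
    ℂ :=
  ∑ θ ∈ b.toFinite.toFinset, ∑ η ∈ b.toFinite.toFinset,
    (((resMult x χ θ : ℤ) * (resMult x ξ η : ℤ) *
        (regEntry p θ η / (p ^ sInf ((fun φ : IrrCharacter (Subgroup.centralizer ({x} : Set G)) =>
          (charDegree (φ : Subgroup.centralizer ({x} : Set G) → ℂ)).factorization p) '' b) : ℕ)) :
        ℤ) : ℂ) * (centralRoot x θ ^ k * conj (centralRoot x η ^ k))

variable [Fintype (Subgroup.centralizer ({x} : Set G))]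
variable [Fintype (IrrCharacter G)]
variable {B : Set (IrrCharacter G)}
variable {b : Set (IrrCharacter (Subgroup.centralizer ({x} : Set G)))}

theorem subEntry_isCyclo (χ ξ : IrrCharacter G) :
    IsCyclo (Nat.card G) (subEntry p b χ ξ) := by
  have hn : Nat.card G ≠ 0 := Nat.card_pos.ne'
  have : NeZero (Nat.card G) := ⟨hn⟩
  obtain ⟨c, hc⟩ := orderOf_dvd_natCard x
  have hroot : ∀ θ : IrrCharacter (Subgroup.centralizer ({x} : Set G)),
      IsCyclo (Nat.card G) (fun k => centralRoot x θ ^ k) := fun θ => by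
    obtain ⟨j, -, hj⟩ := (zetaN_isPrimitiveRoot hn).eq_pow_of_pow_eq_one
      (show centralRoot x θ ^ Nat.card G = 1 by
        rw [hc, pow_mul, (centralRoot_spec hM hx θ).2.1, one_pow])
    exact ⟨Polynomial.X ^ j, fun k => by
      show centralRoot x θ ^ k = _
      rw [map_pow, Polynomial.aeval_X, ← hj, ← pow_mul, ← pow_mul, mul_comm]⟩
  unfold subEntry
  refine IsCyclo.sum _ fun θ _ => IsCyclo.sum _ fun η _ => ?_
  exact (isCyclo_intCast _ _).mul ((hroot θ).mul ((hroot η).conj hn))

theorem subEntry_conj (χ ξ : IrrCharacter G) (k : ℕ) :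
    conj (subEntry p b χ ξ k) = subEntry p b ξ χ k := by
  have := Fact.mk hM.1
  simp only [subEntry, map_sum, map_mul, map_intCast, Complex.conj_conj]
  rw [Finset.sum_comm]
  refine Finset.sum_congr rfl fun θ _ => Finset.sum_congr rfl fun η _ => ?_
  rw [regEntry_symm η θ]
  push_cast
  ring

variable (hind : IsInducedBlock M (Subgroup.centralizer ({x} : Set G)) b B)
include hind

theorem subEntry_one (χ ξ : IrrCharacter G) :
    subEntry p b χ ξ 1 = ((p ^ blockDefect p b : ℕ) : ℂ) *
      classInner (sectionFun p x b (χ : G → ℂ)) (sectionFun p x b (ξ : G → ℂ)) := by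
  classical
  have := Fact.mk hM.1
  set s := sInf ((fun φ : IrrCharacter (Subgroup.centralizer ({x} : Set G)) =>
    (charDegree (φ : Subgroup.centralizer ({x} : Set G) → ℂ)).factorization p) '' b) with hs
  have hadd := sInf_degree_add_blockDefect hM hind.1
  rw [← hs] at hadd
  have hexp : ∀ χ : IrrCharacter G, sectionFun p x b (χ : G → ℂ) =
      ∑ θ ∈ b.toFinite.toFinset, (centralRoot x θ * (resMult x χ θ : ℂ)) •
        (fun v => regInd p v * (θ : Subgroup.centralizer ({x} : Set G) → ℂ) v) := fun χ => by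
    funext v
    rw [sectionFun_eq hM hx b χ v, Finset.sum_apply]
    rfl
  have hpair : ∀ θ η : IrrCharacter (Subgroup.centralizer ({x} : Set G)),
      classInner (fun v => regInd p v * (θ : Subgroup.centralizer ({x} : Set G) → ℂ) v)
        (fun v => regInd p v * (η : Subgroup.centralizer ({x} : Set G) → ℂ) v) =
      classInner (fun v => regInd p v * (θ : Subgroup.centralizer ({x} : Set G) → ℂ) v)
        (η : Subgroup.centralizer ({x} : Set G) → ℂ) := fun θ η => by
    rw [CfsgLib.Char.classInner_def, CfsgLib.Char.classInner_def]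
    congr 1
    refine Finset.sum_congr rfl fun v _ => ?_
    unfold regInd
    split_ifs <;> simp
  rw [hexp χ, hexp ξ, CfsgLib.Char.classInner_sum_left, Finset.mul_sum, subEntry]
  refine Finset.sum_congr rfl fun θ hθ => ?_
  rw [CfsgLib.Char.classInner_smul_left, CfsgLib.Char.classInner_sum_right, Finset.mul_sum,
    Finset.mul_sum]
  refine Finset.sum_congr rfl fun η hη => ?_
  rw [CfsgLib.Char.classInner_smul_right, hpair, classInner_regInd_eq_regEntry]
  have hdvd : ((p ^ s : ℕ) : ℤ) ∣ regEntry p θ η := by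
    refine dvd_trans ?_ (pow_dvd_regEntry hM θ η)
    exact_mod_cast Nat.pow_dvd_pow p
      (show s ≤ (charDegree (η : Subgroup.centralizer ({x} : Set G) → ℂ)).factorization p from
        Nat.sInf_le ⟨η, b.toFinite.mem_toFinset.1 hη, rfl⟩)
  rw [← hs, ← hadd, Int.cast_mul, Int.cast_mul, Int.cast_div hdvd
    (by exact_mod_cast pow_ne_zero s hM.1.ne_zero)]
  simp only [pow_one, map_mul, Complex.conj_natCast, Int.cast_natCast, pow_add, Nat.cast_mul]
  have h1 : ((p ^ s : ℕ) : ℂ) ≠ 0 := Nat.cast_ne_zero.2 (pow_ne_zero _ hM.1.ne_zero)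
  have h2 : ((p ^ blockDefect p b : ℕ) : ℂ) ≠ 0 := Nat.cast_ne_zero.2 (pow_ne_zero _ hM.1.ne_zero)
  field_simp

/-- Members of other blocks do not contribute. -/
theorem sectionFun_eq_zero {χ : IrrCharacter G} (hχ : χ ∉ B) :
    sectionFun p x b (χ : G → ℂ) = 0 := by
  funext v
  by_cases hv : p ∣ orderOf v
  · simp [sectionFun, regInd, hv]
  · rw [sectionFun, blockPart_centralizer_eq_zero hM hx (isPBlock_blockOf χ)
      (mem_blockOf_self χ) hind.1 (fun h => hχ ?_) hv, mul_zero]
    · rfl
    · exact isInducedBlock_unique _ h hind ▸ mem_blockOf_self χ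

theorem sum_subEntry_sq :
    ∑ χ ∈ B.toFinite.toFinset, ∑ ξ ∈ B.toFinite.toFinset,
        subEntry p b χ ξ 1 * subEntry p b ξ χ 1 =
      (((p ^ blockDefect p b) ^ 2 * blockRank p b : ℕ) : ℂ) := by
  classical
  have := Fact.mk hM.1
  have := Fintype.ofFinite (IrrCharacter (Subgroup.centralizer ({x} : Set G)))
  set c := (Nat.card (Subgroup.centralizer ({x} : Set G)) : ℂ)⁻¹ with hc
  set q := ((p ^ blockDefect p b : ℕ) : ℂ) with hq
  let ψ : IrrCharacter (Subgroup.centralizer ({x} : Set G)) →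
      Subgroup.centralizer ({x} : Set G) → ℂ := fun θ v =>
    if θ ∈ b then regInd p v * (θ : Subgroup.centralizer ({x} : Set G) → ℂ) v else 0
  have hreal : ∀ v : Subgroup.centralizer ({x} : Set G), conj (regInd p v) = regInd p v :=
    fun v => by unfold regInd; split <;> simp
  have hker := sum_normSq_inner_eq
    (fun χ : IrrCharacter G => sectionFun p x b (χ : G → ℂ)) ψ (fun v w => by
      rw [sum_sectionFun hM hx hind.1, Finset.mul_sum,
        ← Finset.sum_subset (Finset.subset_univ b.toFinite.toFinset) (fun θ _ hθ => by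
          simp only [ψ, if_neg (fun h => hθ (b.toFinite.mem_toFinset.2 h)), zero_mul])]
      refine Finset.sum_congr rfl fun θ hθ => ?_
      simp only [ψ, if_pos (b.toFinite.mem_toFinset.1 hθ), map_mul, hreal]
      ring)
  have hL : ∑ χ ∈ B.toFinite.toFinset, ∑ ξ ∈ B.toFinite.toFinset,
        subEntry p b χ ξ 1 * subEntry p b ξ χ 1 = q ^ 2 * c ^ 2 *
      ∑ χ : IrrCharacter G, ∑ ξ : IrrCharacter G,
        (∑ v, sectionFun p x b (χ : G → ℂ) v * conj (sectionFun p x b (ξ : G → ℂ) v)) *
          conj (∑ v, sectionFun p x b (χ : G → ℂ) v * conj (sectionFun p x b (ξ : G → ℂ) v)) := by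
    rw [Finset.mul_sum, ← Finset.sum_subset (Finset.subset_univ B.toFinite.toFinset)
      (fun χ _ hχ => by
        rw [sectionFun_eq_zero hM hx hind (fun h => hχ (B.toFinite.mem_toFinset.2 h))]
        simp)]
    refine Finset.sum_congr rfl fun χ _ => ?_
    rw [Finset.mul_sum, ← Finset.sum_subset (Finset.subset_univ B.toFinite.toFinset)
      (fun ξ _ hξ => by
        rw [sectionFun_eq_zero hM hx hind (fun h => hξ (B.toFinite.mem_toFinset.2 h))]
        simp)]
    refine Finset.sum_congr rfl fun ξ _ => ?_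
    rw [← subEntry_conj hM hx χ ξ, subEntry_one hM hx hind, CfsgLib.Char.classInner_def,
      map_mul, map_mul, map_inv₀, Complex.conj_natCast, Complex.conj_natCast, ← hc, ← hq]
    ring
  rw [hL, hker, Finset.mul_sum,
    ← Finset.sum_subset (Finset.subset_univ b.toFinite.toFinset) (fun θ _ hθ => by
      simp [ψ, if_neg (fun h => hθ (b.toFinite.mem_toFinset.2 h))])]
  set a := (Nat.card (Subgroup.centralizer ({x} : Set G))).factorization p
  have hqa : ((p ^ a : ℕ) : ℂ) ≠ 0 := Nat.cast_ne_zero.2 (pow_ne_zero _ hM.1.ne_zero)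
  have hE : ∀ θ ∈ b.toFinite.toFinset, ∀ η ∈ b.toFinite.toFinset,
      c * ∑ v, ψ θ v * conj (ψ η v) = (regEntry p θ η : ℂ) / ((p ^ a : ℕ) : ℂ) := by
    intro θ hθ η hη
    rw [← classInner_regInd_eq_regEntry, CfsgLib.Char.classInner_def, ← hc]
    congr 1
    refine Finset.sum_congr rfl fun v _ => ?_
    simp only [ψ, if_pos (b.toFinite.mem_toFinset.1 hθ), if_pos (b.toFinite.mem_toFinset.1 hη)]
    unfold regInd
    split_ifs <;> simp
  have hrow : ∀ θ ∈ b.toFinite.toFinset,
      q ^ 2 * c ^ 2 * ∑ η : IrrCharacter (Subgroup.centralizer ({x} : Set G)),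
        (∑ v, ψ θ v * conj (ψ η v)) * conj (∑ v, ψ θ v * conj (ψ η v)) =
      q ^ 2 * ((regEntry p θ θ : ℂ) / ((p ^ a : ℕ) : ℂ)) := by
    intro θ hθ
    rw [← Finset.sum_subset (Finset.subset_univ b.toFinite.toFinset) (fun η _ hη => by
      simp [ψ, if_neg (fun h => hη (b.toFinite.mem_toFinset.2 h))]), Finset.mul_sum]
    have hsq := sum_regEntry_sq hM hind.1 (b.toFinite.mem_toFinset.1 hθ)
    rw [finsum_mem_eq_finite_toFinset_sum _ b.toFinite] at hsq
    have hsqC : ∑ η ∈ b.toFinite.toFinset, (regEntry p θ η : ℂ) * (regEntry p θ η : ℂ) =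
        ((p ^ a : ℕ) : ℂ) * (regEntry p θ θ : ℂ) := by exact_mod_cast hsq
    rw [Finset.sum_congr rfl (g := fun η => q ^ 2 / ((p ^ a : ℕ) : ℂ) ^ 2 *
      ((regEntry p θ η : ℂ) * (regEntry p θ η : ℂ))) (fun η hη => ?_), ← Finset.mul_sum, hsqC]
    · field_simp
    · have hreal' := congrArg conj (hE θ hθ η hη)
      rw [map_mul, map_div₀, map_intCast, Complex.conj_natCast, hc, map_inv₀,
        Complex.conj_natCast, ← hc] at hreal'
      calc q ^ 2 * c ^ 2 * ((∑ v, ψ θ v * conj (ψ η v)) * conj (∑ v, ψ θ v * conj (ψ η v)))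
          = q ^ 2 * ((c * ∑ v, ψ θ v * conj (ψ η v)) *
              (c * conj (∑ v, ψ θ v * conj (ψ η v)))) := by ring
        _ = _ := by rw [hE θ hθ η hη, hreal']; field_simp
  rw [Finset.sum_congr rfl hrow, ← Finset.mul_sum, ← Finset.sum_div, ← Int.cast_sum,
    ← blockRank_mul_pow hM hind.1]
  have : (p : ℂ) ≠ 0 := Nat.cast_ne_zero.2 hM.1.ne_zero
  push_cast [hq, a]
  field_simp

theorem subEntry_ne_zero (hd : blockDefect p b = blockDefect p B) {χ ξ : IrrCharacter G}
    (hχ : χ ∈ B) (hξ : ξ ∈ B) (hχ0 : blockHeight p B (χ : G → ℂ) = 0)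
    (hξ0 : blockHeight p B (ξ : G → ℂ) = 0) : subEntry p b χ ξ 1 ≠ 0 := by
  classical
  have := Fact.mk hM.1
  have := charP_kres hM
  have hb := hind.1
  have hB := hind.2.1
  obtain ⟨θ₀, hθ₀, hθh⟩ := exists_height_zero hM hb
  set s := sInf ((fun φ : IrrCharacter (Subgroup.centralizer ({x} : Set G)) =>
    (charDegree (φ : Subgroup.centralizer ({x} : Set G) → ℂ)).factorization p) '' b) with hs
  set F := b.toFinite.toFinset with hF
  have hmemF : ∀ {θ}, θ ∈ F → θ ∈ b := fun h => b.toFinite.mem_toFinset.1 h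
  have hd0 : charDegree (θ₀ : Subgroup.centralizer ({x} : Set G) → ℂ) ≠ 0 := charDegree_ne_zero θ₀.2
  have hs0 : (charDegree (θ₀ : Subgroup.centralizer ({x} : Set G) → ℂ)).factorization p = s :=
    le_antisymm (Nat.sub_eq_zero_iff_le.1 hθh) (Nat.sInf_le ⟨θ₀, hθ₀, rfl⟩)
  have hone : ∀ φ : IrrCharacter (Subgroup.centralizer ({x} : Set G)),
      (φ : Subgroup.centralizer ({x} : Set G) → ℂ) 1 =
        (charDegree (φ : Subgroup.centralizer ({x} : Set G) → ℂ) : ℂ) := fun φ =>
    (charDegree_cast (CfsgLib.Char.irr_isCharacter φ.2)).symm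
  set D := (charDegree (θ₀ : Subgroup.centralizer ({x} : Set G) → ℂ) : ℂ) with hD
  have hDne : D ≠ 0 := Nat.cast_ne_zero.2 hd0
  -- degree ratios
  let r : IrrCharacter (Subgroup.centralizer ({x} : Set G)) → ℂ := fun φ =>
    (φ : Subgroup.centralizer ({x} : Set G) → ℂ) 1 / D
  have hr : ∀ φ ∈ b, MemLocalRing M (r φ) := fun φ hφ => by
    simp only [r, hone, hD]
    exact memLocalRing_natCast_div hM hd0 (Or.inr (hs0 ▸ Nat.sInf_le ⟨φ, hφ, rfl⟩))
  set R0 := regPair p (θ₀ : Subgroup.centralizer ({x} : Set G) → ℂ)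
    (θ₀ : Subgroup.centralizer ({x} : Set G) → ℂ) / D with hR0
  have hR0m : MemLocalRing M R0 := by
    rw [hR0, hD, ← hone]
    exact memLocalRing_regPair_div hM (CfsgLib.Char.irr_isClassFunction θ₀.2)
      (memLocalRing_irr_apply θ₀) θ₀
  have hR0u : redC M R0 ≠ 0 := by
    rw [ne_eq, redC_eq_zero_iff hR0m, hR0, hD, ← hone]
    exact (not_memLocalIdeal_regPair_iff hM hb hθ₀ hθ₀).2 hθh
  have hdivm : ∀ (φ : Subgroup.centralizer ({x} : Set G) → ℂ) (η),
      IsClassFunction (Subgroup.centralizer ({x} : Set G)) φ → (∀ g, MemLocalRing M (φ g)) →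
      MemLocalRing M (regPair p φ (η : IrrCharacter (Subgroup.centralizer ({x} : Set G))) /
        (η : Subgroup.centralizer ({x} : Set G) → ℂ) 1) := fun φ η h1 h2 =>
    memLocalRing_regPair_div hM h1 h2 η
  have hP : ∀ θ ∈ b, ∀ η ∈ b, redC M (regPair p (θ : Subgroup.centralizer ({x} : Set G) → ℂ)
      (η : Subgroup.centralizer ({x} : Set G) → ℂ) / D) =
      redC M (r θ) * redC M (r η) * redC M R0 := by
    intro θ hθ η hη
    have e1 : ∀ α ∈ b, ∀ β ∈ b, ∀ γ ∈ b,
        redC M (regPair p (α : Subgroup.centralizer ({x} : Set G) → ℂ)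
          (β : Subgroup.centralizer ({x} : Set G) → ℂ) / D) =
        redC M (r β) * redC M (regPair p (α : Subgroup.centralizer ({x} : Set G) → ℂ)
          (γ : Subgroup.centralizer ({x} : Set G) → ℂ) /
            (γ : Subgroup.centralizer ({x} : Set G) → ℂ) 1) := by
      intro α _ β hβ γ hγ
      have hm := fun δ => hdivm _ δ (CfsgLib.Char.irr_isClassFunction α.2) (memLocalRing_irr_apply α)
      rw [← (redC_eq_iff (hm β) (hm γ)).2 (memLocalIdeal_regPair_div_sub hM
        (CfsgLib.Char.irr_isClassFunction α.2) (memLocalRing_irr_apply α)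
        (sameBlock_of_mem hb hβ hγ)), ← redC_mul (hr β hβ) (hm β)]
      congr 1
      simp only [r]
      have := CfsgLib.Char.irr_apply_one_ne_zero β.2
      field_simp
    rw [e1 θ hθ η hη θ₀ hθ₀, hone θ₀, ← hD, regPair_symm, e1 θ₀ hθ₀ θ hθ θ₀ hθ₀, hone θ₀, ← hD,
      ← hR0]
    ring
  -- the restriction degree of a height zero character is a local unit
  have hN : ∀ ψ ∈ B, blockHeight p B (ψ : G → ℂ) = 0 →
      (∑ θ ∈ F, (resMult x ψ θ : kres M) * redC M (r θ)) * redC M R0 ≠ 0 := by
    intro ψ hψ hψ0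
    obtain ⟨a, ha, hmod, hv⟩ := exists_indFun_blockDegree hM hind hθ₀
    set Dn := (Subgroup.centralizer ({x} : Set G)).index * charDegree (θ₀ : (Subgroup.centralizer ({x} : Set G)) → ℂ) with hDn
    have hDn0 : Dn ≠ 0 := mul_ne_zero Subgroup.index_ne_zero_of_finite hd0
    have hidx : (Subgroup.centralizer ({x} : Set G)).index.factorization p + (Nat.card (Subgroup.centralizer ({x} : Set G))).factorization p =
        (Nat.card G).factorization p := by
      rw [← Finsupp.add_apply,
        ← Nat.factorization_mul Subgroup.index_ne_zero_of_finite Nat.card_pos.ne', (Subgroup.centralizer ({x} : Set G)).index_mul_card]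
    set sB := sInf ((fun φ : IrrCharacter G => (charDegree (φ : G → ℂ)).factorization p) '' B)
      with hsB
    have hDs : Dn.factorization p = sB := by
      rw [hDn, Nat.factorization_mul Subgroup.index_ne_zero_of_finite hd0, Finsupp.add_apply, hs0]
      have h1 := sInf_degree_add_blockDefect hM hb
      have h2 := sInf_degree_add_blockDefect hM hB
      rw [← hs] at h1
      rw [← hsB] at h2
      omega
    set FB := B.toFinite.toFinset with hFB
    have hmemB : ∀ {φ}, φ ∈ FB → φ ∈ B := fun h => B.toFinite.mem_toFinset.1 h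
    have hid : regPair p (θ₀ : (Subgroup.centralizer ({x} : Set G)) → ℂ) (fun c : (Subgroup.centralizer ({x} : Set G)) => (ψ : G → ℂ) c) / D =
        ∑ φ ∈ FB, ((a φ * charDegree (φ : G → ℂ) : ℕ) : ℂ) / (Dn : ℂ) *
          (regPair p (ψ : G → ℂ) (φ : G → ℂ) / (φ : G → ℂ) 1) := by
      have hf : IsClassFunction G (fun g => regInd p g * (ψ : G → ℂ) g) := fun g h => by
        simp only [regInd_isClassFunction p g h, CfsgLib.Char.irr_isClassFunction ψ.2 g h]
      have h1 := CfsgLib.Char.frobenius_reciprocity (Subgroup.centralizer ({x} : Set G)) (θ₀ : (Subgroup.centralizer ({x} : Set G)) → ℂ) _ hf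
      rw [CfsgLib.Char.classInner_eq_sum_mul (CfsgLib.Char.indFun_isClassFunction (Subgroup.centralizer ({x} : Set G)) _)] at h1
      have hG : ∀ φ : IrrCharacter G,
          conj (classInner (fun g => regInd p g * (ψ : G → ℂ) g) (φ : G → ℂ)) =
            (Nat.card G : ℂ)⁻¹ * regPair p (ψ : G → ℂ) (φ : G → ℂ) := by
        intro φ
        rw [CfsgLib.Char.classInner_def, map_mul, map_inv₀, Complex.conj_natCast, map_sum, regPair]
        congr 1
        refine Fintype.sum_equiv (Equiv.inv G) _ _ fun g => ?_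
        simp only [Equiv.inv_apply, inv_inv, regInd_inv, map_mul, Complex.conj_conj,
          irr_conj_eq ψ.2]
        unfold regInd
        split_ifs <;> simp
      have hC : classInner (θ₀ : (Subgroup.centralizer ({x} : Set G)) → ℂ) (fun h : (Subgroup.centralizer ({x} : Set G)) => regInd p (h : G) * (ψ : G → ℂ) (h : G)) =
          (Nat.card (Subgroup.centralizer ({x} : Set G)) : ℂ)⁻¹ * regPair p (θ₀ : (Subgroup.centralizer ({x} : Set G)) → ℂ) (fun c : (Subgroup.centralizer ({x} : Set G)) => (ψ : G → ℂ) c) := by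
        rw [CfsgLib.Char.classInner_def, regPair]
        congr 1
        refine Finset.sum_congr rfl fun h _ => ?_
        simp only [map_mul, irr_conj_eq ψ.2, InvMemClass.coe_inv, regInd, Subgroup.orderOf_coe]
        split_ifs <;> simp
      rw [hC] at h1
      simp only [hG, ha] at h1
      rw [← Finset.sum_subset (Finset.subset_univ FB) (fun φ _ hφ => by
        rw [regPair_eq_zero hM hB hψ (fun h => hφ (B.toFinite.mem_toFinset.2 h))]
        simp)] at h1
      have hGH : (Nat.card G : ℂ) = ((Subgroup.centralizer ({x} : Set G)).index : ℂ) * (Nat.card (Subgroup.centralizer ({x} : Set G)) : ℂ) := by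
        rw [← Nat.cast_mul, (Subgroup.centralizer ({x} : Set G)).index_mul_card]
      rw [eq_inv_mul_iff_mul_eq₀ (Nat.cast_ne_zero.2 Nat.card_pos.ne')] at h1
      rw [← h1, Finset.mul_sum, Finset.sum_div]
      refine Finset.sum_congr rfl fun φ _ => ?_
      rw [hDn, Nat.cast_mul, Nat.cast_mul, ← hD, hGH,
        charDegree_cast (CfsgLib.Char.irr_isCharacter φ.2)]
      have := CfsgLib.Char.irr_apply_one_ne_zero φ.2
      have : ((Subgroup.centralizer ({x} : Set G)).index : ℂ) ≠ 0 := Nat.cast_ne_zero.2 Subgroup.index_ne_zero_of_finite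
      have : (Nat.card (Subgroup.centralizer ({x} : Set G)) : ℂ) ≠ 0 := Nat.cast_ne_zero.2 Nat.card_pos.ne'
      field_simp
    obtain ⟨φ₀, hφ₀, -⟩ := exists_height_zero hM hB
    set T := regPair p (ψ : G → ℂ) (φ₀ : G → ℂ) / (φ₀ : G → ℂ) 1 with hT
    have hTm := fun φ => memLocalRing_regPair_div hM (CfsgLib.Char.irr_isClassFunction ψ.2)
      (memLocalRing_irr_apply ψ) φ
    have hTu : redC M T ≠ 0 := by
      rw [ne_eq, redC_eq_zero_iff (hTm φ₀)]
      exact (not_memLocalIdeal_regPair_iff hM hB hψ hφ₀).2 hψ0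
    have hq : ∀ φ ∈ FB, MemLocalRing M (((a φ * charDegree (φ : G → ℂ) : ℕ) : ℂ) / (Dn : ℂ)) := by
      intro φ hφ
      refine memLocalRing_natCast_div hM hDn0 ?_
      rcases Nat.eq_zero_or_pos (a φ) with h | h
      · exact Or.inl (by rw [h, zero_mul])
      · refine Or.inr ?_
        rw [hDs, Nat.factorization_mul h.ne' (charDegree_ne_zero φ.2), Finsupp.add_apply]
        exact le_trans (Nat.sInf_le ⟨φ, hmemB hφ, rfl⟩) (Nat.le_add_left _ _)
    have e2 : redC M (regPair p (θ₀ : (Subgroup.centralizer ({x} : Set G)) → ℂ) (fun c : (Subgroup.centralizer ({x} : Set G)) => (ψ : G → ℂ) c) / D) = redC M T := by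
      rw [hid, redC_sum _ _ (fun φ hφ => memLocalRing_mul (hq φ hφ) (hTm φ)),
        Finset.sum_congr rfl (g := fun φ =>
          redC M (((a φ * charDegree (φ : G → ℂ) : ℕ) : ℂ) / (Dn : ℂ)) * redC M T)
        (fun φ hφ => by
          rw [redC_mul (hq φ hφ) (hTm φ), hT, (redC_eq_iff (hTm φ) (hTm φ₀)).2
            (memLocalIdeal_regPair_div_sub hM (CfsgLib.Char.irr_isClassFunction ψ.2)
              (memLocalRing_irr_apply ψ) (sameBlock_of_mem hB (hmemB hφ) hφ₀))]),
        ← Finset.sum_mul, ← redC_sum _ _ hq, ← Finset.sum_div, ← Nat.cast_sum]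
      have hloc := memLocalRing_add (memLocalRing_of_memLocalIdeal hmod)
        (by simpa using memLocalRing_natCast (M := M) 1 : MemLocalRing M (1 : ℂ))
      rw [sub_add_cancel] at hloc
      rw [(redC_eq_iff hloc (by simpa using memLocalRing_natCast (M := M) 1)).2 hmod, redC_one,
        one_mul]
    have e3 : redC M (regPair p (θ₀ : (Subgroup.centralizer ({x} : Set G)) → ℂ) (fun c : (Subgroup.centralizer ({x} : Set G)) => (ψ : G → ℂ) c) / D) =
        (∑ θ ∈ F, (resMult x ψ θ : kres M) * redC M (r θ)) * redC M R0 := by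
      have := Fintype.ofFinite (IrrCharacter (Subgroup.centralizer ({x} : Set G)))
      have hexp : regPair p (θ₀ : (Subgroup.centralizer ({x} : Set G)) → ℂ) (fun c : (Subgroup.centralizer ({x} : Set G)) => (ψ : G → ℂ) c) =
          ∑ θ ∈ F, (resMult x ψ θ : ℂ) * regPair p (θ₀ : (Subgroup.centralizer ({x} : Set G)) → ℂ) (θ : (Subgroup.centralizer ({x} : Set G)) → ℂ) := by
        rw [Finset.sum_subset (Finset.subset_univ F) (fun θ _ hθ => by
          rw [regPair_eq_zero hM hb hθ₀ (fun h => hθ (b.toFinite.mem_toFinset.2 h)), mul_zero])]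
        simp only [regPair, Finset.mul_sum]
        rw [Finset.sum_comm]
        refine Finset.sum_congr rfl fun g _ => ?_
        rw [CfsgLib.Char.classFunction_apply_eq_sum (CfsgLib.Char.isCharacter_isClassFunction
          (CfsgLib.Char.isCharacter_restrict (CfsgLib.Char.irr_isCharacter ψ.2) (Subgroup.centralizer ({x} : Set G)))) g⁻¹,
          Finset.mul_sum]
        refine Finset.sum_congr rfl fun θ _ => ?_
        rw [resMult_cast hM hx]
        ring
      have hm : ∀ θ ∈ F, MemLocalRing M (regPair p (θ₀ : (Subgroup.centralizer ({x} : Set G)) → ℂ) (θ : (Subgroup.centralizer ({x} : Set G)) → ℂ) / D) := fun θ hθ => by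
        have h := memLocalRing_mul (hr θ (hmemF hθ)) (hdivm _ θ
          (CfsgLib.Char.irr_isClassFunction θ₀.2) (memLocalRing_irr_apply θ₀))
        convert h using 1
        simp only [r]
        have := CfsgLib.Char.irr_apply_one_ne_zero θ.2
        field_simp
      rw [hexp, Finset.sum_div, Finset.sum_mul,
        Finset.sum_congr rfl (fun θ _ => mul_div_assoc _ _ _),
        redC_sum _ _ (fun θ hθ => memLocalRing_mul (memLocalRing_natCast _) (hm θ hθ))]
      refine Finset.sum_congr rfl fun θ hθ => ?_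
      rw [redC_mul (memLocalRing_natCast _) (hm θ hθ), hP θ₀ hθ₀ θ (hmemF hθ), redC_natCast,
        show r θ₀ = 1 by simp [r, hone, ← hD, hDne], redC_one]
      ring
    rw [← e3, e2]
    exact hTu
  -- the entry
  intro h0
  set m := ((ordCompl[p] (Nat.card (Subgroup.centralizer ({x} : Set G))) : ℕ) : ℂ) with hm
  have hps : ((p ^ s : ℕ) : ℂ) ≠ 0 := Nat.cast_ne_zero.2 (pow_ne_zero _ hM.1.ne_zero)
  have hw : ∀ θ η : IrrCharacter (Subgroup.centralizer ({x} : Set G)),
      MemLocalRing M (centralRoot x θ * conj (centralRoot x η)) ∧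
        redC M (centralRoot x θ * conj (centralRoot x η)) = 1 := by
    intro θ η
    set z := centralRoot x θ * conj (centralRoot x η) with hz
    have hz1 : z ^ orderOf x = 1 := by
      rw [hz, mul_pow, (centralRoot_spec hM hx θ).2.1, ← map_pow,
        (centralRoot_spec hM hx η).2.1, map_one, mul_one]
    have hzint : IsIntegral ℤ z := IsIntegral.of_pow (orderOf_pos x) (hz1 ▸ isIntegral_one)
    refine ⟨memLocalRing_of_isIntegral hzint, ?_⟩
    obtain ⟨k, hk⟩ := hx
    have hzl := memLocalRing_of_isIntegral (M := M) hzint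
    have hpow : (redC M z) ^ orderOf x = 1 := by
      rw [redC_eq hzl, ← map_pow, ← map_one (red M)]
      congr 1
      exact Subtype.ext (by simpa using hz1)
    rw [hk] at hpow
    have : (redC M z - 1) ^ p ^ k = 0 := by
      rw [sub_pow_char_pow (p := p), hpow, one_pow, sub_self]
    exact sub_eq_zero.1 (pow_eq_zero_iff (pow_ne_zero k hM.1.ne_zero) |>.1 this)
  have hPD : ∀ θ ∈ F, ∀ η ∈ F, MemLocalRing M (regPair p
      (θ : Subgroup.centralizer ({x} : Set G) → ℂ)
      (η : Subgroup.centralizer ({x} : Set G) → ℂ) / D) := by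
    intro θ _ η hη
    have h := memLocalRing_mul (hr η (hmemF hη)) (hdivm _ η
      (CfsgLib.Char.irr_isClassFunction θ.2) (memLocalRing_irr_apply θ))
    convert h using 1
    simp only [r]
    have := CfsgLib.Char.irr_apply_one_ne_zero η.2
    field_simp
  have hX : subEntry p b χ ξ 1 * (m * ((p ^ s : ℕ) : ℂ) / D) = ∑ θ ∈ F, ∑ η ∈ F,
      (resMult x χ θ : ℂ) * (resMult x ξ η : ℂ) *
        (centralRoot x θ * conj (centralRoot x η)) *
        (regPair p (θ : Subgroup.centralizer ({x} : Set G) → ℂ)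
          (η : Subgroup.centralizer ({x} : Set G) → ℂ) / D) := by
    simp only [subEntry, Finset.sum_mul, ← hs, ← hF]
    refine Finset.sum_congr rfl fun θ _ => Finset.sum_congr rfl fun η hη => ?_
    have hdvd : ((p ^ s : ℕ) : ℤ) ∣ regEntry p θ η := by
      refine dvd_trans ?_ (pow_dvd_regEntry hM θ η)
      exact_mod_cast Nat.pow_dvd_pow p
        (show s ≤ (charDegree (η : Subgroup.centralizer ({x} : Set G) → ℂ)).factorization p from
          Nat.sInf_le ⟨η, hmemF hη, rfl⟩)
    rw [← ordCompl_mul_regEntry θ η, ← hm, Int.cast_mul, Int.cast_mul,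
      Int.cast_div hdvd (by exact_mod_cast pow_ne_zero s hM.1.ne_zero)]
    simp only [pow_one, Int.cast_natCast]
    field_simp
  rw [h0, zero_mul] at hX
  have hterm : ∀ θ ∈ F, ∀ η ∈ F, MemLocalRing M ((resMult x χ θ : ℂ) * (resMult x ξ η : ℂ) *
      (centralRoot x θ * conj (centralRoot x η)) *
      (regPair p (θ : Subgroup.centralizer ({x} : Set G) → ℂ)
        (η : Subgroup.centralizer ({x} : Set G) → ℂ) / D)) := fun θ hθ η hη =>
    memLocalRing_mul (memLocalRing_mul (memLocalRing_mul (memLocalRing_natCast _)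
      (memLocalRing_natCast _)) (hw θ η).1) (hPD θ hθ η hη)
  have hred := congrArg (redC M) hX
  rw [redC_zero, redC_sum _ _ (fun θ hθ => memLocalRing_sum _ _ (hterm θ hθ)),
    Finset.sum_congr rfl (g := fun θ => ((resMult x χ θ : kres M) * redC M (r θ)) *
      ((∑ η ∈ F, (resMult x ξ η : kres M) * redC M (r η)) * redC M R0))
    (fun θ hθ => by
      rw [redC_sum _ _ (hterm θ hθ), Finset.sum_mul, Finset.mul_sum]
      refine Finset.sum_congr rfl fun η hη => ?_
      rw [redC_mul (memLocalRing_mul (memLocalRing_mul (memLocalRing_natCast _)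
          (memLocalRing_natCast _)) (hw θ η).1) (hPD θ hθ η hη),
        redC_mul (memLocalRing_mul (memLocalRing_natCast _) (memLocalRing_natCast _)) (hw θ η).1,
        redC_mul (memLocalRing_natCast _) (memLocalRing_natCast _), (hw θ η).2, redC_natCast,
        redC_natCast, hP θ (hmemF hθ) η (hmemF hη)]
      ring), ← Finset.sum_mul] at hred
  rcases mul_eq_zero.1 hred.symm with h | h
  · exact hN χ hχ hχ0 (by rw [h, zero_mul])
  · exact hN ξ hξ hξ0 h

end CfsgLib.BlockB
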