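import Cfsg.Agent.Lib.BlockB.StarOrbits
import Cfsg.Agent.Lib.BlockA.BlockNilp
import Cfsg.Agent.Lib.BlockA.HeightZero
import Cfsg.Agent.Lib.BlockA.DefectOneStar
import Cfsg.Agent.Lib.Char.Column
import Cfsg.Prelude.Def_BlockRank

/-!
The characters of a nilpotent block are the products of one of height zero with the characters of
the defect group.
-/

set_option autoImplicit false
set_option linter.unusedSectionVars false
set_option maxHeartbeats 1000000

namespace CfsgLib.BlockB.Star

open Cfsg CfsgLib.Block CfsgLib.BlockA CfsgLib.BlockB.SubSum CfsgLib.BlockB.HeightBound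
  CfsgLib.BlockB.StarVal MonoidAlgebra
open scoped ComplexConjugate

universe u

variable {G : Type u} [Group G] [Fintype G] {p : ℕ} {M : Ideal AlgInt} [M.IsPrime]
  {B : Set (IrrCharacter G)} {P : Subgroup G}
  {e : Set (IrrCharacter (Subgroup.centralizer (P : Set G)))}

local notation "cen" Q => Subgroup.centralizer ((Q : Subgroup G) : Set G)

/-- The indicator of the class of `y`. -/
noncomputable def classInd {H : Type*} [Group H] (y w : H) : ℂ :=
  open Classical in if IsConj y w then 1 else 0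

theorem classInd_of_isConj {H : Type*} [Group H] {y w : H} (h : IsConj y w) :
    classInd y w = 1 := if_pos h

theorem classInd_of_not {H : Type*} [Group H] {y w : H} (h : ¬ IsConj y w) :
    classInd y w = 0 := if_neg h

theorem isClassFunction_classInd {H : Type u} [Group H] (y : H) :
    IsClassFunction H (classInd y) := by
  intro w h
  have hc : IsConj w (h * w * h⁻¹) := isConj_iff.2 ⟨h, rfl⟩
  by_cases hy : IsConj y w
  · rw [classInd_of_isConj hy, classInd_of_isConj (hy.trans hc)]
  · rw [classInd_of_not hy, classInd_of_not fun hh => hy (hh.trans hc.symm)]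

variable (hM : IsPModular p M) (hmax : IsMaximalBrauerPair p M B P e)
include hM hmax

/-- For a nilpotent block every class function is stable. -/
theorem isStable_of_nilpotent (hnil : IsNilpotentBlock p M B) {lam : P → ℂ}
    (hlam : IsClassFunction P lam) : IsStable p M P e lam := by
  have := Fact.mk hM.1
  intro x y g hg hgxy
  have hF := isBlockFusionSystemOn_blockFusion hM hmax
  have h := (hF.2 (Subgroup.zpowers (x : G)) (conjHom _ g)).2
    ⟨Subgroup.zpowers_le.2 x.2, g, fun _ => rfl, hg.1, hg.2⟩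
  rw [eq_inner_of_nilpotent hM hF hnil] at h
  obtain ⟨-, w, hw, hag⟩ := h
  have h1 : g * (x : G) * g⁻¹ = w * (x : G) * w⁻¹ := hag ⟨_, Subgroup.mem_zpowers _⟩
  rw [← hlam x ⟨w, hw⟩]
  congr 1
  apply Subtype.ext
  rw [← hgxy, h1]
  rfl

/-- The contribution of the subsection at `y` is positive. -/
theorem exists_pos_term {χ : IrrCharacter G} (hχ : χ ∈ B) (h0 : blockHeight p B (χ : G → ℂ) = 0)
    (y : P) :
    ∃ b : Set (IrrCharacter (Subgroup.centralizer ({(y : G)} : Set G))), IsPBlock M b ∧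
      Rep p M P e (y : G) (subgroupBlockCoeff (Subgroup.centralizer ({(y : G)} : Set G)) b) y ∧
      ∃ v, ¬ p ∣ orderOf v ∧ blockPart b
        (fun c : Subgroup.centralizer ({(y : G)} : Set G) => (χ : G → ℂ) ((y : G) * (c : G))) v
          ≠ 0 := by
  have hy : ∃ k : ℕ, orderOf (y : G) = p ^ k := by
    have := Fact.mk hM.1
    obtain ⟨k, hk⟩ := IsPGroup.iff_orderOf.1 hmax.1.1.1 y
    exact ⟨k, by rw [Subgroup.orderOf_coe, hk]⟩
  obtain ⟨f, hfp, hf⟩ := exists_subpair hM hmax.1.1 _ (Subgroup.zpowers (y : G))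
    (Subgroup.zpowers_le.2 y.2) rfl
  have key : ∀ H : Subgroup G, H = (cen (Subgroup.zpowers (y : G))) →
      ∃ b : Set (IrrCharacter H), IsPBlock M b ∧
        subgroupBlockCoeff H b = subgroupBlockCoeff (cen (Subgroup.zpowers (y : G))) f := by
    rintro _ rfl
    exact ⟨f, (isBrauerPair_of_subpairLE hmax.1.1 hf).2, rfl⟩
  obtain ⟨b, hb, hbc⟩ := key _ (cen_zpowers (y : G)).symm
  have hrep : Rep p M P e (y : G)
      (subgroupBlockCoeff (Subgroup.centralizer ({(y : G)} : Set G)) b) y :=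
    ⟨1, f, by group, hf, by rw [hbc, conjFun_one]⟩
  exact ⟨b, hb, hrep, exists_blockPart_ne_zero hM hχ h0 hy (induced_of_rep hM hmax hb hrep)⟩

open Classical in
/-- The pairing of the product with the indicator of a class against the character is positive. -/
theorem indicator_pos {χ : IrrCharacter G} (hχ : χ ∈ B) (h0 : blockHeight p B (χ : G → ℂ) = 0)
    (y : P) (hst : IsStable p M P e (classInd y)) :
    ∃ r : ℝ, 0 < r ∧ classInner (star p M P e (χ : G → ℂ) (classInd y)) (χ : G → ℂ) = r := by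
  have hp := hM.1
  obtain ⟨b, hb, hrep, v, hv, hne⟩ := exists_pos_term hM hmax hχ h0 y
  set lam : P → ℂ := classInd y with hlam
  let N : (x : G) → Set (IrrCharacter (Subgroup.centralizer ({x} : Set G))) → ℝ := fun x c =>
    ∑ v : Subgroup.centralizer ({x} : Set G) with ¬ p ∣ orderOf v,
      ‖blockPart c (fun z : Subgroup.centralizer ({x} : Set G) => (χ : G → ℂ) (x * (z : G))) v‖ ^ 2
  let w : (x : G) → Set (IrrCharacter (Subgroup.centralizer ({x} : Set G))) → ℝ := fun x c =>
    if L p M P e lam x (subgroupBlockCoeff (Subgroup.centralizer ({x} : Set G)) c) = 1 then 1 else 0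
  have hLw : ∀ x c, L p M P e lam x (subgroupBlockCoeff (Subgroup.centralizer ({x} : Set G)) c) =
      (w x c : ℂ) := by
    intro x c
    by_cases h : ∃ z, Rep p M P e x
        (subgroupBlockCoeff (Subgroup.centralizer ({x} : Set G)) c) z
    · obtain ⟨z, hz⟩ := h
      simp only [w]
      rw [L_eq hM hmax.1.1 hst hz]
      simp only [hlam]
      rcases Classical.em (IsConj y z) with h' | h'
      · rw [classInd_of_isConj h', if_pos rfl, Complex.ofReal_one]
      · rw [classInd_of_not h', if_neg (zero_ne_one (α := ℂ)), Complex.ofReal_zero]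
    · push Not at h
      simp only [w]
      rw [L_eq_zero hM hmax.1.1 h]
      simp
  have heq : ∑ g : G, star p M P e (χ : G → ℂ) lam g * conj ((χ : G → ℂ) g) =
      ((∑ x ∈ (Finset.univ.filter fun x : G => ∃ k : ℕ, orderOf x = p ^ k),
        ∑ c ∈ allBlocks M (Subgroup.centralizer ({x} : Set G)), w x c * N x c : ℝ) : ℂ) := by
    conv_lhs =>
      enter [2, g, 2]
      rw [← star_one hM hmax hχ]
    rw [sum_mul_conj_eq hM hmax χ χ]
    push_cast
    refine Finset.sum_congr rfl fun x _ => Finset.sum_congr rfl fun c _ => ?_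
    simp only [map_one, mul_one]
    rw [hLw]
    simp only [N]
    push_cast
    exact congrArg _ (Finset.sum_congr rfl fun v _ => Complex.mul_conj' _)
  have hN : ∀ x c, 0 ≤ w x c * N x c := fun x c =>
    mul_nonneg (by simp only [w]; split_ifs <;> norm_num)
      (Finset.sum_nonneg fun _ _ => sq_nonneg _)
  refine ⟨(Nat.card G : ℝ)⁻¹ * ∑ x ∈ (Finset.univ.filter fun x : G => ∃ k : ℕ, orderOf x = p ^ k),
      ∑ c ∈ allBlocks M (Subgroup.centralizer ({x} : Set G)), w x c * N x c, ?_, ?_⟩
  · refine mul_pos (inv_pos.2 (Nat.cast_pos.2 Nat.card_pos)) ?_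
    have hy : ∃ k : ℕ, orderOf (y : G) = p ^ k := by
      have := Fact.mk hM.1
      obtain ⟨k, hk⟩ := IsPGroup.iff_orderOf.1 hmax.1.1.1 y
      exact ⟨k, by rw [Subgroup.orderOf_coe, hk]⟩
    refine Finset.sum_pos' (fun x _ => Finset.sum_nonneg fun c _ => hN x c)
      ⟨(y : G), Finset.mem_filter.2 ⟨Finset.mem_univ _, hy⟩, Finset.sum_pos' (fun c _ => hN _ c)
        ⟨b, mem_allBlocks.2 hb, ?_⟩⟩
    refine mul_pos ?_ ?_
    · simp only [w]
      rw [if_pos (by rw [L_eq hM hmax.1.1 hst hrep]; exact classInd_of_isConj (IsConj.refl y))]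
      norm_num
    · exact Finset.sum_pos' (fun _ _ => sq_nonneg _)
        ⟨v, Finset.mem_filter.2 ⟨Finset.mem_univ _, hv⟩, by positivity⟩
  · rw [CfsgLib.Char.classInner_def, heq]
    push_cast
    rfl

variable (hnil : IsNilpotentBlock p M B)
include hnil

/-- **The pairing with the character is the mean over the defect group.** -/
theorem classInner_star_self [Fintype P] {χ : IrrCharacter G} (hχ : χ ∈ B)
    (h0 : blockHeight p B (χ : G → ℂ) = 0) {θ : P → ℂ} (hθ : IsClassFunction P θ) :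
    classInner (star p M P e (χ : G → ℂ) θ) (χ : G → ℂ) = classInner θ (fun _ => 1) := by
  classical
  have := Fintype.ofFinite (IrrCharacter P)
  have hst : ∀ {l : P → ℂ}, IsClassFunction P l → IsStable p M P e l := fun h =>
    isStable_of_nilpotent hM hmax hnil h
  choose a ha using fun ζ : IrrCharacter P => exists_int_classInner hM hmax
    (CfsgLib.Char.irr_isCharacter ζ.2) (hst (CfsgLib.Char.irr_isClassFunction ζ.2)) χ χ
  let f : P → ℕ → ℂ := fun u k => ∑ ζ : IrrCharacter P, (a ζ : ℂ) * conj ((ζ : P → ℂ) (u ^ k))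
  let D : P → ℂ := fun u => f u 1
  have hlin : ∀ (c : IrrCharacter P → ℂ),
      classInner (star p M P e (χ : G → ℂ) fun u => ∑ ζ, c ζ * (ζ : P → ℂ) u) (χ : G → ℂ) =
        ∑ ζ, c ζ * (a ζ : ℂ) := by
    intro c
    have e1 : (star p M P e (χ : G → ℂ) fun u => ∑ ζ, c ζ * (ζ : P → ℂ) u) =
        ∑ ζ : IrrCharacter P, c ζ • star p M P e (χ : G → ℂ) (ζ : P → ℂ) := by
      funext g
      rw [star_linear Finset.univ c (fun ζ : IrrCharacter P => (ζ : P → ℂ)), Finset.sum_apply]
      rfl
    rw [e1, CfsgLib.Char.classInner_sum_left]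
    exact Finset.sum_congr rfl fun ζ _ => by rw [CfsgLib.Char.classInner_smul_left, ha ζ]
  have hA : ∀ {l : P → ℂ}, IsClassFunction P l →
      classInner (star p M P e (χ : G → ℂ) l) (χ : G → ℂ) =
        (Nat.card P : ℂ)⁻¹ * ∑ u : P, l u * D u := by
    intro l hl
    have e1 : l = fun u => ∑ ζ : IrrCharacter P, classInner l (ζ : P → ℂ) * (ζ : P → ℂ) u :=
      funext fun u => CfsgLib.Char.classFunction_apply_eq_sum hl u
    conv_lhs => rw [e1, hlin]
    simp only [CfsgLib.Char.classInner_def, D, f, pow_one, Finset.mul_sum, Finset.sum_mul]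
    rw [Finset.sum_comm]
    refine Finset.sum_congr rfl fun u _ => Finset.sum_congr rfl fun ζ _ => ?_
    ring
  have hone : IsClassFunction P (fun _ : P => (1 : ℂ)) := fun _ _ => rfl
  have hDsum : ∑ u : P, D u = (Nat.card P : ℂ) := by
    have h := hA hone
    rw [star_one hM hmax hχ, CfsgLib.Char.irr_classInner_self χ.2] at h
    simp only [one_mul] at h
    exact ((inv_mul_eq_one₀ (Nat.cast_ne_zero.2 Nat.card_pos.ne')).1 h.symm).symm
  have hpos : ∀ y : P, ∃ r : ℝ, 0 < r ∧ D y = r := by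
    intro y
    set δ : P → ℂ := classInd y with hδ
    have hcl : IsClassFunction P δ := isClassFunction_classInd y
    obtain ⟨r, hr, hre⟩ := indicator_pos hM hmax hχ h0 y (hst hcl)
    rw [hA hcl] at hre
    have hD : ∀ w : P, δ w * D w = δ w * D y := by
      intro w
      rcases Classical.em (IsConj y w) with hw | hw
      · obtain ⟨c, rfl⟩ := isConj_iff.1 hw
        have e2 : D (c * y * c⁻¹) = D y := Finset.sum_congr rfl fun ζ _ => by
          rw [pow_one, pow_one, CfsgLib.Char.irr_isClassFunction ζ.2 y c]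
        rw [e2]
      · rw [hδ, classInd_of_not hw, zero_mul, zero_mul]
    rw [Finset.sum_congr rfl fun w _ => hD w, ← Finset.sum_mul] at hre
    have hcard : ∑ w : P, δ w = ((Finset.univ.filter fun w : P => IsConj y w).card : ℂ) := by
      rw [← Finset.sum_boole]
      refine Finset.sum_congr rfl fun w _ => ?_
      by_cases hw : IsConj y w
      · rw [hδ, classInd_of_isConj hw, if_pos hw]
      · rw [hδ, classInd_of_not hw, if_neg hw]
    rw [hcard] at hre
    set m := (Finset.univ.filter fun w : P => IsConj y w).card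
    have hm : 0 < m :=
      Finset.card_pos.2 ⟨y, Finset.mem_filter.2 ⟨Finset.mem_univ _, IsConj.refl y⟩⟩
    refine ⟨r * (Nat.card P : ℝ) / (m : ℝ),
      div_pos (mul_pos hr (Nat.cast_pos.2 Nat.card_pos)) (Nat.cast_pos.2 hm), ?_⟩
    push_cast
    rw [← hre]
    have : (m : ℂ) ≠ 0 := Nat.cast_ne_zero.2 hm.ne'
    have : (Nat.card P : ℂ) ≠ 0 := Nat.cast_ne_zero.2 Nat.card_pos.ne'
    field_simp
  choose r hr hDr using hpos
  have hn : Nat.card P ≠ 0 := Nat.card_pos.ne'
  have hprod := one_le_prod_norm (Finset.univ : Finset P) f (n := Nat.card P) hn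
    (fun u _ => IsCyclo.sum _ fun ζ _ => (isCyclo_intCast _ _).mul
      ((isCyclo_char (CfsgLib.Char.irr_isCharacter ζ.2) u).conj hn))
    (fun k hk => ⟨(Equiv.subtypeUnivEquiv Finset.mem_univ).trans
      ((powCoprime (G := P) hk.symm).trans (Equiv.subtypeUnivEquiv Finset.mem_univ).symm),
        fun u => by simp [f, Equiv.subtypeUnivEquiv, powCoprime_apply]⟩)
    (fun u _ => by
      show D u ≠ 0
      rw [hDr u]
      exact_mod_cast (hr u).ne')
  have hnorm : ∀ u, ‖f u 1‖ = r u := fun u => by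
    show ‖D u‖ = r u
    rw [hDr u, Complex.norm_real, Real.norm_of_nonneg (hr u).le]
  have hrsum : ∑ u : P, r u = (Nat.card P : ℝ) := by
    have h2 : ((∑ u : P, r u : ℝ) : ℂ) = ((Nat.card P : ℝ) : ℂ) := by
      rw [Complex.ofReal_sum, ← Finset.sum_congr rfl fun u _ => hDr u, hDsum]
      simp
    exact_mod_cast h2
  simp only [hnorm] at hprod
  have hall : ∀ u, r u = 1 := by
    by_contra h
    push Not at h
    obtain ⟨u₀, hu₀⟩ := h
    have h1 : 0 ≤ ∑ u : P, Real.log (r u) := by
      rw [← Real.log_prod fun u _ => (hr u).ne']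
      exact Real.log_nonneg hprod
    have h2 : ∑ u : P, Real.log (r u) < ∑ u : P, (r u - 1) :=
      Finset.sum_lt_sum (fun u _ => Real.log_le_sub_one_of_pos (hr u))
        ⟨u₀, Finset.mem_univ _, Real.log_lt_sub_one_of_pos (hr u₀) hu₀⟩
    rw [Finset.sum_sub_distrib, hrsum, Finset.sum_const, Finset.card_univ,
      ← Nat.card_eq_fintype_card, nsmul_eq_mul, mul_one, sub_self] at h2
    exact absurd h2 (not_lt.2 h1)
  rw [hA hθ, CfsgLib.Char.classInner_def]
  congr 1
  exact Finset.sum_congr rfl fun u _ => by rw [hDr u, hall u]; simp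

/-- **The irreducible characters of the block are the products.** -/
theorem exists_star_equiv {χ : IrrCharacter G} (hχ : χ ∈ B)
    (h0 : blockHeight p B (χ : G → ℂ) = 0) :
    ∃ Φ : IrrCharacter P ≃ B, ∀ ζ : IrrCharacter P,
      (((Φ ζ : B) : IrrCharacter G) : G → ℂ) = star p M P e (χ : G → ℂ) (ζ : P → ℂ) := by
  classical
  have := Fintype.ofFinite P
  have := Fintype.ofFinite (IrrCharacter P)
  have hB := hmax.1.2.1
  have hst : ∀ {l : P → ℂ}, IsClassFunction P l → IsStable p M P e l := fun h =>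
    isStable_of_nilpotent hM hmax hnil h
  have hcl : ∀ ζ : IrrCharacter P, IsClassFunction P (ζ : P → ℂ) := fun ζ =>
    CfsgLib.Char.irr_isClassFunction ζ.2
  have hinner : ∀ ζ η : IrrCharacter P,
      classInner (star p M P e (χ : G → ℂ) (ζ : P → ℂ))
        (star p M P e (χ : G → ℂ) (η : P → ℂ)) = if ζ = η then 1 else 0 := by
    intro ζ η
    rw [classInner_star_star hM hmax hχ, classInner_star_self hM hmax hnil hχ h0
      (fun w h => by simp only [hcl ζ w h, hcl η w h])]
    rw [← if_congr Subtype.coe_inj rfl rfl, ← CfsgLib.Char.irr_classInner ζ.2 η.2,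
      CfsgLib.Char.classInner_def, CfsgLib.Char.classInner_def]
    simp
  have hreg : ∀ (ζ : IrrCharacter P) (g : G), ¬ p ∣ orderOf g →
      star p M P e (χ : G → ℂ) (ζ : P → ℂ) g = (charDegree (ζ : P → ℂ) : ℂ) * (χ : G → ℂ) g :=
    fun ζ g hg => by
      rw [star_regular hM hmax hχ (hst (hcl ζ)) hg,
        charDegree_cast (CfsgLib.Char.irr_isCharacter ζ.2)]
  have hmem : ∀ ζ : IrrCharacter P, ∃ ψ : B, (((ψ : B) : IrrCharacter G) : G → ℂ) =
      star p M P e (χ : G → ℂ) (ζ : P → ℂ) := by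
    intro ζ
    have h1 : star p M P e (χ : G → ℂ) (ζ : P → ℂ) 1 =
        ((charDegree (ζ : P → ℂ) * charDegree (χ : G → ℂ) : ℕ) : ℂ) := by
      rw [hreg ζ 1 (by rw [orderOf_one]; exact hM.1.not_dvd_one),
        ← charDegree_cast (CfsgLib.Char.irr_isCharacter χ.2), Nat.cast_mul]
    obtain ⟨ψ, hψ⟩ := exists_irr_of_norm_one
      (star_isClassFunction hM hmax.1.1 (hst (hcl ζ)) (CfsgLib.Char.irr_isClassFunction χ.2))
      (fun ξ => exists_int_classInner hM hmax (CfsgLib.Char.irr_isCharacter ζ.2) (hst (hcl ζ)) χ ξ)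
      (by rw [hinner, if_pos rfl])
      (Nat.pos_of_ne_zero (mul_ne_zero (charDegree_ne_zero ζ.2) (charDegree_ne_zero χ.2))) h1
    refine ⟨⟨ψ, ?_⟩, hψ⟩
    by_contra h
    have h2 := classInner_star_eq_zero hM hmax (χ := χ) h (hst (hcl ζ))
    rw [← hψ, CfsgLib.Char.irr_classInner_self ψ.2] at h2
    exact one_ne_zero h2
  choose Φ hΦ using hmem
  have hinj : Function.Injective Φ := fun ζ η h => by
    by_contra hne
    have h1 := hinner ζ η
    rw [← hΦ ζ, ← hΦ η, h, CfsgLib.Char.irr_classInner_self (Φ η).1.2, if_neg hne] at h1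
    exact one_ne_zero h1
  have hsurj : Function.Surjective Φ := by
    intro ξ
    by_contra hno
    push Not at hno
    have hR : star p M P e (χ : G → ℂ)
        (fun u : P => ∑ ζ : IrrCharacter P, (ζ : P → ℂ) 1 * (ζ : P → ℂ) u) =
        fun g => (Nat.card P : ℂ) * regInd p g * (χ : G → ℂ) g := by
      have hcr : IsClassFunction P (fun u : P => ∑ ζ : IrrCharacter P,
          (ζ : P → ℂ) 1 * (ζ : P → ℂ) u) := fun w h =>
        Finset.sum_congr rfl fun ζ _ => by rw [hcl ζ w h]
      have hval : ∀ u : P, ∑ ζ : IrrCharacter P, (ζ : P → ℂ) 1 * (ζ : P → ℂ) u =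
          if u = 1 then (Nat.card P : ℂ) else 0 := fun u =>
        CfsgLib.Char.sum_irr_mul_degree u
      funext g
      by_cases hg : p ∣ orderOf g
      · rw [regInd, if_pos hg, mul_zero, zero_mul, star]
        refine Finset.sum_eq_zero fun β _ => ?_
        by_cases h : ∃ y, Rep p M P e (ppart p g) β y
        · obtain ⟨y, hy⟩ := h
          rw [L_eq hM hmax.1.1 (hst hcr) hy, hval, if_neg, zero_mul]
          rintro rfl
          obtain ⟨a, -, ha, -, -⟩ := hy
          obtain ⟨x, hx⟩ := exists_isPPart hM.1 g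
          rw [ppart_eq hM.1 hx] at ha
          obtain ⟨v, rfl, -, -, hv⟩ := id hx
          have hx1 : x = 1 := by rw [← ha]; simp
          rw [hx1, one_mul] at hg
          exact hv hg
        · push Not at h
          rw [L_eq_zero hM hmax.1.1 h, zero_mul]
      · rw [star_regular hM hmax hχ (hst hcr) hg, hval, if_pos rfl, regInd, if_neg hg, mul_one]
    have h1 : classInner (fun g => (Nat.card P : ℂ) * regInd p g * (χ : G → ℂ) g)
        ((ξ : IrrCharacter G) : G → ℂ) = 0 := by
      rw [← hR]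
      have e1 : (star p M P e (χ : G → ℂ)
          fun u : P => ∑ ζ : IrrCharacter P, (ζ : P → ℂ) 1 * (ζ : P → ℂ) u) =
          ∑ ζ : IrrCharacter P, (ζ : P → ℂ) 1 • star p M P e (χ : G → ℂ) (ζ : P → ℂ) := by
        funext g
        rw [star_linear Finset.univ (fun ζ : IrrCharacter P => (ζ : P → ℂ) 1)
          (fun ζ : IrrCharacter P => (ζ : P → ℂ)), Finset.sum_apply]
        rfl
      rw [e1, CfsgLib.Char.classInner_sum_left]
      refine Finset.sum_eq_zero fun ζ _ => ?_
      rw [CfsgLib.Char.classInner_smul_left, ← hΦ ζ,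
        CfsgLib.Char.irr_classInner_ne (Φ ζ).1.2 ξ.1.2
          (fun h => hno ζ (Subtype.ext (Subtype.ext h))), mul_zero]
    have h2 : (Nat.card G : ℂ)⁻¹ * (Nat.card P : ℂ) *
        regPair p (χ : G → ℂ) ((ξ : IrrCharacter G) : G → ℂ) = 0 := by
      rw [← h1, CfsgLib.Char.classInner_def, regPair, mul_assoc, Finset.mul_sum, Finset.mul_sum,
        Finset.mul_sum]
      refine Finset.sum_congr rfl fun g _ => ?_
      rw [← irr_conj_eq ξ.1.2]
      ring
    refine (not_memLocalIdeal_regPair_iff hM hB hχ ξ.2).2 h0 ?_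
    have h3 : regPair p (χ : G → ℂ) ((ξ : IrrCharacter G) : G → ℂ) = 0 :=
      (mul_eq_zero.1 h2).resolve_left (mul_ne_zero
        (inv_ne_zero (Nat.cast_ne_zero.2 Nat.card_pos.ne')) (Nat.cast_ne_zero.2 Nat.card_pos.ne'))
    rw [h3, zero_div]
    exact memLocalIdeal_zero
  exact ⟨Equiv.ofBijective Φ ⟨hinj, hsurj⟩, hΦ⟩

/-- **The bijection.** -/
theorem exists_bijection {χ : IrrCharacter G} (hχ : χ ∈ B)
    (h0 : blockHeight p B (χ : G → ℂ) = 0) :
    ∃ Φ : IrrCharacter P ≃ B, ∀ ζ : IrrCharacter P,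
      charDegree (((Φ ζ : B) : IrrCharacter G) : G → ℂ) =
          charDegree (ζ : P → ℂ) * charDegree (χ : G → ℂ) ∧
        ∀ g : G, ¬ p ∣ orderOf g → (((Φ ζ : B) : IrrCharacter G) : G → ℂ) g =
          (charDegree (ζ : P → ℂ) : ℂ) * (χ : G → ℂ) g := by
  classical
  have := Fintype.ofFinite P
  obtain ⟨Φ, hΦ⟩ := exists_star_equiv hM hmax hnil hχ h0
  have hst : ∀ ζ : IrrCharacter P, IsStable p M P e (ζ : P → ℂ) := fun ζ =>
    isStable_of_nilpotent hM hmax hnil (CfsgLib.Char.irr_isClassFunction ζ.2)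
  have hreg : ∀ (ζ : IrrCharacter P) (g : G), ¬ p ∣ orderOf g →
      (((Φ ζ : B) : IrrCharacter G) : G → ℂ) g =
        (charDegree (ζ : P → ℂ) : ℂ) * (χ : G → ℂ) g := fun ζ g hg => by
    rw [hΦ ζ, star_regular hM hmax hχ (hst ζ) hg,
      charDegree_cast (CfsgLib.Char.irr_isCharacter ζ.2)]
  refine ⟨Φ, fun ζ => ⟨?_, hreg ζ⟩⟩
  have h1 := hreg ζ 1 (by rw [orderOf_one]; exact hM.1.not_dvd_one)
  rw [← charDegree_cast (CfsgLib.Char.irr_isCharacter (Φ ζ).1.2),
    ← charDegree_cast (CfsgLib.Char.irr_isCharacter χ.2), ← Nat.cast_mul] at h1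
  exact_mod_cast h1

end CfsgLib.BlockB.Star
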