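import Mathlib
import Cfsg.Prelude.Def_Local
import Cfsg.Agent.Lib.Solvable.PCore

/-!
The centraliser of the `p'`-core in a `p`-solvable group with trivial `p`-core.
-/

set_option autoImplicit false

namespace CfsgLib.BlockB

open Subgroup

variable {G : Type*} [Group G] [Finite G] {p : ℕ}

/-- `p`-solvable with `O_p(G) = 1`: `O_{p'}(G)` contains its centraliser. -/
theorem centralizer_pPrimeCore_le_of_isPSolvable [Fact p.Prime] (hs : Cfsg.IsPSolvable p G)
    (hp : Cfsg.pCore p G = ⊥) :
    centralizer (Cfsg.pPrimeCore p G : Set G) ≤ Cfsg.pPrimeCore p G := by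
  have := CfsgLib.Solvable.pPrimeCore_normal p G
  set K := Cfsg.pPrimeCore p G with hK
  set C := centralizer (K : Set G) with hC
  obtain ⟨n, H, h0, htop, hmono, hn, hstep⟩ := hs
  suffices h : ∀ i : Fin (n + 1), C ⊓ H i ≤ K by
    have := h (Fin.last n)
    rwa [htop, inf_top_eq] at this
  intro i
  induction i using Fin.induction with
  | zero => rw [h0, inf_bot_eq]; exact bot_le
  | succ j ih =>
    have := hn j.succ
    have := hn j.castSucc
    set D := C ⊓ H j.succ with hD
    set Z := D ⊓ K with hZ
    have hprev : D ⊓ H j.castSucc ≤ Z :=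
      le_inf inf_le_left ((inf_le_inf_right _ inf_le_left).trans ih)
    have hdvd : Z.relIndex D ∣ (H j.castSucc).relIndex (H j.succ) := by
      have h2 : (D ⊓ H j.castSucc).relIndex D ∣ (H j.castSucc).relIndex (H j.succ) := by
        rw [Subgroup.inf_relIndex_left]
        have : ((H j.castSucc).subgroupOf (H j.succ)).Normal := inferInstance
        have h3 := Subgroup.relIndex_dvd_index_of_normal ((H j.castSucc).subgroupOf (H j.succ))
          (D.subgroupOf (H j.succ))
        rwa [Subgroup.relIndex_subgroupOf inf_le_right] at h3
      refine dvd_trans ?_ h2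
      exact ⟨_, ((Subgroup.relIndex_mul_relIndex (D ⊓ H j.castSucc) Z D hprev inf_le_left).symm.trans
        (mul_comm _ _))⟩
    have hcard : Nat.card Z * Z.relIndex D = Nat.card D := by
      rw [← Subgroup.relIndex_bot_left, Subgroup.relIndex_mul_relIndex ⊥ Z D bot_le inf_le_left,
        Subgroup.relIndex_bot_left]
    have hZp : (Nat.card Z).Coprime p :=
      (CfsgLib.Solvable.pPrimeCore_coprime (G := G) p).coprime_dvd_left
        (Subgroup.card_dvd_of_le inf_le_right)
    rcases hstep j with ⟨m, hm⟩ | hcop
    · -- a `p`-power step: a normal Sylow subgroup, hence trivial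
      obtain ⟨S⟩ : Nonempty (Sylow p D) := inferInstance
      obtain ⟨k, -, hk⟩ := (Nat.dvd_prime_pow (Fact.out : p.Prime)).1 (hm ▸ hdvd)
      have hSn : (S : Subgroup D).Normal := by
        set Z' := Z.subgroupOf D
        have hle : Z' ≤ Subgroup.center D := fun z hz => by
          rw [Subgroup.mem_center_iff]
          intro w
          exact Subtype.ext (Subgroup.mem_centralizer_iff.1 w.2.1 _ hz.2).symm
        have hsup : Z' ⊔ (S : Subgroup D) = ⊤ := by
          apply Subgroup.eq_top_of_card_eq
          have hZ' : Nat.card Z' = Nat.card Z :=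
            Nat.card_congr (Subgroup.subgroupOfEquivOfLe inf_le_left).toEquiv
          have hScard : Nat.card (S : Subgroup D) = p ^ k := by
            rw [Sylow.card_eq_multiplicity, ← hcard, hk,
              Nat.factorization_mul Nat.card_pos.ne' (pow_ne_zero _ (Fact.out : p.Prime).ne_zero),
              Finsupp.add_apply, Nat.factorization_eq_zero_of_not_dvd
                ((Fact.out : p.Prime).coprime_iff_not_dvd.1 hZp.symm),
              (Fact.out : p.Prime).factorization_pow]
            simp
          refine Nat.dvd_antisymm (Subgroup.card_subgroup_dvd_card _) ?_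
          rw [← hcard, hk]
          refine Nat.Coprime.mul_dvd_of_dvd_of_dvd (hZp.pow_right _) ?_ ?_
          · exact hZ' ▸ Subgroup.card_dvd_of_le le_sup_left
          · exact hScard ▸ Subgroup.card_dvd_of_le le_sup_right
        refine ⟨fun s hs g => ?_⟩
        have hg : g ∈ Z' ⊔ (S : Subgroup D) := by rw [hsup]; trivial
        have : Z' ⊔ (S : Subgroup D) ≤ Subgroup.normalizer ((S : Subgroup D) : Set D) :=
          sup_le (hle.trans ((Subgroup.center_le_centralizer _).trans
            (Subgroup.centralizer_le_normalizer _))) Subgroup.le_normalizer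
        exact (Subgroup.mem_normalizer_iff.1 (this hg) s).1 hs
      have hchar : (S : Subgroup D).Characteristic := S.characteristic_of_normal hSn
      have hS1 : (S : Subgroup D).map D.subtype ≤ Cfsg.pCore p G :=
        CfsgLib.Solvable.le_pCore inferInstance (S.isPGroup'.map _)
      rw [hp, le_bot_iff, Subgroup.map_eq_bot_iff_of_injective _ Subtype.val_injective] at hS1
      have h1 : Nat.card (S : Subgroup D) = 1 := by rw [hS1]; exact Subgroup.card_bot
      have hk0 : Z.relIndex D = 1 := by
        rw [Sylow.card_eq_multiplicity, ← hcard, hk,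
          Nat.factorization_mul Nat.card_pos.ne' (pow_ne_zero _ (Fact.out : p.Prime).ne_zero),
          Finsupp.add_apply, Nat.factorization_eq_zero_of_not_dvd
            ((Fact.out : p.Prime).coprime_iff_not_dvd.1 hZp.symm),
          (Fact.out : p.Prime).factorization_pow, Finsupp.single_eq_same, zero_add] at h1
        rw [hk, h1]
      exact (Subgroup.relIndex_eq_one.1 hk0).trans inf_le_right
    · have hDp : (Nat.card D).Coprime p := by
        rw [← hcard]
        exact Nat.Coprime.mul_left hZp (hcop.coprime_dvd_left hdvd)
      have hDn : D.Normal := inferInstance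
      exact CfsgLib.Solvable.le_pPrimeCore hDn hDp

end CfsgLib.BlockB
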