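import Cfsg.Agent.Lib.BlockA.HeightZero
import Cfsg.Agent.Lib.Block.Covering
import Cfsg.Agent.Lib.Block.KerNormal
import Cfsg.Agent.Lib.BlockB.GaloisAvg
import Cfsg.Agent.Lib.BlockB.PEltValue
import Cfsg.Agent.Lib.Char.Induce

/-!
The principal block seen through sums over regular elements: Galois stability, inflation from the
quotient by a normal `p'`-subgroup, and covering of principal blocks of normal subgroups.
-/

set_option autoImplicit false
set_option linter.unusedSectionVars false

namespace CfsgLib.BlockB

open Cfsg CfsgLib.Block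
open CfsgLib.BlockA (regInd regInd_isClassFunction)
open scoped ComplexConjugate

universe u

variable {G : Type u} [Group G] [Fintype G] {p : ℕ} {M : Ideal AlgInt}

/-- The sum of a function over the regular elements. -/
noncomputable def regTotal (p : ℕ) (f : G → ℂ) : ℂ := ∑ g : G, regInd p g * f g

theorem regPair_one_left (f : G → ℂ) : BlockA.regPair p (fun _ => 1) f = regTotal p f := by
  unfold BlockA.regPair regTotal
  refine Fintype.sum_equiv (Equiv.inv G) _ _ fun g => ?_
  simp [BlockA.regInd_inv]

/-- A character is in the principal block exactly when its sum over regular elements is nonzero. -/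
theorem mem_principalBlock_iff_regTotal (hM : IsPModular p M) (χ : IrrCharacter G) :
    χ ∈ principalBlock M G ↔ regTotal p (χ : G → ℂ) ≠ 0 := by
  have := isPrime_of_pmodular hM
  have := Fact.mk hM.1
  rw [← regPair_one_left]
  constructor
  · intro hχ h0
    have h := (BlockA.not_memLocalIdeal_regPair_iff hM isPBlock_principalBlock
      (χ := ⟨fun _ => 1, CfsgLib.Char.isIrrCharacter_one⟩) one_mem_principalBlock hχ).2
      (by simp [blockHeight, charDegree])
    exact h (by rw [h0, zero_div]; exact memLocalIdeal_zero)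
  · intro h
    by_contra hχ
    exact h (BlockA.regPair_eq_zero (p := p) hM isPBlock_principalBlock
      (χ := ⟨fun _ => 1, CfsgLib.Char.isIrrCharacter_one⟩) one_mem_principalBlock hχ)

/-- The principal block is stable under Galois conjugation. -/
theorem galIrr_mem_principalBlock (hM : IsPModular p M) {k : ℕ} (hk : k.Coprime (Nat.card G))
    {χ : IrrCharacter G} (hχ : χ ∈ principalBlock M G) : galIrr hk χ ∈ principalBlock M G := by
  rw [mem_principalBlock_iff_regTotal hM] at hχ ⊢
  suffices regTotal p (galIrr hk χ : G → ℂ) = regTotal p (χ : G → ℂ) by rwa [this]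
  unfold regTotal
  refine Fintype.sum_equiv (powCoprime hk.symm) _ _ fun g => ?_
  show regInd p g * (χ : G → ℂ) (g ^ k) = regInd p (g ^ k) * (χ : G → ℂ) (g ^ k)
  congr 1
  have : orderOf (g ^ k) = orderOf g :=
    Nat.Coprime.orderOf_pow (Nat.Coprime.coprime_dvd_left (orderOf_dvd_natCard g) hk.symm)
  simp [regInd, this]

/-- Inflation from the quotient by a normal `p'`-subgroup preserves the principal block. -/
theorem quotIrrEquiv_mem_iff (hM : IsPModular p M) (H : Subgroup G) [H.Normal]
    (hH : ¬ p ∣ Nat.card H) (ψ : IrrCharacter (G ⧸ H)) :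
    ((quotIrrEquiv H ψ).1 : IrrCharacter G) ∈ principalBlock M G ↔
      ψ ∈ principalBlock M (G ⧸ H) := by
  classical
  have := Fintype.ofFinite (G ⧸ H)
  rw [mem_principalBlock_iff_regTotal hM, mem_principalBlock_iff_regTotal hM]
  have hreg : ∀ g : G, regInd p g = regInd p (g : G ⧸ H) := by
    intro g
    have h1 : orderOf (g : G ⧸ H) ∣ orderOf g := orderOf_map_dvd (QuotientGroup.mk' H) g
    have h2 : orderOf g ∣ orderOf (g : G ⧸ H) * Nat.card H := by
      rw [orderOf_dvd_iff_pow_eq_one, pow_mul]
      have hmem : g ^ orderOf (g : G ⧸ H) ∈ H := by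
        rw [← QuotientGroup.eq_one_iff, QuotientGroup.mk_pow, pow_orderOf_eq_one]
      exact congrArg Subtype.val (pow_card_eq_one' (x := (⟨_, hmem⟩ : H)))
    have : p ∣ orderOf g ↔ p ∣ orderOf (g : G ⧸ H) :=
      ⟨fun h => ((hM.1.dvd_mul).1 (h.trans h2)).resolve_right hH, fun h => h.trans h1⟩
    simp only [regInd, this]
  have hsum : regTotal p ((quotIrrEquiv H ψ).1 : G → ℂ) =
      (Nat.card H : ℂ) * regTotal p (ψ : G ⧸ H → ℂ) := by
    unfold regTotal
    rw [← Finset.sum_fiberwise (Finset.univ : Finset G) (QuotientGroup.mk : G → G ⧸ H),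
      Finset.mul_sum]
    refine Finset.sum_congr rfl fun q _ => ?_
    rw [Finset.sum_congr rfl (g := fun _ => regInd p q * (ψ : G ⧸ H → ℂ) q) (fun g hg => by
      rw [quotIrrEquiv_apply, hreg g, (Finset.mem_filter.1 hg).2]), Finset.sum_const, nsmul_eq_mul]
    congr 2
    obtain ⟨g₀, rfl⟩ := QuotientGroup.mk_surjective q
    rw [Nat.card_eq_fintype_card]
    refine Finset.card_bij (fun g _ => (⟨g₀⁻¹ * g, ?_⟩ : H)) ?_ ?_ ?_
    · rename_i hg
      exact QuotientGroup.eq.1 (Finset.mem_filter.1 hg).2.symm
    · intro g _; exact Finset.mem_univ _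
    · intro a _ b _ h
      exact mul_left_cancel (congrArg Subtype.val h)
    · intro h _
      exact ⟨g₀ * h, Finset.mem_filter.2 ⟨Finset.mem_univ _,
        (QuotientGroup.eq.2 (by simp)).symm⟩, Subtype.ext (by simp)⟩
  rw [hsum]
  exact ⟨fun h h0 => h (by rw [h0, mul_zero]),
    fun h => mul_ne_zero (by exact_mod_cast Nat.card_pos.ne') h⟩

variable (N : Subgroup G) [hN : N.Normal] [Fintype N]

/-- Conjugation preserves the principal block of a normal subgroup. -/
theorem conjIrr_mem_principalBlock (hM : IsPModular p M) {θ : IrrCharacter N}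
    (hθ : θ ∈ principalBlock M N) (g : G) : conjIrr N θ g ∈ principalBlock M N := by
  rw [mem_principalBlock_iff_regTotal hM] at hθ ⊢
  suffices regTotal p (conjIrr N θ g : N → ℂ) = regTotal p (θ : N → ℂ) by rwa [this]
  unfold regTotal
  refine Fintype.sum_equiv (conjEquiv N g).toEquiv _ _ fun n => ?_
  rw [conjIrr_apply]
  have : orderOf (conjEquiv N g n) = orderOf n :=
    orderOf_injective (conjEquiv N g).toMonoidHom (conjEquiv N g).injective n
  show regInd p n * _ = regInd p (conjEquiv N g n) * (θ : N → ℂ) (conjEquiv N g n)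
  simp only [regInd, this]
  rfl

/-- Constituents of principal block characters lie in the principal block. -/
theorem constituent_mem_principalBlock (hM : IsPModular p M) {χ : IrrCharacter G}
    (hχ : χ ∈ principalBlock M G) {θ : IrrCharacter N}
    (hθ : classInner (fun n : N => (χ : G → ℂ) n) (θ : N → ℂ) ≠ 0) :
    θ ∈ principalBlock M N := by
  have := isPrime_of_pmodular hM
  refine (mem_iff_mem_of_sameBlock (O := principalBlock M N)
    (fun φ hφ g => conjIrr_mem_principalBlock N hM hφ g)
    (fun n => blockCoeff_memLocalRing hM isPBlock_principalBlock n)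
    (sameBlock_of_mem isPBlock_principalBlock (one_mem_principalBlock (G := G)) hχ)
    (θ := ⟨fun _ => 1, CfsgLib.Char.isIrrCharacter_one⟩) ?_ hθ).1 one_mem_principalBlock
  rw [CfsgLib.Char.irr_classInner_self CfsgLib.Char.isIrrCharacter_one]
  exact one_ne_zero

/-- Every member of the principal block of a normal subgroup lies under one of the whole group. -/
theorem exists_over_mem_principalBlock (hM : IsPModular p M) {θ : IrrCharacter N}
    (hθ : θ ∈ principalBlock M N) :
    ∃ χ ∈ principalBlock M G, classInner (fun n : N => (χ : G → ℂ) n) (θ : N → ℂ) ≠ 0 := by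
  classical
  by_contra hcon
  push Not at hcon
  have := Fintype.ofFinite (IrrCharacter G)
  have hcf := CfsgLib.Char.indFun_isClassFunction N (θ : N → ℂ)
  have hrec := CfsgLib.Char.frobenius_reciprocity N (θ : N → ℂ) (regInd p)
    (regInd_isClassFunction p)
  rw [CfsgLib.Char.classInner_def, CfsgLib.Char.classInner_def] at hrec
  have hreal : ∀ {H : Type u} [Group H] (x : H), conj (regInd p x) = regInd p x := fun x => by
    unfold regInd; split_ifs <;> simp
  have hG : ∑ g : G, Cfsg.indFun N (θ : N → ℂ) g * conj (regInd p g) = 0 := by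
    have h1 : ∀ g, Cfsg.indFun N (θ : N → ℂ) g = ∑ χ : IrrCharacter G,
        Cfsg.classInner (Cfsg.indFun N (θ : N → ℂ)) (χ : G → ℂ) * (χ : G → ℂ) g :=
      CfsgLib.Char.classFunction_apply_eq_sum hcf
    rw [Finset.sum_congr rfl (fun g _ => by rw [h1 g, Finset.sum_mul]), Finset.sum_comm]
    refine Finset.sum_eq_zero fun χ _ => ?_
    by_cases hχ : χ ∈ principalBlock M G
    · have h2 : Cfsg.classInner (Cfsg.indFun N (θ : N → ℂ)) (χ : G → ℂ) = 0 := by
        rw [CfsgLib.Char.frobenius_reciprocity N _ _ (CfsgLib.Char.irr_isClassFunction χ.2),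
          ← CfsgLib.Char.classInner_conj_symm, hcon χ hχ, map_zero]
      simp [h2]
    · rw [mem_principalBlock_iff_regTotal hM, not_not] at hχ
      rw [← mul_zero (Cfsg.classInner (Cfsg.indFun N (θ : N → ℂ)) (χ : G → ℂ)), ← hχ, regTotal,
        Finset.mul_sum]
      refine Finset.sum_congr rfl fun g _ => ?_
      rw [hreal]; ring
  rw [hG, mul_zero] at hrec
  refine (mem_principalBlock_iff_regTotal hM θ).1 hθ ?_
  refine (mul_eq_zero.1 hrec.symm).resolve_left (inv_ne_zero CfsgLib.Char.natCard_ne_zero) ▸ ?_
  unfold regTotal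
  refine Finset.sum_congr rfl fun n _ => ?_
  rw [hreal, mul_comm]
  simp [regInd, Subgroup.orderOf_coe]

end CfsgLib.BlockB
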