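import Cfsg.Agent.Lib.Block.SecondMain
import Cfsg.Agent.Lib.Block.KerNormal

/-!
Column sums over the principal block at `p`-elements.
-/

set_option autoImplicit false

namespace CfsgLib.BlockB

open Cfsg CfsgLib.Block
open scoped ComplexConjugate

universe u

variable {G : Type u} [Group G] [Finite G] {p : ℕ} {M : Ideal AlgInt}

/-- A `p`-element is its own `p`-part. -/
theorem isPPart_self (hM : IsPModular p M) {y : G} (hy : ∃ k : ℕ, orderOf y = p ^ k) :
    IsPPart p y y := by
  have h := isPPart_mul (p := p) (Commute.one_right y) hy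
    (by rw [orderOf_one]; exact hM.1.not_dvd_one)
  rwa [mul_one] at h

/-- Column sum over the principal block at a `p`-element: `λ` of the centraliser. -/
theorem sum_principal_normSq_pElt (hM : IsPModular p M) {z : G}
    (hz : ∃ k : ℕ, orderOf z = p ^ k) :
    ∑ᶠ χ ∈ principalBlock M G, (χ : G → ℂ) z * conj ((χ : G → ℂ) z) =
      ((∑ᶠ ψ ∈ principalBlock M (Subgroup.centralizer ({z} : Set G)),
        charDegree (ψ : Subgroup.centralizer ({z} : Set G) → ℂ) ^ 2 : ℕ) : ℂ) := by
  classical
  have := isPrime_of_pmodular hM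
  have := Fintype.ofFinite G
  have := Fintype.ofFinite (Subgroup.centralizer ({z} : Set G))
  have := Fintype.ofFinite (IrrCharacter G)
  have := Fintype.ofFinite (IrrCharacter (Subgroup.centralizer ({z} : Set G)))
  set C := Subgroup.centralizer ({z} : Set G) with hC
  have hb : IsPBlock M (principalBlock M C) := isPBlock_principalBlock
  have hy : ¬ p ∣ orderOf (1 : C) := by rw [orderOf_one]; exact hM.1.not_dvd_one
  have key := sum_twist_centralizer hM hz hb hy
  rw [← sum_chiExt_conj_eq, ← sum_chiExt_conj_eq] at key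
  set zC : C := ⟨z, Subgroup.mem_centralizer_singleton_iff.2 rfl⟩ with hzC
  have hR : ∀ ψ : IrrCharacter C,
      chiExt (ψ : C → ℂ) (blockSum (principalBlock M C)) (zC * 1) *
        conj ((ψ : C → ℂ) (zC * 1)) =
      if ψ ∈ principalBlock M C then ((charDegree (ψ : C → ℂ) ^ 2 : ℕ) : ℂ) else 0 := by
    intro ψ
    rw [← one_mul (blockSum (principalBlock M C)),
      chiExt_mul_central ψ.2 1 (blockSum_isClassCoeff _), chiExt_one, omegaC_blockSum]
    split
    · rw [one_mul, Complex.mul_conj', norm_apply_central_mul ψ (fun w => Subtype.ext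
        (Subgroup.mem_centralizer_singleton_iff.1 w.2).symm),
        ← charDegree_cast (CfsgLib.Char.irr_isCharacter ψ.2), Complex.norm_natCast, Nat.cast_pow]
      norm_cast
    · simp
  rw [Finset.sum_congr rfl (fun ψ _ => hR ψ),
    Finset.sum_congr rfl (fun χ _ => by rw [chiExt_principal_centralizer hM hz χ hy])] at key
  simp only [OneMemClass.coe_one, mul_one, ite_mul, zero_mul] at key
  rw [finsum_mem_def, finsum_mem_def, finsum_eq_sum_of_fintype, finsum_eq_sum_of_fintype,
    Nat.cast_sum]
  simp only [Set.indicator_apply]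
  refine key.trans (Finset.sum_congr rfl fun ψ _ => ?_)
  split <;> simp

/-- Column products over a block at non-conjugate `p`-elements vanish. -/
theorem sum_block_pElt_eq_zero (hM : IsPModular p M) {B : Set (IrrCharacter G)}
    (hB : IsPBlock M B) {y z : G} (hy : ∃ k : ℕ, orderOf y = p ^ k)
    (hz : ∃ k : ℕ, orderOf z = p ^ k) (hne : ¬ IsConj y z) :
    ∑ᶠ χ ∈ B, (χ : G → ℂ) y * conj ((χ : G → ℂ) z) = 0 := by
  have := isPrime_of_pmodular hM
  exact sum_block_eq_zero hM hB (isPPart_self hM hy) (isPPart_self hM hz) hne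

end CfsgLib.BlockB
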