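import Cfsg.Agent.Lib.Clifford.CosetAvg
import Cfsg.Agent.Lib.Clifford.Correspondence
import Cfsg.Agent.Lib.Clifford.Constituents
import Cfsg.Agent.Lib.Clifford.Intertwiner

/-!
General facts on the characters over an invariant character of a normal subgroup: the squares of
the multiplicities sum to the index, restriction to a supplement, extension over a cyclic quotient.
-/

set_option autoImplicit false
set_option linter.unusedSectionVars false

namespace CfsgLib.BlockB.McKay

open CfsgLib.Clifford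
open scoped ComplexConjugate

universe u

/-- `θ` on `K` extends to an irreducible character of `A`. -/
def Ext {G : Type u} [Group G] (K A : Subgroup G) (θ : K → ℂ) : Prop :=
  ∃ f : A → ℂ, Cfsg.IsIrrCharacter A f ∧ ∀ (k : K) (a : A), (a : G) = k → f a = θ k

/-- The number of irreducible characters whose pull-back along `f` involves `η`. -/
abbrev Over {A B : Type u} [Group A] [Fintype A] [Group B] (f : A → B) (η : A → ℂ) : Type u :=
  {χ : Cfsg.IrrCharacter B // Cfsg.classInner ((χ : B → ℂ) ∘ f) η ≠ 0}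

/-- Multiplicities in a pull-back, through the constituents of a character. -/
theorem inner_comp_expand {A B : Type u} [Group A] [Fintype A] [Group B] [Fintype B]
    [Fintype (Cfsg.IrrCharacter B)] {F : B → ℂ} (hF : Cfsg.IsClassFunction B F) (f : A → B)
    (η : A → ℂ) :
    Cfsg.classInner (F ∘ f) η = ∑ ψ : Cfsg.IrrCharacter B,
      Cfsg.classInner F (ψ : B → ℂ) * Cfsg.classInner ((ψ : B → ℂ) ∘ f) η := by
  have e : F ∘ f = ∑ ψ : Cfsg.IrrCharacter B,
      Cfsg.classInner F (ψ : B → ℂ) • ((ψ : B → ℂ) ∘ f) := by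
    funext a
    rw [Function.comp_apply, CfsgLib.Char.classFunction_apply_eq_sum hF, Finset.sum_apply]
    rfl
  rw [e, CfsgLib.Char.classInner_sum_left]
  exact Finset.sum_congr rfl fun ψ _ => CfsgLib.Char.classInner_smul_left _ _ _

variable {T : Type u} [Group T] [Fintype T] (N : Subgroup T) [N.Normal] [Fintype N]

theorem indFun_invariant_apply {η : N → ℂ} (hinv : ∀ t, conjFn t η = η) (g : T) :
    Cfsg.indFun N η g = (N.index : ℂ) * Cfsg.extendByZero N η g := by
  classical
  have h : ∀ t : T, Cfsg.extendByZero N η (t⁻¹ * g * t) = Cfsg.extendByZero N η g := by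
    intro t
    by_cases hg : g ∈ N
    · have hg' : t⁻¹ * g * t ∈ N := by
        simpa using (inferInstance : N.Normal).conj_mem g hg t⁻¹
      rw [CfsgLib.Char.extendByZero_of_mem η hg, CfsgLib.Char.extendByZero_of_mem η hg']
      have := congr_fun (hinv t⁻¹) ⟨g, hg⟩
      simp only [conjFn_apply] at this
      rw [← this]
      exact congrArg η (Subtype.ext (by simp))
    · have hg' : t⁻¹ * g * t ∉ N := fun h => hg (by
        simpa [mul_assoc] using (inferInstance : N.Normal).conj_mem _ h t)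
      rw [CfsgLib.Char.extendByZero_of_not_mem η hg, CfsgLib.Char.extendByZero_of_not_mem η hg']
  rw [CfsgLib.Char.indFun_def, Finset.sum_congr rfl fun t _ => h t, Finset.sum_const,
    Finset.card_univ, nsmul_eq_mul, ← Nat.card_eq_fintype_card, ← N.index_mul_card, Nat.cast_mul]
  have h0 : (Nat.card N : ℂ) ≠ 0 := Nat.cast_ne_zero.2 Nat.card_pos.ne'
  field_simp

/-- The squares of the multiplicities over an invariant character sum to the index. -/
theorem sum_sq_eq_index [Fintype (Cfsg.IrrCharacter T)] {η : N → ℂ}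
    (hη : Cfsg.IsIrrCharacter N η) (hinv : ∀ t, conjFn t η = η) :
    ∑ χ : Cfsg.IrrCharacter T, Cfsg.classInner (fun n : N => (χ : T → ℂ) n) η ^ 2 = N.index := by
  have hI := CfsgLib.Char.indFun_isClassFunction N η
  have h1 : Cfsg.classInner (Cfsg.indFun N η) (Cfsg.indFun N η) = N.index := by
    rw [CfsgLib.Char.frobenius_reciprocity N η _ hI,
      show (fun n : N => Cfsg.indFun N η n) = (N.index : ℂ) • η from funext fun n => by
        rw [indFun_invariant_apply N hinv, CfsgLib.Char.extendByZero_coe]; rfl,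
      ← CfsgLib.Char.classInner_conj_symm, CfsgLib.Char.classInner_smul_left,
      CfsgLib.Char.irr_classInner_self hη, mul_one, Complex.conj_natCast]
  rw [← h1, CfsgLib.Char.classInner_eq_sum_mul hI]
  refine Finset.sum_congr rfl fun χ _ => ?_
  rw [CfsgLib.Char.frobenius_reciprocity N η _ (CfsgLib.Char.irr_isClassFunction χ.2)]
  obtain ⟨a, ha⟩ := CfsgLib.Char.classInner_isCharacter_nat
    (CfsgLib.Char.isCharacter_restrict (CfsgLib.Char.irr_isCharacter χ.2) N)
    (CfsgLib.Char.irr_isCharacter hη)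
  rw [← CfsgLib.Char.classInner_conj_symm (fun n : N => (χ : T → ℂ) n) η, ha, Complex.conj_natCast,
    Complex.conj_natCast, sq]

/-- If at least as many characters as the index lie over an invariant character, all extend it. -/
theorem extends_of_index_le {η : N → ℂ} (hη : Cfsg.IsIrrCharacter N η)
    (hinv : ∀ t, conjFn t η = η) (h : N.index ≤ Nat.card (Over (fun n : N => (n : T)) η))
    (χ : Over (fun n : N => (n : T)) η) :
    ∀ n : N, (χ.1 : T → ℂ) n = η n := by
  classical
  have := Fintype.ofFinite (Cfsg.IrrCharacter T)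
  choose a ha using fun χ : Cfsg.IrrCharacter T => CfsgLib.Char.classInner_isCharacter_nat
    (CfsgLib.Char.isCharacter_restrict (CfsgLib.Char.irr_isCharacter χ.2) N)
    (CfsgLib.Char.irr_isCharacter hη)
  have hsum : ∑ χ, a χ ^ 2 = N.index := by
    have h2 := sum_sq_eq_index N hη hinv
    simp only [ha] at h2
    exact_mod_cast h2
  have hpos : ∀ χ : Cfsg.IrrCharacter T,
      Cfsg.classInner ((χ : T → ℂ) ∘ fun n : N => (n : T)) η ≠ 0 ↔ a χ ≠ 0 := fun χ => by
    rw [show Cfsg.classInner ((χ : T → ℂ) ∘ fun n : N => (n : T)) η = a χ from ha χ,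
      Nat.cast_ne_zero]
  rw [show Nat.card (Over (fun n : N => (n : T)) η) =
      (Finset.univ.filter fun χ : Cfsg.IrrCharacter T => a χ ≠ 0).card by
    rw [Nat.card_congr (Equiv.subtypeEquivRight hpos), Nat.card_eq_fintype_card,
      Fintype.card_subtype]] at h
  have hone : a χ.1 = 1 := by
    by_contra hne
    have hχ0 := (hpos χ.1).1 χ.2
    have h2 : 2 ≤ a χ.1 := by omega
    have hlt : ∑ ψ : Cfsg.IrrCharacter T, (if a ψ ≠ 0 then 1 else 0 : ℕ) < ∑ ψ, a ψ ^ 2 := by
      refine Finset.sum_lt_sum (fun ψ _ => ?_) ⟨χ.1, Finset.mem_univ _, ?_⟩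
      · split_ifs with h0
        · exact Nat.one_le_pow _ _ (Nat.pos_of_ne_zero h0)
        · exact Nat.zero_le _
      · rw [if_pos hχ0]
        nlinarith
    rw [hsum, ← Finset.card_filter] at hlt
    omega
  intro n
  have h3 := congr_fun (restrict_eq_smul_of_invariant χ.1.2 hη hinv
    (by rw [ha, Nat.cast_ne_zero]; exact (hpos χ.1).1 χ.2)) n
  rw [ha, hone, Nat.cast_one, one_smul] at h3
  exact h3

/-- Restriction to a supplement meeting the normal subgroup in a subgroup to which the invariant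
character restricts irreducibly. -/
theorem card_over_restrict (U : Subgroup T) [Fintype U] [Fintype (N.subgroupOf U)]
    (hU : ∀ t : T, ∃ n ∈ N, ∃ u ∈ U, t = n * u) {η : N → ℂ} (hη : Cfsg.IsIrrCharacter N η)
    (hinv : ∀ t, conjFn t η = η) {θ : N.subgroupOf U → ℂ}
    (hθ : Cfsg.IsIrrCharacter (N.subgroupOf U) θ)
    (hres : ∀ (k : N.subgroupOf U) (n : N), ((k : U) : T) = n → θ k = η n) :
    Nat.card (Over (fun n : N => (n : T)) η) =
      Nat.card (Over (fun k : N.subgroupOf U => (k : U)) θ) := by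
  classical
  have := Fintype.ofFinite (Cfsg.IrrCharacter T)
  have := Fintype.ofFinite (Cfsg.IrrCharacter U)
  have hθinv : ∀ u : U, conjFn u θ = θ := fun u => funext fun k => by
    rw [conjFn_apply, hres (conjN u k) (conjN (u : T) ⟨((k : U) : T), k.2⟩) (by simp),
      hres k ⟨((k : U) : T), k.2⟩ rfl]
    exact congr_fun (hinv (u : T)) _
  have hidx : (N.subgroupOf U).index = N.index := by
    refine Subgroup.relIndex_top_right N ▸ ?_
    rw [show (N.subgroupOf U).index = N.relIndex U from rfl,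
      ← Subgroup.relIndex_sup_right (H := U) (K := N),
      show U ⊔ N = ⊤ from top_le_iff.1 fun t _ => by
        obtain ⟨n, hn, u, hu, rfl⟩ := hU t
        exact mul_mem (Subgroup.mem_sup_right hn) (Subgroup.mem_sup_left hu)]
  have hIres : (fun u : U => Cfsg.indFun N η u) = Cfsg.indFun (N.subgroupOf U) θ := by
    funext u
    rw [indFun_invariant_apply N hinv, indFun_invariant_apply _ hθinv, hidx]
    congr 1
    by_cases hu : (u : T) ∈ N
    · rw [CfsgLib.Char.extendByZero_of_mem η hu,
        CfsgLib.Char.extendByZero_of_mem θ (Subgroup.mem_subgroupOf.2 hu)]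
      exact (hres _ _ rfl).symm
    · rw [CfsgLib.Char.extendByZero_of_not_mem η hu,
        CfsgLib.Char.extendByZero_of_not_mem θ fun h => hu (Subgroup.mem_subgroupOf.1 h)]
  have hI := CfsgLib.Char.indFun_isClassFunction N η
  choose a ha using fun χ : Cfsg.IrrCharacter T => CfsgLib.Char.classInner_isCharacter_nat
    (CfsgLib.Char.isCharacter_restrict (CfsgLib.Char.irr_isCharacter χ.2) N)
    (CfsgLib.Char.irr_isCharacter hη)
  have hcoef : ∀ χ : Cfsg.IrrCharacter T, Cfsg.classInner (Cfsg.indFun N η) (χ : T → ℂ) = a χ := by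
    intro χ
    rw [CfsgLib.Char.frobenius_reciprocity N η _ (CfsgLib.Char.irr_isClassFunction χ.2),
      ← CfsgLib.Char.classInner_conj_symm, ha, Complex.conj_natCast]
  choose b hb using fun χ ψ : Cfsg.IrrCharacter T => CfsgLib.Char.classInner_isCharacter_nat
    (CfsgLib.Char.isCharacter_restrict (CfsgLib.Char.irr_isCharacter χ.2) U)
    (CfsgLib.Char.isCharacter_restrict (CfsgLib.Char.irr_isCharacter ψ.2) U)
  -- the norm of the induced character, computed twice
  have hsum : ∑ χ, ∑ ψ, a χ * a ψ * b χ ψ = ∑ χ, a χ ^ 2 := by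
    have h1 : ∑ χ, (a χ : ℂ) ^ 2 = N.index := by
      rw [← sum_sq_eq_index N hη hinv]; exact Finset.sum_congr rfl fun χ _ => by rw [ha]
    have e : (fun u : U => Cfsg.indFun N η u) =
        ∑ χ : Cfsg.IrrCharacter T, (a χ : ℂ) • (fun u : U => (χ : T → ℂ) u) := by
      funext u
      rw [CfsgLib.Char.classFunction_apply_eq_sum hI, Finset.sum_apply]
      exact Finset.sum_congr rfl fun χ _ => by rw [hcoef]; rfl
    have h2 : Cfsg.classInner (fun u : U => Cfsg.indFun N η u)
        (fun u : U => Cfsg.indFun N η u) = N.index := by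
      rw [hIres, CfsgLib.Char.frobenius_reciprocity _ θ _
          (CfsgLib.Char.indFun_isClassFunction _ _),
        show (fun k : N.subgroupOf U => Cfsg.indFun (N.subgroupOf U) θ k) =
            (N.index : ℂ) • θ from funext fun k => by
          rw [indFun_invariant_apply _ hθinv, CfsgLib.Char.extendByZero_coe, hidx]; rfl,
        ← CfsgLib.Char.classInner_conj_symm, CfsgLib.Char.classInner_smul_left,
        CfsgLib.Char.irr_classInner_self hθ, mul_one, Complex.conj_natCast]
    have hcast : ((∑ χ, ∑ ψ, a χ * a ψ * b χ ψ : ℕ) : ℂ) = ((∑ χ, a χ ^ 2 : ℕ) : ℂ) := by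
      push_cast
      rw [h1, ← h2, e, CfsgLib.Char.classInner_sum_left]
      refine Finset.sum_congr rfl fun χ _ => ?_
      rw [CfsgLib.Char.classInner_smul_left, ← CfsgLib.Char.classInner_conj_symm,
        CfsgLib.Char.classInner_sum_left, map_sum, Finset.mul_sum]
      refine Finset.sum_congr rfl fun ψ _ => ?_
      rw [CfsgLib.Char.classInner_smul_left, map_mul, Complex.conj_natCast,
        CfsgLib.Char.classInner_conj_symm, hb]
      ring
    exact_mod_cast hcast
  have hdiag : ∀ χ, 1 ≤ b χ χ := by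
    intro χ
    by_contra h
    have h0 : Cfsg.classInner (fun u : U => (χ : T → ℂ) u) (fun u : U => (χ : T → ℂ) u) = 0 := by
      rw [hb, show b χ χ = 0 by omega, Nat.cast_zero]
    have := congr_fun (CfsgLib.Char.classInner_self_eq_zero h0) 1
    exact CfsgLib.Char.irr_apply_one_ne_zero χ.2 (by simpa using this)
  have hzero : ∀ χ ψ, a χ ≠ 0 → a ψ ≠ 0 → b χ ψ = if χ = ψ then 1 else 0 := by
    have hle : ∀ χ, a χ ^ 2 ≤ ∑ ψ, a χ * a ψ * b χ ψ := fun χ => by
      refine le_trans ?_ (Finset.single_le_sum (fun ψ _ => Nat.zero_le _) (Finset.mem_univ χ))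
      have := Nat.mul_le_mul_left (a χ * a χ) (hdiag χ)
      rw [sq]; simpa using this
    intro χ ψ hχ hψ
    have heq := ((Finset.sum_eq_sum_iff_of_le fun χ _ => hle χ).1 hsum.symm) χ (Finset.mem_univ χ)
    rw [← Finset.add_sum_erase _ _ (Finset.mem_univ χ)] at heq
    have hd : a χ ^ 2 ≤ a χ * a χ * b χ χ := by
      have := Nat.mul_le_mul_left (a χ * a χ) (hdiag χ)
      rw [sq]; simpa using this
    split_ifs with h
    · subst h
      have h3 : a χ * a χ * b χ χ = a χ * a χ * 1 := by rw [mul_one]; rw [sq] at heq hd; omega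
      exact Nat.eq_of_mul_eq_mul_left (Nat.pos_of_ne_zero (mul_ne_zero hχ hχ)) h3
    · have h3 : a χ * a ψ * b χ ψ ≤ ∑ x ∈ Finset.univ.erase χ, a χ * a x * b χ x :=
        Finset.single_le_sum (f := fun x => a χ * a x * b χ x) (fun x _ => Nat.zero_le _)
          (Finset.mem_erase.2 ⟨fun e => h e.symm, Finset.mem_univ _⟩)
      have h4 : a χ * a ψ * b χ ψ = 0 := by omega
      simpa [hχ, hψ] using h4
  have hne : ∀ χ : Over (fun n : N => (n : T)) η, a χ.1 ≠ 0 := fun χ h => χ.2 (by
    rw [show Cfsg.classInner ((χ.1 : T → ℂ) ∘ fun n : N => (n : T)) η = a χ.1 from ha χ.1, h,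
      Nat.cast_zero])
  have hirr : ∀ χ : Over (fun n : N => (n : T)) η,
      Cfsg.IsIrrCharacter U (fun u : U => (χ.1 : T → ℂ) u) := fun χ =>
    CfsgLib.Char.isIrrCharacter_iff.2
      ⟨CfsgLib.Char.isCharacter_restrict (CfsgLib.Char.irr_isCharacter χ.1.2) U, by
        rw [hb, hzero _ _ (hne χ) (hne χ), if_pos rfl, Nat.cast_one]⟩
  have hover : ∀ χ : Over (fun n : N => (n : T)) η,
      Cfsg.classInner ((fun u : U => (χ.1 : T → ℂ) u) ∘ fun k : N.subgroupOf U => (k : U)) θ ≠ 0 := by
    intro χ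
    have e := restrict_eq_smul_of_invariant χ.1.2 hη hinv (by rw [ha, Nat.cast_ne_zero]; exact hne χ)
    have e2 : ((fun u : U => (χ.1 : T → ℂ) u) ∘ fun k : N.subgroupOf U => (k : U)) =
        (a χ.1 : ℂ) • θ := by
      funext k
      have := congr_fun e ⟨((k : U) : T), k.2⟩
      rw [ha] at this
      rw [Pi.smul_apply, hres k ⟨((k : U) : T), k.2⟩ rfl]
      exact this
    rw [e2, CfsgLib.Char.classInner_smul_left, CfsgLib.Char.irr_classInner_self hθ, mul_one,
      Nat.cast_ne_zero]
    exact hne χ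
  let F : Over (fun n : N => (n : T)) η → Over (fun k : N.subgroupOf U => (k : U)) θ :=
    fun χ => ⟨⟨_, hirr χ⟩, hover χ⟩
  refine Nat.card_congr (Equiv.ofBijective F ⟨fun χ ψ h => ?_, fun ψ => ?_⟩)
  · have h1 : (fun u : U => (χ.1 : T → ℂ) u) = fun u : U => (ψ.1 : T → ℂ) u :=
      congrArg (fun x => ((x.1 : Cfsg.IrrCharacter U) : U → ℂ)) h
    refine Subtype.ext (not_not.1 fun hne' => ?_)
    have h2 := hzero χ.1 ψ.1 (hne χ) (hne ψ)
    have h3 : (b χ.1 χ.1 : ℂ) = (b χ.1 ψ.1 : ℂ) := by rw [← hb, ← hb, h1]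
    rw [Nat.cast_inj, hzero _ _ (hne χ) (hne χ), h2, if_pos rfl, if_neg hne'] at h3
    exact one_ne_zero h3
  · have h0 : Cfsg.classInner (Cfsg.indFun (N.subgroupOf U) θ) (ψ.1 : U → ℂ) ≠ 0 := by
      rw [CfsgLib.Char.frobenius_reciprocity _ θ _ (CfsgLib.Char.irr_isClassFunction ψ.1.2),
        ← CfsgLib.Char.classInner_conj_symm]
      exact fun h => ψ.2 ((map_eq_zero _).1 h)
    rw [← hIres, show (fun u : U => Cfsg.indFun N η u) = Cfsg.indFun N η ∘ fun u : U => (u : T)
      from rfl, inner_comp_expand hI] at h0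
    obtain ⟨χ, -, hχ⟩ := Finset.exists_ne_zero_of_sum_ne_zero h0
    rw [hcoef, mul_ne_zero_iff, Nat.cast_ne_zero] at hχ
    have hmem : Cfsg.classInner ((χ : T → ℂ) ∘ fun n : N => (n : T)) η ≠ 0 := by
      rw [show Cfsg.classInner ((χ : T → ℂ) ∘ fun n : N => (n : T)) η = a χ from ha χ,
        Nat.cast_ne_zero]
      exact hχ.1
    refine ⟨⟨χ, hmem⟩, Subtype.ext (Subtype.ext ?_)⟩
    by_contra hne'
    exact hχ.2 (CfsgLib.Char.irr_classInner_ne (hirr ⟨χ, hmem⟩) ψ.1.2 hne')

/-- An invariant character extends over a cyclic quotient. -/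
theorem exists_extension_cyclic [IsCyclic (T ⧸ N)] {θ : N → ℂ} (hθ : Cfsg.IsIrrCharacter N θ)
    (hinv : ∀ t, conjFn t θ = θ) :
    ∃ f : T → ℂ, Cfsg.IsIrrCharacter T f ∧ ∀ n : N, f n = θ n := by
  obtain ⟨m, ρ, hρ, rfl⟩ := hθ
  have hi : ∀ (g : T) (x : N), ρ.character (conjN g x) = ρ.character x := fun g x =>
    congr_fun (hinv g) x
  exact exists_irr_extension ρ hi (one_mem_splitExps_of_isCyclic ρ (proj_surjective ρ hi))

end CfsgLib.BlockB.McKay
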