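import Cfsg.Agent.Lib.BlockB.ClassMul
import Cfsg.Agent.Lib.Char.Induce

/-!
# Induced characters of small degree with a given constituent
-/

namespace CfsgLib.BlockB

open scoped ComplexConjugate
open CfsgLib.Char

universe u

variable {G : Type u} [Group G] [Fintype G]

/-- A character containing the irreducible `χ` and of degree at most `χ 1` equals `χ`. -/
theorem isCharacter_eq_of_degree_le {ψ : G → ℂ} (hψ : Cfsg.IsCharacter G ψ)
    (χ : Cfsg.IrrCharacter G) (hne : Cfsg.classInner ψ (χ : G → ℂ) ≠ 0)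
    (hd : Cfsg.charDegree ψ ≤ Cfsg.charDegree (χ : G → ℂ)) : ψ = (χ : G → ℂ) := by
  classical
  have := Fintype.ofFinite (Cfsg.IrrCharacter G)
  have hsum := classFunction_apply_eq_sum (isCharacter_isClassFunction hψ) (1 : G)
  choose k hk using fun φ : Cfsg.IrrCharacter G =>
    classInner_isCharacter_nat hψ (irr_isCharacter φ.2)
  simp only [hk, ← irr_degree_cast, ← charDegree_cast hψ] at hsum
  have hsum' : Cfsg.charDegree ψ =
      ∑ φ : Cfsg.IrrCharacter G, k φ * Cfsg.charDegree (φ : G → ℂ) := by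
    exact_mod_cast hsum
  rw [← Finset.add_sum_erase _ _ (Finset.mem_univ χ)] at hsum'
  have hk1 : 1 ≤ k χ := Nat.one_le_iff_ne_zero.2 fun e => hne (by rw [hk, e, Nat.cast_zero])
  have hle := Nat.mul_le_mul_right (Cfsg.charDegree (χ : G → ℂ)) hk1
  have hrest : ∑ φ ∈ Finset.univ.erase χ, k φ * Cfsg.charDegree (φ : G → ℂ) = 0 := by omega
  have hkχ : k χ = 1 := by
    have h3 : k χ * Cfsg.charDegree (χ : G → ℂ) = 1 * Cfsg.charDegree (χ : G → ℂ) := by omega
    exact Nat.eq_of_mul_eq_mul_right (irr_degree_pos χ) h3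
  rw [classFunction_eq_sum (isCharacter_isClassFunction hψ), Finset.sum_eq_single χ]
  · rw [hk, hkχ, Nat.cast_one, one_smul]
  · intro φ _ hφ
    have := Finset.sum_eq_zero_iff.1 hrest φ (Finset.mem_erase.2 ⟨hφ, Finset.mem_univ _⟩)
    rw [mul_eq_zero, or_iff_left (irr_degree_ne_zero φ)] at this
    rw [hk, this, Nat.cast_zero, zero_smul]
  · exact fun h => absurd (Finset.mem_univ _) h

theorem charDegree_indFun (H : Subgroup G) {θ : H → ℂ} (hθ : Cfsg.IsCharacter H θ) :
    Cfsg.charDegree (Cfsg.indFun H θ) = H.index * Cfsg.charDegree θ := by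
  have h : (Cfsg.charDegree (Cfsg.indFun H θ) : ℂ) = ((H.index * Cfsg.charDegree θ : ℕ) : ℂ) := by
    rw [charDegree_cast (isCharacter_indFun H hθ), indFun_apply_one, Nat.cast_mul,
      charDegree_cast hθ]
  exact_mod_cast h

/-- An irreducible character is induced from a constituent of small degree. -/
theorem eq_indFun_of_constituent (H : Subgroup G) [Fintype H] (χ : Cfsg.IrrCharacter G)
    (μ : Cfsg.IrrCharacter H)
    (hne : Cfsg.classInner (fun y : H => (χ : G → ℂ) y) (μ : H → ℂ) ≠ 0)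
    (hd : H.index * Cfsg.charDegree (μ : H → ℂ) ≤ Cfsg.charDegree (χ : G → ℂ)) :
    Cfsg.indFun H (μ : H → ℂ) = (χ : G → ℂ) := by
  refine isCharacter_eq_of_degree_le (isCharacter_indFun H (irr_isCharacter μ.2)) χ ?_
    (by rw [charDegree_indFun H (irr_isCharacter μ.2)]; exact hd)
  rw [frobenius_reciprocity H _ _ (irr_isClassFunction χ.2), ← classInner_conj_symm]
  exact fun e => hne (by simpa using e)

end CfsgLib.BlockB
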