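import Cfsg.Agent.Lib.BlockB.StarWeight
import Cfsg.Agent.Lib.BlockB.GaloisAvg

/-!
The products with stable characters have integral inner products with the irreducible characters.
-/

set_option autoImplicit false
set_option linter.unusedSectionVars false
set_option maxHeartbeats 1600000

namespace CfsgLib.BlockB.Star

open Cfsg CfsgLib.Block CfsgLib.BlockA CfsgLib.BlockB.SubSum CfsgLib.BlockB.HeightBound
  CfsgLib.BlockB.StarVal MonoidAlgebra
open scoped ComplexConjugate

universe u

theorem isCyclo_of_dvd {n N : ℕ} (hn : n ≠ 0) (hN : N ≠ 0) (h : n ∣ N) {f : ℕ → ℂ}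
    (hf : IsCyclo n f) : IsCyclo N f := by
  have : NeZero N := ⟨hN⟩
  obtain ⟨c, rfl⟩ := h
  obtain ⟨j, -, hj⟩ := (zetaN_isPrimitiveRoot hN).eq_pow_of_pow_eq_one
    (show zetaN n ^ (n * c) = 1 by
      rw [pow_mul, (zetaN_isPrimitiveRoot hn).pow_eq_one, one_pow])
  obtain ⟨Q, hQ⟩ := hf
  refine ⟨Q.comp (Polynomial.X ^ j), fun k => ?_⟩
  rw [hQ, Polynomial.aeval_comp, map_pow, Polynomial.aeval_X, ← hj, ← pow_mul, ← pow_mul,
    mul_comm j k]

theorem zpowers_pow_eq {G : Type u} [Group G] {x : G} {k : ℕ} (hk : k.Coprime (orderOf x)) :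
    Subgroup.zpowers (x ^ k) = Subgroup.zpowers x := by
  refine le_antisymm (Subgroup.zpowers_le.2 (Subgroup.pow_mem _ (Subgroup.mem_zpowers x) k))
    (Subgroup.zpowers_le.2 ?_)
  obtain ⟨m, hm⟩ := exists_pow_eq_self_of_coprime hk
  rw [Subgroup.mem_zpowers_iff]
  exact ⟨m, by rw [zpow_natCast, hm]⟩

variable {G : Type u} [Group G] [Fintype G] {p : ℕ} {M : Ideal AlgInt} [M.IsPrime]
  {B : Set (IrrCharacter G)} {P : Subgroup G}
  {e : Set (IrrCharacter (Subgroup.centralizer (P : Set G)))}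

local notation "cen" Q => Subgroup.centralizer ((Q : Subgroup G) : Set G)

theorem rep_pow {x : G} {β : G → ℂ} {y : P} (h : Rep p M P e x β y) {k : ℕ}
    (hk : k.Coprime (orderOf x)) : Rep p M P e (x ^ k) β (y ^ k) := by
  obtain ⟨a, f, ha, hf, hβ⟩ := h
  have hy : k.Coprime (orderOf (y : G)) := by
    rwa [← ha, show a * (y : G) * a⁻¹ = MulAut.conj a (y : G) by simp, MulEquiv.orderOf_eq] at hk
  have key : ∀ Q : Subgroup G, Q = Subgroup.zpowers (y : G) → ∃ f' : Set (IrrCharacter (cen Q)),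
      SubpairLE p M Q f' P e ∧
        subgroupBlockCoeff (cen Q) f' = subgroupBlockCoeff (cen (Subgroup.zpowers (y : G))) f := by
    rintro _ rfl
    exact ⟨f, hf, rfl⟩
  obtain ⟨f', hf', hff⟩ := key (Subgroup.zpowers ((y ^ k : P) : G))
    (by rw [Subgroup.coe_pow, zpowers_pow_eq hy])
  refine ⟨a, f', ?_, hf', by rw [hβ, hff]⟩
  rw [Subgroup.coe_pow, ← ha, conj_pow]

theorem rep_of_pow {x : G} {β : G → ℂ} {y : P} {k : ℕ} (hk : k.Coprime (orderOf x))
    (h : Rep p M P e (x ^ k) β y) : ∃ y', Rep p M P e x β y' := by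
  obtain ⟨m, hm⟩ := exists_pow_eq_self_of_coprime hk
  have hord : orderOf (x ^ k) = orderOf x := hk.symm.orderOf_pow
  have hcop : m.Coprime (orderOf (x ^ k)) := by
    rw [hord]
    have h1 : orderOf ((x ^ k) ^ m) = orderOf x := by rw [hm]
    rw [orderOf_pow, hord] at h1
    have h2 := orderOf_pos x
    have h3 : Nat.gcd (orderOf x) m ∣ orderOf x := Nat.gcd_dvd_left _ _
    rcases Nat.eq_zero_or_pos (Nat.gcd (orderOf x) m) with h4 | h4
    · simp [h4] at h1; omega
    · have h5 := Nat.div_mul_cancel h3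
      rw [h1] at h5
      exact Nat.coprime_comm.1 (by
        show Nat.gcd (orderOf x) m = 1
        nlinarith)
  have := rep_pow h hcop
  rw [hm] at this
  exact ⟨_, this⟩

variable (hM : IsPModular p M) (hmax : IsMaximalBrauerPair p M B P e) {lam : P → ℂ}
  (hchar : IsCharacter P lam) (hlam : IsStable p M P e lam)
include hM hmax hchar hlam

/-- The values on the powers of one element form a cyclotomic sequence. -/
theorem exists_cyclo_star (χ : IrrCharacter G) (g : G) :
    ∃ S : ℕ → ℂ, IsCyclo (Nat.card G) S ∧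
      ∀ k : ℕ, k.Coprime (Nat.card G) → star p M P e (χ : G → ℂ) lam (g ^ k) = S k := by
  classical
  have := Fact.mk hM.1
  have hn : Nat.card G ≠ 0 := Nat.card_pos.ne'
  have : NeZero (Nat.card G) := ⟨hn⟩
  obtain ⟨x, hx'⟩ := exists_isPPart hM.1 g
  obtain ⟨v, hg, hcomm, hx, hv⟩ := id hx'
  have := Fintype.ofFinite (Subgroup.centralizer ({x} : Set G))
  set C := Subgroup.centralizer ({x} : Set G)
  set v' : C := ⟨v, Subgroup.mem_centralizer_singleton_iff.2 hcomm.symm.eq⟩
  let S : Set (IrrCharacter C) → ℕ → ℂ := fun b k =>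
    (if h : ∃ y, Rep p M P e x (subgroupBlockCoeff C b) y then lam (h.choose ^ k) else 0) *
      ∑ θ ∈ b.toFinite.toFinset, ((resMult x χ θ : ℂ) * centralRoot x θ ^ k) *
        (θ : C → ℂ) (v' ^ k)
  refine ⟨fun k => ∑ b ∈ allBlocks M C, S b k, IsCyclo.sum _ fun b _ => IsCyclo.mul ?_ ?_,
    fun k hk => ?_⟩
  · by_cases h : ∃ y, Rep p M P e x (subgroupBlockCoeff C b) y
    · simp only [dif_pos h]
      exact isCyclo_of_dvd Nat.card_pos.ne' hn (Subgroup.card_subgroup_dvd_card P)
        (isCyclo_char hchar _)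
    · simp only [dif_neg h]
      exact ⟨0, fun k => by simp⟩
  · refine IsCyclo.sum _ fun θ _ => IsCyclo.mul (IsCyclo.mul ?_ ?_) ?_
    · exact ⟨Polynomial.C (resMult x χ θ : ℤ), fun k => by simp⟩
    · obtain ⟨j, -, hj⟩ := (zetaN_isPrimitiveRoot hn).eq_pow_of_pow_eq_one
        (show centralRoot x θ ^ Nat.card G = 1 by
          obtain ⟨c, hc⟩ := orderOf_dvd_natCard x
          rw [hc, pow_mul, (centralRoot_spec hM hx θ).2.1, one_pow])
      exact ⟨Polynomial.X ^ j, fun k => by
        show centralRoot x θ ^ k = _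
        rw [map_pow, Polynomial.aeval_X, ← hj, ← pow_mul, ← pow_mul, mul_comm]⟩
    · exact isCyclo_of_dvd Nat.card_pos.ne' hn (Subgroup.card_subgroup_dvd_card C)
        (isCyclo_char (CfsgLib.Char.irr_isCharacter θ.2) v')
  · have hkx : k.Coprime (orderOf x) := hk.coprime_dvd_right (orderOf_dvd_natCard x)
    have hgk : g ^ k = x ^ k * v ^ k := by rw [← hg, hcomm.mul_pow]
    have hxk : ∃ i : ℕ, orderOf (x ^ k) = p ^ i := by
      obtain ⟨i, hi⟩ := hx
      exact ⟨i, by rw [(hkx.symm).orderOf_pow, hi]⟩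
    have hvk : ¬ p ∣ orderOf (v ^ k) := fun h => hv (h.trans (orderOf_pow_dvd k))
    have hpp : IsPPart p (g ^ k) (x ^ k) := by
      rw [hgk]; exact isPPart_mul (hcomm.pow_pow k k) hxk hvk
    have hCk : Subgroup.centralizer ({x ^ k} : Set G) = C := by
      ext w
      rw [Subgroup.mem_centralizer_singleton_iff]
      exact (commute_pow_iff hM hx hkx w)
    have hBl : Bl M (x ^ k) = (allBlocks M C).image (subgroupBlockCoeff C) := by
      have key : ∀ H : Subgroup G, H = Subgroup.centralizer ({x ^ k} : Set G) →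
          Bl M (x ^ k) = (allBlocks M H).image (subgroupBlockCoeff H) := by
        rintro _ rfl
        rfl
      exact key C hCk.symm
    rw [star, ppart_eq hM.1 hpp, hBl, Finset.sum_image (subgroupBlockCoeff_injOn hM)]
    refine Finset.sum_congr rfl fun b hb => ?_
    congr 1
    · by_cases h : ∃ y, Rep p M P e x (subgroupBlockCoeff C b) y
      · rw [dif_pos h, L_eq hM hmax.1.1 hlam (rep_pow h.choose_spec hkx)]
      · rw [dif_neg h, L_eq_zero hM hmax.1.1 fun y hy => h (rep_of_pow hkx hy)]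
    · rw [hgk, show v ^ k = ((v' ^ k : C) : G) from (SubmonoidClass.coe_pow v' k).symm,
        subFun_coeff b (CfsgLib.Char.irr_isClassFunction χ.2) (centralizer_le_pow hM hx k),
        blockPart_pow hM hx]

/-- Averages over elementary subgroups give the bounds for inner products with characters. -/
theorem inner_bounds (χ : IrrCharacter G) {f : G → ℂ}
    (hf : f ∈ CfsgLib.Char.brauerSpan (fun A : Subgroup G => ∃ r : ℕ, r.Prime ∧ IsElementary r A)) :
    MemLocalRing M ((Nat.card G : ℂ)⁻¹ * ∑ g : G, f g * star p M P e (χ : G → ℂ) lam g) ∧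
      IsIntegral ℤ (((p ^ (Nat.card G).factorization p : ℕ) : ℂ) *
        ((Nat.card G : ℂ)⁻¹ * ∑ g : G, f g * star p M P e (χ : G → ℂ) lam g)) := by
  classical
  induction hf using AddSubgroup.closure_induction with
  | zero =>
    simp only [Pi.zero_apply, zero_mul, Finset.sum_const_zero, mul_zero]
    exact ⟨(lring M).zero_mem, isIntegral_zero⟩
  | add f g _ _ hf hg =>
    simp only [Pi.add_apply, add_mul, Finset.sum_add_distrib, mul_add]
    exact ⟨memLocalRing_add hf.1 hg.1, hf.2.add hg.2⟩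
  | neg f _ hf =>
    simp only [Pi.neg_apply, neg_mul, Finset.sum_neg_distrib, mul_neg]
    exact ⟨(lring M).neg_mem hf.1, hf.2.neg⟩
  | mem f hf =>
    obtain ⟨E, η, ⟨r, hr, hE⟩, rfl⟩ := hf
    have := Fintype.ofFinite E
    have hcl := star_isClassFunction hM hmax.1.1 hlam (CfsgLib.Char.irr_isClassFunction χ.2)
    have hsum : (Nat.card G : ℂ)⁻¹ * ∑ g : G,
        indFun E (fun x => (η x : ℂ)) g * star p M P e (χ : G → ℂ) lam g =
        (Nat.card E : ℂ)⁻¹ * ∑ x : E, (η x : ℂ) * star p M P e (χ : G → ℂ) lam (x : G) := by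
      have hG0 : (Nat.card G : ℂ) ≠ 0 := Nat.cast_ne_zero.2 Nat.card_pos.ne'
      rw [inv_mul_eq_iff_eq_mul₀ hG0]
      unfold indFun
      simp only [mul_assoc (_⁻¹ : ℂ), Finset.sum_mul, ← Finset.mul_sum]
      rw [mul_left_comm]
      congr 1
      rw [Finset.sum_comm, Finset.sum_congr rfl (g := fun _ : G =>
        ∑ x : E, (η x : ℂ) * star p M P e (χ : G → ℂ) lam (x : G)) fun y _ => ?_, Finset.sum_const,
        Finset.card_univ, nsmul_eq_mul, ← Nat.card_eq_fintype_card]
      calc ∑ g : G, extendByZero E (fun x => (η x : ℂ)) (y⁻¹ * g * y) *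
            star p M P e (χ : G → ℂ) lam g
          = ∑ g : G, extendByZero E (fun x => (η x : ℂ)) g * star p M P e (χ : G → ℂ) lam g := by
            refine Fintype.sum_equiv (MulAut.conj y⁻¹).toEquiv _ _ fun g => ?_
            simp only [MulEquiv.toEquiv_eq_coe, MulEquiv.coe_toEquiv, MulAut.conj_apply, inv_inv]
            congr 1
            have := hcl g y⁻¹
            rw [inv_inv] at this
            exact this.symm
        _ = _ := by
            rw [← Finset.sum_filter_add_sum_filter_not Finset.univ (fun g : G => g ∈ E),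
              Finset.sum_eq_zero (s := Finset.univ.filter fun g : G => ¬ g ∈ E) (fun g hg => by
                rw [extendByZero, Function.extend_apply' _ _ _ (by
                  rintro ⟨w, rfl⟩; exact (Finset.mem_filter.1 hg).2 w.2), Pi.zero_apply, zero_mul]),
              add_zero, Finset.sum_subtype (Finset.univ.filter fun g : G => g ∈ E)
                (p := fun g => g ∈ E) (fun g => by simp)]
            refine Finset.sum_congr rfl fun w _ => ?_
            congr 1
            simp [extendByZero, Subtype.val_injective.extend_apply]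
    rw [hsum]
    exact elementary_avg hM hmax hchar hlam χ hr hE η

/-- **Integrality.** -/
theorem exists_int_classInner (χ ξ : IrrCharacter G) :
    ∃ m : ℤ, classInner (star p M P e (χ : G → ℂ) lam) (ξ : G → ℂ) = m := by
  classical
  have hn : Nat.card G ≠ 0 := Nat.card_pos.ne'
  have hG0 : (Nat.card G : ℂ) ≠ 0 := Nat.cast_ne_zero.2 hn
  choose S hS hSk using fun g => exists_cyclo_star hM hmax hchar hlam χ g
  let H : ℕ → ℂ := fun k => ∑ g : G, S g k * conj ((ξ : G → ℂ) (g ^ k))
  have hH : IsCyclo (Nat.card G) H := IsCyclo.sum _ fun g _ =>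
    (hS g).mul ((isCyclo_char (CfsgLib.Char.irr_isCharacter ξ.2) g).conj hn)
  have hHk : ∀ k : ℕ, k.Coprime (Nat.card G) →
      H k = ∑ g : G, star p M P e (χ : G → ℂ) lam g * conj ((ξ : G → ℂ) g) := by
    intro k hk
    simp only [H]
    refine Fintype.sum_equiv (powCoprime (G := G) hk.symm) _ _ fun g => ?_
    rw [powCoprime_apply, hSk g k hk]
  obtain ⟨m, hm⟩ := hH.exists_int hn fun k hk => by rw [hHk k hk, hHk 1 (Nat.coprime_one_left _)]
  rw [hHk 1 (Nat.coprime_one_left _)] at hm
  set z := classInner (star p M P e (χ : G → ℂ) lam) (ξ : G → ℂ) with hz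
  have hzm : z = (Nat.card G : ℂ)⁻¹ * m := by rw [hz, CfsgLib.Char.classInner_def, hm]
  have hb := inner_bounds hM hmax hchar hlam χ
    (CfsgLib.Char.brauer_induction
      (CfsgLib.Char.isCharacter_conj (CfsgLib.Char.irr_isCharacter ξ.2)))
  rw [Finset.sum_congr rfl (fun g _ => mul_comm _ _), hm, ← hzm] at hb
  obtain ⟨hloc, hint⟩ := hb
  set q : ℕ := p ^ (Nat.card G).factorization p with hq
  have hrat : (q : ℂ) * z = (((q : ℚ) * ((Nat.card G : ℚ)⁻¹ * (m : ℚ)) : ℚ) : ℂ) := by
    rw [hzm]; push_cast; rfl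
  rw [hrat] at hint
  obtain ⟨m', hm'⟩ := CfsgLib.Char.exists_int_of_isIntegral_rat hint
  have hqz : (q : ℂ) * z = (m' : ℂ) := by rw [hrat, hm']; norm_cast
  suffices h : ∀ (i : ℕ) (n : ℤ), ((p ^ i : ℕ) : ℂ) * z = (n : ℂ) → ∃ n' : ℤ, z = n' from
    h _ m' hqz
  intro i
  induction i with
  | zero => exact fun n hn => ⟨n, by simpa using hn⟩
  | succ i ih =>
    intro n hn
    have hpn : (p : ℤ) ∣ n := by
      have h1 : MemLocalIdeal M ((n : ℤ) : ℂ) := by
        rw [← hn, pow_succ', Nat.cast_mul, mul_assoc, mul_comm]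
        exact memLocalIdeal_mul_left (memLocalRing_mul (memLocalRing_natCast _) hloc)
          ((memLocalIdeal_natCast_iff hM p).2 dvd_rfl)
      rw [Int.natCast_dvd, ← memLocalIdeal_natCast_iff hM]
      rcases Int.natAbs_eq n with h2 | h2
      · rw [h2] at h1; simpa using h1
      · rw [h2] at h1
        have h3 := (lideal M).neg_mem (show (⟨_, memLocalRing_intCast _⟩ : lring M) ∈ lideal M from h1)
        have h4 : MemLocalIdeal M (-(((-(n.natAbs : ℤ)) : ℤ) : ℂ)) := h3
        simpa using h4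
    obtain ⟨n', rfl⟩ := hpn
    refine ih n' (mul_left_cancel₀ (Nat.cast_ne_zero.2 hM.1.ne_zero : (p : ℂ) ≠ 0) ?_)
    rw [← mul_assoc, ← Nat.cast_mul, ← pow_succ', hn]
    push_cast
    rfl

end CfsgLib.BlockB.Star
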