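import Cfsg.Agent.Lib.KnownB.SL2Deg
import Cfsg.Agent.Lib.KnownB.SL2DegCount
import Cfsg.Agent.Lib.BlockB.PEltValue
import Cfsg.Agent.Lib.BlockB.ClassMul
import Cfsg.Prelude.Def_DegreeGraph

/-!
The irreducible character degrees of `SL₂(F)` and of `PSL₂(F)`.
-/

set_option autoImplicit false
set_option linter.unusedSectionVars false

namespace CfsgLib.BlockB.PSL2Degrees

open Matrix CfsgLib.KnownB.SL2 CfsgLib.KnownB.GL2
open scoped MatrixGroups

variable {F : Type*} [Field F] [Fintype F] [DecidableEq F]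

local notation "S2" => Matrix.SpecialLinearGroup (Fin 2) F
local notation "PS2" => Matrix.ProjectiveSpecialLinearGroup (Fin 2) F
local notation "qq" => Fintype.card F

theorem charDegree_comp {A B : Type*} [Group A] [Group B] (f : A →* B) (ψ : B → ℂ) :
    Cfsg.charDegree (ψ ∘ f) = Cfsg.charDegree ψ := by
  simp [Cfsg.charDegree]

/-- Degrees pull back along surjective homomorphisms. -/
theorem charDegrees_subset_of_surjective {A B : Type*} [Group A] [Group B] (f : A →* B)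
    (hf : Function.Surjective f) : Cfsg.charDegrees B ⊆ Cfsg.charDegrees A := by
  rintro d ⟨ψ, rfl⟩
  exact ⟨⟨_, CfsgLib.Char.isIrrCharacter_comp_surjective ψ.2 f hf⟩, charDegree_comp f _⟩

theorem center_scalar {s : S2} (hs : s ∈ Subgroup.center S2) :
    ∃ r : F, r * r = 1 ∧ (s : Matrix (Fin 2) (Fin 2) F) = r • 1 := by
  obtain ⟨r, hr, h⟩ := Matrix.SpecialLinearGroup.mem_center_iff.mp hs
  rw [Fintype.card_fin, sq] at hr
  exact ⟨r, hr, by rw [← h, Matrix.scalar_apply, Matrix.smul_one_eq_diagonal]⟩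

/-- A character trivial on the centre gives a degree of `PSL₂`. -/
theorem mem_psl {χ : S2 → ℂ} (hχ : Cfsg.IsIrrCharacter S2 χ)
    (hz : ∀ s : S2, ∀ r : F, r * r = 1 → (s : Matrix (Fin 2) (Fin 2) F) = r • 1 → χ s = χ 1)
    {d : ℕ} (hd : χ 1 = (d : ℂ)) : d ∈ Cfsg.charDegrees PS2 := by
  have hN : ∀ n ∈ Subgroup.center S2, χ n = χ 1 := fun n hn => by
    obtain ⟨r, hr, hn'⟩ := center_scalar hn
    exact hz n r hr hn'
  obtain ⟨ψ, hψ, he⟩ := CfsgLib.Char.isIrr_quotient_lift _ hχ hN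
  refine ⟨⟨ψ, hψ⟩, ?_⟩
  have h := charDegree_comp (QuotientGroup.mk' (Subgroup.center S2)) ψ
  rw [← he, charDegree_of_eq hd] at h
  exact h.symm

theorem St0_scalar {s : S2} {r : F} (hr : r * r = 1)
    (hs : (s : Matrix (Fin 2) (Fin 2) F) = r • 1) : St0 s = St0 (1 : S2) := by
  rw [St0_apply, P_scalar 1 hs, MulChar.one_apply (IsUnit.of_mul_eq_one r hr), St0_one]
  ring

theorem q_mem : qq ∈ Cfsg.charDegrees PS2 :=
  mem_psl isIrr_St0 (fun _ _ hr hs => St0_scalar hr hs) St0_one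

theorem q_add_one_mem (h : ¬ qq - 1 ∣ 4) : qq + 1 ∈ Cfsg.charDegrees PS2 := by
  obtain ⟨e⟩ := MulChar.mulEquiv_units F ℂ
  obtain ⟨g, hg⟩ := IsCyclic.exists_generator (α := Fˣ)
  set β := e.symm g with hβ
  have hα : (β ^ 2) ^ 2 ≠ 1 := by
    intro h4
    rw [hβ, ← map_pow, ← map_pow, MulEquiv.map_eq_one_iff, ← pow_mul] at h4
    have h5 := orderOf_dvd_of_pow_eq_one h4
    rw [orderOf_eq_card_of_forall_mem_zpowers hg, Nat.card_units, Nat.card_eq_fintype_card] at h5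
    exact h h5
  refine mem_psl (isIrr_P_iff.mpr hα) (fun s r hr hs => ?_) (d := qq + 1) (by
    rw [P_one]; push_cast; ring)
  rw [P_scalar _ hs, P_one, MulChar.pow_apply' _ two_ne_zero, sq, ← map_mul, hr, map_one, mul_one]

theorem q_sub_one_mem (h : ¬ qq + 1 ∣ 4) : qq - 1 ∈ Cfsg.charDegrees PS2 := by
  obtain ⟨E, _, _, _, _⟩ := exists_quad F
  obtain ⟨e⟩ := MulChar.mulEquiv_units E ℂ
  obtain ⟨g, hg⟩ := IsCyclic.exists_generator (α := Eˣ)
  have hord : orderOf g = (qq + 1) * (qq - 1) := by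
    rw [orderOf_eq_card_of_forall_mem_zpowers hg, card_units_quad (F := F)]
  set ν := e.symm g with hν
  have hμ : ¬ TrivC F ((ν ^ 2) ^ 2) := by
    intro hT
    obtain ⟨c, hc⟩ := trivC_iff.mp hT
    have h1 := compN_pow_q (E := E) c
    have hq : 1 < qq := Fintype.one_lt_card
    rw [hc, hν, ← map_pow, ← map_pow, ← map_pow, e.symm.injective.eq_iff,
      show qq = (qq - 1) + 1 by omega, pow_succ, mul_eq_right, ← pow_mul, ← pow_mul] at h1
    have h2 := orderOf_dvd_of_pow_eq_one h1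
    rw [hord] at h2
    exact h (Nat.dvd_of_mul_dvd_mul_right (show 0 < qq - 1 by omega) (by rwa [← mul_assoc] at h2))
  refine mem_psl (isIrr_C hμ) (fun s r hr hs => ?_) (d := qq - 1) (by
    rw [C_one, Nat.cast_sub Fintype.card_pos, Nat.cast_one])
  rw [C_scalar _ hs, C_one, MulChar.pow_apply' _ two_ne_zero, sq, ← map_mul, ← map_mul, hr,
    map_one, map_one, mul_one]

/-- The degrees of the irreducible characters of `SL₂(F)`. -/
theorem sl_degree {d : ℕ} (hd : d ∈ Cfsg.charDegrees S2) :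
    d = 1 ∨ d = qq ∨ d = qq + 1 ∨ d = qq - 1 ∨
      (Odd qq ∧ (d = (qq + 1) / 2 ∨ d = (qq - 1) / 2)) := by
  obtain ⟨χ, rfl⟩ := hd
  obtain ⟨E, _, _, _, _⟩ := exists_quad F
  have hm : ((qq - 1 : ℕ) : ℂ) = (qq : ℂ) - 1 := by
    rw [Nat.cast_sub Fintype.card_pos, Nat.cast_one]
  have hp : ((qq + 1 : ℕ) : ℂ) = (qq : ℂ) + 1 := by push_cast; rfl
  by_cases hodd : Odd qq
  · obtain ⟨D⟩ := exists_oddData E hodd
    obtain ⟨d1, d2, d3, d4⟩ := D.degrees hodd
    rcases D.cases hodd χ.2 with h | h | ⟨α, -, h⟩ | ⟨μ, -, h⟩ | h | h | h | h <;> rw [h]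
    · exact Or.inl (charDegree_of_eq (d := 1) (by simp))
    · exact Or.inr (Or.inl (charDegree_of_eq St0_one))
    · exact Or.inr (Or.inr (Or.inl (charDegree_of_eq (by rw [P_one, hp]))))
    · exact Or.inr (Or.inr (Or.inr (Or.inl (charDegree_of_eq (by rw [C_one, hm])))))
    · exact Or.inr (Or.inr (Or.inr (Or.inr ⟨hodd, Or.inl (charDegree_of_eq d1)⟩)))
    · exact Or.inr (Or.inr (Or.inr (Or.inr ⟨hodd, Or.inl (charDegree_of_eq d2)⟩)))
    · exact Or.inr (Or.inr (Or.inr (Or.inr ⟨hodd, Or.inr (charDegree_of_eq d3)⟩)))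
    · exact Or.inr (Or.inr (Or.inr (Or.inr ⟨hodd, Or.inr (charDegree_of_eq d4)⟩)))
  · rcases irr_cases_even E hodd χ.2 with h | h | ⟨α, -, h⟩ | ⟨μ, -, h⟩ <;> rw [h]
    · exact Or.inl (charDegree_of_eq (d := 1) (by simp))
    · exact Or.inr (Or.inl (charDegree_of_eq St0_one))
    · exact Or.inr (Or.inr (Or.inl (charDegree_of_eq (by rw [P_one, hp]))))
    · exact Or.inr (Or.inr (Or.inr (Or.inl (charDegree_of_eq (by rw [C_one, hm])))))

theorem mk_surjective :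
    Function.Surjective (QuotientGroup.mk' (Subgroup.center S2) : S2 →* PS2) :=
  QuotientGroup.mk'_surjective _

/-- The degree sets of `SL₂` and of `PSL₂` transported to an isomorphic copy. -/
theorem degree_sandwich {S : Type*} [Group S]
    (hS : Nonempty (S ≃* PS2) ∨ Nonempty (S ≃* S2)) :
    Cfsg.charDegrees PS2 ⊆ Cfsg.charDegrees S ∧ Cfsg.charDegrees S ⊆ Cfsg.charDegrees S2 := by
  have hPS := charDegrees_subset_of_surjective _ (mk_surjective (F := F))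
  rcases hS with ⟨⟨e⟩⟩ | ⟨⟨e⟩⟩
  · exact ⟨charDegrees_subset_of_surjective e.toMonoidHom e.surjective,
      (charDegrees_subset_of_surjective e.symm.toMonoidHom e.symm.surjective).trans hPS⟩
  · exact ⟨hPS.trans (charDegrees_subset_of_surjective e.toMonoidHom e.surjective),
      charDegrees_subset_of_surjective e.symm.toMonoidHom e.symm.surjective⟩

/-- The degree graph of `SL₂` and `PSL₂`: its primes, and when two are adjacent. -/
theorem degree_graph {S : Type*} [Group S] (hS : Nonempty (S ≃* PS2) ∨ Nonempty (S ≃* S2))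
    (t : ℕ) (ht : t.Prime) (htq : ∃ n : ℕ, qq = t ^ n) (hp : ¬ qq - 1 ∣ 4) (hm : ¬ qq + 1 ∣ 4) :
    Cfsg.degreePrimes S = {r : ℕ | r.Prime ∧ r ∣ qq * (qq ^ 2 - 1)} ∧
    ∀ r s : ℕ, (Cfsg.degreeGraph S).Adj r s ↔
      (r ≠ s ∧ r.Prime ∧ s.Prime ∧ ((r ∣ qq + 1 ∧ s ∣ qq + 1) ∨ (r ∣ qq - 1 ∧ s ∣ qq - 1))) := by
  obtain ⟨hlo, hhi⟩ := degree_sandwich hS
  have hsq : qq ^ 2 - 1 = (qq + 1) * (qq - 1) := by
    have := Nat.sq_sub_sq qq 1
    simpa using this
  have hall : ∀ d ∈ Cfsg.charDegrees S, d = 1 ∨ d = qq ∨ d ∣ qq + 1 ∨ d ∣ qq - 1 := by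
    intro d hd
    rcases sl_degree (hhi hd) with h | h | h | h | ⟨hodd, h | h⟩
    · exact Or.inl h
    · exact Or.inr (Or.inl h)
    · exact Or.inr (Or.inr (Or.inl (h ▸ dvd_rfl)))
    · exact Or.inr (Or.inr (Or.inr (h ▸ dvd_rfl)))
    · exact Or.inr (Or.inr (Or.inl (h ▸ Nat.div_dvd_of_dvd (by
        obtain ⟨k, hk⟩ := hodd; omega))))
    · exact Or.inr (Or.inr (Or.inr (h ▸ Nat.div_dvd_of_dvd (by
        obtain ⟨k, hk⟩ := hodd; omega))))
  refine ⟨Set.ext fun r => ⟨?_, ?_⟩, fun r s => ⟨?_, ?_⟩⟩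
  · rintro ⟨hr, d, hd, hrd⟩
    refine ⟨hr, ?_⟩
    rw [hsq]
    rcases hall d hd with h | h | h | h
    · exact absurd (Nat.dvd_one.1 (h ▸ hrd)) hr.ne_one
    · exact dvd_mul_of_dvd_left (h ▸ hrd) _
    · exact dvd_mul_of_dvd_right (dvd_mul_of_dvd_left (hrd.trans h) _) _
    · exact dvd_mul_of_dvd_right (dvd_mul_of_dvd_right (hrd.trans h) _) _
  · rintro ⟨hr, hd⟩
    rw [hsq] at hd
    rcases hr.dvd_mul.1 hd with h | h
    · exact ⟨hr, _, hlo q_mem, h⟩
    · rcases hr.dvd_mul.1 h with h | h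
      · exact ⟨hr, _, hlo (q_add_one_mem hp), h⟩
      · exact ⟨hr, _, hlo (q_sub_one_mem hm), h⟩
  · rintro ⟨hne, hr, hs, d, hd, hrs⟩
    refine ⟨hne, hr, hs, ?_⟩
    rcases hall d hd with h | h | h | h
    · exact absurd (Nat.dvd_one.1 ((dvd_mul_right r s).trans (h ▸ hrs))) hr.ne_one
    · obtain ⟨n, hn⟩ := htq
      rw [h, hn] at hrs
      refine absurd ?_ hne
      rw [(Nat.prime_dvd_prime_iff_eq hr ht).1 (hr.dvd_of_dvd_pow ((dvd_mul_right r s).trans hrs)),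
        (Nat.prime_dvd_prime_iff_eq hs ht).1 (hs.dvd_of_dvd_pow ((dvd_mul_left s r).trans hrs))]
    · exact Or.inl ⟨(dvd_mul_right r s).trans (hrs.trans h), (dvd_mul_left s r).trans (hrs.trans h)⟩
    · exact Or.inr ⟨(dvd_mul_right r s).trans (hrs.trans h), (dvd_mul_left s r).trans (hrs.trans h)⟩
  · rintro ⟨hne, hr, hs, ⟨h1, h2⟩ | ⟨h1, h2⟩⟩
    · exact ⟨hne, hr, hs, _, hlo (q_add_one_mem hp),
        ((Nat.coprime_primes hr hs).2 hne).mul_dvd_of_dvd_of_dvd h1 h2⟩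
    · exact ⟨hne, hr, hs, _, hlo (q_sub_one_mem hm),
        ((Nat.coprime_primes hr hs).2 hne).mul_dvd_of_dvd_of_dvd h1 h2⟩

/-- The unique character of `PSL₂` of degree divisible by the characteristic. -/
theorem unique_p_singular (p : ℕ) [Fact p.Prime] [CharP F p] :
    Nat.card {χ : Cfsg.IrrCharacter PS2 // p ∣ Cfsg.charDegree (χ : PS2 → ℂ)} = 1 ∧
    ∀ χ : Cfsg.IrrCharacter PS2, p ∣ Cfsg.charDegree (χ : PS2 → ℂ) →
      Cfsg.charDegree (χ : PS2 → ℂ) = qq := by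
  have hp := (Fact.out : p.Prime)
  obtain ⟨n, -, hn⟩ := FiniteField.card F p
  have hpq : p ∣ qq := hn ▸ dvd_pow_self p n.pos.ne'
  have hdeg : ∀ χ : Cfsg.IrrCharacter PS2, p ∣ Cfsg.charDegree (χ : PS2 → ℂ) →
      Cfsg.charDegree (χ : PS2 → ℂ) = qq := by
    intro χ hχ
    have hmem := charDegrees_subset_of_surjective _ (mk_surjective (F := F)) ⟨χ, rfl⟩
    have hq1 : 1 ≤ qq := Fintype.card_pos
    have hno : ∀ m, m ∣ qq + 1 ∨ m ∣ qq - 1 → ¬ p ∣ m := by
      rintro m (h | h) hm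
      · exact hp.not_dvd_one ((Nat.dvd_add_right hpq).1 (hm.trans h))
      · have := Nat.dvd_sub hpq (hm.trans h)
        rw [show qq - (qq - 1) = 1 by omega] at this
        exact hp.not_dvd_one this
    rcases sl_degree hmem with h | h | h | h | ⟨hodd, h | h⟩
    · exact absurd (h ▸ hχ) hp.not_dvd_one
    · exact h
    · exact absurd (h ▸ hχ) (hno _ (Or.inl dvd_rfl))
    · exact absurd (h ▸ hχ) (hno _ (Or.inr dvd_rfl))
    · exact absurd (h ▸ hχ) (hno _ (Or.inl (Nat.div_dvd_of_dvd (by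
        obtain ⟨k, hk⟩ := hodd; omega))))
    · exact absurd (h ▸ hχ) (hno _ (Or.inr (Nat.div_dvd_of_dvd (by
        obtain ⟨k, hk⟩ := hodd; omega))))
  refine ⟨?_, hdeg⟩
  rw [Nat.card_eq_one_iff_unique]
  constructor
  · refine ⟨fun a b => Subtype.ext (Subtype.ext (funext fun x => ?_))⟩
    have hSt : ∀ c : {χ : Cfsg.IrrCharacter PS2 // p ∣ Cfsg.charDegree (χ : PS2 → ℂ)},
        (c.1 : PS2 → ℂ) ∘ (QuotientGroup.mk' (Subgroup.center S2) : S2 →* PS2) = St0 := by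
      intro c
      refine irr_deg_q (CfsgLib.Char.isIrrCharacter_comp_surjective c.1.2 _
        (mk_surjective (F := F))) ?_
      rw [Function.comp_apply, map_one, ← CfsgLib.BlockB.irr_degree_cast, hdeg c.1 c.2]
    obtain ⟨s, rfl⟩ := mk_surjective (F := F) x
    exact (congr_fun (hSt a) s).trans (congr_fun (hSt b) s).symm
  · obtain ⟨χ, hχ⟩ := q_mem (F := F)
    exact ⟨⟨χ, hχ ▸ hpq⟩⟩

end CfsgLib.BlockB.PSL2Degrees
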