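import Cfsg.Agent.Lib.BlockB.FrobPrincipal
import Cfsg.Agent.Lib.BlockB.ClassMul
import Mathlib.GroupTheory.Transfer

/-!
Exceptional characters of the principal block when the inertial index is three: normalisation,
and the equations coming from an involution.
-/

set_option autoImplicit false
set_option linter.unusedSectionVars false
set_option maxHeartbeats 1000000

namespace CfsgLib.BlockB.FrobP

open Cfsg CfsgLib.Block CfsgLib.Char
open scoped ComplexConjugate

universe u

/-- The quadratic identity behind the sign and square conditions. -/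
theorem three_identity {fa fb fc xa xb xc : ℤ} (hf : fa + fb + fc = -1) (hx : xa + xb + xc = -1)
    (he : fa * fb * fc + xa ^ 2 * fb * fc + xb ^ 2 * fa * fc + xc ^ 2 * fa * fb = 0) :
    fb * (fa - xa) ^ 2 + fa * (fb - xb) ^ 2 + (fa * (fb - xb) - fb * (fa - xa)) ^ 2 = 0 := by
  have e1 : fc = -1 - fa - fb := by linarith
  have e2 : xc = -1 - xa - xb := by linarith
  subst e1 e2
  linear_combination -he

theorem three_not_one_neg {fa fb fc xa xb xc : ℤ} (hf : fa + fb + fc = -1) (hx : xa + xb + xc = -1)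
    (he : fa * fb * fc + xa ^ 2 * fb * fc + xb ^ 2 * fa * fc + xc ^ 2 * fa * fb = 0)
    (hne : fa ≠ xa ∨ fb ≠ xb) : ¬ (0 < fa ∧ 0 < fb) := by
  rintro ⟨ha, hb⟩
  have h := three_identity hf hx he
  rcases hne with h0 | h0
  · have := mul_pos hb (mul_self_pos.2 (sub_ne_zero.2 h0))
    nlinarith [mul_nonneg ha.le (mul_self_nonneg (fb - xb)), sq_nonneg (fa * (fb - xb) - fb * (fa - xa))]
  · have := mul_pos ha (mul_self_pos.2 (sub_ne_zero.2 h0))
    nlinarith [mul_nonneg hb.le (mul_self_nonneg (fa - xa)), sq_nonneg (fa * (fb - xb) - fb * (fa - xa))]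

/-- The signs and the square. -/
theorem three_signs {fa fb fc xa xb xc : ℤ} (hf : fa + fb + fc = -1) (hx : xa + xb + xc = -1)
    (he : fa * fb * fc + xa ^ 2 * fb * fc + xb ^ 2 * fa * fc + xc ^ 2 * fa * fb = 0)
    (ha0 : fa ≠ 0) (hb0 : fb ≠ 0) (hc0 : fc ≠ 0) (hb : fb ≠ xb) (hc : fc ≠ xc) :
    ((fa < 0 ∧ fb < 0 ∧ 0 < fc) ∨ (fa < 0 ∧ 0 < fb ∧ fc < 0) ∨ (0 < fa ∧ fb < 0 ∧ fc < 0)) ∧
      IsSquare (fa * fb * fc) := by
  have h1 := three_not_one_neg hf hx he (Or.inr hb)
  have h2 : ¬ (0 < fb ∧ 0 < fc) := three_not_one_neg (fa := fb) (fb := fc) (fc := fa) (xa := xb)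
    (xb := xc) (xc := xa) (by linarith) (by linarith) (by linear_combination he) (Or.inl hb)
  have h3 : ¬ (0 < fa ∧ 0 < fc) := three_not_one_neg (fa := fa) (fb := fc) (fc := fb) (xa := xa)
    (xb := xc) (xc := xb) (by linarith) (by linarith) (by linear_combination he) (Or.inr hc)
  refine ⟨by omega, ?_⟩
  have h := three_identity hf hx he
  have e1 : fc = -1 - fa - fb := by linarith
  have hw : fb - xb ≠ 0 := sub_ne_zero.2 hb
  set u := fa - xa
  set w := fb - xb
  have hK : (fb * (1 + fb) * u - fa * fb * w) ^ 2 = fa * fb * fc * w ^ 2 := by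
    rw [e1]
    linear_combination (fb * (1 + fb)) * h
  obtain ⟨k, hk⟩ : w ∣ fb * (1 + fb) * u - fa * fb * w :=
    (Int.pow_dvd_pow_iff two_ne_zero).1 (hK ▸ dvd_mul_left _ _)
  refine ⟨k, ?_⟩
  rw [hk] at hK
  refine mul_right_cancel₀ (pow_ne_zero 2 hw) ?_
  linear_combination -hK

variable {G : Type u} [Group G] [Finite G] {p : ℕ} [Fact p.Prime] {P : Sylow p G}
  {B : Set (IrrCharacter G)} {r : ℕ} {ε : ℤ} {a : IrrCharacter G → ℤ}
  {ζ : Lam P → IrrCharacter G} {X Y : Set (IrrCharacter G)}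

/-- The orbit of a linear character as it appears in the exceptional values. -/
def orbSet (P : Sylow p G) (ψ : Lam P) : Set (Lam P) := {ψ' | ∃ n : nP P, ψ' = cl P n ψ}

variable (hab : IsMulCommutative P)
  (hfrob : ∀ y : G, y ∈ (P : Subgroup G) → y ≠ 1 →
    Subgroup.centralizer ({y} : Set G) ⊓ nP P = Subgroup.centralizer ((P : Subgroup G) : Set G))
  {m : ℕ} (hCN : (Subgroup.centralizer ((P : Subgroup G) : Set G)).relIndex (nP P) = m)

include hab hfrob in
theorem orbit_sum_eq [Fintype (nP P)] {ψ : Lam P} (hψ : ψ ≠ 1) (y : (P : Subgroup G)) :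
    (Nat.card (cP P) : ℂ) * ∑ᶠ ψ' ∈ orbSet P ψ, ((ψ' y : ℂˣ) : ℂ) =
      ∑ n : nP P, ((ψ (cj P n y) : ℂˣ) : ℂ) := by
  classical
  have := finite_lam P
  have := Fintype.ofFinite (Lam P)
  rw [← Finset.sum_fiberwise Finset.univ (fun n => cl P n ψ)
    (fun n => ((ψ (cj P n y) : ℂˣ) : ℂ)),
    finsum_mem_eq_finite_toFinset_sum _ (Set.toFinite (orbSet P ψ)), Finset.mul_sum,
    ← Finset.sum_subset (Finset.subset_univ (Set.toFinite (orbSet P ψ)).toFinset)]
  · refine Finset.sum_congr rfl fun φ hφ => ?_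
    obtain ⟨n₀, rfl⟩ := (Set.Finite.mem_toFinset _).1 hφ
    rw [Finset.sum_congr rfl (g := fun _ => ((cl P n₀ ψ y : ℂˣ) : ℂ)) (fun n hn => by
      rw [← (Finset.mem_filter.1 hn).2, cl_apply]), Finset.sum_const, nsmul_eq_mul,
      fibre_cl hab hfrob hψ]
  · intro φ _ hφ
    refine Finset.sum_eq_zero fun n hn => absurd ?_ hφ
    exact (Set.Finite.mem_toFinset _).2 ⟨n, (Finset.mem_filter.1 hn).2.symm⟩

variable {d : ℤ} (D : Data P B m r ε d a ζ X Y)
include D

theorem trivIrr_mem : (trivIrr : IrrCharacter G) ∈ X := D.one_mem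

include hab hfrob in
/-- A sum over the exceptional characters is an average over the nontrivial linear characters. -/
theorem sum_Y [Fintype (Lam P)] [DecidableEq (Lam P)] (hCN : (Subgroup.centralizer
    ((P : Subgroup G) : Set G)).relIndex (nP P) = m) (F : IrrCharacter G → ℂ) :
    ∑ ψ ∈ (Finset.univ : Finset (Lam P)).erase 1, F (ζ ψ) = (m : ℂ) * ∑ᶠ η ∈ Y, F η := by
  classical
  have := Fintype.ofFinite (nP P)
  rw [finsum_mem_eq_finite_toFinset_sum _ (Set.toFinite Y), Finset.mul_sum,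
    ← Finset.sum_fiberwise_of_maps_to (g := ζ) (t := (Set.toFinite Y).toFinset)
      (fun ψ hψ => (Set.Finite.mem_toFinset _).2
        ((D.mem_Y _).2 ⟨ψ, (Finset.mem_erase.1 hψ).1, rfl⟩))]
  refine Finset.sum_congr rfl fun η hη => ?_
  obtain ⟨ψ, hψ, rfl⟩ := (D.mem_Y η).1 ((Set.Finite.mem_toFinset _).1 hη)
  rw [Finset.sum_congr rfl (g := fun _ => F (ζ ψ))
    (fun φ hφ => by rw [(Finset.mem_filter.1 hφ).2]), Finset.sum_const, nsmul_eq_mul]
  congr 2
  rw [← orbit_card hab hfrob hCN hψ]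
  congr 1
  ext φ
  simp only [Finset.mem_filter, Finset.mem_erase, Finset.mem_univ, and_true, Finset.mem_image,
    true_and]
  constructor
  · rintro ⟨hφ, h⟩
    obtain ⟨n, hn⟩ := (D.zeta_eq ψ φ hψ hφ).1 h.symm
    exact ⟨n, hn.symm⟩
  · rintro ⟨n, rfl⟩
    have hφ : cl P n ψ ≠ 1 := fun h => hψ ((cl_eq_one_iff n ψ).1 h)
    exact ⟨hφ, ((D.zeta_eq ψ _ hψ hφ).2 ⟨n, rfl⟩).symm⟩

omit D

section Three

variable {M : Ideal AlgInt} (hM : IsPModular p M)

include hab hfrob in
/-- Normalisation: the constant may be taken to be zero. -/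
theorem exists_data_zero (hCN : (Subgroup.centralizer ((P : Subgroup G) : Set G)).relIndex (nP P) = 3)
    {d : ℤ} (D : Data P B 3 r ε d a ζ X Y) :
    ∃ (ε' : ℤ) (ζ' : Lam P → IrrCharacter G), Data P B 3 r ε' 0 a ζ' X Y := by
  classical
  have := Fintype.ofFinite G
  have hX : (1 : ℤ) ≤ ∑ᶠ χ ∈ X, a χ ^ 2 := by
    rw [finsum_mem_eq_finite_toFinset_sum _ (Set.toFinite X)]
    have h := Finset.single_le_sum (f := fun χ => a χ ^ 2) (fun χ _ => sq_nonneg _)
      ((Set.toFinite X).mem_toFinset.2 D.one_mem)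
    simpa [D.one_a] using h
  have hn := D.norm
  have hr := D.two_le
  by_cases hd : d = 0
  · subst hd
    exact ⟨ε, ζ, D⟩
  have hd2 : 1 ≤ d ^ 2 := by
    have := mul_self_pos.2 hd
    nlinarith
  have hde : d = ε := by
    have h1 : (d - ε) ^ 2 ≤ 2 := by
      have : (1 : ℤ) ≤ ((r : ℤ) - 1) * d ^ 2 := by nlinarith
      push_cast at hn
      linarith
    have h2 : -1 ≤ d - ε ∧ d - ε ≤ 1 := by
      constructor <;> nlinarith
    have h3 : d ^ 2 ≤ 3 := by
      push_cast at hn
      nlinarith [sq_nonneg (d - ε)]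
    have h4 : -1 ≤ d ∧ d ≤ 1 := by constructor <;> nlinarith
    rcases D.sign with h | h <;> omega
  subst hde
  push_cast at hn
  rcases D.sign with hε | hε
  all_goals (
    have hsum : ∑ᶠ χ ∈ X, a χ ^ 2 = 5 - (r : ℤ) := by subst hε; linarith
    have hr4 : r = 2 ∨ r = 3 ∨ r = 4 := by omega
    rcases hr4 with hr' | hr' | hr'
    · subst hr'
      obtain ⟨η₁, η₂, h12, hY⟩ : ∃ η₁ η₂, η₁ ≠ η₂ ∧ Y = {η₁, η₂} :=
        Set.ncard_eq_two.1 (by rw [← Nat.card_coe_set_eq]; exact D.card_Y)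
      have := finite_lam P
      have := Fintype.ofFinite (Lam P)
      have := Fintype.ofFinite (P : Subgroup G)
      let ζ' : Lam P → IrrCharacter G := fun ψ => if ζ ψ = η₁ then η₂ else η₁
      have hmem : ∀ ψ : Lam P, ψ ≠ 1 → ζ ψ = η₁ ∨ ζ ψ = η₂ := fun ψ hψ => by
        have := (D.mem_Y _).2 ⟨ψ, hψ, rfl⟩
        rw [hY] at this
        simpa using this
      have hswap : ∀ ψ : Lam P, ψ ≠ 1 → ∃ ψ' : Lam P, ψ' ≠ 1 ∧ ζ ψ' = ζ' ψ ∧ ζ ψ' ≠ ζ ψ := by
        intro ψ hψ
        obtain ⟨ψ', hψ', h⟩ := (D.mem_Y (ζ' ψ)).1 (by rw [hY]; simp only [ζ']; split_ifs <;> simp)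
        refine ⟨ψ', hψ', h, ?_⟩
        rw [h]
        simp only [ζ']
        rcases hmem ψ hψ with e | e <;> rw [e]
        · rw [if_pos rfl]; exact h12.symm
        · rw [if_neg h12.symm]; exact h12
      refine ⟨-d, ζ', ⟨by omega, D.two_le, D.card_eq, D.union, D.disj, D.one_mem, D.one_a,
        D.card_Y, ?_, ?_, D.a_ne, D.val_X, ?_, ?_, D.regular, ?_⟩⟩
      · intro η
        rw [hY]
        constructor
        · intro h
          obtain ⟨ψ₁, h₁, e₁⟩ := (D.mem_Y η₁).1 (by rw [hY]; simp)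
          obtain ⟨ψ₂, h₂, e₂⟩ := (D.mem_Y η₂).1 (by rw [hY]; simp)
          rcases h with rfl | rfl
          · exact ⟨ψ₂, h₂, by simp [ζ', e₂, h12.symm]⟩
          · exact ⟨ψ₁, h₁, by simp [ζ', e₁]⟩
        · rintro ⟨ψ, -, rfl⟩
          simp only [ζ']
          split_ifs <;> simp
      · intro ψ ψ' h h'
        rw [← D.zeta_eq ψ ψ' h h']
        simp only [ζ']
        rcases hmem ψ h with e | e <;> rcases hmem ψ' h' with e' | e' <;>
          simp [e, e', h12, h12.symm]
      · intro ψ hψ z y hz hy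
        obtain ⟨ψ', hψ', he, hne⟩ := hswap ψ hψ
        rw [← he, D.val_Y ψ' hψ' z y hz hy]
        have h0 : ∑ φ ∈ (Finset.univ : Finset (Lam P)).erase 1, ((φ y : ℂˣ) : ℂ) = -1 := by
          have h := sum_lam hab y
          rw [if_neg hy, ← Finset.add_sum_erase _ _ (Finset.mem_univ (1 : Lam P))] at h
          simp only [MonoidHom.one_apply, Units.val_one] at h
          linear_combination h
        have hsplit : ((Finset.univ : Finset (Lam P)).erase 1 : Set (Lam P)) =
            orbSet P ψ' ∪ orbSet P ψ := by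
          ext φ
          simp only [Finset.coe_erase, Finset.coe_univ, Set.mem_diff, Set.mem_univ, true_and,
            Set.mem_singleton_iff, Set.mem_union, orbSet, Set.mem_setOf_eq]
          constructor
          · intro hφ
            rcases eq_or_ne (ζ φ) (ζ ψ') with e | e
            · exact Or.inl ((D.zeta_eq ψ' φ hψ' hφ).1 e.symm)
            · refine Or.inr ((D.zeta_eq ψ φ hψ hφ).1 ?_)
              rcases hmem φ hφ with e1 | e1 <;> rcases hmem ψ hψ with e2 | e2 <;>
                rcases hmem ψ' hψ' with e3 | e3 <;> simp_all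
          · rintro (⟨n, rfl⟩ | ⟨n, rfl⟩)
            · exact fun h => hψ' ((cl_eq_one_iff n ψ').1 h)
            · exact fun h => hψ ((cl_eq_one_iff n ψ).1 h)
        have hdisj : Disjoint (orbSet P ψ') (orbSet P ψ) := by
          rw [Set.disjoint_left]
          rintro φ ⟨n, rfl⟩ ⟨k, hk⟩
          refine hne ((D.zeta_eq ψ' ψ hψ' hψ).2 ⟨n * k⁻¹, ?_⟩ : _)
          have := congrArg (cl P k⁻¹) hk
          rw [cl_cl, cl_cl, mul_inv_cancel, cl_one] at this
          rw [← this]
        rw [← finsum_mem_coe_finset, hsplit,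
          finsum_mem_union hdisj (Set.toFinite _) (Set.toFinite _)] at h0
        simp only [orbSet] at h0 ⊢
        push_cast
        linear_combination (d : ℂ) * h0
      · rw [hε] at hn ⊢
        push_cast at hn ⊢
        linarith
      · intro η hη g hg
        have := D.relation η hη g hg
        push_cast at this ⊢
        linear_combination this
    · exfalso
      subst hr'
      obtain ⟨k, hk⟩ := IsPGroup.iff_card.1 P.2
      have h10 : p ^ k = 10 := by rw [← hk, ← D.card_eq]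
      have h2 : p ∣ 10 := by
        rcases Nat.eq_zero_or_pos k with rfl | hk0
        · simp at h10
        · exact h10 ▸ dvd_pow_self p hk0.ne'
      have hp := (Fact.out : p.Prime)
      have h2' : 2 = p := (Nat.prime_dvd_prime_iff_eq Nat.prime_two hp).1
        (Nat.prime_two.dvd_of_dvd_pow (h10 ▸ (by norm_num : 2 ∣ 10)))
      have h5 : 5 = p := (Nat.prime_dvd_prime_iff_eq (by norm_num) hp).1
        ((show Nat.Prime 5 by norm_num).dvd_of_dvd_pow (h10 ▸ (by norm_num : 5 ∣ 10)))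
      omega
    · exfalso
      subst hr'
      obtain ⟨ψ, hψ⟩ : ∃ η, η ∈ Y := by
        by_contra h
        push Not at h
        have : Nat.card Y = 0 := by
          rw [Set.eq_empty_iff_forall_notMem.2 h]; simp
        rw [D.card_Y] at this
        omega
      have hXeq : X = {trivIrr} := by
        refine Set.eq_singleton_iff_unique_mem.2 ⟨D.one_mem, fun χ hχ => ?_⟩
        by_contra hne
        rw [finsum_mem_eq_finite_toFinset_sum _ (Set.toFinite X)] at hsum
        have h2 : a χ ^ 2 + a trivIrr ^ 2 ≤ 1 := by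
          have := Finset.sum_le_sum_of_subset_of_nonneg
            (s := {χ, trivIrr}) (t := (Set.toFinite X).toFinset) (f := fun χ => a χ ^ 2)
            (by
              intro x hx
              rw [Finset.mem_insert, Finset.mem_singleton] at hx
              rcases hx with rfl | rfl
              · exact (Set.toFinite X).mem_toFinset.2 hχ
              · exact (Set.toFinite X).mem_toFinset.2 D.one_mem)
            (fun _ _ _ => sq_nonneg _)
          rw [Finset.sum_pair hne, hsum] at this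
          exact this
        rw [D.one_a] at h2
        have := mul_self_pos.2 (D.a_ne χ hχ)
        nlinarith
      have h := D.relation ψ hψ 1 (by simpa using (Fact.out : p.Prime).one_lt.ne')
      rw [hXeq, finsum_mem_singleton, D.one_a] at h
      obtain ⟨f, hf⟩ := char_apply_one_eq_nat (irr_isCharacter ψ.2)
      rw [hf] at h
      simp only [trivIrr, mul_one] at h
      subst hε
      norm_num at h
      have h' : ((3 * (f : ℤ) : ℤ) : ℂ) = 1 ∨ ((3 * (f : ℤ) : ℤ) : ℂ) = -1 := by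
        push_cast
        first
          | exact Or.inl (by linear_combination h)
          | exact Or.inr (by linear_combination h)
          | exact Or.inl (by linear_combination -h)
          | exact Or.inr (by linear_combination -h)
      rcases h' with h' | h' <;> norm_cast at h' <;> omega)

/-- Values at an involution are integers. -/
theorem exists_int_apply_of_orderOf_two (χ : IrrCharacter G) {t : G} (ht : orderOf t = 2) :
    ∃ k : ℤ, (χ : G → ℂ) t = k := by
  classical
  have := Fintype.ofFinite (Subgroup.zpowers t)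
  obtain ⟨k, hk⟩ := classInner_isCharacter_nat
    (isCharacter_restrict (irr_isCharacter χ.2) (Subgroup.zpowers t))
    (irr_isCharacter (G := Subgroup.zpowers t) isIrrCharacter_one)
  obtain ⟨f, hf⟩ := char_apply_one_eq_nat (irr_isCharacter χ.2)
  refine ⟨2 * (k : ℤ) - f, ?_⟩
  rw [classInner_def, Nat.card_zpowers, ht] at hk
  have ht1 : t ≠ 1 := fun h => by rw [h, orderOf_one] at ht; omega
  have huniv : (Finset.univ : Finset (Subgroup.zpowers t)) = {1, ⟨t, Subgroup.mem_zpowers t⟩} := by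
    symm
    refine Finset.eq_univ_of_card _ ?_
    rw [Finset.card_pair (fun h => ht1 (congrArg Subtype.val h).symm), ← Nat.card_eq_fintype_card,
      Nat.card_zpowers, ht]
  rw [huniv, Finset.sum_pair (fun h => ht1 (congrArg Subtype.val h).symm)] at hk
  simp only [map_one, mul_one, OneMemClass.coe_one, hf] at hk
  push_cast at hk ⊢
  linear_combination 2 * hk

/-- A nontrivial character does not take its degree at a normally generating element. -/
theorem apply_ne_one_of_normal_generator {t : G}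
    (hgen : ∀ K : Subgroup G, K.Normal → t ∈ K → K = ⊤) {χ : IrrCharacter G}
    (hne : χ ≠ trivIrr) : (χ : G → ℂ) t ≠ (χ : G → ℂ) 1 := by
  intro h
  have := Fintype.ofFinite G
  apply hne
  obtain ⟨χ, n, ρ, hρ, rfl⟩ := χ
  have htop : MonoidHom.ker ρ = ⊤ := hgen _ inferInstance ((mem_ker_iff_char ρ t).2 h)
  have hconst : ∀ g, ρ.character g = ρ.character 1 := fun g =>
    (mem_ker_iff_char ρ g).1 (htop ▸ Subgroup.mem_top g)
  by_contra hne'
  have h0 := irr_classInner_ne (χ := ρ.character) ⟨n, ρ, hρ, rfl⟩ isIrrCharacter_one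
    (fun e => hne' (Subtype.ext e))
  rw [classInner_def] at h0
  simp only [hconst, map_one, mul_one, Finset.sum_const, Finset.card_univ, nsmul_eq_mul] at h0
  have h1 : ρ.character 1 ≠ 0 := irr_apply_one_ne_zero ⟨n, ρ, hρ, rfl⟩
  rcases mul_eq_zero.1 h0 with h0 | h0
  · exact natCard_ne_zero (G := G) (inv_eq_zero.1 h0)
  · rcases mul_eq_zero.1 h0 with h0 | h0
    · rw [← Nat.card_eq_fintype_card] at h0; exact natCard_ne_zero h0
    · exact h1 h0

theorem isPPart_inv {g x : G} (h : IsPPart p g x) : IsPPart p g⁻¹ x⁻¹ := by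
  obtain ⟨v, he, hc, ⟨k, hk⟩, hv⟩ := h
  exact ⟨v⁻¹, by rw [← mul_inv_rev, ← hc, he], hc.inv_inv, ⟨k, by rw [orderOf_inv, hk]⟩,
    by rwa [orderOf_inv]⟩

include hM in
/-- The class multiplication equation in the principal block. -/
theorem involution_equation (t : G) (y : G) (hy : ∃ k : ℕ, orderOf y = p ^ k)
    (hno : ∀ u : G, ∀ w : G, IsPPart p (t * (u * t * u⁻¹)) w → ¬ IsConj y w) :
    ∑ᶠ χ ∈ principalBlock M G,
      (χ : G → ℂ) t * (χ : G → ℂ) t * conj ((χ : G → ℂ) y) / (χ : G → ℂ) 1 = 0 := by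
  classical
  have := isPrime_of_pmodular hM
  have := Fintype.ofFinite G
  have := Fintype.ofFinite (IrrCharacter G)
  set S := (Set.toFinite (principalBlock M G)).toFinset with hS
  let θ : G → ℂ := fun g => ∑ χ ∈ S, conj ((χ : G → ℂ) y) * (χ : G → ℂ) g
  have hθ : IsClassFunction G θ := fun g h => Finset.sum_congr rfl fun χ _ => by
    rw [irr_isClassFunction χ.2 g h]
  have h := sum_classFun_mul_conj hθ t t
  rw [Finset.sum_eq_zero (fun u _ => ?_), eq_comm, mul_eq_zero, or_iff_right natCard_ne_zero] at h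
  · rw [finsum_mem_eq_finite_toFinset_sum _ (Set.toFinite _), ← hS, ← h,
      ← Finset.sum_subset (Finset.subset_univ S) (fun χ _ hχ => ?_)]
    · refine Finset.sum_congr rfl fun χ hχ => ?_
      have e : classInner θ (χ : G → ℂ) = conj ((χ : G → ℂ) y) := by
        rw [show θ = ∑ φ ∈ S, conj ((φ : G → ℂ) y) • (φ : G → ℂ) from
          funext fun g => by simp [θ, Finset.sum_apply], classInner_sum_left,
          Finset.sum_eq_single_of_mem χ hχ]
        · rw [classInner_smul_left, irr_classInner_self χ.2, mul_one]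
        · intro φ _ hne
          rw [classInner_smul_left, irr_classInner_ne φ.2 χ.2 (fun e => hne (Subtype.ext e)),
            mul_zero]
      rw [e]; ring
    · have e : classInner θ (χ : G → ℂ) = 0 := by
        rw [show θ = ∑ φ ∈ S, conj ((φ : G → ℂ) y) • (φ : G → ℂ) from
          funext fun g => by simp [θ, Finset.sum_apply], classInner_sum_left, Finset.sum_eq_zero]
        intro φ hφ
        rw [classInner_smul_left, irr_classInner_ne φ.2 χ.2
          (fun e => hχ (Subtype.ext e ▸ hφ)), mul_zero]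
      rw [e]; simp
  · obtain ⟨w, hw⟩ := exists_isPPart hM.1 (t * (u * t * u⁻¹))
    have := sum_block_eq_zero hM isPBlock_principalBlock hw (isPPart_self hy hM.1)
      fun hc => hno u w hw hc.symm
    rw [finsum_mem_eq_finite_toFinset_sum _ (Set.toFinite _), ← hS] at this
    exact (Finset.sum_congr rfl fun χ _ => mul_comm _ _).trans this

theorem cP_normal : (cP P).Normal := by
  refine ⟨fun c hc n => Subgroup.mem_subgroupOf.2 (Subgroup.mem_centralizer_iff.2 fun w hw => ?_)⟩
  have hc' := Subgroup.mem_centralizer_iff.1 (Subgroup.mem_subgroupOf.1 hc) _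
    ((Subgroup.mem_normalizer_iff''.1 n.2 w).1 hw)
  simp only [Subgroup.coe_mul, InvMemClass.coe_inv]
  calc w * ((n : G) * c * (n : G)⁻¹) = n * (((n : G)⁻¹ * w * n) * c) * (n : G)⁻¹ := by group
    _ = n * ((c : G) * ((n : G)⁻¹ * w * n)) * (n : G)⁻¹ := by rw [hc']
    _ = _ := by group

theorem cube_mem (hCN : (Subgroup.centralizer ((P : Subgroup G) : Set G)).relIndex (nP P) = 3)
    (n : nP P) : n ^ 3 ∈ cP P := by
  have := cP_normal (P := P)
  exact hCN ▸ Subgroup.pow_index_mem (cP P) n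

theorem cj_mul (n k : nP P) (y : (P : Subgroup G)) : cj P (n * k) y = cj P n (cj P k y) :=
  Subtype.ext (by simp [coe_cj, mul_assoc])

theorem cj_of_mem {n : nP P} (hn : n ∈ cP P) (y : (P : Subgroup G)) : cj P n y = y := by
  have h : (y : G) * (n : G) = (n : G) * (y : G) :=
    Subgroup.mem_centralizer_iff.1 (Subgroup.mem_subgroupOf.1 hn) y y.2
  exact Subtype.ext (by rw [coe_cj, ← h, mul_inv_cancel_right])

include hab hfrob in
theorem not_isConj_inv (hCN : (Subgroup.centralizer ((P : Subgroup G) : Set G)).relIndex (nP P) = 3)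
    {y : (P : Subgroup G)} (h2 : y * y ≠ 1) : ¬ IsConj (y : G) ((y⁻¹ : (P : Subgroup G)) : G) := by
  intro h
  obtain ⟨n, hn⟩ := exists_cj_of_isConj hab h
  apply h2
  have hn2 : cj P (n ^ 2) y = y := by rw [pow_two, cj_mul, hn, map_inv, hn, inv_inv]
  have hn1 : cj P n y = y := by
    calc cj P n y = cj P n (cj P (n ^ 2) y) := by rw [hn2]
      _ = cj P (n ^ 3) y := by rw [← cj_mul, ← pow_succ']
      _ = y := cj_of_mem (cube_mem hCN n) y
  rw [hn1] at hn
  conv_lhs => arg 2; rw [hn]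
  exact mul_inv_cancel y

include hab hfrob in
/-- Products of two conjugates in `P` of an involution. -/
theorem cj_mul_cj (hCN : (Subgroup.centralizer ((P : Subgroup G) : Set G)).relIndex (nP P) = 3)
    {x : (P : Subgroup G)} (hx : x * x = 1) (n k : nP P) :
    cj P n x * cj P k x = 1 ∨ ∃ j : nP P, cj P n x * cj P k x = cj P j x := by
  obtain ⟨v, hv⟩ : ∃ v, v = cj P n x := ⟨_, rfl⟩
  rw [← hv]
  have hv2 : v * v = 1 := by rw [hv, ← map_mul, hx, map_one]
  obtain ⟨l, hl'⟩ : ∃ l, l = k * n⁻¹ := ⟨_, rfl⟩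
  have hk : cj P k x = cj P l v := by rw [hl', hv, ← cj_mul, inv_mul_cancel_right]
  by_cases hl : l ∈ cP P
  · left
    rw [hk, cj_of_mem hl, hv2]
  · right
    refine ⟨l ^ 2 * n, ?_⟩
    rw [hk, cj_mul, ← hv]
    set f := v * cj P l v * cj P (l ^ 2) v with hf
    have hfix : cj P l f = f := by
      rw [hf, map_mul, map_mul, ← cj_mul, ← cj_mul, ← pow_two, ← pow_succ',
        cj_of_mem (cube_mem hCN l)]
      rw [comm hab (cj P l v * _) v, ← mul_assoc]
    have hf1 : f = 1 := by
      by_contra hf1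
      have h := (cj_eq_iff hfrob hf1 l 1).1 (by rw [hfix]; exact Subtype.ext (by simp [coe_cj]))
      rw [inv_one, one_mul] at h
      exact hl h
    have h2 : cj P (l ^ 2) v * cj P (l ^ 2) v = 1 := by rw [← map_mul, hv2, map_one]
    calc v * cj P l v = f * cj P (l ^ 2) v := by rw [hf, mul_assoc, h2, mul_one]
      _ = _ := by rw [hf1, one_mul]

include hM hab hfrob in
/-- No product of two conjugates of an involution has its `p`-part conjugate to a suitable `y`. -/
theorem no_product (hCN : (Subgroup.centralizer ((P : Subgroup G) : Set G)).relIndex (nP P) = 3)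
    {t : G} (ht : orderOf t = 2) {y : (P : Subgroup G)} (hy : y ≠ 1)
    (hgood : y * y ≠ 1 ∨ ∃ x : (P : Subgroup G), p = 2 ∧ IsConj t (x : G) ∧
      ∀ n : nP P, cj P n x ≠ y) :
    ∀ u w : G, IsPPart p (t * (u * t * u⁻¹)) w → ¬ IsConj (y : G) w := by
  classical
  have hp : p.Prime := Fact.out
  intro u w hw hc
  obtain ⟨g, hg⟩ := isConj_iff.1 hc
  have htt : t * t = 1 := by rw [← pow_two, ← ht, pow_orderOf_eq_one]
  obtain ⟨t₁, ht₁⟩ : ∃ s, s = g⁻¹ * t * g := ⟨_, rfl⟩
  obtain ⟨t₂, ht₂⟩ : ∃ s, s = g⁻¹ * (u * t * u⁻¹) * g := ⟨_, rfl⟩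
  have h11 : t₁ * t₁ = 1 := by
    rw [ht₁, show g⁻¹ * t * g * (g⁻¹ * t * g) = g⁻¹ * (t * t) * g by group, htt]; group
  have h22 : t₂ * t₂ = 1 := by
    rw [ht₂, show g⁻¹ * (u * t * u⁻¹) * g * (g⁻¹ * (u * t * u⁻¹) * g) =
      g⁻¹ * (u * (t * t) * u⁻¹) * g by group, htt]; group
  have hz : IsPPart p (t₁ * t₂) (y : G) := by
    have h := isPPart_conj hw g⁻¹
    rw [inv_inv, ← hg] at h
    rw [show t₁ * t₂ = g⁻¹ * (t * (u * t * u⁻¹)) * g by rw [ht₁, ht₂]; group]
    simpa [mul_assoc] using h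
  have hti : t₁⁻¹ = t₁ := inv_eq_of_mul_eq_one_right h11
  have hinv : t₁ * y * t₁⁻¹ = ((y : G))⁻¹ := by
    have h1 := isPPart_conj hz t₁
    have h2 := isPPart_inv hz
    rw [show t₁ * (t₁ * t₂) * t₁⁻¹ = (t₁ * t₂)⁻¹ by
      rw [mul_inv_rev, hti, inv_eq_of_mul_eq_one_right h22, ← mul_assoc, h11, one_mul]] at h1
    exact isPPart_unique hp h1 h2
  by_cases hy2 : y * y = 1
  swap
  · exact not_isConj_inv hab hfrob hCN hy2 (isConj_iff.2 ⟨t₁, by simpa using hinv⟩)
  obtain ⟨x, rfl, hxt, hxy⟩ := hgood.resolve_left (not_not.2 hy2)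
  have hyi : ((y : G))⁻¹ = y := inv_eq_of_mul_eq_one_right (by exact_mod_cast congrArg Subtype.val hy2)
  set H := Subgroup.centralizer ({(y : G)} : Set G) with hH
  have ht1H : t₁ ∈ H := Subgroup.mem_centralizer_singleton_iff.2 (by
    rw [hyi] at hinv
    calc t₁ * (y : G) = t₁ * y * t₁⁻¹ * t₁ := by group
      _ = _ := by rw [hinv])
  obtain ⟨v, hyv, hcv, hyp, hvreg⟩ := hz
  have hvH : v ∈ H := Subgroup.mem_centralizer_singleton_iff.2 hcv.symm.eq
  have hyH : (y : G) ∈ H := le_cen hab y y.2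
  have ht2H : t₂ ∈ H := by
    have : t₂ = t₁ * ((y : G) * v) := by rw [hyv, ← mul_assoc, h11, one_mul]
    rw [this]
    exact H.mul_mem ht1H (H.mul_mem hyH hvH)
  set Q := P.subtype (le_cen hab y) with hQ
  have hQab : IsMulCommutative Q := ⟨⟨fun a b => Subtype.ext (Subtype.ext
    (by simpa using congrArg Subtype.val (comm hab ⟨((a : H) : G), a.2⟩ ⟨((b : H) : G), b.2⟩)))⟩⟩
  have hNC : Subgroup.normalizer ((Q : Subgroup H) : Set H) ≤
      Subgroup.centralizer ((Q : Subgroup H) : Set H) := by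
    intro n hn
    have hnN : (n : G) ∈ nP P := by
      rw [Subgroup.mem_normalizer_iff]
      intro h
      constructor
      · intro hh
        exact (Subgroup.mem_normalizer_iff.1 hn ⟨h, le_cen hab y hh⟩).1 hh
      · intro hh
        have hc : h ∈ H := by
          have := H.mul_mem (H.mul_mem (H.inv_mem n.2) (le_cen hab y hh)) n.2
          simpa [mul_assoc] using this
        exact ((Subgroup.mem_normalizer_iff.1 hn ⟨h, hc⟩).2 hh : _)
    have hC : (n : G) ∈ Subgroup.centralizer ((P : Subgroup G) : Set G) := by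
      rw [← hfrob y y.2 (fun h => hy (Subtype.ext h))]
      exact ⟨n.2, hnN⟩
    rw [Subgroup.mem_centralizer_iff]
    intro w hw
    exact Subtype.ext (Subgroup.mem_centralizer_iff.1 hC w hw)
  have hQcomm : ∀ a b : (Q : Subgroup H), a * b = b * a := hQab.is_comm.comm
  let τ := MonoidHom.transferSylow Q hNC
  have hτv : τ ⟨v, hvH⟩ = 1 := by
    rw [← orderOf_eq_one_iff]
    have h1 : orderOf (τ ⟨v, hvH⟩) ∣ orderOf v := by
      have := orderOf_map_dvd τ (⟨v, hvH⟩ : H)
      exact this.trans (dvd_of_eq (Subgroup.orderOf_coe (⟨v, hvH⟩ : H)).symm)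
    obtain ⟨k, hk⟩ := IsPGroup.iff_orderOf.1 Q.2 (τ ⟨v, hvH⟩)
    rcases Nat.eq_zero_or_pos k with rfl | hk0
    · rw [hk, pow_zero]
    · exact absurd ((dvd_pow_self 2 hk0.ne').trans (hk ▸ h1)) hvreg
  have hinvol : ∀ s : H, IsConj t (s : G) → ∃ n : nP P, τ s =
      τ ⟨(cj P n x : (P : Subgroup G)), le_cen hab y (cj P n x).2⟩ := by
    intro s hs
    have hs2 : IsPGroup 2 (Subgroup.zpowers s) := by
      refine IsPGroup.of_card (n := 1) ?_
      obtain ⟨a, ha⟩ := isConj_iff.1 hs
      rw [Nat.card_zpowers, ← Subgroup.orderOf_coe, ← ha, pow_one]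
      exact (MulEquiv.orderOf_eq (MulAut.conj a) t).trans ht
    obtain ⟨R, hR⟩ := hs2.exists_le_sylow
    obtain ⟨h, hh⟩ := MulAction.exists_smul_eq H R Q
    have hsQ : h * s * h⁻¹ ∈ (Q : Subgroup H) := by
      rw [← hh, Sylow.coe_subgroup_smul]
      exact Subgroup.smul_mem_pointwise_smul s (MulAut.conj h) (R : Subgroup H)
        (hR (Subgroup.mem_zpowers s))
    have hP' : ((h * s * h⁻¹ : H) : G) ∈ (P : Subgroup G) := hsQ
    have hconj : IsConj (x : G) ((⟨_, hP'⟩ : (P : Subgroup G)) : G) :=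
      hxt.symm.trans (hs.trans (isConj_iff.2 ⟨(h : G), by simp⟩))
    obtain ⟨n, hn⟩ := exists_cj_of_isConj hab hconj
    refine ⟨n, ?_⟩
    rw [show (⟨((cj P n x : (P : Subgroup G)) : G), le_cen hab y (cj P n x).2⟩ : H) = h * s * h⁻¹
      from Subtype.ext (by rw [hn]), map_mul, map_mul, map_inv, hQcomm (τ h), mul_inv_cancel_right]
  obtain ⟨n, hn⟩ := hinvol ⟨t₁, ht1H⟩ (isConj_iff.2 ⟨g⁻¹, by simp [ht₁]⟩)
  obtain ⟨k, hk⟩ := hinvol ⟨t₂, ht2H⟩ (isConj_iff.2 ⟨g⁻¹ * u, by simp [ht₂, mul_assoc]⟩)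
  have key : ∀ a : (P : Subgroup G), τ ⟨(a : G), le_cen hab y a.2⟩ =
      (⟨⟨(a : G), le_cen hab y a.2⟩, a.2⟩ : Q) ^ (Q : Subgroup H).index :=
    fun a => MonoidHom.transferSylow_eq_pow Q hNC _ a.2
  have hprod : τ ⟨(y : G), hyH⟩ =
      τ ⟨((cj P n x * cj P k x : (P : Subgroup G)) : G), le_cen hab y (SetLike.coe_mem _)⟩ := by
    calc τ ⟨(y : G), hyH⟩ = τ (⟨(y : G), hyH⟩ * ⟨v, hvH⟩) := by rw [map_mul, hτv, mul_one]
      _ = τ (⟨t₁, ht1H⟩ * ⟨t₂, ht2H⟩) := congrArg τ (Subtype.ext hyv)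
      _ = _ := by rw [map_mul, hn, hk, ← map_mul]; rfl
  rw [key, key] at hprod
  have hcop : (Nat.card Q).Coprime (Q : Subgroup H).index := Q.card_coprime_index
  have hyeq := (powCoprime hcop).injective hprod
  have hyeq' : y = cj P n x * cj P k x :=
    Subtype.ext (congrArg (fun a : Q => ((a : H) : G)) hyeq)
  have hxx : x * x = 1 := Subtype.ext (by
    obtain ⟨a, ha⟩ := isConj_iff.1 hxt
    simp only [Subgroup.coe_mul, OneMemClass.coe_one, ← ha]
    rw [show a * t * a⁻¹ * (a * t * a⁻¹) = a * (t * t) * a⁻¹ by group, htt]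
    group)
  rcases cj_mul_cj hab hfrob hCN hxx n k with h | ⟨j, hj⟩
  · exact hy (hyeq'.trans h)
  · exact hxy j (hyeq'.trans hj).symm

end Three

end CfsgLib.BlockB.FrobP
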