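import Cfsg.Agent.Lib.BlockB.HenselIdem
import Cfsg.Agent.Lib.Block.GroupAlg
import Mathlib.RingTheory.SimpleModule.IsAlgClosed
import Mathlib.RingTheory.Artinian.Module
import Mathlib.LinearAlgebra.Trace
import Mathlib.LinearAlgebra.Matrix.ToLin

/-!
Additive functions on idempotents of a finite-dimensional algebra in characteristic `p`: at an
idempotent that is a trace under an automorphism of order dividing `p`, an invariant one takes a
value divisible by `p`.
-/

set_option autoImplicit false
set_option linter.unusedSectionVars false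

namespace CfsgLib.BlockB.IdemCount

open CfsgLib.BlockB.Hensel

universe u v w

variable {k : Type u} [Field k] [IsAlgClosed k]

/-- A rank one endomorphism. -/
noncomputable def one' {d : ℕ} (v : Fin d → k) (φ : Module.Dual k (Fin d → k)) :
    Module.End k (Fin d → k) := φ.smulRight v

@[simp]
theorem one'_apply {d : ℕ} (v : Fin d → k) (φ : Module.Dual k (Fin d → k)) (x : Fin d → k) :
    one' v φ x = φ x • v := rfl

theorem one'_mul {d : ℕ} (v w : Fin d → k) (φ ψ : Module.Dual k (Fin d → k)) :
    one' v φ * one' w ψ = φ w • one' v ψ := by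
  refine LinearMap.ext fun x => ?_
  simp [smul_smul, mul_comm]

theorem one'_idem {d : ℕ} {v : Fin d → k} {φ : Module.Dual k (Fin d → k)} (h : φ v = 1) :
    one' v φ * one' v φ = one' v φ := by rw [one'_mul, h, one_smul]

/-- The idempotents span. -/
theorem mem_span_idem {d : ℕ} (f : Module.End k (Fin d → k)) :
    f ∈ Submodule.span k {q : Module.End k (Fin d → k) | q * q = q} := by
  classical
  have hone : ∀ (v : Fin d → k) (φ : Module.Dual k (Fin d → k)),
      one' v φ ∈ Submodule.span k {q : Module.End k (Fin d → k) | q * q = q} := by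
    intro v φ
    by_cases hc : φ v = 0
    · by_cases hφ : φ = 0
      · have : one' v φ = 0 := LinearMap.ext fun x => by simp [hφ]
        rw [this]; exact Submodule.zero_mem _
      obtain ⟨u₀, hu₀⟩ : ∃ u, φ u ≠ 0 := by
        by_contra h
        push Not at h
        exact hφ (LinearMap.ext h)
      set u := (φ u₀)⁻¹ • u₀ with hu
      have hu1 : φ u = 1 := by rw [hu, map_smul, smul_eq_mul, inv_mul_cancel₀ hu₀]
      have : one' v φ = one' (u + v) φ - one' u φ := LinearMap.ext fun x => by simp
      rw [this]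
      refine Submodule.sub_mem _ (Submodule.subset_span (one'_idem ?_))
        (Submodule.subset_span (one'_idem hu1))
      rw [map_add, hu1, hc, add_zero]
    · have : one' v φ = φ v • one' ((φ v)⁻¹ • v) φ := LinearMap.ext fun x => by
        simp only [one'_apply, LinearMap.smul_apply, smul_smul]
        congr 1
        field_simp
      rw [this]
      refine Submodule.smul_mem _ _ (Submodule.subset_span (one'_idem ?_))
      rw [map_smul, smul_eq_mul, inv_mul_cancel₀ hc]
  have hf : f = ∑ i : Fin d, one' (f (Pi.single i 1)) (LinearMap.proj i) := by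
    refine LinearMap.ext fun x => ?_
    conv_lhs => rw [pi_eq_sum_univ' x]
    simp [map_sum, map_smul]
  rw [hf]
  exact Submodule.sum_mem _ fun i _ => hone _ _

variable {Λ : Type w} [Ring Λ] [Algebra k Λ] [Module.Finite k Λ]

/-- A splitting of the algebra modulo its radical. -/
structure SplitData (Λ : Type w) [Ring Λ] [Algebra k Λ] where
  /-- The number of simple modules. -/
  n : ℕ
  /-- Their dimensions. -/
  d : Fin n → ℕ
  pos : ∀ i, 0 < d i
  /-- The action. -/
  π : Λ →ₐ[k] Π i, Module.End k (Fin (d i) → k)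
  surj : Function.Surjective π
  nil : ∀ x, π x = 0 → IsNilpotent x

theorem exists_splitData : Nonempty (SplitData (k := k) Λ) := by
  have : IsArtinianRing Λ := IsArtinianRing.of_finite k Λ
  obtain ⟨n, d, hd, ⟨e⟩⟩ :=
    IsSemisimpleRing.exists_algEquiv_pi_matrix_of_isAlgClosed k (Λ ⧸ Ring.jacobson Λ)
  let π : Λ →ₐ[k] Π i, Module.End k (Fin (d i) → k) :=
    ((AlgEquiv.piCongrRight fun i => Matrix.toLinAlgEquiv').toAlgHom.comp e.toAlgHom).comp
      (Ideal.Quotient.mkₐ k (Ring.jacobson Λ))
  refine ⟨⟨n, d, fun i => Nat.pos_of_ne_zero (hd i).ne, π, ?_, fun x hx => ?_⟩⟩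
  · exact ((AlgEquiv.piCongrRight fun i => Matrix.toLinAlgEquiv').surjective.comp
      e.surjective).comp Ideal.Quotient.mk_surjective
  · have h1 : e ((Ideal.Quotient.mkₐ k (Ring.jacobson Λ)) x) = 0 :=
      (AlgEquiv.piCongrRight fun i => Matrix.toLinAlgEquiv').injective (by rw [map_zero]; exact hx)
    have h2 : x ∈ Ring.jacobson Λ := by
      rw [← Ideal.Quotient.eq_zero_iff_mem]
      exact e.injective (by rw [map_zero]; exact h1)
    obtain ⟨m, hm⟩ := IsSemiprimaryRing.isNilpotent (R := Λ)
    refine ⟨m, ?_⟩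
    have h3 := Ideal.pow_mem_pow h2 m
    rw [hm] at h3
    simpa using h3

variable (S : SplitData (k := k) Λ)

/-- The rank of an element at a simple module. -/
noncomputable def rk (i : Fin S.n) (x : Λ) : ℕ := Module.finrank k (LinearMap.range (S.π x i))

/-- The total rank. -/
noncomputable def tot (x : Λ) : ℕ := ∑ i, rk S i x

theorem apply_idem {j : Λ} (hj : j * j = j) (i : Fin S.n) : S.π j i * S.π j i = S.π j i := by
  rw [← Pi.mul_apply, ← map_mul, hj]

theorem eq_zero_of_pi {e : Λ} (he : e * e = e) (h : S.π e = 0) : e = 0 := by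
  obtain ⟨n, hn⟩ := S.nil e h
  rcases Nat.eq_zero_or_pos n with rfl | hpos
  · rw [← mul_one e, ← pow_zero e, hn, mul_zero]
  · obtain ⟨m, rfl⟩ := Nat.exists_eq_succ_of_ne_zero hpos.ne'
    rwa [(show IsIdempotentElem e from he).pow_succ_eq m] at hn

theorem eq_zero_of_tot {e : Λ} (he : e * e = e) (h : tot S e = 0) : e = 0 := by
  refine eq_zero_of_pi S he (funext fun i => ?_)
  have h1 := Finset.sum_eq_zero_iff.1 h i (Finset.mem_univ i)
  rw [rk, Submodule.finrank_eq_zero] at h1
  exact LinearMap.range_eq_bot.1 h1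

theorem rk_zero (i : Fin S.n) : rk S i 0 = 0 := by
  rw [rk, map_zero, Pi.zero_apply, LinearMap.range_zero]
  exact finrank_bot k _

theorem rk_add {e f : Λ} (he : e * e = e) (hf : f * f = f) (hef : e * f = 0) (hfe : f * e = 0)
    (i : Fin S.n) : rk S i (e + f) = rk S i e + rk S i f := by
  set a := S.π e i
  set b := S.π f i
  have hab : a * b = 0 := by
    show S.π e i * S.π f i = 0
    rw [← Pi.mul_apply, ← map_mul, hef, map_zero]; rfl
  have hba : b * a = 0 := by
    show S.π f i * S.π e i = 0
    rw [← Pi.mul_apply, ← map_mul, hfe, map_zero]; rfl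
  have haa : a * a = a := apply_idem S he i
  have hbb : b * b = b := apply_idem S hf i
  have hdis : Disjoint (LinearMap.range a) (LinearMap.range b) := by
    rw [Submodule.disjoint_def]
    rintro x ⟨y, rfl⟩ ⟨z, hz⟩
    calc a y = (a * a) y := by rw [haa]
      _ = a (b z) := by rw [hz]; rfl
      _ = (a * b) z := rfl
      _ = 0 := by rw [hab]; rfl
  have hsup : LinearMap.range (a + b) = LinearMap.range a ⊔ LinearMap.range b := by
    refine le_antisymm ?_ (sup_le ?_ ?_)
    · rintro x ⟨y, rfl⟩
      exact Submodule.add_mem_sup ⟨y, rfl⟩ ⟨y, rfl⟩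
    · rintro x ⟨y, rfl⟩
      refine ⟨a y, ?_⟩
      show (a * a) y + (b * a) y = a y
      rw [haa, hba]; simp
    · rintro x ⟨y, rfl⟩
      refine ⟨b y, ?_⟩
      show (a * b) y + (b * b) y = b y
      rw [hab, hbb]; simp
  have h := Submodule.finrank_sup_add_finrank_inf_eq (LinearMap.range a) (LinearMap.range b)
  rw [disjoint_iff.1 hdis, finrank_bot, add_zero] at h
  rw [rk, map_add, Pi.add_apply, hsup, h]
  rfl

theorem rk_swap_le {a b : Λ} (h : a * b * (a * b) = a * b) (i : Fin S.n) :
    rk S i (a * b) ≤ rk S i (b * a) := by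
  have h2 : a * b = a * (b * a) * b := by
    calc a * b = a * b * (a * b) := h.symm
      _ = a * (b * a) * b := by simp only [mul_assoc]
  have e : S.π (a * b) i = S.π a i * S.π (b * a) i * S.π b i := by
    rw [← Pi.mul_apply, ← Pi.mul_apply, ← map_mul, ← map_mul, ← h2]
  rw [rk, e]
  refine le_trans (Submodule.finrank_mono ?_) (Submodule.finrank_map_le (S.π a i) _)
  rintro x ⟨y, rfl⟩
  exact ⟨S.π (b * a) i (S.π b i y), ⟨_, rfl⟩, rfl⟩

theorem rk_swap {a b : Λ} (h : a * b * (a * b) = a * b) (h' : b * a * (b * a) = b * a)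
    (i : Fin S.n) : rk S i (a * b) = rk S i (b * a) :=
  le_antisymm (rk_swap_le S h i) (rk_swap_le S h' i)

/-- The first standard vector. -/
noncomputable def v0 (i : Fin S.n) : Fin (S.d i) → k := Pi.single ⟨0, S.pos i⟩ 1

/-- The first coordinate. -/
noncomputable def φ0 (i : Fin S.n) : Module.Dual k (Fin (S.d i) → k) :=
  LinearMap.proj ⟨0, S.pos i⟩

theorem φ0_v0 (i : Fin S.n) : φ0 S i (v0 S i) = 1 := by simp [φ0, v0]

theorem exists_lift_idem (j : Λ) (hj : j * j = j) {q : Π i, Module.End k (Fin (S.d i) → k)}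
    (hq : q * q = q) (hjq : S.π j * q = q) (hqj : q * S.π j = q) :
    ∃ e, e * e = e ∧ j * e = e ∧ e * j = e ∧ S.π e = q := by
  obtain ⟨a, ha⟩ := S.surj q
  set c := j * a * j with hc
  obtain ⟨e, y, he, hey, hye, -, hψ⟩ :=
    exists_idem (fieldSplit k) c (Algebra.IsIntegral.isIntegral c)
  have hcq : S.π c = q := by rw [hc, map_mul, map_mul, ha, hjq, hqj]
  refine ⟨e, he, ?_, ?_, ?_⟩
  · rw [← hey, hc, ← mul_assoc, ← mul_assoc j, ← mul_assoc j j, hj]
  · rw [← hye, hc, mul_assoc, mul_assoc (j * a) j j, hj]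
  · have := hψ S.π.toRingHom (fun r => by simp [fieldSplit]) (by
      show S.π c * S.π c = S.π c
      rw [hcq, hq])
    exact this.trans hcq

/-- Idempotents with equivalent images are equivalent. -/
theorem exists_equiv_lift {e f : Λ} (he : e * e = e) (hf : f * f = f)
    {a b : Π i, Module.End k (Fin (S.d i) → k)} (hab : a * b = S.π e) (hba : b * a = S.π f) :
    ∃ a' b' : Λ, a' * b' = e ∧ b' * a' = f := by
  obtain ⟨x, hx⟩ := S.surj a
  obtain ⟨z, hz⟩ := S.surj b
  have hee : S.π e * S.π e = S.π e := by rw [← map_mul, he]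
  have hff : S.π f * S.π f = S.π f := by rw [← map_mul, hf]
  set x' := e * x * f with hx'
  set z' := f * z * e with hz'
  have hxz : S.π x' * S.π z' = S.π e := by
    rw [hx', hz', map_mul, map_mul, map_mul, map_mul, hx, hz]
    calc S.π e * a * S.π f * (S.π f * b * S.π e) = S.π e * a * (S.π f * S.π f) * b * S.π e := by
          simp only [mul_assoc]
      _ = S.π e * (a * b) * (a * b) * S.π e := by rw [hff, ← hba]; simp only [mul_assoc]
      _ = S.π e := by rw [hab, hee, hee, hee]
  obtain ⟨e₁, y, he₁, hee₁, he₁e, hψ, h1, h2, h3⟩ := exists_equiv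
    (fieldSplit k) S.π.toRingHom
    (fun r => by simp [fieldSplit]) he hxz.symm
  have e1 : e₁ = e := by
    have hid : (e - e₁) * (e - e₁) = e - e₁ := by
      rw [sub_mul, mul_sub, mul_sub, he, hee₁, he₁e, he₁]; simp
    have := eq_zero_of_pi S hid (by rw [map_sub, sub_eq_zero]; exact hψ.symm)
    exact (sub_eq_zero.1 this).symm
  refine ⟨e₁ * x', z' * y, h1.trans e1, ?_⟩
  set f₁ := z' * y * (e₁ * x')
  have hf1 : f * f₁ = f₁ := by
    simp only [f₁, hz', ← mul_assoc, hf]
  have hf2 : f₁ * f = f₁ := by
    simp only [f₁, hx', mul_assoc, hf]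
  have hid : (f - f₁) * (f - f₁) = f - f₁ := by
    rw [sub_mul, mul_sub, mul_sub, hf, hf1, hf2, show f₁ * f₁ = f₁ from h2]; simp
  have h4 : S.π f₁ = S.π f := by
    refine h3.trans ?_
    show S.π z' * S.π e * S.π x' = _
    rw [hx', hz', map_mul, map_mul, map_mul, map_mul, hx, hz]
    calc S.π f * b * S.π e * S.π e * (S.π e * a * S.π f)
        = S.π f * b * (S.π e * S.π e * S.π e) * a * S.π f := by simp only [mul_assoc]
      _ = S.π f * (b * a) * (b * a) * S.π f := by rw [hee, hee, ← hab]; simp only [mul_assoc]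
      _ = S.π f := by rw [hba, hff, hff, hff]
  have := eq_zero_of_pi S hid (by rw [map_sub, h4, sub_self])
  exact (sub_eq_zero.1 this).symm

theorem exists_prim (i : Fin S.n) :
    ∃ q, q * q = q ∧ S.π q = Pi.single i (one' (v0 S i) (φ0 S i)) :=
  let ⟨e, he, _, _, hπ⟩ := exists_lift_idem S 1 (one_mul 1)
    (q := Pi.single i (one' (v0 S i) (φ0 S i)))
    (by rw [← Pi.single_mul, one'_idem (φ0_v0 S i)]) (by rw [map_one, one_mul])
    (by rw [map_one, mul_one])
  ⟨e, he, hπ⟩

/-- The primitive idempotent at a simple module. -/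
noncomputable def prim (i : Fin S.n) : Λ := (exists_prim S i).choose

theorem prim_idem (i : Fin S.n) : prim S i * prim S i = prim S i :=
  (exists_prim S i).choose_spec.1

theorem pi_prim (i : Fin S.n) : S.π (prim S i) = Pi.single i (one' (v0 S i) (φ0 S i)) :=
  (exists_prim S i).choose_spec.2

theorem rk_prim (i l : Fin S.n) : rk S l (prim S i) = if l = i then 1 else 0 := by
  rw [rk, pi_prim]
  split_ifs with h
  · subst h
    rw [Pi.single_eq_same]
    have hr : LinearMap.range (one' (v0 S l) (φ0 S l)) = Submodule.span k {v0 S l} := by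
      refine le_antisymm ?_ ?_
      · rintro x ⟨y, rfl⟩
        exact Submodule.smul_mem _ _ (Submodule.mem_span_singleton_self _)
      · rw [Submodule.span_le, Set.singleton_subset_iff]
        exact ⟨v0 S l, by simp [φ0_v0]⟩
    rw [hr]
    exact finrank_span_singleton fun h0 => by simpa [h0] using φ0_v0 S l
  · rw [Pi.single_eq_of_ne h, LinearMap.range_zero]
    exact finrank_bot k _

theorem tot_prim (i : Fin S.n) : tot S (prim S i) = 1 := by
  simp [tot, rk_prim]

variable {V : Type v} [AddCommMonoid V] {F : Λ → V}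
  (hadd : ∀ e f : Λ, e * e = e → f * f = f → e * f = 0 → f * e = 0 → F (e + f) = F e + F f)
  (hswap : ∀ a b : Λ, a * b * (a * b) = a * b → b * a * (b * a) = b * a → F (a * b) = F (b * a))
  (h0 : F 0 = 0)
include hadd hswap h0

theorem eq_sum_rk : ∀ (N : ℕ) (j : Λ), j * j = j → tot S j = N →
    F j = ∑ i, rk S i j • F (prim S i) := by
  classical
  intro N
  induction N with
  | zero =>
    intro j hj ht
    rw [eq_zero_of_tot S hj ht, h0]
    simp [rk_zero]
  | succ N ih =>
    intro j hj ht
    obtain ⟨i, hi⟩ : ∃ i, rk S i j ≠ 0 := by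
      by_contra h
      push Not at h
      rw [tot, Finset.sum_eq_zero fun i _ => h i] at ht
      omega
    set a := S.π j i with ha
    have haa : a * a = a := apply_idem S hj i
    obtain ⟨w, hw⟩ : ∃ w, a w ≠ 0 := by
      by_contra h
      push Not at h
      refine hi ?_
      rw [rk, ← ha, show a = 0 from LinearMap.ext h, LinearMap.range_zero]
      exact finrank_bot k _
    obtain ⟨φ₀, hφ₀⟩ := Module.Projective.exists_dual_ne_zero k hw
    set v := (φ₀ (a w))⁻¹ • a w with hv
    set φ : Module.Dual k (Fin (S.d i) → k) := φ₀.comp a with hφdef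
    have hav : a v = v := by
      rw [hv, map_smul]
      show _ • (a * a) w = _
      rw [haa]
    have hφv : φ v = 1 := by
      rw [hφdef, LinearMap.comp_apply, hav, hv, map_smul, smul_eq_mul, inv_mul_cancel₀ hφ₀]
    have h1 : a * one' v φ = one' v φ := LinearMap.ext fun x => by simp [hav]
    have h2 : one' v φ * a = one' v φ := LinearMap.ext fun x => by
      simp only [Module.End.mul_apply, one'_apply, hφdef, LinearMap.comp_apply]
      rw [show a (a x) = (a * a) x from rfl, haa]
    obtain ⟨e, he, hje, hej, hπe⟩ := exists_lift_idem S j hj (q := Pi.single i (one' v φ))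
      (by rw [← Pi.single_mul, one'_idem hφv])
      (funext fun l => by
        rcases eq_or_ne l i with rfl | hl
        · rw [Pi.mul_apply, Pi.single_eq_same]; exact h1
        · rw [Pi.mul_apply, Pi.single_eq_of_ne hl, mul_zero])
      (funext fun l => by
        rcases eq_or_ne l i with rfl | hl
        · rw [Pi.mul_apply, Pi.single_eq_same]; exact h2
        · rw [Pi.mul_apply, Pi.single_eq_of_ne hl, zero_mul])
    obtain ⟨x, z, hxz, hzx⟩ := exists_equiv_lift S he (prim_idem S i)
      (a := Pi.single i (one' v (φ0 S i))) (b := Pi.single i (one' (v0 S i) φ))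
      (by rw [hπe, ← Pi.single_mul, one'_mul, φ0_v0, one_smul])
      (by rw [pi_prim, ← Pi.single_mul, one'_mul, hφv, one_smul])
    have hFe : F e = F (prim S i) := by
      rw [← hxz, ← hzx]
      exact hswap x z (by rw [hxz, he]) (by rw [hzx, prim_idem])
    have hre : ∀ l, rk S l e = rk S l (prim S i) := fun l => by
      rw [← hxz, ← hzx]
      exact rk_swap S (by rw [hxz, he]) (by rw [hzx, prim_idem]) l
    have hd : (j - e) * (j - e) = j - e := by
      rw [sub_mul, mul_sub, mul_sub, hj, hje, hej, he]; simp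
    have o1 : e * (j - e) = 0 := by rw [mul_sub, hej, he, sub_self]
    have o2 : (j - e) * e = 0 := by rw [sub_mul, hje, he, sub_self]
    have hsum : e + (j - e) = j := by abel
    have hr : ∀ l, rk S l j = rk S l e + rk S l (j - e) := fun l => by
      rw [← rk_add S he hd o1 o2, hsum]
    have htd : tot S (j - e) = N := by
      have : tot S j = tot S e + tot S (j - e) := by
        simp only [tot, ← Finset.sum_add_distrib, ← hr]
      have h1' : tot S e = 1 := by
        rw [← tot_prim S i]
        exact Finset.sum_congr rfl fun l _ => hre l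
      omega
    rw [← hsum, hadd e (j - e) he hd o1 o2, ih _ hd htd, hsum, hFe]
    simp only [hr, hre, add_smul, Finset.sum_add_distrib, rk_prim, ite_smul, one_smul, zero_smul,
      Finset.sum_ite_eq', Finset.mem_univ, if_true]

end CfsgLib.BlockB.IdemCount

namespace CfsgLib.BlockB.IdemCount

open CfsgLib.Block

universe u v w

variable {k : Type u} [Field k] [IsAlgClosed k] {Λ : Type w} [Ring Λ] [Algebra k Λ]
  [Module.Finite k Λ]

/-- **Divisibility at a trace.** -/
theorem exists_smul_eq {p : ℕ} [Fact p.Prime] [CharP k p] (σ : Λ ≃ₐ[k] Λ)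
    (hσ : ∀ x, (σ ^ p) x = x) {V : Type v} [AddCommGroup V] {F : Λ → V} (Vs : AddSubgroup V)
    (hVs : ∀ e : Λ, e * e = e → F e ∈ Vs)
    (hadd : ∀ e f : Λ, e * e = e → f * f = f → e * f = 0 → f * e = 0 → F (e + f) = F e + F f)
    (hswap : ∀ a b : Λ, a * b * (a * b) = a * b → b * a * (b * a) = b * a → F (a * b) = F (b * a))
    (hinv : ∀ e : Λ, e * e = e → F (σ e) = F e)
    {j x : Λ} (hj : j * j = j) (htr : ∑ l ∈ Finset.range p, (σ ^ l) x = j) :
    ∃ v ∈ Vs, F j = p • v := by
  classical
  obtain ⟨S⟩ := exists_splitData (k := k) (Λ := Λ)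
  have hp : p.Prime := Fact.out
  have h0 : F 0 = 0 := by
    have := hadd 0 0 (mul_zero 0) (mul_zero 0) (mul_zero 0) (mul_zero 0)
    simpa using this
  have hσid : ∀ e : Λ, e * e = e → σ e * σ e = σ e := fun e he => by rw [← map_mul, he]
  have hσadd : ∀ (G : Λ → ℕ),
      (∀ e f : Λ, e * e = e → f * f = f → e * f = 0 → f * e = 0 → G (e + f) = G e + G f) →
      ∀ e f : Λ, e * e = e → f * f = f → e * f = 0 → f * e = 0 →
        G (σ (e + f)) = G (σ e) + G (σ f) :=
    fun G hG e f he hf h1 h2 => by
      rw [map_add]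
      exact hG _ _ (hσid e he) (hσid f hf) (by rw [← map_mul, h1, map_zero])
        (by rw [← map_mul, h2, map_zero])
  -- the ranks after `σ`
  have hrσ : ∀ (l : Fin S.n) (e : Λ), e * e = e →
      rk S l (σ e) = ∑ i, rk S i e * rk S l (σ (prim S i)) := fun l e he => by
    simpa [smul_eq_mul] using eq_sum_rk S (F := fun y => rk S l (σ y))
      (hσadd _ fun e f he hf h1 h2 => rk_add S he hf h1 h2 l)
      (fun a b ha hb => by
        rw [map_mul, map_mul]
        exact rk_swap S (by rw [← map_mul, ← map_mul, ha]) (by rw [← map_mul, ← map_mul, hb]) l)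
      (by rw [map_zero, rk_zero]) _ e he rfl
  have hpos : ∀ i, 1 ≤ tot S (σ (prim S i)) := fun i => by
    refine Nat.one_le_iff_ne_zero.2 fun h => ?_
    have h1 := eq_zero_of_tot S (hσid _ (prim_idem S i)) h
    have h2 : prim S i = 0 := σ.injective (by rw [h1, map_zero])
    have h3 := tot_prim S i
    rw [h2] at h3
    simp [tot, rk_zero] at h3
  have hmono : ∀ e : Λ, e * e = e → tot S e ≤ tot S (σ e) := fun e he => by
    simp only [tot, hrσ _ e he]
    rw [Finset.sum_comm]
    refine Finset.sum_le_sum fun i _ => ?_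
    rw [← Finset.mul_sum]
    exact Nat.le_mul_of_pos_right _ (hpos i)
  have hpow : ∀ (m : ℕ) (e : Λ), (σ ^ (m + 1)) e = σ ((σ ^ m) e) := fun m e => by
    rw [pow_succ', AlgEquiv.mul_apply]
  have hpowid : ∀ (m : ℕ) (e : Λ), e * e = e → (σ ^ m) e * (σ ^ m) e = (σ ^ m) e :=
    fun m e he => by rw [← map_mul, he]
  have hone : ∀ i, tot S (σ (prim S i)) = 1 := fun i => by
    refine le_antisymm ?_ (hpos i)
    have hle : ∀ m : ℕ, tot S (σ (prim S i)) ≤ tot S ((σ ^ (m + 1)) (prim S i)) := by
      intro m
      induction m with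
      | zero => rw [pow_one]
      | succ m ih =>
        rw [hpow (m + 1)]
        exact ih.trans (hmono _ (hpowid _ _ (prim_idem S i)))
    have := hle (p - 1)
    rwa [Nat.sub_add_cancel hp.one_le, hσ, tot_prim] at this
  have hτ : ∀ i, ∃ l, ∀ l', rk S l' (σ (prim S i)) = if l' = l then 1 else 0 := fun i => by
    obtain ⟨l, hl⟩ : ∃ l, rk S l (σ (prim S i)) ≠ 0 := by
      by_contra h
      push Not at h
      have := hone i
      simp [tot, h] at this
    refine ⟨l, fun l' => ?_⟩
    have h1 := hone i
    simp only [tot] at h1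
    rw [← Finset.add_sum_erase _ _ (Finset.mem_univ l)] at h1
    split_ifs with h
    · subst h; omega
    · have h2 := Finset.single_le_sum (f := fun i' => rk S i' (σ (prim S i)))
        (fun _ _ => Nat.zero_le _) (Finset.mem_erase.2 ⟨h, Finset.mem_univ l'⟩)
      omega
  choose τ hτ using hτ
  have hiter : ∀ (m : ℕ) (i l : Fin S.n),
      rk S l ((σ ^ m) (prim S i)) = if l = τ^[m] i then 1 else 0 := by
    intro m
    induction m with
    | zero =>
      intro i l
      rw [pow_zero, AlgEquiv.one_apply, Function.iterate_zero_apply]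
      convert rk_prim S i l using 1
    | succ m ih =>
      intro i l
      rw [hpow, hrσ _ _ (hpowid _ _ (prim_idem S i)), Function.iterate_succ_apply']
      simp only [ih, ite_mul, one_mul, zero_mul, Finset.sum_ite_eq', Finset.mem_univ, if_true, hτ]
  have hτp : ∀ i, τ^[p] i = i := fun i => by
    have h1 := hiter p i i
    rw [hσ, rk_prim, if_pos rfl] at h1
    by_contra h
    rw [if_neg (Ne.symm h)] at h1
    exact one_ne_zero h1
  let τe : Equiv.Perm (Fin S.n) :=
    { toFun := τ
      invFun := τ^[p - 1]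
      left_inv := fun i => by
        rw [← Function.iterate_succ_apply τ (p - 1) i, Nat.succ_eq_add_one, Nat.sub_add_cancel hp.one_le]
        exact hτp i
      right_inv := fun i => by
        rw [← Function.iterate_succ_apply' τ (p - 1) i, Nat.succ_eq_add_one, Nat.sub_add_cancel hp.one_le]
        exact hτp i }
  have hrτ : ∀ (e : Λ), e * e = e → ∀ i, rk S (τ i) (σ e) = rk S i e := fun e he i => by
    rw [hrσ _ _ he]
    simp only [hτ, mul_ite, mul_one, mul_zero]
    rw [Finset.sum_eq_single i (fun b _ hb => if_neg fun h => hb (τe.injective h.symm))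
      (by simp), if_pos rfl]
  have hcτ : ∀ i, F (prim S (τ i)) = F (prim S i) := fun i => by
    have h1 := eq_sum_rk S hadd hswap h0 _ _ (hσid _ (prim_idem S i)) rfl
    rw [hinv _ (prim_idem S i)] at h1
    simp only [hτ, ite_smul, one_smul, zero_smul, Finset.sum_ite_eq', Finset.mem_univ,
      if_true] at h1
    exact h1.symm
  have hσj : σ j = j := by
    rw [← htr, map_sum]
    simp only [← hpow]
    have h1 := Finset.sum_range_succ' (fun l => (σ ^ l) x) p
    rw [Finset.sum_range_succ, hσ, pow_zero, AlgEquiv.one_apply] at h1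
    exact (add_right_cancel h1).symm
  -- the fixed simple modules
  have hfix : ∀ i, τ i = i → p ∣ rk S i j := fun i hi => by
    let T : Λ →ₗ[k] k := (LinearMap.trace k _).comp
      ((LinearMap.proj i).comp S.π.toLinearMap)
    have hTid : ∀ e : Λ, e * e = e → T e = (rk S i e : k) := fun e he => by
      show LinearMap.trace k _ (S.π e i) = _
      exact (LinearMap.IsProj.trace (LinearMap.IsProj.mk (m := LinearMap.range (S.π e i)) (fun x => LinearMap.mem_range_self _ x) (by
        rintro x ⟨y, rfl⟩
        exact LinearMap.congr_fun (apply_idem S he i) y))).trans rfl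
    have hTσ : ∀ y : Λ, T (σ y) = T y := by
      intro y
      have hy : ∀ q : Π l, Module.End k (Fin (S.d l) → k),
          q ∈ Submodule.span k (Set.range fun e : {e : Λ // e * e = e} => S.π e.1) := by
        intro q
        have hq : q = ∑ l, Pi.single l (q l) := (Finset.univ_sum_single q).symm
        rw [hq]
        refine Submodule.sum_mem _ fun l _ => ?_
        refine Submodule.span_induction (p := fun f _ =>
            (Pi.single l f : Π l, Module.End k (Fin (S.d l) → k)) ∈
              Submodule.span k (Set.range fun e : {e : Λ // e * e = e} => S.π e.1))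
          ?_ ?_ ?_ ?_ (mem_span_idem (q l))
        · intro f hf
          obtain ⟨e, he, -, -, hπ⟩ := exists_lift_idem S 1 (one_mul 1) (q := Pi.single l f)
            (by rw [← Pi.single_mul]; exact congrArg _ hf) (by rw [map_one, one_mul])
            (by rw [map_one, mul_one])
          exact Submodule.subset_span ⟨⟨e, he⟩, hπ⟩
        · rw [Pi.single_zero]; exact Submodule.zero_mem _
        · intro f g _ _ hf hg
          rw [Pi.single_add]; exact Submodule.add_mem _ hf hg
        · intro c f _ hf
          rw [Pi.single_smul]; exact Submodule.smul_mem _ c hf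
      obtain ⟨c, hc⟩ := Finsupp.mem_span_range_iff_exists_finsupp.1 (hy (S.π y))
      set z := c.sum fun e r => r • e.1 with hz
      have hnil : IsNilpotent (y - z) := S.nil _ (by
        rw [map_sub, hz, Finsupp.sum, map_sum, sub_eq_zero, ← hc, Finsupp.sum]
        simp only [map_smul])
      have hT0 : ∀ w : Λ, IsNilpotent w → T w = 0 := fun w hw => by
        refine (LinearMap.isNilpotent_trace_of_isNilpotent (R := k) ?_).eq_zero
        obtain ⟨m, hm⟩ := hw
        exact ⟨m, show (S.π w i) ^ m = 0 by rw [← Pi.pow_apply, ← map_pow, hm, map_zero]; rfl⟩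
      have e1 : y = (y - z) + z := by abel
      rw [e1, map_add, map_add, map_add, hT0 _ hnil, hT0 _ (hnil.map σ), zero_add, zero_add, hz,
        Finsupp.sum, map_sum, map_sum, map_sum]
      refine Finset.sum_congr rfl fun e _ => ?_
      rw [map_smul, map_smul, map_smul, hTid _ e.2, hTid _ (hσid _ e.2)]
      congr 2
      have := hrτ e.1 e.2 i
      rw [hi] at this
      exact this
    have hTpow : ∀ l : ℕ, T ((σ ^ l) x) = T x := by
      intro l
      induction l with
      | zero => rfl
      | succ l ih => rw [hpow, hTσ, ih]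
    have h1 : T j = 0 := by
      rw [← htr, map_sum, Finset.sum_congr rfl fun l _ => hTpow l, Finset.sum_const,
        Finset.card_range, nsmul_eq_mul, CharP.cast_eq_zero, zero_mul]
    rw [hTid j hj] at h1
    exact (CharP.cast_eq_zero_iff k p _).1 h1
  -- the count
  rw [eq_sum_rk S hadd hswap h0 _ j hj rfl]
  let W : AddSubgroup V := Vs.map (p • (AddMonoidHom.id V))
  suffices h : ∑ i, rk S i j • F (prim S i) ∈ W by
    obtain ⟨v, hv, e⟩ := h
    exact ⟨v, hv, e.symm⟩
  rw [← QuotientAddGroup.eq_zero_iff, ← QuotientAddGroup.mk'_apply, map_sum]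
  have hker : ∀ v ∈ Vs, p • (QuotientAddGroup.mk' W) v = 0 := fun v hv => by
    rw [← map_nsmul, QuotientAddGroup.mk'_apply, QuotientAddGroup.eq_zero_iff]
    exact ⟨v, hv, rfl⟩
  let f : Fin S.n → (Vs.map (QuotientAddGroup.mk' W)) := fun i =>
    ⟨QuotientAddGroup.mk' W (rk S i j • F (prim S i)),
      ⟨_, nsmul_mem (hVs _ (prim_idem S i)) _, rfl⟩⟩
  have hsum : ∑ i, f i = 0 := by
    have hP : IsPGroup p (Subgroup.zpowers τe) := by
      rintro ⟨g, hg⟩
      obtain ⟨m, rfl⟩ := Subgroup.mem_zpowers_iff.1 hg
      refine ⟨1, Subtype.ext ?_⟩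
      have hτep : τe ^ p = 1 := Equiv.ext fun i => by
        rw [Equiv.Perm.coe_pow]; exact hτp i
      simp only [pow_one, SubmonoidClass.coe_pow, OneMemClass.coe_one]
      rw [← zpow_natCast, ← zpow_mul, mul_comm, zpow_mul, zpow_natCast, hτep, one_zpow]
    rw [sum_eq_sum_fixed hP (fun w => Subtype.ext (by
      obtain ⟨v, hv, e⟩ := w.2
      show p • (w : V ⧸ W) = 0
      rw [← e]; exact hker v hv)) f]
    · refine Finset.sum_eq_zero fun i hi => Subtype.ext ?_
      obtain ⟨c, hc⟩ := hfix i ((Finset.mem_filter.1 hi).2 ⟨τe, Subgroup.mem_zpowers τe⟩)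
      show QuotientAddGroup.mk' W (rk S i j • F (prim S i)) = 0
      rw [hc, mul_nsmul', map_nsmul]
      exact hker _ (nsmul_mem (hVs _ (prim_idem S i)) c)
    · rintro ⟨g, hg⟩ i
      show f (g i) = f i
      have hstep : ∀ i, f (τe i) = f i := fun i => Subtype.ext (by
        show QuotientAddGroup.mk' W (rk S (τ i) j • F (prim S (τ i))) =
          QuotientAddGroup.mk' W (rk S i j • F (prim S i))
        rw [hcτ, ← hrτ j hj i, hσj])
      obtain ⟨m, rfl⟩ := mem_powers_iff_mem_zpowers.2 hg
      clear hg
      show f ((τe ^ m) i) = f i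
      induction m with
      | zero => rfl
      | succ m ih => rw [pow_succ', Equiv.Perm.mul_apply, hstep, ih]
  have := congrArg Subtype.val hsum
  rw [AddSubgroup.val_finsetSum] at this
  exact this

end CfsgLib.BlockB.IdemCount
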