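import Cfsg.Agent.Lib.BlockB.HenselIdem
import Cfsg.Agent.Lib.Block.Orthogonality
import Mathlib.LinearAlgebra.Eigenspace.Charpoly
import Mathlib.LinearAlgebra.Eigenspace.Minpoly

/-!
Traces of elements of the group algebra over the local ring against a class function at a fixed
group element.
-/

set_option autoImplicit false
set_option linter.unusedSectionVars false
set_option maxHeartbeats 1000000

namespace CfsgLib.BlockB.StarTrace

open Cfsg CfsgLib.Block MonoidAlgebra

universe u

variable {G : Type u} [Group G] [Fintype G] {p : ℕ} {M : Ideal AlgInt} [M.IsPrime]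

/-- `∑ a(k) χ(k g)`. -/
noncomputable def tval (χ : G → ℂ) (g : G) (a : MonoidAlgebra (lring M) G) : ℂ :=
  ∑ k, ((a.coeff k : lring M) : ℂ) * χ (k * g)

theorem tval_add (χ : G → ℂ) (g : G) (a b : MonoidAlgebra (lring M) G) :
    tval χ g (a + b) = tval χ g a + tval χ g b := by
  simp [tval, add_mul, Finset.sum_add_distrib]

theorem tval_zero (χ : G → ℂ) (g : G) : tval χ g (0 : MonoidAlgebra (lring M) G) = 0 := by
  simp [tval]

theorem tval_sub (χ : G → ℂ) (g : G) (a b : MonoidAlgebra (lring M) G) :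
    tval χ g (a - b) = tval χ g a - tval χ g b := by
  simp [tval, sub_mul, Finset.sum_sub_distrib]

theorem tval_sum {ι : Type*} (s : Finset ι) (χ : G → ℂ) (g : G)
    (a : ι → MonoidAlgebra (lring M) G) : tval χ g (∑ i ∈ s, a i) = ∑ i ∈ s, tval χ g (a i) := by
  classical
  induction s using Finset.induction_on with
  | empty => simp [tval_zero]
  | insert i s hi ih => rw [Finset.sum_insert hi, Finset.sum_insert hi, tval_add, ih]

/-- Cyclicity against an element commuting with `g`. -/
theorem tval_mul_comm {χ : G → ℂ} (hχ : IsClassFunction G χ) {g : G}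
    (a b : MonoidAlgebra (lring M) G) (hb : ∀ x, b.coeff (g * x * g⁻¹) = b.coeff x) :
    tval χ g (a * b) = tval χ g (b * a) := by
  have key : ∀ c d : MonoidAlgebra (lring M) G, tval χ g (c * d) =
      ∑ x, ∑ y, ((c.coeff x : lring M) : ℂ) * ((d.coeff y : lring M) : ℂ) * χ (x * y * g) := by
    intro c d
    unfold tval
    simp only [coeff_mul_eq, AddSubmonoidClass.coe_finsetSum, MulMemClass.coe_mul, Finset.sum_mul]
    rw [Finset.sum_comm]
    refine Finset.sum_congr rfl fun x _ => ?_
    refine Fintype.sum_equiv (Equiv.mulLeft x⁻¹) _ _ fun y => ?_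
    simp
  rw [key, key]
  conv_rhs => rw [Finset.sum_comm]
  refine Finset.sum_congr rfl fun x _ => ?_
  refine Fintype.sum_equiv (MulAut.conj g⁻¹).toEquiv _ _ fun y => ?_
  simp only [MulEquiv.toEquiv_eq_coe, MulEquiv.coe_toEquiv, MulAut.conj_apply, inv_inv]
  have h1 : b.coeff (g⁻¹ * y * g) = b.coeff y := by
    conv_rhs => rw [show y = g * (g⁻¹ * y * g) * g⁻¹ by group, hb]
  have h2 : χ (x * y * g) = χ (g⁻¹ * y * g * x * g) := by
    rw [← hχ (x * y * g) (g⁻¹ * y * g)]
    congr 1
    group
  rw [h1, h2]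
  ring

variable (hM : IsPModular p M)
include hM

/-- An idempotent vanishing modulo `M` on the centralizer of the `p`-part has trace zero. -/
theorem tval_idem_eq_zero {χ : G → ℂ} (hχ : IsClassFunction G χ) {g u : G} (hu : IsPPart p g u)
    {a : MonoidAlgebra (lring M) G} (ha : a * a = a)
    (hinv : ∀ x, a.coeff (g * x * g⁻¹) = a.coeff x)
    (h0 : ∀ c ∈ Subgroup.centralizer ({u} : Set G), red M (a.coeff c) = 0) :
    tval χ g a = 0 := by
  classical
  set Z : MonoidAlgebra ℂ G := mapRingHom G (lring M).subtype a with hZ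
  have hcoef : ∀ x, Z.coeff x = ((a.coeff x : lring M) : ℂ) := fun x => by
    rw [hZ, coeff_mapRingHom]; rfl
  have hmain : ∀ h : G, ∑ t : G, Z.coeff (t * h * t⁻¹ * g⁻¹) = 0 := fun h =>
    sum_coeff_conj_eq_zero hM (M := M) (by rw [hZ, ← map_mul, ha])
      (fun x => by rw [hcoef]; exact (a.coeff x).2)
      (fun x => by rw [hcoef, hcoef, hinv]) h
      (fun u' w hu' _ _ c hc => by
        rw [hcoef]
        exact red_eq_zero.1 (h0 c (by rwa [isPPart_unique hM.1 hu' hu] at hc)))
  have hkey : (Nat.card G : ℂ) * tval χ g a = 0 := by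
    calc (Nat.card G : ℂ) * tval χ g a = ∑ t : G, ∑ h : G, Z.coeff (h * g⁻¹) * χ h := by
          rw [Finset.sum_const, Finset.card_univ, ← Nat.card_eq_fintype_card, nsmul_eq_mul, tval]
          congr 1
          refine Fintype.sum_equiv (Equiv.mulRight g) _ _ fun k => ?_
          simp [hcoef]
      _ = ∑ t : G, ∑ h : G, Z.coeff (t * h * t⁻¹ * g⁻¹) * χ h := by
          refine Finset.sum_congr rfl fun t _ => ?_
          refine (Fintype.sum_equiv (MulAut.conj t).toEquiv _ _ fun h => ?_).symm
          simp only [MulEquiv.toEquiv_eq_coe, MulEquiv.coe_toEquiv, MulAut.conj_apply]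
          rw [hχ h t]
      _ = 0 := by
          rw [Finset.sum_comm]
          refine Finset.sum_eq_zero fun h _ => ?_
          rw [← Finset.sum_mul, hmain h, zero_mul]
  exact (mul_eq_zero.1 hkey).resolve_left (Nat.cast_ne_zero.2 Nat.card_pos.ne')

/-- The trace of an endomorphism integral over the local ring lies in it. -/
theorem memLocalRing_trace {V : Type*} [AddCommGroup V] [Module ℂ V] [FiniteDimensional ℂ V]
    {X : Module.End ℂ V} (hX : IsIntegral (lring M) X) :
    MemLocalRing M (LinearMap.trace ℂ V X) := by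
  classical
  obtain ⟨P, hP, hP0⟩ := hX
  rw [Module.End.trace_eq_sum_roots_charpoly_of_splits (IsAlgClosed.splits _)]
  refine (lring M).multiset_sum_mem _ fun r hr => ?_
  have hev : X.HasEigenvalue r :=
    (Module.End.hasEigenvalue_iff_isRoot_charpoly X r).2 (Polynomial.mem_roots'.1 hr).2
  obtain ⟨v, hv⟩ := hev.exists_hasEigenvector
  refine Hensel.memLocalRing_of_root hM hP ?_
  have h1 := Module.End.aeval_apply_of_hasEigenvector (p := P.map (lring M).subtype) hv
  
  have h2 : Polynomial.aeval X (P.map (lring M).subtype) = 0 := by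
    rw [Polynomial.aeval_def, Polynomial.eval₂_map]
    exact hP0
  rw [h2, LinearMap.zero_apply, Polynomial.eval_map] at h1
  exact (smul_eq_zero.1 h1.symm).resolve_right hv.2

/-- **Divisibility.** A trace element invariant under `T` averaged against a linear character of
`T` is a local integer. -/
theorem memLocalRing_avg {χ : G → ℂ} (hχ : IsCharacter G χ) {T : Subgroup G} [Fintype T]
    (η : T →* ℂˣ) {s : G} (hs : ∀ t ∈ T, Commute t s) {a : MonoidAlgebra (lring M) G}
    (ha : IsPInv T a) :
    MemLocalRing M ((Nat.card T : ℂ)⁻¹ * ∑ t : T, (η t : ℂ) * tval χ ((t : G) * s) a) := by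
  classical
  obtain ⟨n, ρ, rfl⟩ := hχ
  let L : MonoidAlgebra (lring M) G →ₐ[lring M] Module.End ℂ (Fin n → ℂ) :=
    MonoidAlgebra.lift (lring M) (Module.End ℂ (Fin n → ℂ)) G ρ
  set A : Module.End ℂ (Fin n → ℂ) := L (a * MonoidAlgebra.single s 1) with hA
  set E : Module.End ℂ (Fin n → ℂ) := (Nat.card T : ℂ)⁻¹ • ∑ t : T, (η t : ℂ) • ρ (t : G) with hE
  have hLsum : L a = ∑ k, ((a.coeff k : lring M) : ℂ) • ρ k := by
    conv_lhs => rw [← MonoidAlgebra.sum_coeff_single a, Finsupp.sum_fintype _ _ (fun _ => by simp)]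
    rw [map_sum]
    refine Finset.sum_congr rfl fun k _ => ?_
    rw [MonoidAlgebra.lift_single]
    rfl
  have hLs : L (MonoidAlgebra.single s 1) = ρ s := by
    rw [MonoidAlgebra.lift_single]; exact one_smul _ _
  have hρs : ∀ t : T, ρ (t : G) * ρ s = ρ s * ρ (t : G) := fun t => by
    rw [← map_mul, ← map_mul, (hs t t.2).eq]
  have hcomm : ∀ t : T, ρ (t : G) * A = A * ρ (t : G) := by
    intro t
    have h1 : ρ (t : G) * L a = L a * ρ (t : G) := by
      rw [hLsum, Finset.mul_sum, Finset.sum_mul]
      refine Fintype.sum_equiv (MulAut.conj (t : G)).toEquiv _ _ fun k => ?_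
      simp only [MulEquiv.toEquiv_eq_coe, MulEquiv.coe_toEquiv, MulAut.conj_apply,
        mul_smul_comm, smul_mul_assoc, ha t t.2 k, ← map_mul]
      congr 2
      group
    rw [hA, map_mul, hLs, ← mul_assoc, h1, mul_assoc, hρs, ← mul_assoc]
  have hEA : E * A = A * E := by
    rw [hE, smul_mul_assoc, mul_smul_comm, Finset.sum_mul, Finset.mul_sum]
    refine congrArg _ (Finset.sum_congr rfl fun t _ => ?_)
    rw [smul_mul_assoc, mul_smul_comm, hcomm]
  have hEE : E * E = E := by
    have h1 : ∀ r : T, ((η r : ℂ) • ρ (r : G)) * (∑ t : T, (η t : ℂ) • ρ (t : G)) =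
        ∑ t : T, (η t : ℂ) • ρ (t : G) := by
      intro r
      rw [Finset.mul_sum]
      refine Fintype.sum_equiv (Equiv.mulLeft r) _ _ fun t => ?_
      simp only [Equiv.coe_mulLeft, smul_mul_smul_comm, map_mul, Units.val_mul, Subgroup.coe_mul]
    rw [hE, smul_mul_smul_comm, Finset.sum_mul, Finset.sum_congr rfl fun r _ => h1 r,
      Finset.sum_const, Finset.card_univ, ← Nat.card_eq_fintype_card, ← Nat.cast_smul_eq_nsmul ℂ,
      smul_smul, mul_assoc,
      inv_mul_cancel₀ (Nat.cast_ne_zero.2 (Nat.card_pos (α := T)).ne'), mul_one]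
  have hval : (Nat.card T : ℂ)⁻¹ * ∑ t : T, (η t : ℂ) * tval ρ.character ((t : G) * s) a =
      LinearMap.trace ℂ _ (E * A) := by
    rw [hE, smul_mul_assoc, map_smul, smul_eq_mul, Finset.sum_mul, map_sum]
    refine congrArg _ (Finset.sum_congr rfl fun t _ => ?_)
    rw [smul_mul_assoc, map_smul, smul_eq_mul, LinearMap.trace_mul_comm ℂ (ρ (t : G)) A, hA,
      map_mul L, hLs, mul_assoc (L a), ← map_mul ρ, hLsum, Finset.sum_mul, map_sum, tval]
    refine congrArg _ (Finset.sum_congr rfl fun k _ => ?_)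
    rw [smul_mul_assoc, map_smul, smul_eq_mul, Representation.character, ← map_mul ρ,
      (hs t t.2).eq]
  rw [hval]
  refine memLocalRing_trace hM ?_
  have : Algebra.IsIntegral (lring M) (MonoidAlgebra (lring M) G) := Algebra.IsIntegral.of_finite _ _
  obtain ⟨P, hP, hP0⟩ := (Algebra.IsIntegral.isIntegral (R := lring M)
    (a * MonoidAlgebra.single s (1 : lring M))).map L
  rw [← Polynomial.aeval_def, ← hA] at hP0
  refine ⟨Polynomial.X * P, Polynomial.monic_X.mul hP, ?_⟩
  rw [← Polynomial.aeval_def]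
  have key : ∀ Q : Polynomial (lring M),
      E * Polynomial.aeval (E * A) Q = E * Polynomial.aeval A Q := by
    intro Q
    induction Q using Polynomial.induction_on' with
    | add f g hf hg => rw [map_add, map_add, mul_add, mul_add, hf, hg]
    | monomial m c =>
      rw [Polynomial.aeval_monomial, Polynomial.aeval_monomial, ← mul_assoc, ← mul_assoc,
        ← Algebra.commutes c E, mul_assoc, mul_assoc]
      congr 1
      rw [(show Commute E A from hEA).mul_pow]
      rcases Nat.eq_zero_or_pos m with rfl | hm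
      · simp
      · obtain ⟨m', rfl⟩ := Nat.exists_eq_succ_of_ne_zero hm.ne'
        rw [(show IsIdempotentElem E from hEE).pow_succ_eq m', ← mul_assoc, hEE]
  rw [map_mul, Polynomial.aeval_X, hEA, mul_assoc, ← hEA, key, hP0, mul_zero, mul_zero]

end CfsgLib.BlockB.StarTrace
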