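import Cfsg.Agent.Lib.BlockB.StarBr
import Cfsg.Agent.Lib.BlockB.StarTrace
import Cfsg.Agent.Lib.BlockB.HeightBound

/-!
Idempotent lifts to the group algebra over the local ring, and the value at `u * s` of a character
weighted over the blocks of the centralizer of `u`, as a function of an idempotent modulo `M`.
-/

set_option autoImplicit false
set_option linter.unusedSectionVars false
set_option maxHeartbeats 1000000

namespace CfsgLib.BlockB.StarLift

open Cfsg CfsgLib.Block CfsgLib.BlockA CfsgLib.BlockB.StarBr CfsgLib.BlockB.StarTrace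
  CfsgLib.BlockB.SubSum CfsgLib.BlockB.HeightBound MonoidAlgebra

universe u

variable {G : Type u} [Group G] [Fintype G] {p : ℕ} {M : Ideal AlgInt} [M.IsPrime]

local notation "cen" Q => Subgroup.centralizer ((Q : Subgroup G) : Set G)

theorem isPInv_mono' {R : Type*} [CommRing R] {Y' Y : Subgroup G} (h : Y' ≤ Y)
    {a : MonoidAlgebra R G} (ha : IsPInv Y a) : IsPInv Y' a := fun u hu => ha u (h hu)

/-- Reduction modulo `M` of the coefficients. -/
noncomputable def redG : MonoidAlgebra (lring M) G →+* MonoidAlgebra (kres M) G :=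
  mapRingHom G (red M)

theorem coeff_redG (a : MonoidAlgebra (lring M) G) (x : G) :
    (redG a).coeff x = red M (a.coeff x) := by rw [redG, coeff_mapRingHom]

theorem redG_invariant {Y : Subgroup G} {a : MonoidAlgebra (lring M) G} (ha : IsPInv Y a) :
    IsPInv Y (redG a) := fun u hu x => by rw [coeff_redG, coeff_redG, ha u hu x]

theorem redG_algebraMap (r : lring M) :
    redG (algebraMap (lring M) (MonoidAlgebra (lring M) G) r) =
      algebraMap (kres M) (MonoidAlgebra (kres M) G) (red M r) := by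
  simp [redG, MonoidAlgebra.coe_algebraMap]

open Classical in
/-- A coefficientwise lift. -/
noncomputable def lift0 (a : MonoidAlgebra (kres M) G) : MonoidAlgebra (lring M) G :=
  mkGA fun x => if a.coeff x = 0 then 0 else Function.surjInv (red_surjective (M := M)) (a.coeff x)

theorem redG_lift0 (a : MonoidAlgebra (kres M) G) : redG (lift0 a) = a := by
  ext x
  rw [coeff_redG, lift0, coeff_mkGA]
  split_ifs with h
  · rw [map_zero, h]
  · exact Function.surjInv_eq _ _

theorem lift0_mem {Y H : Subgroup G} {a : MonoidAlgebra (kres M) G} (ha : IsPInv Y a)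
    (hs : ∀ x ∉ H, a.coeff x = 0) : lift0 a ∈ fixAlg (lring M) Y H :=
  ⟨fun u hu x => by rw [lift0, coeff_mkGA, coeff_mkGA, ha u hu x],
    fun x hx => by rw [lift0, coeff_mkGA, if_pos (hs x hx)]⟩

/-- The reduction restricted to invariant elements. -/
noncomputable def redF (Y H : Subgroup G) :
    fixAlg (lring M) Y H →+* MonoidAlgebra (kres M) G :=
  redG.comp (fixAlg (lring M) Y H).val.toRingHom

theorem redF_apply {Y H : Subgroup G} (a : fixAlg (lring M) Y H) :
    redF Y H a = redG (a : MonoidAlgebra (lring M) G) := rfl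

theorem redF_algebraMap (Y H : Subgroup G) (r : lring M) :
    redF Y H (algebraMap (lring M) (fixAlg (lring M) Y H) r) =
      algebraMap (kres M) (MonoidAlgebra (kres M) G) (red M r) := redG_algebraMap r

variable (hM : IsPModular p M)
include hM

/-- Every idempotent fixed element lifts to an idempotent. -/
theorem exists_lift {Y H : Subgroup G} {j : MonoidAlgebra (kres M) G} (hj : IsPInv Y j)
    (hs : ∀ x ∉ H, j.coeff x = 0) (hjj : j * j = j) :
    ∃ e ∈ fixAlg (lring M) Y H, e * e = e ∧ redG e = j := by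
  obtain ⟨e, y, he, -, -, -, hψ⟩ := Hensel.exists_idem (Hensel.lringSplit hM)
    (⟨lift0 j, lift0_mem hj hs⟩ : fixAlg (lring M) Y H) (Algebra.IsIntegral.isIntegral _)
  refine ⟨e, e.2, congrArg Subtype.val he, ?_⟩
  have h := hψ (B := MonoidAlgebra (kres M) G) (redF Y H) (redF_algebraMap Y H)
    (by rw [redF_apply]; simp only [redG_lift0, hjj])
  simpa [redF_apply, redG_lift0] using h

/-- Orthogonal idempotents lift to orthogonal idempotents. -/
theorem exists_lift_orth {Y H : Subgroup G} {j : MonoidAlgebra (kres M) G} (hj : IsPInv Y j)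
    (hs : ∀ x ∉ H, j.coeff x = 0) (hjj : j * j = j) {e : MonoidAlgebra (lring M) G}
    (he : e ∈ fixAlg (lring M) Y H) (hee : e * e = e) (h1 : redG e * j = 0)
    (h2 : j * redG e = 0) :
    ∃ f ∈ fixAlg (lring M) Y H, f * f = f ∧ redG f = j ∧ e * f = 0 ∧ f * e = 0 := by
  set l : fixAlg (lring M) Y H := (1 - ⟨e, he⟩) * ⟨lift0 j, lift0_mem hj hs⟩ * (1 - ⟨e, he⟩)
    with hl
  have hred : redF Y H l = j := by
    rw [hl, map_mul, map_mul, map_sub, map_one, redF_apply, redF_apply]
    simp only [redG_lift0]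
    rw [sub_mul, one_mul, h1, sub_zero, mul_sub, mul_one, h2, sub_zero]
  obtain ⟨f, y, hf, hly, hyl, -, hψ⟩ := Hensel.exists_idem (Hensel.lringSplit hM) l
    (Algebra.IsIntegral.isIntegral _)
  have hee' : (⟨e, he⟩ : fixAlg (lring M) Y H) * ⟨e, he⟩ = ⟨e, he⟩ := Subtype.ext hee
  have hel : (⟨e, he⟩ : fixAlg (lring M) Y H) * l = 0 := by
    rw [hl, ← mul_assoc, ← mul_assoc, show (⟨e, he⟩ : fixAlg (lring M) Y H) * (1 - ⟨e, he⟩) = 0 by
      rw [mul_sub, mul_one, hee', sub_self], zero_mul, zero_mul]
  have hle : l * (⟨e, he⟩ : fixAlg (lring M) Y H) = 0 := by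
    rw [hl, mul_assoc, show (1 - ⟨e, he⟩) * (⟨e, he⟩ : fixAlg (lring M) Y H) = 0 by
      rw [sub_mul, one_mul, hee', sub_self], mul_zero]
  refine ⟨f, f.2, congrArg Subtype.val hf, ?_, ?_, ?_⟩
  · have h := hψ (B := MonoidAlgebra (kres M) G) (redF Y H) (redF_algebraMap Y H)
      (by rw [hred, hjj])
    rwa [hred] at h
  · exact congrArg Subtype.val
      (show (⟨e, he⟩ : fixAlg (lring M) Y H) * f = 0 by rw [← hly, ← mul_assoc, hel, zero_mul])
  · exact congrArg Subtype.val
      (show f * (⟨e, he⟩ : fixAlg (lring M) Y H) = 0 by rw [← hyl, mul_assoc, hle, mul_zero])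

/-- Invariant elements at a `p`-element `u`, with the Brauer map. -/
noncomputable def brRed {Y : Subgroup G} {u : G} (hu : ∃ k : ℕ, orderOf u = p ^ k)
    (hY : u ∈ Y) : fixAlg (lring M) Y ⊤ →+* MonoidAlgebra (kres M) G :=
  have hP : IsPGroup p (Subgroup.zpowers u) := by
    obtain ⟨k, hk⟩ := hu
    exact IsPGroup.of_card (by rw [Nat.card_zpowers, hk])
  have hle : Subgroup.zpowers u ≤ Y := Subgroup.zpowers_le.2 hY
  { toFun := fun a => br (Subgroup.zpowers u) (redG (a : MonoidAlgebra (lring M) G))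
    map_one' := by
      show br _ (redG (1 : MonoidAlgebra (lring M) G)) = 1
      rw [map_one, br_one]
    map_mul' := fun a b => by
      rw [MulMemClass.coe_mul, map_mul]
      exact br_mul hM hP (isPInv_mono' hle (redG_invariant a.2.1))
        (isPInv_mono' hle (redG_invariant b.2.1))
    map_zero' := by
      show br _ (redG (0 : MonoidAlgebra (lring M) G)) = 0
      rw [map_zero, br_zero]
    map_add' := fun a b => by rw [AddMemClass.coe_add, map_add, br_add] }

variable {χ : G → ℂ} (hχ : IsClassFunction G χ) {u s : G} (hu : ∃ k : ℕ, orderOf u = p ^ k)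
  (hs : ¬ p ∣ orderOf s) (hus : Commute u s)

local notation "Yu" => (Subgroup.zpowers u ⊔ Subgroup.zpowers s)

include hu hs hus in
theorem isPPart_us : IsPPart p (u * s) u := ⟨s, rfl, hus, hu, hs⟩

theorem conj_us_invariant {R : Type*} [CommRing R] {a : MonoidAlgebra R G}
    (ha : IsPInv Yu a) : ∀ x, a.coeff (u * s * x * (u * s)⁻¹) = a.coeff x :=
  ha _ (Subgroup.mul_mem_sup (Subgroup.mem_zpowers u) (Subgroup.mem_zpowers s))

include hχ hu hs hus

/-- Traces of idempotents with the same image under the Brauer map agree. -/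
theorem tval_congr {e f : MonoidAlgebra (lring M) G} (he : e ∈ fixAlg (lring M) Yu ⊤)
    (hf : f ∈ fixAlg (lring M) Yu ⊤) (hee : e * e = e) (hff : f * f = f)
    (h : br (Subgroup.zpowers u) (redG e) = br (Subgroup.zpowers u) (redG f)) :
    tval χ (u * s) e = tval χ (u * s) f := by
  have huY : u ∈ Yu := Subgroup.mem_sup_left (Subgroup.mem_zpowers u)
  set ψ := brRed hM (M := M) hu huY with hψdef
  have hψ : ∀ r, ψ (algebraMap (lring M) _ r) =
      algebraMap (kres M) (MonoidAlgebra (kres M) G) (red M r) := fun r => by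
    show br _ (redG (algebraMap (lring M) (MonoidAlgebra (lring M) G) r)) = _
    rw [redG_algebraMap]
    refine br_eq_self fun x hx => ?_
    simp only [MonoidAlgebra.coe_algebraMap, Function.comp_apply, coeff_single]
    exact Finsupp.single_eq_of_ne fun h => hx (by rw [h]; exact Subgroup.one_mem _)
  -- an idempotent reducing to zero
  have hzero : ∀ a : fixAlg (lring M) Yu ⊤, a * a = a → ψ a = 0 →
      tval χ (u * s) (a : MonoidAlgebra (lring M) G) = 0 := by
    intro a ha h0
    refine tval_idem_eq_zero hM hχ (isPPart_us hM hu hs hus) (congrArg Subtype.val ha)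
      (conj_us_invariant hM a.2.1) fun c hc => ?_
    have hc' : c ∈ cen (Subgroup.zpowers u) := by rwa [cen_zpowers]
    classical
    have := congrArg (fun z : MonoidAlgebra (kres M) G => z.coeff c) h0
    change (br _ (redG (a : MonoidAlgebra (lring M) G))).coeff c = 0 at this
    rwa [coeff_br, if_pos hc', coeff_redG] at this
  set e' : fixAlg (lring M) Yu ⊤ := ⟨e, he⟩
  set f' : fixAlg (lring M) Yu ⊤ := ⟨f, hf⟩
  have hee' : e' * e' = e' := Subtype.ext hee
  have hff' : f' * f' = f' := Subtype.ext hff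
  have hψe : ψ e' = ψ f' := h
  obtain ⟨e₁, y, he₁, hee₁, he₁e, hψe₁, hab, hba, hψba⟩ := Hensel.exists_equiv
    (Hensel.lringSplit hM) ψ hψ (a := f') (b := f') hee' (by rw [← map_mul, hff', hψe])
  set f₁ := f' * y * (e₁ * f') with hf₁
  have hff₁ : f' * f₁ = f₁ := by rw [hf₁, ← mul_assoc f' (f' * y), ← mul_assoc f' f' y, hff']
  have hf₁f : f₁ * f' = f₁ := by rw [hf₁, mul_assoc (f' * y), mul_assoc e₁ f' f', hff']
  have h1 : tval χ (u * s) e = tval χ (u * s) (e₁ : MonoidAlgebra (lring M) G) := by
    rw [← sub_eq_zero, ← tval_sub]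
    exact hzero (e' - e₁) (by rw [sub_mul, mul_sub, mul_sub, hee', hee₁, he₁e, he₁]; abel)
      (by rw [map_sub, hψe₁, sub_self])
  have h2 : tval χ (u * s) f = tval χ (u * s) (f₁ : MonoidAlgebra (lring M) G) := by
    rw [← sub_eq_zero, ← tval_sub]
    exact hzero (f' - f₁) (by rw [sub_mul, mul_sub, mul_sub, hff', hff₁, hf₁f, hba]; abel)
      (by rw [map_sub, hψba, hψe, ← map_mul, ← map_mul, hff', hff', sub_self])
  rw [h1, h2, hf₁, MulMemClass.coe_mul]
  conv_lhs => rw [← hab, MulMemClass.coe_mul]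
  exact tval_mul_comm hχ _ _ (conj_us_invariant hM (f' * y).2.1)

end CfsgLib.BlockB.StarLift
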