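import Cfsg.Agent.Lib.BlockB.GoodClasses
import Cfsg.Prelude.Def_BlockRank

/-!
Over an invariant character of a normal subgroup the characters are proportional on each coset, so
the rank of a block over it is at most the number of regular classes of the quotient.
-/

set_option autoImplicit false
set_option linter.unusedSectionVars false
set_option linter.style.haveILetI false
set_option maxHeartbeats 1000000

namespace CfsgLib.BlockB.McKay

open CfsgLib.Clifford
open scoped ComplexConjugate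

universe u

variable {U : Type u} [Group U] [Fintype U] (K : Subgroup U) [K.Normal] [Fintype K] {θ : K → ℂ}
  (hθ : Cfsg.IsIrrCharacter K θ) (hinv : ∀ t, conjFn t θ = θ)
include hθ hinv

/-- One function on a coset carries every character over `θ`. -/
theorem exists_coset_fn (g : U) :
    ∃ φ : K → ℂ, ∀ χ : Cfsg.IrrCharacter U,
      Cfsg.classInner ((χ : U → ℂ) ∘ fun k : K => (k : U)) θ ≠ 0 →
      ∃ c : ℂ, ∀ k : K, (χ : U → ℂ) (k * g) = c * φ k := by
  classical
  set Y := K ⊔ Subgroup.zpowers g with hY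
  have hKY : K ≤ Y := le_sup_left
  have hgY : g ∈ Y := Subgroup.mem_sup_right (Subgroup.mem_zpowers g)
  have := Fintype.ofFinite Y
  let K' := K.subgroupOf Y
  have := Fintype.ofFinite K'
  let e : K' ≃* K := Subgroup.subgroupOfEquivOfLe hKY
  have hYform : ∀ y ∈ Y, ∃ k ∈ K, ∃ i : ℤ, y = k * g ^ i := by
    intro y hy
    obtain ⟨k, hk, z, hz, rfl⟩ := Subgroup.mem_sup_of_normal_left.1 hy
    obtain ⟨i, rfl⟩ := Subgroup.mem_zpowers_iff.1 hz
    exact ⟨k, hk, i, rfl⟩
  have : IsCyclic (Y ⧸ K') := by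
    refine ⟨⟨QuotientGroup.mk' K' ⟨g, hgY⟩, fun q => ?_⟩⟩
    obtain ⟨y, rfl⟩ := QuotientGroup.mk'_surjective K' q
    obtain ⟨k, hk, i, hi⟩ := hYform y y.2
    refine ⟨i, ?_⟩
    show QuotientGroup.mk' K' ⟨g, hgY⟩ ^ i = _
    rw [← map_zpow]
    refine QuotientGroup.eq.2 (Subgroup.mem_subgroupOf.2 ?_)
    rw [Subgroup.coe_mul, Subgroup.coe_inv, Subgroup.coe_zpow, hi]
    simpa [mul_assoc] using (inferInstance : K.Normal).conj_mem k hk (g ^ i)⁻¹
  have hθ' : Cfsg.IsIrrCharacter K' (θ ∘ e) :=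
    CfsgLib.Char.isIrrCharacter_comp_surjective hθ e.toMonoidHom e.surjective
  obtain ⟨θY, hθY, hres⟩ := exists_extension_cyclic K' hθ' fun t => funext fun m => by
    rw [conjFn_apply, Function.comp_apply, Function.comp_apply]
    exact (congrArg θ (Subtype.ext rfl)).trans (congr_fun (hinv (t : U)) (e m))
  have hresirr : Cfsg.IsIrrCharacter K' (fun m : K' => θY m) := by
    rw [show (fun m : K' => θY m) = θ ∘ e from funext hres]; exact hθ'
  let kg : K → Y := fun k => ⟨(k : U) * g, mul_mem (hKY k.2) hgY⟩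
  refine ⟨fun k => θY (kg k), fun χ hχ => ?_⟩
  have := Fintype.ofFinite (Cfsg.IrrCharacter Y)
  have hc := CfsgLib.Char.isCharacter_restrict (CfsgLib.Char.irr_isCharacter χ.2) Y
  have hcl := CfsgLib.Char.isCharacter_isClassFunction hc
  have hK : (fun m : K' => (χ : U → ℂ) ((m : Y) : U)) =
      Cfsg.classInner ((χ : U → ℂ) ∘ fun k : K => (k : U)) θ • fun m : K' => θY m :=
    funext fun m => by
      have := congr_fun (restrict_eq_smul_of_invariant χ.2 hθ hinv hχ) (e m)
      rw [Pi.smul_apply, hres m]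
      exact this
  refine ⟨∑ ψ : Cfsg.IrrCharacter Y, Cfsg.classInner (fun y : Y => (χ : U → ℂ) y) (ψ : Y → ℂ) *
    gallagherQuot K' (ψ : Y → ℂ) θY ⟨g, hgY⟩, fun k => ?_⟩
  show (χ : U → ℂ) (kg k : U) = _
  rw [show (χ : U → ℂ) (kg k : U) = _ from CfsgLib.Char.classFunction_apply_eq_sum hcl (kg k),
    Finset.sum_mul]
  refine Finset.sum_congr rfl fun ψ _ => ?_
  rcases eq_or_ne (Cfsg.classInner (fun y : Y => (χ : U → ℂ) y) (ψ : Y → ℂ)) 0 with h0 | h0
  · rw [h0]; simp
  have hψK : Cfsg.classInner (fun m : K' => (ψ : Y → ℂ) m) (fun m : K' => θY m) ≠ 0 := by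
    intro hz
    obtain ⟨μ, hμ, hμne⟩ := exists_irr_constituent_restrict (N := K') ψ.2
    obtain ⟨R, hR, hRe⟩ := exists_add_of_constituent hc ψ.2 h0
    have e1 : Cfsg.classInner (fun m : K' => (χ : U → ℂ) ((m : Y) : U)) μ ≠ 0 := by
      rw [show (fun m : K' => (χ : U → ℂ) ((m : Y) : U)) =
        (fun m : K' => (ψ : Y → ℂ) m) + (fun m : K' => R m) from funext fun m => congr_fun hRe m]
      exact fun h => hμne (OverTheta.inner_add_eq_zero
        (CfsgLib.Char.isCharacter_restrict (CfsgLib.Char.irr_isCharacter ψ.2) K')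
        (CfsgLib.Char.isCharacter_restrict hR K') (CfsgLib.Char.irr_isCharacter hμ) h)
    rw [hK, CfsgLib.Char.classInner_smul_left, mul_ne_zero_iff] at e1
    have hμe : (fun m : K' => θY m) = μ := by
      by_contra hne
      exact e1.2 (CfsgLib.Char.irr_classInner_ne hresirr hμ hne)
    exact hμne (hμe ▸ hz)
  have hconst : gallagherQuot K' (ψ : Y → ℂ) θY (kg k) =
      gallagherQuot K' (ψ : Y → ℂ) θY ⟨g, hgY⟩ :=
    cosetAvg_mul_left K' _ ⟨⟨k, hKY k.2⟩, k.2⟩ ⟨g, hgY⟩
  rw [show (ψ : Y → ℂ) (kg k) = _ from congr_fun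
    (gallagher_factor K' ψ.2 (CfsgLib.Char.irr_isCharacter hθY) hresirr hψK).2 (kg k), Pi.mul_apply,
    hconst]
  ring

/-- **The rank of characters over an invariant character.** -/
theorem blockRank_le_classes (p : ℕ) (B : Set (Cfsg.IrrCharacter U))
    (hB : ∀ χ ∈ B, Cfsg.classInner ((χ : U → ℂ) ∘ fun k : K => (k : U)) θ ≠ 0) :
    Cfsg.blockRank p B ≤
      Nat.card {C : ConjClasses (U ⧸ K) // ∃ q, ConjClasses.mk q = C ∧ ¬ p ∣ orderOf q} := by
  classical
  set ι := {C : ConjClasses (U ⧸ K) // ∃ q, ConjClasses.mk q = C ∧ ¬ p ∣ orderOf q}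
  have : Finite (ConjClasses (U ⧸ K)) := Finite.of_surjective _ ConjClasses.mk_surjective
  have : Finite ι := Finite.of_injective (fun i : ι => i.1) Subtype.val_injective
  have := Fintype.ofFinite ι
  have hg : ∀ i : ι, ∃ g : U, ConjClasses.mk (g : U ⧸ K) = i.1 := fun i => by
    obtain ⟨q, hq⟩ := ConjClasses.exists_rep i.1
    obtain ⟨g, rfl⟩ := QuotientGroup.mk_surjective q
    exact ⟨g, hq⟩
  choose g hg using hg
  choose φ hφ using fun i : ι => exists_coset_fn K hθ hinv (g i)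
  have ht : ∀ (i : ι) (x : U), ConjClasses.mk (x : U ⧸ K) = i.1 →
      ∃ t : U, t * x * t⁻¹ * (g i)⁻¹ ∈ K := by
    intro i x hx
    obtain ⟨q, hq⟩ := isConj_iff.1 (ConjClasses.mk_eq_mk_iff_isConj.1 (hx.trans (hg i).symm))
    obtain ⟨t, rfl⟩ := QuotientGroup.mk_surjective q
    refine ⟨t, (QuotientGroup.eq_one_iff _).1 ?_⟩
    rw [QuotientGroup.mk_mul, QuotientGroup.mk_inv, QuotientGroup.mk_mul, QuotientGroup.mk_mul,
      QuotientGroup.mk_inv, hq, mul_inv_cancel]
  let F : ι → U → ℂ := fun i x =>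
    if h : Cfsg.IsPRegular p x ∧ ConjClasses.mk (x : U ⧸ K) = i.1 then
      φ i ⟨_, (ht i x h.2).choose_spec⟩ else 0
  refine le_trans (Submodule.finrank_mono ?_) (finrank_range_le_card (R := ℂ) F) |>.trans
    (le_of_eq Fintype.card_eq_nat_card)
  rw [Submodule.span_le]
  rintro _ ⟨χ, hχ, rfl⟩
  choose c hc using fun i : ι => hφ i χ (hB χ hχ)
  have key : Cfsg.pRegularPart p (χ : U → ℂ) = ∑ i : ι, c i • F i := by
    funext x
    rw [Finset.sum_apply, Cfsg.pRegularPart]
    by_cases hx : Cfsg.IsPRegular p x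
    · have hreg : ¬ p ∣ orderOf (x : U ⧸ K) := fun h =>
        hx (h.trans (orderOf_map_dvd (QuotientGroup.mk' K) x))
      let i : ι := ⟨ConjClasses.mk (x : U ⧸ K), (x : U ⧸ K), rfl, hreg⟩
      rw [if_pos hx, Finset.sum_eq_single i]
      · rw [Pi.smul_apply, smul_eq_mul]
        simp only [F]
        rw [dif_pos ⟨hx, rfl⟩, ← hc i]
        set t := (ht i x rfl).choose
        show (χ : U → ℂ) x = (χ : U → ℂ) (t * x * t⁻¹ * (g i)⁻¹ * g i)
        rw [inv_mul_cancel_right, CfsgLib.Char.irr_isClassFunction χ.2 x t]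
      · intro j _ hj
        rw [Pi.smul_apply]
        simp only [F]
        rw [dif_neg fun h => hj (Subtype.ext h.2.symm), smul_zero]
      · intro h; exact absurd (Finset.mem_univ _) h
    · rw [if_neg hx, Finset.sum_eq_zero]
      intro j _
      rw [Pi.smul_apply]
      simp only [F]
      rw [dif_neg fun h => hx h.1, smul_zero]
  show Cfsg.pRegularPart p (χ : U → ℂ) ∈ _
  rw [key]
  exact Submodule.sum_mem _ fun i _ => Submodule.smul_mem _ _ (Submodule.subset_span ⟨i, rfl⟩)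

end CfsgLib.BlockB.McKay
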