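import Mathlib.GroupTheory.Index
import Mathlib.GroupTheory.Coset.Card
import Mathlib.GroupTheory.OrderOfElement
import Mathlib.GroupTheory.QuotientGroup.Basic
import Mathlib.Data.Fintype.Card
import Mathlib.Algebra.BigOperators.Fin
import Mathlib.Tactic.Ring

/-!
An abelian group acting coprimely on an abelian group: the index of the fixed points of an
element is a product over subgroups `K i` with `[C : K i] < N i` of `N i` for `c ∉ K i`.
-/

set_option autoImplicit false

namespace CfsgLib.BlockB.AbelianFixIndex

universe u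

variable {C : Type*} [CommGroup C]

/-- The fixed points of an automorphism. -/
def fix {W : Type*} [CommGroup W] (a : MulAut W) : Subgroup W :=
  MonoidHom.eqLocus a.toMonoidHom (MonoidHom.id W)

theorem mem_fix {W : Type*} [CommGroup W] {a : MulAut W} {w : W} : w ∈ fix a ↔ a w = w := Iff.rfl

theorem apply_comm {W : Type*} [CommGroup W] (φ : C →* MulAut W) (c d : C) (w : W) :
    φ c (φ d w) = φ d (φ c w) := by
  rw [← MulAut.mul_apply, ← map_mul, mul_comm, map_mul, MulAut.mul_apply]

/-- The restriction of an action to an invariant subgroup. -/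
def restrict {W : Type*} [CommGroup W] (φ : C →* MulAut W) (S : Subgroup W)
    (hS : ∀ c, ∀ w ∈ S, φ c w ∈ S) : C →* MulAut S where
  toFun c :=
    { toFun := fun w => ⟨φ c w, hS c w w.2⟩
      invFun := fun w => ⟨φ c⁻¹ w, hS c⁻¹ w w.2⟩
      left_inv := fun w => Subtype.ext (by simp)
      right_inv := fun w => Subtype.ext (by simp)
      map_mul' := fun a b => Subtype.ext (by simp) }
  map_one' := by ext w; simp
  map_mul' := fun c d => by ext w; simp

theorem coe_restrict {W : Type*} [CommGroup W] (φ : C →* MulAut W) (S : Subgroup W)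
    (hS : ∀ c, ∀ w ∈ S, φ c w ∈ S) (c : C) (w : S) : (restrict φ S hS c w : W) = φ c w := rfl

theorem natCard_fix_mul {W : Type*} [CommGroup W] [Finite W] (φ : C →* MulAut W)
    (S T : Subgroup W) (hS : ∀ c, ∀ w ∈ S, φ c w ∈ S) (hT : ∀ c, ∀ w ∈ T, φ c w ∈ T)
    (hdis : ∀ w ∈ S, w ∈ T → w = 1) (hcard : Nat.card S * Nat.card T = Nat.card W) (c : C) :
    Nat.card (fix (φ c)) =
      Nat.card (fix (restrict φ S hS c)) * Nat.card (fix (restrict φ T hT c)) := by
  have := Fintype.ofFinite W
  have := Fintype.ofFinite S
  have := Fintype.ofFinite T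
  let f : S × T → W := fun x => (x.1 : W) * x.2
  have hinj : Function.Injective f := fun a b hab => by
    have e : (a.1 : W) / b.1 = (b.2 : W) / a.2 := div_eq_div_iff_mul_eq_mul.2
      (by rw [show (a.1 : W) * a.2 = (b.1 : W) * b.2 from hab]; exact mul_comm _ _)
    have h1 : (a.1 : W) / b.1 = 1 := hdis _ (div_mem a.1.2 b.1.2) (e ▸ div_mem b.2.2 a.2.2)
    exact Prod.ext (Subtype.ext (div_eq_one.1 h1))
      (Subtype.ext (div_eq_one.1 (e ▸ h1)).symm)
  have hbij : Function.Bijective f := (Fintype.bijective_iff_injective_and_card f).2 ⟨hinj, by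
    rw [Fintype.card_prod, ← Nat.card_eq_fintype_card, ← Nat.card_eq_fintype_card,
      ← Nat.card_eq_fintype_card, hcard]⟩
  rw [← Nat.card_prod]
  refine (Nat.card_congr (Equiv.ofBijective
    (fun x : fix (restrict φ S hS c) × fix (restrict φ T hT c) =>
      (⟨f (x.1.1, x.2.1), ?_⟩ : fix (φ c))) ⟨?_, ?_⟩)).symm
  · rw [mem_fix]
    simp only [f, map_mul]
    rw [← coe_restrict φ S hS, ← coe_restrict φ T hT, mem_fix.1 x.1.2, mem_fix.1 x.2.2]
  · intro a b hab
    have := hinj (congrArg Subtype.val hab)
    exact Prod.ext (Subtype.ext (congrArg Prod.fst this)) (Subtype.ext (congrArg Prod.snd this))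
  · rintro ⟨w, hw⟩
    obtain ⟨⟨s, t⟩, rfl⟩ := hbij.2 w
    have : f (restrict φ S hS c s, restrict φ T hT c t) = f (s, t) := by
      rw [mem_fix] at hw
      simpa [f, coe_restrict, map_mul] using hw
    have h := hinj this
    exact ⟨(⟨s, congrArg Prod.fst h⟩, ⟨t, congrArg Prod.snd h⟩), rfl⟩

open scoped Classical in
theorem exists_data [Finite C] : ∀ {W : Type u} [CommGroup W] [Finite W] (φ : C →* MulAut W),
    (Nat.card C).Coprime (Nat.card W) →
    ∃ (k : ℕ) (K : Fin k → Subgroup C) (N : Fin k → ℕ), (∀ i, (K i).index < N i) ∧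
      ∀ c : C, Nat.card (fix (φ c)) * ∏ i, (if c ∈ K i then 1 else N i) = Nat.card W := by
  suffices main : ∀ n, ∀ {W : Type u} [CommGroup W] [Finite W] (φ : C →* MulAut W),
      Nat.card W = n → (Nat.card C).Coprime (Nat.card W) →
      ∃ (k : ℕ) (K : Fin k → Subgroup C) (N : Fin k → ℕ), (∀ i, (K i).index < N i) ∧
        ∀ c : C, Nat.card (fix (φ c)) * ∏ i, (if c ∈ K i then 1 else N i) = Nat.card W from
    fun {W} _ _ φ h => main _ φ rfl h
  intro n
  induction n using Nat.strong_induction_on with
  | _ n ih =>
    intro W _ _ φ hn hco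
    by_cases hbase : ∀ c, fix (φ c) = ⊤ ∨ fix (φ c) = ⊥
    · by_cases htriv : ∀ c, fix (φ c) = ⊤
      · exact ⟨0, Fin.elim0, Fin.elim0, fun i => i.elim0, fun c => by simp [htriv c]⟩
      · obtain ⟨c1, hc1⟩ := not_forall.1 htriv
        have hW : Nontrivial W := not_subsingleton_iff_nontrivial.1 fun _ =>
          hc1 (Subsingleton.elim _ _)
        obtain ⟨w0, hw0⟩ := exists_ne (1 : W)
        refine ⟨1, fun _ => φ.ker, fun _ => Nat.card W, fun _ => ?_, fun c => ?_⟩
        · rw [Subgroup.index_eq_card]
          have hinj : Function.Injective (fun x : C ⧸ φ.ker => QuotientGroup.kerLift φ x w0) := by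
            intro a b hab
            induction a using QuotientGroup.induction_on with
            | H a =>
            induction b using QuotientGroup.induction_on with
            | H b =>
            simp only [QuotientGroup.kerLift_mk] at hab
            refine QuotientGroup.eq.2 ?_
            have hfix : w0 ∈ fix (φ (a⁻¹ * b)) := by
              rw [mem_fix, map_mul, MulAut.mul_apply, ← hab, ← MulAut.mul_apply, ← map_mul,
                inv_mul_cancel, map_one]
              rfl
            rcases hbase (a⁻¹ * b) with h | h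
            · refine MonoidHom.mem_ker.2 (MulEquiv.ext fun w => ?_)
              have : w ∈ fix (φ (a⁻¹ * b)) := h ▸ Subgroup.mem_top w
              exact this
            · rw [h] at hfix
              exact absurd (Subgroup.mem_bot.1 hfix) hw0
          have := Fintype.ofFinite W
          have := Fintype.ofFinite (C ⧸ φ.ker)
          rw [Nat.card_eq_fintype_card, Nat.card_eq_fintype_card]
          refine Fintype.card_lt_of_injective_of_notMem _ hinj (b := (1 : W)) ?_
          rintro ⟨x, hx⟩
          exact hw0 ((map_eq_one_iff _ (QuotientGroup.kerLift φ x).injective).1 hx)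
        · rw [Fin.prod_univ_one]
          by_cases hc : c ∈ φ.ker
          · have : fix (φ c) = ⊤ := eq_top_iff.2 fun w _ => by
              rw [mem_fix, MonoidHom.mem_ker.1 hc]; rfl
            simp [hc, this]
          · have : fix (φ c) = ⊥ := (hbase c).resolve_left fun h => hc (MonoidHom.mem_ker.2
              (MulEquiv.ext fun w => (h ▸ Subgroup.mem_top w : w ∈ fix (φ c))))
            simp [hc, this]
    · obtain ⟨c0, hc0⟩ := not_forall.1 hbase
      obtain ⟨h1, h2⟩ := not_or.1 hc0
      let d : W →* W := (φ c0).toMonoidHom / MonoidHom.id W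
      have hd : ∀ w, d w = φ c0 w / w := fun w => rfl
      have hker : d.ker = fix (φ c0) := by
        ext w; rw [MonoidHom.mem_ker, hd, div_eq_one]; rfl
      have hS : ∀ c, ∀ w ∈ fix (φ c0), φ c w ∈ fix (φ c0) := fun c w hw => by
        rw [mem_fix] at hw ⊢
        rw [apply_comm, hw]
      have hT : ∀ c, ∀ w ∈ d.range, φ c w ∈ d.range := fun c w ⟨x, hx⟩ => ⟨φ c x, by
        rw [← hx, hd, hd, map_div, apply_comm]⟩
      have hcard : Nat.card (fix (φ c0)) * Nat.card d.range = Nat.card W := by
        rw [← hker, ← Subgroup.index_ker, Subgroup.card_mul_index]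
      have hdis : ∀ w ∈ fix (φ c0), w ∈ d.range → w = 1 := by
        rintro _ hw ⟨x, rfl⟩
        rw [mem_fix] at hw
        have hx : φ c0 x = x * d x := by rw [hd, mul_div_cancel]
        have hpow : ∀ j : ℕ, φ (c0 ^ j) x = x * d x ^ j := by
          intro j
          induction j with
          | zero => simp
          | succ j ihj =>
            rw [pow_succ', map_mul, MulAut.mul_apply, ihj, map_mul, map_pow, hw, hx, pow_succ',
              mul_assoc]
        have h := hpow (Nat.card C)
        rw [pow_card_eq_one', map_one, MulAut.one_apply, left_eq_mul] at h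
        exact orderOf_eq_one_iff.1 (Nat.eq_one_of_dvd_coprimes hco
          (orderOf_dvd_of_pow_eq_one h) (orderOf_dvd_natCard (d x)))
      have hS1 : 1 < Nat.card (fix (φ c0)) := (Subgroup.one_lt_card_iff_ne_bot _).2 h2
      have hSlt : Nat.card (fix (φ c0)) < Nat.card W := lt_of_le_of_ne
        (Nat.card_le_card_of_injective _ Subtype.val_injective)
        fun h => h1 (Subgroup.eq_top_of_card_eq _ h)
      have hTlt : Nat.card d.range < Nat.card W := by
        have : 0 < Nat.card d.range := Nat.card_pos
        calc Nat.card d.range = 1 * Nat.card d.range := (one_mul _).symm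
          _ < _ := Nat.mul_lt_mul_of_pos_right hS1 this
          _ = _ := hcard
      obtain ⟨k, K, N, hKN, hP⟩ := ih _ (hn ▸ hSlt) (restrict φ _ hS) rfl
        (hco.coprime_dvd_right (Subgroup.card_subgroup_dvd_card _))
      obtain ⟨k', K', N', hKN', hP'⟩ := ih _ (hn ▸ hTlt) (restrict φ _ hT) rfl
        (hco.coprime_dvd_right (Subgroup.card_subgroup_dvd_card _))
      refine ⟨k + k', Fin.append K K', Fin.append N N', fun i => ?_, fun c => ?_⟩
      · refine Fin.addCases (fun i => ?_) (fun i => ?_) i
        · simpa using hKN i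
        · simpa using hKN' i
      · rw [natCard_fix_mul φ _ _ hS hT hdis hcard, Fin.prod_univ_add]
        simp only [Fin.append_left, Fin.append_right]
        rw [← hcard, ← hP c, ← hP' c]
        ring

end CfsgLib.BlockB.AbelianFixIndex
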