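import Cfsg.Agent.Lib.BlockB.TensorForm
import Cfsg.Agent.Lib.BlockB.AbelianFixIndex
import Cfsg.Agent.Lib.Char.Column
import Cfsg.Agent.Lib.Char.Linear
import Cfsg.Agent.Lib.Char.CliffordApps
import Mathlib.Analysis.SpecialFunctions.Complex.CircleAddChar
import Mathlib.GroupTheory.FiniteAbelian.Duality

/-!
The abelian-centraliser criterion for `k(GV) ≤ |V|`.
-/

set_option autoImplicit false
set_option linter.unusedSectionVars false
set_option linter.style.haveILetI false

open Cfsg
open scoped ComplexConjugate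

namespace CfsgLib.BlockB.AbelianKGV

open CfsgLib.BlockB.TensorForm CfsgLib.BlockB.AbelianFixIndex

universe u

section Dual

variable {C : Type u} [CommGroup C] [Finite C]

theorem finite_dual : Finite (C →* ℂˣ) := by
  have : NeZero (Monoid.exponent C : ℂ) := ⟨by exact_mod_cast Monoid.exponent_ne_zero_of_finite⟩
  exact Nat.finite_of_card_ne_zero
    (by rw [CommGroup.card_monoidHom_of_hasEnoughRootsOfUnity]; exact Nat.card_pos.ne')

theorem natCard_dual : Nat.card (C →* ℂˣ) = Nat.card C := by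
  have : NeZero (Monoid.exponent C : ℂ) := ⟨by exact_mod_cast Monoid.exponent_ne_zero_of_finite⟩
  exact CommGroup.card_monoidHom_of_hasEnoughRootsOfUnity C ℂ

theorem exists_dual_ne_one {c : C} (hc : c ≠ 1) : ∃ μ : C →* ℂˣ, μ c ≠ 1 := by
  have : NeZero (Monoid.exponent C : ℂ) := ⟨by exact_mod_cast Monoid.exponent_ne_zero_of_finite⟩
  exact CommGroup.exists_apply_ne_one_of_hasEnoughRootsOfUnity C ℂ hc

open scoped Classical in
theorem sum_dual [Fintype (C →* ℂˣ)] (c : C) :
    ∑ μ : C →* ℂˣ, (μ c : ℂ) = if c = 1 then (Nat.card C : ℂ) else 0 := by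
  split_ifs with hc
  · subst hc
    simp [← natCard_dual (C := C), Nat.card_eq_fintype_card]
  · obtain ⟨ν, hν⟩ := exists_dual_ne_one hc
    have h : (ν c : ℂ) * ∑ μ : C →* ℂˣ, (μ c : ℂ) = ∑ μ : C →* ℂˣ, (μ c : ℂ) := by
      rw [Finset.mul_sum]
      exact Fintype.sum_equiv (Equiv.mulLeft ν) _ _ fun μ => by simp
    refine (mul_eq_zero.1 (by linear_combination h :
      ((ν c : ℂ) - 1) * ∑ μ : C →* ℂˣ, (μ c : ℂ) = 0)).resolve_left ?_
    exact sub_ne_zero.2 fun h1 => hν (Units.ext h1)

open scoped Classical in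
theorem sum_apply_dual [Fintype C] (μ : C →* ℂˣ) :
    ∑ c : C, (μ c : ℂ) = if μ = 1 then (Nat.card C : ℂ) else 0 := by
  split_ifs with hμ
  · subst hμ
    simp [Nat.card_eq_fintype_card]
  · obtain ⟨d, hd⟩ : ∃ d, μ d ≠ 1 := not_forall.1 fun h => hμ (MonoidHom.ext h)
    have h : (μ d : ℂ) * ∑ c : C, (μ c : ℂ) = ∑ c : C, (μ c : ℂ) := by
      rw [Finset.mul_sum]
      exact Fintype.sum_equiv (Equiv.mulLeft d) _ _ fun c => by simp
    refine (mul_eq_zero.1 (by linear_combination h :
      ((μ d : ℂ) - 1) * ∑ c : C, (μ c : ℂ) = 0)).resolve_left ?_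
    exact sub_ne_zero.2 fun h1 => hd (Units.ext h1)

theorem conj_dual (μ : C →* ℂˣ) (c : C) : conj (μ c : ℂ) = ((μ⁻¹ : C →* ℂˣ) c : ℂ) := by
  rw [← CfsgLib.Char.char_inv
    (CfsgLib.Char.irr_isCharacter (CfsgLib.Char.isIrrCharacter_linear μ)) c]
  simp

end Dual

/-- The form `p·Σ a b - (Σ a)(Σ b)`. -/
noncomputable def baseForm (p : ℕ) [NeZero p] (a b : ULift.{u} (ZMod p → ℤ)) : ℝ :=
  (p : ℝ) * ∑ x, (a.down x : ℝ) * b.down x -
    (∑ x, (a.down x : ℝ)) * ∑ x, (b.down x : ℝ)

theorem two_baseForm (p : ℕ) [NeZero p] (a : ULift.{u} (ZMod p → ℤ)) :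
    2 * baseForm p a a = ∑ x, ∑ y, ((a.down x : ℝ) - a.down y) ^ 2 := by
  simp only [baseForm, sub_sq]
  simp only [Finset.sum_add_distrib, Finset.sum_sub_distrib, Finset.sum_const, Finset.card_univ,
    ZMod.card, nsmul_eq_mul, ← Finset.mul_sum, ← Finset.sum_mul, mul_assoc, ← sq]
  ring

theorem baseForm_null_iff (p : ℕ) [NeZero p] (a : ULift.{u} (ZMod p → ℤ)) :
    baseForm p a a = 0 ↔ ∀ x, a.down x = a.down 0 := by
  refine ⟨fun h x => ?_, fun h => ?_⟩
  · have e := two_baseForm p a
    rw [h, mul_zero] at e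
    have := (Finset.sum_eq_zero_iff_of_nonneg fun i _ => Finset.sum_nonneg fun j _ =>
      sq_nonneg _).1 e.symm x (Finset.mem_univ _)
    have := (Finset.sum_eq_zero_iff_of_nonneg fun j _ => sq_nonneg _).1 this 0 (Finset.mem_univ _)
    exact_mod_cast sub_eq_zero.1 (pow_eq_zero_iff two_ne_zero |>.1 this)
  · have e := two_baseForm p a
    simp only [h] at e
    simpa using e

theorem baseForm_gap (p : ℕ) [NeZero p] : IsGapForm (baseForm.{u} p) ((p : ℝ) - 1) := by
  classical
  refine ⟨fun a b => ?_, fun a b c => ?_, fun a => ?_, fun a ha => ?_, ?_⟩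
  · simp only [baseForm, mul_comm (a.down _ : ℝ)]
    ring
  · simp only [baseForm, ULift.add_down, Pi.add_apply, Int.cast_add, add_mul,
      Finset.sum_add_distrib]
    ring
  · have := two_baseForm p a
    have : 0 ≤ ∑ x, ∑ y, ((a.down x : ℝ) - a.down y) ^ 2 :=
      Finset.sum_nonneg fun i _ => Finset.sum_nonneg fun j _ => sq_nonneg _
    linarith
  · set S := Finset.univ.filter fun x => a.down x = a.down 0 with hS
    have h1 : 1 ≤ S.card := Finset.card_pos.2 ⟨0, by simp [hS]⟩
    have h2 : 1 ≤ Sᶜ.card := by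
      obtain ⟨x, hx⟩ := not_forall.1 fun h => ha ((baseForm_null_iff p a).2 h)
      exact Finset.card_pos.2 ⟨x, by simp [hS, hx]⟩
    have hd : Disjoint (S ×ˢ Sᶜ) (Sᶜ ×ˢ S) := Finset.disjoint_left.2 fun x hx hx' =>
      Finset.mem_compl.1 (Finset.mem_product.1 hx').1 (Finset.mem_product.1 hx).1
    have h3 : ((2 * (S.card * Sᶜ.card) : ℕ) : ℝ) ≤ 2 * baseForm p a a := by
      rw [two_baseForm, ← Finset.sum_product', Finset.univ_product_univ]
      refine le_trans ?_ (Finset.sum_le_sum_of_subset_of_nonneg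
        (Finset.subset_univ (S ×ˢ Sᶜ ∪ Sᶜ ×ˢ S)) fun x _ _ => sq_nonneg _)
      refine le_trans ?_ (Finset.card_nsmul_le_sum _ _ (1 : ℝ) fun x hx => ?_)
      · rw [Finset.card_union_of_disjoint hd, Finset.card_product, Finset.card_product,
          nsmul_one]
        exact le_of_eq (by push_cast; ring)
      · have hne : a.down x.1 - a.down x.2 ≠ 0 := by
          rcases Finset.mem_union.1 hx with hx | hx <;>
            obtain ⟨h4, h5⟩ := Finset.mem_product.1 hx <;>
            simp [hS] at h4 h5 <;> omega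
        have : (1 : ℤ) ≤ (a.down x.1 - a.down x.2) ^ 2 := by
          have := sq_pos_of_ne_zero hne
          omega
        exact_mod_cast this
    have h4 : p ≤ S.card * Sᶜ.card + 1 := by
      have := Finset.card_add_card_compl S
      rw [ZMod.card] at this
      nlinarith
    have : (p : ℝ) ≤ (S.card * Sᶜ.card : ℕ) + 1 := by exact_mod_cast h4
    push_cast at h3 this ⊢
    linarith
  · have : (1 : ℝ) ≤ p := by exact_mod_cast NeZero.one_le
    linarith

theorem down_sum {ι : Type*} (p : ℕ) (s : Finset ι) (f : ι → ULift.{u} (ZMod p → ℤ)) :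
    (∑ i ∈ s, f i).down = ∑ i ∈ s, (f i).down :=
  map_sum (AddMonoidHom.mk' (fun a : ULift.{u} (ZMod p → ℤ) => a.down) fun _ _ => rfl) f s

theorem list_sum_apply {α : Type*} (L : List (α → ℂ)) (a : α) :
    L.sum a = ∑ t : Fin L.length, L.get t a := by
  induction L with
  | nil => simp
  | cons f L ih =>
    rw [List.sum_cons, Pi.add_apply, ih]
    exact (Fin.sum_univ_succ fun t : Fin (f :: L).length => (f :: L).get t a).symm

/-- The indicator of a residue. -/
def delta (p : ℕ) (x : ZMod p) : ULift.{u} (ZMod p → ℤ) := ⟨Pi.single x 1⟩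

theorem baseForm_delta (p : ℕ) [NeZero p] (x y : ZMod p) :
    baseForm.{u} p (delta p x) (delta p y) = (if x = y then (p : ℝ) else 0) - 1 := by
  classical
  simp only [baseForm, delta, Pi.single_apply, apply_ite (Int.cast : ℤ → ℝ), Int.cast_one,
    Int.cast_zero, mul_ite, mul_one, mul_zero, Finset.sum_ite_eq', Finset.mem_univ, if_true]
  simp [eq_comm]

open scoped Classical in
/-- The sum of a root-of-unity product over the nonzero residues. -/
theorem sum_stdAddChar_ne_zero (p : ℕ) [NeZero p] (x y : ZMod p) :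
    ∑ j ∈ Finset.univ.filter (fun j : ZMod p => j ≠ 0),
      ZMod.stdAddChar (x * j) * conj (ZMod.stdAddChar (y * j)) =
        ((baseForm.{u} p (delta p x) (delta p y) : ℝ) : ℂ) := by
  have h : ∀ j : ZMod p, ZMod.stdAddChar (x * j) * conj (ZMod.stdAddChar (y * j)) =
      ZMod.stdAddChar (j * (x - y)) := fun j => by
    rw [← AddChar.map_neg_eq_conj, ← AddChar.map_add_eq_mul]
    congr 1
    ring
  simp only [h]
  rw [Finset.filter_ne', Finset.sum_erase_eq_sub (Finset.mem_univ _),
    AddChar.sum_mulShift _ (ZMod.isPrimitive_stdAddChar p), zero_mul, AddChar.map_zero_eq_one,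
    baseForm_delta, ZMod.card]
  simp only [sub_eq_zero]
  split_ifs <;> simp

section Char

variable {X : Type u} [Group X] [Finite X] {p : ℕ} [Fact p.Prime] {C : Type u} [CommGroup C]
  [Finite C] (ι : C →* X) {v : X}

/-- The homomorphism `C × ZMod p → X`. -/
def pairHom (hvp : v ^ p = 1) (hcomm : ∀ c, Commute (ι c) v) :
    C × Multiplicative (ZMod p) →* X :=
  MonoidHom.mk' (fun a => ι a.1 * v ^ (Multiplicative.toAdd a.2).val) fun a b => by
    have e : v ^ (Multiplicative.toAdd a.2 + Multiplicative.toAdd b.2).val =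
        v ^ (Multiplicative.toAdd a.2).val * v ^ (Multiplicative.toAdd b.2).val := by
      rw [ZMod.val_add, ← pow_eq_pow_mod _ hvp, pow_add]
    simp only [Prod.fst_mul, Prod.snd_mul, map_mul, toAdd_mul, e]
    exact (((hcomm b.1).pow_right _).symm.mul_mul_mul_comm _ _).symm

/-- Values of a character on `C·⟨v⟩` as a sum of linear characters. -/
theorem exists_terms (hvp : v ^ p = 1) (hcomm : ∀ c, Commute (ι c) v) {χ : X → ℂ}
    (hχ : IsCharacter X χ) :
    ∃ (r : ℕ) (μ : Fin r → C →* ℂˣ) (x : Fin r → ZMod p), χ 1 = r ∧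
      ∀ c : C, ∀ j : ZMod p,
        χ (ι c * v ^ j.val) = ∑ t, (μ t c : ℂ) * ZMod.stdAddChar (x t * j) := by
  obtain ⟨l, hl, hsum⟩ := CfsgLib.Char.isCharacter_exists_multiset
    (CfsgLib.Char.isCharacter_comp hχ (pairHom ι hvp hcomm))
  have hlin : ∀ t : Fin l.toList.length, ∃ (μ : C →* ℂˣ) (x : ZMod p), ∀ c : C, ∀ j : ZMod p,
      l.toList.get t (c, Multiplicative.ofAdd j) = (μ c : ℂ) * ZMod.stdAddChar (x * j) := by
    intro t
    have hψ := hl _ (Multiset.mem_toList.1 (List.get_mem l.toList t))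
    obtain ⟨lam, hlam⟩ := CfsgLib.Char.exists_hom_of_degree_one
      (CfsgLib.Char.irr_isCharacter hψ)
      (CfsgLib.Char.irr_degree_one_of_comm (fun a b => mul_comm a b) hψ)
    let z : ℂ := (lam (1, Multiplicative.ofAdd (1 : ZMod p)) : ℂ)
    have hprim : IsPrimitiveRoot (ZMod.stdAddChar (1 : ZMod p)) p := by
      refine IsPrimitiveRoot.iff_orderOf.2 (orderOf_eq_prime ?_ ?_)
      · rw [← AddChar.map_nsmul_eq_pow, nsmul_one, ZMod.natCast_self, AddChar.map_zero_eq_one]
      · rw [← (ZMod.stdAddChar (N := p)).map_zero_eq_one, Ne, ZMod.injective_stdAddChar.eq_iff]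
        exact one_ne_zero
    have hz : z ^ p = 1 := by
      simp only [z]
      rw [← Units.val_pow_eq_pow_val, ← map_pow, Prod.pow_mk, one_pow, ← ofAdd_nsmul, nsmul_one,
        ZMod.natCast_self, ofAdd_zero, ← Prod.one_eq_mk, map_one, Units.val_one]
    obtain ⟨i, -, hi⟩ := hprim.eq_pow_of_pow_eq_one hz
    refine ⟨lam.comp (MonoidHom.inl C _), (i : ZMod p), fun c j => ?_⟩
    rw [hlam]
    show (lam (c, Multiplicative.ofAdd j) : ℂ) = _
    rw [show ((c, Multiplicative.ofAdd j) : C × Multiplicative (ZMod p)) =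
      (c, 1) * (1, Multiplicative.ofAdd (1 : ZMod p)) ^ j.val by
        rw [Prod.pow_mk, one_pow, ← ofAdd_nsmul, nsmul_one, ZMod.natCast_zmod_val, Prod.mk_mul_mk,
          mul_one, one_mul], map_mul, map_pow, Units.val_mul, Units.val_pow_eq_pow_val]
    congr 1
    show z ^ j.val = _
    rw [← hi, ← pow_mul, ← AddChar.map_nsmul_eq_pow, nsmul_one, Nat.cast_mul,
      ZMod.natCast_zmod_val]
  choose μ x hμ using hlin
  have hval : ∀ c : C, ∀ j : ZMod p, χ (ι c * v ^ j.val) =
      ∑ t, (μ t c : ℂ) * ZMod.stdAddChar (x t * j) := fun c j => by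
    simp only [← hμ]
    have := congrFun hsum (c, Multiplicative.ofAdd j)
    rw [Function.comp_apply] at this
    rw [show ι c * v ^ j.val = pairHom ι hvp hcomm (c, Multiplicative.ofAdd j) from rfl, this,
      ← Multiset.sum_toList, list_sum_apply]
  refine ⟨_, μ, x, ?_, hval⟩
  have := hval 1 0
  simpa using this

end Char

section Bound

variable {C : Type u} [CommGroup C] [Fintype C] {k : ℕ} (K : Fin k → Subgroup C)

/-- The characters trivial on `K i`. -/
abbrev B (i : Fin k) : Type u := C ⧸ K i →* ℂˣ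

/-- Multiplication of characters. -/
def prodHom : (∀ i, B K i) →* (C →* ℂˣ) where
  toFun b := ∏ i, (b i).comp (QuotientGroup.mk' (K i))
  map_one' := by ext c; simp
  map_mul' a b := by ext c; simp [MonoidHom.finsetProd_apply, Finset.prod_mul_distrib]

theorem prodHom_apply (b : ∀ i, B K i) (c : C) :
    (prodHom K b c : ℂ) = ∏ i, (b i (c : C ⧸ K i) : ℂ) := by
  simp [prodHom, MonoidHom.finsetProd_apply, Units.coe_prod]

theorem prodHom_surjective [Fintype (C →* ℂˣ)]
    (hsep : ∀ c : C, (∀ i, c ∈ K i) → c = 1) : Function.Surjective (prodHom K) := by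
  classical
  have hinv : ∀ a : ∀ i, B K i, prodHom K a⁻¹ = (prodHom K a)⁻¹ := fun a =>
    MonoidHom.ext fun c => Units.ext (by simp [prodHom_apply, Units.coe_prod])
  let R : Subgroup (C →* ℂˣ) :=
    { carrier := Set.range (prodHom K)
      one_mem' := ⟨1, map_one _⟩
      mul_mem' := by rintro _ _ ⟨a, rfl⟩ ⟨b, rfl⟩; exact ⟨a * b, map_mul _ a b⟩
      inv_mem' := by rintro _ ⟨a, rfl⟩; exact ⟨a⁻¹, hinv a⟩ }
  suffices hR : R = ⊤ from fun μ => (hR ▸ Subgroup.mem_top μ : μ ∈ R)
  have : Fintype R := Fintype.ofFinite _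
  have : Finite (R →* ℂˣ) := finite_dual
  let ev : C → (R →* ℂˣ) := fun c =>
    { toFun := fun μ => (μ : C →* ℂˣ) c
      map_one' := rfl
      map_mul' := fun _ _ => rfl }
  have hinj : Function.Injective ev := fun a b hab => by
    refine eq_of_mul_inv_eq_one (hsep _ fun i => ?_)
    by_contra hi
    obtain ⟨β, hβ⟩ := exists_dual_ne_one
      (c := ((a * b⁻¹ : C) : C ⧸ K i)) (fun h => hi ((QuotientGroup.eq_one_iff _).1 h))
    apply hβ
    have e : ∀ c : C, (prodHom K (Pi.mulSingle i β) c : ℂ) = (β (c : C ⧸ K i) : ℂ) := fun c => by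
      rw [prodHom_apply]
      refine (Finset.prod_eq_single i (fun j _ hj => ?_) (by simp)).trans (by simp)
      simp [Pi.mulSingle_eq_of_ne hj]
    have h2 := DFunLike.congr_fun hab ⟨_, Pi.mulSingle i β, rfl⟩
    refine Units.ext ?_
    rw [← e]
    simp only [ev, MonoidHom.coe_mk, OneHom.coe_mk] at h2
    rw [map_mul, map_inv, h2, mul_inv_cancel, Units.val_one]
  refine Subgroup.eq_top_of_le_card _ ?_
  calc Nat.card (C →* ℂˣ) = Nat.card C := natCard_dual
    _ ≤ Nat.card (R →* ℂˣ) := Nat.card_le_card_of_injective _ hinj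
    _ = _ := natCard_dual

variable (N : Fin k → ℕ) [∀ i, Fintype (B K i)]

/-- The product kernel. -/
noncomputable def w (b b' : ∀ i, B K i) : ℝ := ∏ i, ker (N i) (b i) (b' i)

theorem w_mul (b d : ∀ i, B K i) : w K N b (b * d) = w K N 1 d := by
  refine Finset.prod_congr rfl fun i _ => ?_
  have : b i = b i * d i ↔ 1 = d i :=
    ⟨fun h => mul_left_cancel (a := b i) ((mul_one (b i)).trans h),
      fun h => (mul_one (b i)).symm.trans (congrArg (b i * ·) h)⟩
  by_cases hd : 1 = d i <;> simp [ker, this, hd]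

open scoped Classical in
theorem prod_eq_sum (c : C) :
    ((∏ i, (if c ∈ K i then 1 else N i) : ℕ) : ℂ) =
      ∑ b : ∀ i, B K i, (w K N 1 b : ℂ) * (prodHom K b c : ℂ) := by
  simp only [w, prodHom_apply, Complex.ofReal_prod, ← Finset.prod_mul_distrib, Pi.one_apply]
  rw [Nat.cast_prod]
  refine Eq.trans ?_ (Fintype.prod_sum fun i (j : B K i) =>
    ((ker (N i) 1 j : ℝ) : ℂ) * (j (c : C ⧸ K i) : ℂ))
  refine Finset.prod_congr rfl fun i _ => ?_
  have e : ∑ j : B K i, (j (c : C ⧸ K i) : ℂ) =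
      if c ∈ K i then (Fintype.card (B K i) : ℂ) else 0 := by
    rw [sum_dual, ← Nat.card_eq_fintype_card, natCard_dual]
    simp [QuotientGroup.eq_one_iff]
  simp only [ker, Complex.ofReal_sub, Complex.ofReal_div, Complex.ofReal_one,
    Complex.ofReal_natCast, apply_ite Complex.ofReal, Complex.ofReal_zero, sub_mul, ite_mul,
    zero_mul, Finset.sum_sub_distrib, Finset.sum_ite_eq, Finset.mem_univ, if_true,
    ← Finset.mul_sum, e, MonoidHom.one_apply, Units.val_one, mul_one]
  have hn : (Fintype.card (B K i) : ℂ) ≠ 0 := by exact_mod_cast Fintype.card_ne_zero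
  split_ifs
  · field_simp; simp
  · simp

theorem sum4_comm {α β γ δ : Type*} (A : Finset α) (B' : Finset β) (D : Finset γ) (E : Finset δ)
    (f : α → β → γ → δ → ℂ) :
    ∑ a ∈ A, ∑ b ∈ B', ∑ c ∈ D, ∑ d ∈ E, f a b c d =
      ∑ c ∈ D, ∑ d ∈ E, ∑ a ∈ A, ∑ b ∈ B', f a b c d := by
  rw [Finset.sum_congr rfl fun a _ => Finset.sum_comm, Finset.sum_comm]
  refine Finset.sum_congr rfl fun c _ => ?_
  rw [Finset.sum_congr rfl fun a _ => Finset.sum_comm, Finset.sum_comm]

/-- The key inequality for one list of linear constituents. -/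
theorem bound {p : ℕ} [NeZero p] [Fintype (C →* ℂˣ)] (hN : ∀ i, (K i).index < N i)
    (hsep : ∀ c : C, (∀ i, c ∈ K i) → c = 1) {r : ℕ} (hr : ¬ p ∣ r)
    (μ : Fin r → C →* ℂˣ) (x : Fin r → ZMod p) (h : C → ℕ)
    (hh : ∀ c, ((h c : ℕ) : ℂ) = ∑ b : ∀ i, B K i, (w K N 1 b : ℂ) * (prodHom K b c : ℂ)) :
    ((p : ℝ) - 1) * (Fintype.card C : ℝ) ^ 2 ≤
      ∑ j ∈ Finset.univ.filter (fun j : ZMod p => j ≠ 0), ∑ c, (h c : ℝ) *
        Complex.normSq (∑ t, (μ t c : ℂ) * ZMod.stdAddChar (x t * j)) := by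
  classical
  let π := prodHom K
  have hsurj : Function.Surjective π := prodHom_surjective K hsep
  -- the vector attached to a product of characters
  let y : (∀ i, B K i) → ULift.{u} (ZMod p → ℤ) := fun b =>
    ∑ t ∈ Finset.univ.filter (fun t => μ t = π b), delta p (x t)
  have hG := baseForm_gap.{u} p
  have hcardB : ∀ i, Fintype.card (B K i) < N i := fun i => by
    rw [← Nat.card_eq_fintype_card, natCard_dual, ← Subgroup.index_eq_card]; exact hN i
  have hy : ∃ b, baseForm p (y b) (y b) ≠ 0 := by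
    by_contra hcon
    push_neg at hcon
    apply hr
    have hconst : ∀ ν : C →* ℂˣ, ∀ z : ZMod p,
        (∑ t ∈ Finset.univ.filter (fun t => μ t = ν), delta.{u} p (x t)).down z =
          (∑ t ∈ Finset.univ.filter (fun t => μ t = ν), delta.{u} p (x t)).down 0 := fun ν z => by
      obtain ⟨b, rfl⟩ := hsurj ν
      exact (baseForm_null_iff p _).1 (hcon b) z
    have hall : ∀ z, (∑ t, delta.{u} p (x t)).down z = (∑ t, delta.{u} p (x t)).down 0 :=
      fun z => by
      rw [← Finset.sum_fiberwise Finset.univ μ]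
      simp only [down_sum, Finset.sum_apply]
      refine Finset.sum_congr rfl fun ν _ => ?_
      simpa only [down_sum, Finset.sum_apply] using hconst ν z
    have htot : ∑ z, (∑ t, delta.{u} p (x t)).down z = (r : ℤ) := by
      simp only [down_sum, Finset.sum_apply]
      rw [Finset.sum_comm]
      simp [delta]
    simp only [hall, Finset.sum_const, Finset.card_univ, ZMod.card, nsmul_eq_mul] at htot
    exact Int.natCast_dvd_natCast.1 ⟨_, htot.symm⟩
  have key := tensor_bound (fun i => B K i) N hcardB hG y hy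
  -- the fibres of `π`
  set nB : ℕ := Fintype.card (∀ i, B K i) with hnB
  have hfib : ∀ ν : C →* ℂˣ,
      ((Finset.univ.filter fun b => π b = ν).card : ℂ) * (Fintype.card C : ℂ) = (nB : ℂ) := by
    intro ν
    have hf : ∀ ν : C →* ℂˣ, (Finset.univ.filter fun b => π b = ν).card =
        (Finset.univ.filter fun b => π b = 1).card := by
      intro ν
      obtain ⟨b0, rfl⟩ := hsurj ν
      refine Finset.card_equiv (Equiv.mulLeft b0⁻¹) fun b => ?_
      simp only [Finset.mem_filter, Finset.mem_univ, true_and, Equiv.coe_mulLeft, map_mul]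
      have e : π b0⁻¹ * π b0 = 1 :=
        (map_mul π _ _).symm.trans ((congrArg π (inv_mul_cancel b0)).trans (map_one π))
      exact ⟨fun h => by rw [h]; exact e,
        fun h => mul_left_cancel (a := π b0⁻¹) (h.trans e.symm)⟩
    have e := Finset.card_eq_sum_card_fiberwise (f := π) (s := Finset.univ) (t := Finset.univ)
      (fun b _ => Finset.mem_univ _)
    simp only [hf, Finset.sum_const, Finset.card_univ, smul_eq_mul] at e
    rw [hf, ← Fintype.card_eq_nat_card (α := C →* ℂˣ) |>.trans natCard_dual |>.trans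
      Fintype.card_eq_nat_card.symm]
    rw [hnB, e]
    push_cast
    ring
  -- translation invariance
  let W : (C →* ℂˣ) → (C →* ℂˣ) → ℂ := fun ν ν' =>
    ∑ d : ∀ i, B K i, if ν * π d = ν' then (w K N 1 d : ℂ) else 0
  let g : Fin r → Fin r → ℂ := fun t t' =>
    ((baseForm p (delta.{u} p (x t)) (delta p (x t')) : ℝ) : ℂ)
  have hQ : ((∑ j ∈ Finset.univ.filter (fun j : ZMod p => j ≠ 0), ∑ c, (h c : ℝ) *
      Complex.normSq (∑ t, (μ t c : ℂ) * ZMod.stdAddChar (x t * j)) : ℝ) : ℂ) =
      ∑ t, ∑ t', (Fintype.card C : ℂ) * W (μ t) (μ t') * g t t' := by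
    have hW : ∀ t t', (Fintype.card C : ℂ) * W (μ t) (μ t') =
        ∑ c, (h c : ℂ) * ((μ t c : ℂ) * conj (μ t' c : ℂ)) := by
      intro t t'
      simp only [hh, Finset.sum_mul, W, Finset.mul_sum]
      rw [Finset.sum_comm]
      refine Finset.sum_congr rfl fun d _ => ?_
      have e : ∀ c : C, (w K N 1 d : ℂ) * (prodHom K d c : ℂ) *
          ((μ t c : ℂ) * conj (μ t' c : ℂ)) =
          (w K N 1 d : ℂ) * ((π d * μ t * (μ t')⁻¹ : C →* ℂˣ) c : ℂ) := fun c => by
        rw [conj_dual]; simp [π]; ring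
      have e1 : π d * μ t * (μ t')⁻¹ = 1 ↔ π d * μ t = μ t' := mul_inv_eq_one (G := C →* ℂˣ)
      simp only [e, ← Finset.mul_sum, sum_apply_dual, Nat.card_eq_fintype_card,
        mul_comm (μ t) (π d)]
      by_cases hd : π d * μ t = μ t'
      · simp only [if_pos hd, if_pos (e1.2 hd)]; ring
      · simp only [if_neg hd, if_neg (mt e1.1 hd), mul_zero]
    have hexp : ∀ (j : ZMod p) (c : C),
        (Complex.normSq (∑ t, (μ t c : ℂ) * ZMod.stdAddChar (x t * j)) : ℂ) =
          ∑ t, ∑ t', (μ t c : ℂ) * conj (μ t' c : ℂ) *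
            (ZMod.stdAddChar (x t * j) * conj (ZMod.stdAddChar (x t' * j))) := fun j c => by
      rw [← Complex.mul_conj, map_sum, Finset.sum_mul_sum]
      refine Finset.sum_congr rfl fun t _ => Finset.sum_congr rfl fun t' _ => ?_
      rw [map_mul (starRingEnd ℂ)]
      ring
    push_cast
    simp only [hexp, hW, g, ← sum_stdAddChar_ne_zero, Finset.mul_sum, Finset.sum_mul]
    rw [sum4_comm]
    refine Finset.sum_congr rfl fun t _ => Finset.sum_congr rfl fun t' _ => ?_
    refine Finset.sum_congr rfl fun j _ => Finset.sum_congr rfl fun c _ => by ring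
  have hP : ((∑ b, ∑ b', w K N b b' * baseForm p (y b) (y b') : ℝ) : ℂ) =
      ∑ t, ∑ t', (((Finset.univ.filter fun b => π b = μ t).card : ℂ) * W (μ t) (μ t')) *
        g t t' := by
    simp only [y, TensorForm.sum_left hG, TensorForm.sum_right hG, Finset.sum_filter]
    have hite : ∀ (P Q : Prop) [Decidable P] [Decidable Q] (a b : ULift.{u} (ZMod p → ℤ)),
        baseForm p (if P then a else 0) (if Q then b else 0) =
          if P then (if Q then baseForm p a b else 0) else 0 := by
      intro P Q _ _ a b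
      by_cases hP : P <;> by_cases hQ : Q <;> simp [hP, hQ, baseForm]
    simp only [hite]
    push_cast [apply_ite Complex.ofReal]
    simp only [Finset.mul_sum, mul_ite, mul_zero]
    calc (∑ b, ∑ b', ∑ t, ∑ t', if μ t = π b then (if μ t' = π b' then
            (w K N b b' : ℂ) * g t t' else 0) else 0)
        = ∑ t, ∑ t', ∑ b, ∑ b', if μ t = π b then (if μ t' = π b' then
            (w K N b b' : ℂ) * g t t' else 0) else 0 := sum4_comm _ _ _ _ _
      _ = _ := by
          refine Finset.sum_congr rfl fun t _ => Finset.sum_congr rfl fun t' _ => ?_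
          rw [Finset.card_filter, Nat.cast_sum, Finset.sum_mul, Finset.sum_mul]
          refine Finset.sum_congr rfl fun b _ => ?_
          by_cases hb : π b = μ t
          · simp only [hb, if_true, Nat.cast_one, one_mul, W, Finset.sum_mul]
            refine (Fintype.sum_equiv (Equiv.mulLeft b) _ _ fun d => ?_).symm
            simp only [Equiv.coe_mulLeft, map_mul, hb, w_mul, eq_comm (a := μ t'), ite_mul,
              zero_mul]
          · simp [hb, Ne.symm hb]
  have hrel : (nB : ℂ) * ((∑ j ∈ Finset.univ.filter (fun j : ZMod p => j ≠ 0), ∑ c, (h c : ℝ) *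
      Complex.normSq (∑ t, (μ t c : ℂ) * ZMod.stdAddChar (x t * j)) : ℝ) : ℂ) =
      (Fintype.card C : ℂ) ^ 2 *
        ((∑ b, ∑ b', w K N b b' * baseForm p (y b) (y b') : ℝ) : ℂ) := by
    rw [hQ, hP, Finset.mul_sum, Finset.mul_sum]
    refine Finset.sum_congr rfl fun t _ => ?_
    rw [Finset.mul_sum, Finset.mul_sum]
    refine Finset.sum_congr rfl fun t' _ => ?_
    linear_combination (-(Fintype.card C : ℂ) * W (μ t) (μ t') * g t t') * hfib (μ t)
  have hrelR : (nB : ℝ) * (∑ j ∈ Finset.univ.filter (fun j : ZMod p => j ≠ 0), ∑ c, (h c : ℝ) *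
      Complex.normSq (∑ t, (μ t c : ℂ) * ZMod.stdAddChar (x t * j))) =
      (Fintype.card C : ℝ) ^ 2 * ∑ b, ∑ b', w K N b b' * baseForm p (y b) (y b') := by
    exact_mod_cast hrel
  have hpi : (∏ i, (Fintype.card (B K i) : ℝ)) = nB := by
    rw [hnB, Fintype.card_pi]; push_cast; rfl
  rw [hpi] at key
  have hpos : (0 : ℝ) < nB := by rw [hnB]; exact_mod_cast Fintype.card_pos
  refine le_of_mul_le_mul_left ?_ hpos
  rw [hrelR]
  calc (nB : ℝ) * (((p : ℝ) - 1) * (Fintype.card C : ℝ) ^ 2)
      = (Fintype.card C : ℝ) ^ 2 * (((p : ℝ) - 1) * nB) := by ring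
    _ ≤ _ := mul_le_mul_of_nonneg_left key (sq_nonneg _)

end Bound

section Main

variable {X : Type u} [Group X] [Finite X] {p : ℕ} [Fact p.Prime] (V : Subgroup X) [V.Normal]

/-- The abelian-centraliser criterion, for an abstract abelian complement `C` of `V` in the
centraliser of `v`. -/
theorem card_conjClasses_le (hVexp : ∀ w ∈ V, w ^ p = 1) (hidx : ¬ p ∣ V.index)
    (hself : Subgroup.centralizer (V : Set X) = V) {v : X} (hv : v ∈ V)
    {C : Type u} [CommGroup C] [Fintype C] (ι : C →* X) (hinj : Function.Injective ι)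
    (hC : ¬ p ∣ Nat.card C) (hdis : ∀ c, ι c ∈ V → c = 1) (hcomm : ∀ c, Commute (ι c) v)
    (hcen : ∀ a, Commute a v → ∃ w ∈ V, ∃ c, a = w * ι c) :
    Nat.card (ConjClasses X) ≤ Nat.card V := by
  classical
  have hp : p.Prime := Fact.out
  have := Fintype.ofFinite X
  have hVcomm : ∀ a ∈ V, ∀ b ∈ V, a * b = b * a := fun a ha b hb => by
    rw [← hself] at ha
    exact (Subgroup.mem_centralizer_iff.1 ha b hb).symm
  letI : CommGroup V :=
    { V.toGroup with mul_comm := fun a b => Subtype.ext (hVcomm a a.2 b b.2) }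
  let φ : C →* MulAut V := (MulAut.conjNormal (H := V)).comp ι
  have hφ : ∀ c, ∀ w : V, ((φ c w : V) : X) = ι c * w * (ι c)⁻¹ := fun c w => rfl
  have hVp : IsPGroup p V := fun w => ⟨1, Subtype.ext (by
    rw [pow_one, SubmonoidClass.coe_pow, hVexp _ w.2, OneMemClass.coe_one])⟩
  have hco : (Nat.card C).Coprime (Nat.card V) := by
    obtain ⟨n, hn⟩ := hVp.exists_card_eq
    rw [hn]
    exact ((hp.coprime_iff_not_dvd).2 hC).symm.pow_right n
  obtain ⟨k, K, N, hKN, hP⟩ := exists_data φ hco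
  have hBfin : ∀ i, Finite (B K i) := fun i => finite_dual
  have := fun i => Fintype.ofFinite (B K i)
  have : Finite (C →* ℂˣ) := finite_dual
  have := Fintype.ofFinite (C →* ℂˣ)
  have hsep : ∀ c : C, (∀ i, c ∈ K i) → c = 1 := fun c hc => by
    have h1 := hP c
    simp only [hc, if_true, Finset.prod_const_one, mul_one] at h1
    have h2 := Subgroup.eq_top_of_card_eq _ h1
    refine hdis c ?_
    rw [← hself, Subgroup.mem_centralizer_iff]
    intro a ha
    have h3 : φ c ⟨a, ha⟩ = ⟨a, ha⟩ := mem_fix.1 (h2 ▸ Subgroup.mem_top _)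
    have h4 := congrArg Subtype.val h3
    rw [hφ] at h4
    exact (mul_inv_eq_iff_eq_mul.1 h4).symm
  let h : C → ℕ := fun c => ∏ i, (if c ∈ K i then 1 else N i)
  have hvp : v ^ p = 1 := hVexp v hv
  -- centralisers
  have hcz : ∀ c : C, ∀ j : ZMod p, j ≠ 0 →
      Nat.card (Subgroup.centralizer ({ι c * v ^ j.val} : Set X)) =
        Nat.card (fix (φ c)) * Fintype.card C := by
    intro c j hj
    rw [← Nat.card_eq_fintype_card, ← Nat.card_prod]
    have hgen : ∀ a, Commute a (ι c * v ^ j.val) → Commute a v ∧ Commute a (ι c) := by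
      intro a ha
      have hjc : Nat.Coprime (j.val * Nat.card C) p :=
        (((ZMod.val_coe_unit_coprime (Units.mk0 j hj))).mul_left
          ((hp.coprime_iff_not_dvd).2 hC).symm)
      have e : (ι c * v ^ j.val) ^ Nat.card C = v ^ (j.val * Nat.card C) := by
        rw [((hcomm c).pow_right _).mul_pow, ← map_pow, pow_card_eq_one', map_one, one_mul,
          pow_mul]
      have hv' : Commute a v := by
        obtain ⟨m, hm⟩ := exists_pow_eq_self_of_coprime
          (hjc.coprime_dvd_right (orderOf_dvd_of_pow_eq_one hvp))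
        rw [← hm, ← e]
        exact (ha.pow_right _).pow_right _
      refine ⟨hv', ?_⟩
      have := ha.mul_right (hv'.pow_right j.val).inv_right
      rwa [mul_inv_cancel_right] at this
    refine (Nat.card_congr (Equiv.ofBijective
      (fun x : fix (φ c) × C => (⟨(x.1 : X) * ι x.2, ?_⟩ :
        Subgroup.centralizer ({ι c * v ^ j.val} : Set X))) ⟨?_, ?_⟩)).symm
    · rw [Subgroup.mem_centralizer_singleton_iff]
      have h1 : Commute ((x.1 : V) : X) (ι c) := by
        have h4 := congrArg Subtype.val (mem_fix.1 x.1.2)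
        rw [hφ] at h4
        exact (mul_inv_eq_iff_eq_mul.1 h4).symm
      have h2 : Commute ((x.1 : V) : X) v := hVcomm _ x.1.1.2 _ hv
      have h3 : Commute (ι x.2) (ι c) := (Commute.all x.2 c).map ι
      exact ((h1.mul_right (h2.pow_right _)).mul_left
        (h3.mul_right ((hcomm x.2).pow_right _))).eq
    · intro a b hab
      have hab' : ((a.1 : V) : X) * ι a.2 = ((b.1 : V) : X) * ι b.2 := congrArg Subtype.val hab
      have e : ι (a.2 * b.2⁻¹) = ((a.1 : V) : X)⁻¹ * ((b.1 : V) : X) := by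
        rw [map_mul, map_inv, eq_inv_mul_iff_mul_eq, ← mul_assoc, hab', mul_inv_cancel_right]
      have h2 : a.2 = b.2 := eq_of_mul_inv_eq_one (hdis _ (e ▸ V.mul_mem (V.inv_mem a.1.1.2) b.1.1.2))
      rw [h2] at hab'
      exact Prod.ext (Subtype.ext (Subtype.ext (mul_right_cancel hab'))) h2
    · rintro ⟨a, ha⟩
      rw [Subgroup.mem_centralizer_singleton_iff] at ha
      obtain ⟨hav, hac⟩ := hgen a ha
      obtain ⟨w, hw, d, rfl⟩ := hcen a hav
      have h3 : Commute (ι d) (ι c) := (Commute.all d c).map ι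
      have h1 : Commute w (ι c) := by
        have := hac.mul_left h3.inv_left
        rwa [mul_inv_cancel_right] at this
      refine ⟨(⟨⟨w, hw⟩, mem_fix.2 (Subtype.ext ?_)⟩, d), rfl⟩
      rw [hφ]
      exact mul_inv_eq_iff_eq_mul.2 h1.eq.symm
  have := Fintype.ofFinite (IrrCharacter X)
  set J := Finset.univ.filter (fun j : ZMod p => j ≠ 0) with hJ
  have hlow : ∀ χ : IrrCharacter X, ((p : ℝ) - 1) * (Fintype.card C : ℝ) ^ 2 ≤
      ∑ j ∈ J, ∑ c, (h c : ℝ) * Complex.normSq ((χ : X → ℂ) (ι c * v ^ j.val)) := by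
    intro χ
    obtain ⟨r, μ, x, hr1, hval⟩ := exists_terms ι hvp hcomm (CfsgLib.Char.irr_isCharacter χ.2)
    have hr : ¬ p ∣ r := fun hpr => by
      obtain ⟨n, ρ, hρ, hρχ⟩ := χ.2
      have hd := CfsgLib.Char.ito_degree_dvd_index ρ V hVcomm
      have : (r : ℂ) = (Module.finrank ℂ (Fin n → ℂ) : ℂ) := by
        rw [← hr1, ← hρχ, Representation.char_one]
      rw [← Nat.cast_inj.1 this] at hd
      exact hidx (hpr.trans hd)
    simp only [hval]
    exact bound K N hKN hsep hr μ x h fun c => prod_eq_sum K N c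
  have hsum := Finset.sum_le_sum (s := (Finset.univ : Finset (IrrCharacter X)))
    fun χ _ => hlow χ
  rw [Finset.sum_const, Finset.card_univ, nsmul_eq_mul, ← Nat.card_eq_fintype_card,
    CfsgLib.Char.irr_card_eq, Finset.sum_comm, Finset.sum_congr rfl fun j _ => Finset.sum_comm]
    at hsum
  have hcol : ∀ j ∈ J, ∀ c : C,
      ∑ χ : IrrCharacter X, (h c : ℝ) * Complex.normSq ((χ : X → ℂ) (ι c * v ^ j.val)) =
        (Nat.card V : ℝ) * Fintype.card C := by
    intro j hj c
    have e := CfsgLib.Char.column_orthogonality (ι c * v ^ j.val) (ι c * v ^ j.val)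
    rw [if_pos (IsConj.refl _), hcz c j (Finset.mem_filter.1 hj).2] at e
    simp only [Complex.mul_conj] at e
    have e' : ∑ χ : IrrCharacter X, Complex.normSq ((χ : X → ℂ) (ι c * v ^ j.val)) =
        ((Nat.card (fix (φ c)) * Fintype.card C : ℕ) : ℝ) := by exact_mod_cast e
    rw [← Finset.mul_sum, e', ← hP c]
    push_cast [h]
    ring
  rw [Finset.sum_congr rfl fun j hj => Finset.sum_congr rfl fun c _ => hcol j hj c,
    Finset.sum_const, Finset.sum_const, Finset.card_univ, nsmul_eq_mul, nsmul_eq_mul] at hsum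
  have hJc : (J.card : ℝ) = (p : ℝ) - 1 := by
    rw [hJ, Finset.filter_ne', Finset.card_erase_of_mem (Finset.mem_univ _), Finset.card_univ,
      ZMod.card, Nat.cast_sub hp.one_le, Nat.cast_one]
  rw [hJc] at hsum
  have hp1 : (1 : ℝ) < p := by exact_mod_cast hp.one_lt
  have hC0 : (0 : ℝ) < Fintype.card C := by exact_mod_cast Fintype.card_pos
  have : (Nat.card (ConjClasses X) : ℝ) ≤ Nat.card V := by
    have hpos : 0 < ((p : ℝ) - 1) * (Fintype.card C : ℝ) ^ 2 :=
      mul_pos (by linarith) (pow_pos hC0 2)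
    refine le_of_mul_le_mul_right ?_ hpos
    linarith
  exact_mod_cast this

end Main

end CfsgLib.BlockB.AbelianKGV
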