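import Mathlib.FieldTheory.Finite.Basic
import Mathlib.RingTheory.IntegralDomain
import Mathlib.RepresentationTheory.Basic
import Mathlib.LinearAlgebra.BilinearForm.Properties
import Mathlib.LinearAlgebra.Dual.Lemmas
import Mathlib.RingTheory.Adjoin.Basic
import Mathlib.LinearAlgebra.FiniteDimensional.Lemmas

/-!
Self-dual faithful irreducible modules of abelian groups over finite fields.
-/

set_option autoImplicit false
set_option linter.unusedSectionVars false

namespace CfsgLib.BlockB.AbelianSelfDual

section Core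

variable {F : Type*} [Field F] [Fintype F] {E : Type*} [Field E] [Finite E] [Algebra F E]
  {H : Type*} [CommGroup H] [Finite H] (h : H →* E) (hinj : Function.Injective h)
  (hgen : Algebra.adjoin F (Set.range h) = ⊤)

include hgen in
theorem ext_of_gen {f g : E →ₐ[F] E} (hfg : ∀ x, f (h x) = g (h x)) : f = g :=
  AlgHom.ext_of_adjoin_eq_top hgen fun _ ⟨x, hx⟩ => hx ▸ hfg x

theorem frob_pow_apply (d : ℕ) (x : E) :
    (FiniteField.frobeniusAlgHom F E ^ d) x = x ^ Fintype.card F ^ d := by
  rw [AlgHom.coe_pow, FiniteField.coe_frobeniusAlgHom, pow_iterate]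

include hinj hgen in
/-- An invariant nondegenerate form forces `|H| ∣ r^(n/2) + 1`. -/
theorem of_form (hn : 2 ≤ Module.finrank F E) (B : LinearMap.BilinForm F E)
    (hB : B.Nondegenerate) (hinv : ∀ g x y, B (h g * x) (h g * y) = B x y) :
    Even (Module.finrank F E) ∧
      Nat.card H ∣ Fintype.card F ^ (Module.finrank F E / 2) + 1 := by
  classical
  have := Fintype.ofFinite E
  have huniq : ∀ {a b : E}, (∀ x y, B x (a * y) = B x (b * y)) → a = b := fun {a b} hab => by
    refine sub_eq_zero.1 (hB.2 (a - b) fun x => ?_)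
    have := hab x 1
    rw [mul_one, mul_one] at this
    rw [map_sub, sub_eq_zero]
    exact this
  have hex : ∀ e : E, ∃ e' : E, ∀ x y, B (e * x) y = B x (e' * y) := by
    intro e
    have he : e ∈ Algebra.adjoin F (Set.range h) := by rw [hgen]; trivial
    induction he using Algebra.adjoin_induction with
    | mem x hx =>
      obtain ⟨g, rfl⟩ := hx
      refine ⟨h g⁻¹, fun x y => ?_⟩
      rw [← hinv g x (h g⁻¹ * y), ← mul_assoc, ← map_mul, mul_inv_cancel, map_one, one_mul]
    | algebraMap c =>
      refine ⟨algebraMap F E c, fun x y => ?_⟩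
      rw [← Algebra.smul_def, ← Algebra.smul_def, map_smul, map_smul, LinearMap.smul_apply]
    | add a b _ _ iha ihb =>
      obtain ⟨a', ha⟩ := iha
      obtain ⟨b', hb⟩ := ihb
      exact ⟨a' + b', fun x y => by simp [add_mul, ha, hb]⟩
    | mul a b _ _ iha ihb =>
      obtain ⟨a', ha⟩ := iha
      obtain ⟨b', hb⟩ := ihb
      exact ⟨b' * a', fun x y => by rw [mul_assoc, ha, hb, mul_assoc]⟩
  choose σ₀ hσ₀ using hex
  let σ : E →ₐ[F] E :=
    { toFun := σ₀
      map_one' := huniq fun x y => by rw [← hσ₀, one_mul, one_mul]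
      map_mul' := fun a b => huniq fun x y => by
        rw [← hσ₀ (a * b), mul_assoc, hσ₀ a, hσ₀ b, mul_comm (σ₀ a) (σ₀ b), mul_assoc]
      map_zero' := huniq fun x y => by rw [← hσ₀]; simp
      map_add' := fun a b => huniq fun x y => by
        rw [← hσ₀ (a + b), add_mul, map_add, LinearMap.add_apply, hσ₀, hσ₀, add_mul, map_add]
      commutes' := fun c => huniq fun x y => by
        rw [← hσ₀, ← Algebra.smul_def, ← Algebra.smul_def, map_smul, map_smul,
          LinearMap.smul_apply] }
  have hσh : ∀ g, σ (h g) = h g⁻¹ := fun g => huniq fun x y => by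
    show B x (σ₀ (h g) * y) = _
    rw [← hσ₀, ← hinv g x (h g⁻¹ * y), ← mul_assoc, ← map_mul, mul_inv_cancel, map_one, one_mul]
  obtain ⟨i, hi'⟩ := (FiniteField.bijective_frobeniusAlgHom_pow F E).2 σ
  have hi : FiniteField.frobeniusAlgHom F E ^ (i : ℕ) = σ := hi'
  have hval : ∀ g, h g ^ Fintype.card F ^ (i : ℕ) = h g⁻¹ := fun g => by
    rw [← frob_pow_apply (F := F), hi, hσh]
  have hcyc : IsCyclic H := isCyclic_of_injective_ringHom h hinj
  obtain ⟨z, hz⟩ := IsCyclic.exists_ofOrder_eq_natCard (α := H)
  have hdvd : Nat.card H ∣ Fintype.card F ^ (i : ℕ) + 1 := by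
    rw [← hz]
    refine orderOf_dvd_of_pow_eq_one (hinj ?_)
    rw [map_pow, pow_succ, hval, ← map_mul, inv_mul_cancel]
  have h2 : Module.finrank F E ∣ 2 * (i : ℕ) := by
    have e : orderOf (FiniteField.frobeniusAlgHom F E) ∣ 2 * (i : ℕ) := by
      refine orderOf_dvd_of_pow_eq_one (ext_of_gen h hgen fun g => ?_)
      rw [frob_pow_apply, AlgHom.one_apply, two_mul, pow_add, pow_mul, hval, hval, inv_inv]
    rwa [FiniteField.orderOf_frobeniusAlgHom] at e
  have hi0 : (i : ℕ) ≠ 0 := by
    intro h0
    have hsq : ∀ g, h g = h g⁻¹ := fun g => by simpa [h0] using hval g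
    have hF : ∀ g, h g ∈ (⊥ : Subalgebra F E) := fun g => by
      have e : h g * h g = 1 := by
        nth_rewrite 2 [hsq g]
        rw [← map_mul, mul_inv_cancel, map_one]
      rcases mul_self_eq_one_iff.1 e with e | e
      · rw [e]; exact one_mem _
      · rw [e]; exact neg_mem (one_mem _)
    have : (⊥ : Subalgebra F E) = ⊤ :=
      top_le_iff.1 (hgen ▸ Algebra.adjoin_le (Set.range_subset_iff.2 hF))
    have h1 : Module.finrank F E = 1 := Subalgebra.bot_eq_top_iff_finrank_eq_one.1 this
    omega
  have hilt := i.2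
  obtain ⟨k, hk⟩ := h2
  have hk1 : k = 1 := by
    rcases Nat.lt_or_ge k 2 with hk2 | hk2
    · interval_cases k <;> omega
    · have := Nat.mul_le_mul_left (Module.finrank F E) hk2
      omega
  subst hk1
  rw [mul_one] at hk
  refine ⟨⟨i, by omega⟩, ?_⟩
  rwa [show Module.finrank F E / 2 = (i : ℕ) by omega]

include hgen in
/-- The converse. -/
theorem exists_form (heven : Even (Module.finrank F E))
    (hdvd : Nat.card H ∣ Fintype.card F ^ (Module.finrank F E / 2) + 1) :
    ∃ B : LinearMap.BilinForm F E, B.Nondegenerate ∧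
      ∀ g x y, B (h g * x) (h g * y) = B x y := by
  classical
  set d := Module.finrank F E / 2 with hd
  let σ : E →ₐ[F] E := FiniteField.frobeniusAlgHom F E ^ d
  have hσh : ∀ g, h g * σ (h g) = 1 := fun g => by
    show h g * (FiniteField.frobeniusAlgHom F E ^ d) (h g) = 1
    rw [frob_pow_apply, ← pow_succ', ← map_pow]
    obtain ⟨q, hq⟩ := hdvd
    rw [hq, pow_mul, pow_card_eq_one', one_pow, map_one]
  obtain ⟨f, hf⟩ : ∃ f : Module.Dual F E, f 1 ≠ 0 := by
    by_contra hcon
    push Not at hcon
    exact one_ne_zero ((Module.forall_dual_apply_eq_zero_iff F (1 : E)).1 hcon)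
  refine ⟨((LinearMap.mul F E).compr₂ f).compl₂ σ.toLinearMap, ⟨fun x hx => ?_, fun y hy => ?_⟩,
    fun g x y => ?_⟩
  · by_contra h0
    obtain ⟨y, hy⟩ := Finite.surjective_of_injective (σ.toRingHom.injective) x⁻¹
    have := hx y
    simp only [LinearMap.compl₂_apply, LinearMap.compr₂_apply, LinearMap.mul_apply',
      AlgHom.toLinearMap_apply] at this
    rw [show σ y = x⁻¹ from hy, mul_inv_cancel₀ h0] at this
    exact hf this
  · by_contra h0
    have h1 : σ y ≠ 0 := (map_ne_zero σ.toRingHom).2 h0
    have := hy (σ y)⁻¹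
    simp only [LinearMap.compl₂_apply, LinearMap.compr₂_apply, LinearMap.mul_apply',
      AlgHom.toLinearMap_apply] at this
    rw [inv_mul_cancel₀ h1] at this
    exact hf this
  · simp only [LinearMap.compl₂_apply, LinearMap.compr₂_apply, LinearMap.mul_apply',
      AlgHom.toLinearMap_apply, map_mul]
    rw [mul_mul_mul_comm, hσh, one_mul]

end Core

section Irred

universe u v w

variable {F : Type u} [Field F] [Fintype F] {H : Type v} [CommGroup H] [Finite H] {V : Type w}
  [AddCommGroup V] [Module F V] [FiniteDimensional F V] (ρ : Representation F H V)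

/-- The enveloping algebra. -/
abbrev env : Subalgebra F (Module.End F V) := Algebra.adjoin F (Set.range ρ)

theorem env_comm (a : env ρ) (x : H) : (a : Module.End F V) * ρ x = ρ x * a := by
  have h : (a : Module.End F V) ∈ Subalgebra.centralizer F (Set.range ρ) := by
    refine Algebra.adjoin_le ?_ a.2
    rintro _ ⟨y, rfl⟩
    rw [SetLike.mem_coe, Subalgebra.mem_centralizer_iff]
    rintro _ ⟨x, rfl⟩
    rw [← map_mul, ← map_mul, mul_comm]
  exact ((Subalgebra.mem_centralizer_iff F).1 h _ ⟨x, rfl⟩).symm

/-- Field model of an irreducible representation of an abelian group. -/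
theorem exists_model (hfaith : Function.Injective ρ) [Nontrivial V]
    (hirr : ∀ U : Submodule F V, (∀ h : H, ∀ u ∈ U, ρ h u ∈ U) → U = ⊥ ∨ U = ⊤) :
    ∃ (E : Type w) (_ : Field E) (_ : Algebra F E) (_ : Finite E) (h : H →* E)
      (L : E ≃ₗ[F] V), Function.Injective h ∧ Algebra.adjoin F (Set.range h) = ⊤ ∧
        ∀ g x, L (h g * x) = ρ g (L x) := by
  classical
  have : Finite V := Module.finite_of_finite F
  have : Finite (Module.End F V) :=
    Finite.of_injective (fun f : Module.End F V => (f : V → V)) DFunLike.coe_injective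
  obtain ⟨v, hv⟩ := exists_ne (0 : V)
  let A := env ρ
  have hcomm : IsMulCommutative A := by
    refine ⟨⟨fun a b => Subtype.ext ?_⟩⟩
    have h : (b : Module.End F V) ∈ Subalgebra.centralizer F {(a : Module.End F V)} := by
      refine Algebra.adjoin_le ?_ b.2
      rintro _ ⟨x, rfl⟩
      rw [SetLike.mem_coe, Subalgebra.mem_centralizer_iff]
      rintro _ rfl
      exact env_comm ρ a x
    exact (Subalgebra.mem_centralizer_iff F).1 h _ rfl
  have hker : ∀ a : A, a ≠ 0 → Function.Injective (a : Module.End F V) := by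
    intro a ha
    rcases hirr (LinearMap.ker (a : Module.End F V)) (fun x u hu => by
      show (a : Module.End F V) (ρ x u) = 0
      rw [← Module.End.mul_apply, env_comm, Module.End.mul_apply, LinearMap.mem_ker.1 hu,
        map_zero]) with h | h
    · exact LinearMap.ker_eq_bot.1 h
    · exact absurd (Subtype.ext (LinearMap.ker_eq_top.1 h)) ha
  let L₀ : A →ₗ[F] V := (LinearMap.applyₗ v).comp A.val.toLinearMap
  have hL₀ : ∀ a : A, L₀ a = (a : Module.End F V) v := fun a => rfl
  have hLinj : Function.Injective L₀ := (injective_iff_map_eq_zero _).2 fun a ha => by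
    by_contra h0
    exact hv (hker a h0 (by rw [map_zero, ← hL₀, ha]))
  have hLsurj : Function.Surjective L₀ := by
    rw [← LinearMap.range_eq_top]
    rcases hirr (LinearMap.range L₀) (fun x u hu => by
      obtain ⟨a, rfl⟩ := hu
      exact ⟨⟨ρ x, Algebra.subset_adjoin ⟨x, rfl⟩⟩ * a, rfl⟩) with h | h
    · exact absurd (by
        have : L₀ 1 ∈ LinearMap.range L₀ := ⟨1, rfl⟩
        rw [h, Submodule.mem_bot, hL₀] at this
        exact this) hv
    · exact h
  have : Nontrivial A := ⟨0, 1, fun h => hv (by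
    have := congrArg L₀ h
    rw [map_zero, hL₀] at this
    exact this.symm)⟩
  have hnz : NoZeroDivisors A := ⟨fun {a b} hab => by
    by_contra hcon
    obtain ⟨ha, hb⟩ := not_or.1 hcon
    apply hb
    refine hLinj (hker a ha ?_)
    rw [map_zero, map_zero, hL₀, ← Module.End.mul_apply, ← MulMemClass.coe_mul, hab]
    rfl⟩
  have : IsDomain A := NoZeroDivisors.to_isDomain A
  have := Fintype.ofFinite A
  letI : CommRing A :=
    { Subalgebra.toRing A with mul_comm := fun a b => hcomm.is_comm.comm a b }
  letI : Field A := Fintype.fieldOfDomain A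
  refine ⟨A, inferInstance, Subalgebra.algebra A, inferInstance,
    { toFun := fun g => ⟨ρ g, Algebra.subset_adjoin ⟨g, rfl⟩⟩
      map_one' := Subtype.ext (map_one ρ)
      map_mul' := fun a b => Subtype.ext (map_mul ρ a b) },
    LinearEquiv.ofBijective L₀ ⟨hLinj, hLsurj⟩, fun a b hab => hfaith (congrArg Subtype.val hab),
    ?_, fun g x => rfl⟩
  refine Subalgebra.map_injective (f := A.val) Subtype.val_injective ?_
  rw [AlgHom.map_adjoin, Algebra.map_top, Subalgebra.range_val]
  show Algebra.adjoin F _ = env ρ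
  rw [env]
  congr 1
  ext x
  simp

end Irred

end CfsgLib.BlockB.AbelianSelfDual
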