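import Cfsg.Agent.Lib.BlockA.BlockSquares
import Cfsg.Agent.Lib.BlockB.RegRank
import Cfsg.Agent.Lib.Block.Transport
import Cfsg.Agent.Lib.Char.Column

/-!
An automorphism fixing a block has a natural number as trace on the span of the restrictions of
the block to the `p`-regular elements.
-/

set_option autoImplicit false
set_option linter.unusedSectionVars false
set_option linter.style.haveILetI false

namespace CfsgLib.BlockB.BlockPermTrace

open Cfsg CfsgLib.Block CfsgLib.BlockA CfsgLib.BlockA.BlockSquares CfsgLib.BlockB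
  CfsgLib.BlockB.StarTrace CfsgLib.BlockB.StarLift CfsgLib.BlockB.IdemCount
  CfsgLib.BlockA.ProjLattice MonoidAlgebra
open scoped ComplexConjugate

universe u

variable {G : Type u} [Group G] [Fintype G] {p : ℕ} [hp : Fact p.Prime] {M : Ideal AlgInt}
  [M.IsPrime] (hM : IsPModular p M)

include hM in
/-- The character of a projective module vanishes on singular elements. -/
theorem sum_mult_mul_eq_zero [Fintype (IrrCharacter G)] {j : MonoidAlgebra (kres M) G}
    (hj : j * j = j) {z : G} (hz : p ∣ orderOf z) :
    ∑ φ : IrrCharacter G, mult j φ * (φ : G → ℂ) z = 0 := by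
  classical
  obtain ⟨e, he, hre⟩ := exists_idem_lift hM hj
  let χz : G → ℂ := fun g => ∑ φ : IrrCharacter G, (φ : G → ℂ) g * (φ : G → ℂ) z
  have hcl : IsClassFunction G χz := fun g h => by
    simp only [χz, fun φ : IrrCharacter G => CfsgLib.Char.irr_isClassFunction φ.2 g h]
  have h0 : ∑ φ : IrrCharacter G, mult j φ * (φ : G → ℂ) z = ∑ g, (toC e).coeff g * χz g := by
    simp only [mult_eq hM he hre, tval_eq_sum, χz, Finset.sum_mul, Finset.mul_sum, mul_assoc]
    exact Finset.sum_comm
  rw [h0]
  have hinner : ∀ g : G, χz g ≠ 0 → ∑ t : G, (toC e).coeff (t * g * t⁻¹) = 0 := by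
    intro g hg
    have hgs : p ∣ orderOf g := by
      by_contra hgs
      refine hg ?_
      have hzz : ∀ φ : IrrCharacter G, (φ : G → ℂ) z = conj ((φ : G → ℂ) z⁻¹) := fun φ => by
        rw [CfsgLib.Char.char_inv (CfsgLib.Char.irr_isCharacter φ.2), Complex.conj_conj]
      simp only [χz, hzz]
      rw [CfsgLib.Char.column_orthogonality, if_neg]
      intro h
      obtain ⟨c, hc⟩ := isConj_iff.1 h
      apply hgs
      rw [← orderOf_inv z, ← hc] at hz
      rwa [show orderOf (c * g * c⁻¹) = orderOf g from
        orderOf_injective (MulAut.conj c).toMonoidHom (MulAut.conj c).injective g] at hz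
    have h := sum_coeff_conj_eq_zero hM (Z := toC e) (by rw [← map_mul, he])
      (fun x => by rw [coeff_toC]; exact (e.coeff x).2) (g := (1 : G)) (fun x => by simp) g
      (fun u w hu hw hc => by
        exfalso
        have hu1 : u = 1 := isPPart_unique hM.1 hu
          (isPPart_one_of_regular (by rw [orderOf_one]; exact hp.out.not_dvd_one))
        subst hu1
        rw [isConj_one_right] at hc
        obtain ⟨y, hy, -, -, hy'⟩ := hw
        rw [hc, one_mul] at hy
        exact hy' (hy ▸ hgs))
    simpa using h
  have h1 : (Nat.card G : ℂ) * ∑ g, (toC e).coeff g * χz g = 0 := by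
    calc (Nat.card G : ℂ) * ∑ g, (toC e).coeff g * χz g
        = ∑ t : G, ∑ g : G, (toC e).coeff (t * g * t⁻¹) * χz g := by
          have hshift : ∀ t : G, ∑ g : G, (toC e).coeff (t * g * t⁻¹) * χz g =
              ∑ g, (toC e).coeff g * χz g := fun t => by
            refine Fintype.sum_equiv (MulAut.conj t).toEquiv _ _ fun g => ?_
            simp only [MulEquiv.toEquiv_eq_coe, MulEquiv.coe_toEquiv, MulAut.conj_apply]
            rw [hcl g t]
          rw [Finset.sum_congr rfl fun t _ => hshift t, Finset.sum_const, Finset.card_univ,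
            ← Nat.card_eq_fintype_card, nsmul_eq_mul]
      _ = 0 := by
          rw [Finset.sum_comm]
          refine Finset.sum_eq_zero fun g _ => ?_
          rw [← Finset.sum_mul]
          rcases eq_or_ne (χz g) 0 with h | h
          · rw [h, mul_zero]
          · rw [hinner g h, zero_mul]
  exact (mul_eq_zero.1 h1).resolve_left (Nat.cast_ne_zero.2 Nat.card_pos.ne')

include hM in
/-- Pulling back along an automorphism keeps the lattice of multiplicities. -/
theorem exists_mult_pull (α : G ≃* G) {j : MonoidAlgebra (kres M) G} (hj : j * j = j) :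
    ∃ j' : MonoidAlgebra (kres M) G, j' * j' = j' ∧
      ∀ φ : IrrCharacter G, mult j (pullIrr α φ) = mult j' φ := by
  obtain ⟨e, he, hre⟩ := exists_idem_lift hM hj
  let e' : MonoidAlgebra (lring M) G := MonoidAlgebra.mapDomain α e
  have he' : e' * e' = e' := by
    show MonoidAlgebra.mapDomain α e * MonoidAlgebra.mapDomain α e = MonoidAlgebra.mapDomain α e
    rw [← MonoidAlgebra.mapDomain_mul, he]
  have hcoef : ∀ g, e'.coeff (α g) = e.coeff g := fun g => by
    show (Finsupp.mapDomain α e.coeff) (α g) = _
    exact Finsupp.mapDomain_apply α.injective _ _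
  refine ⟨redG e', by rw [← map_mul, he'], fun φ => ?_⟩
  rw [mult_eq hM he hre, mult_eq hM he' rfl, tval_eq_sum, tval_eq_sum]
  refine Fintype.sum_equiv α.toEquiv _ _ fun g => ?_
  simp only [coeff_toC, pullIrr_apply, MulEquiv.toEquiv_eq_coe, MulEquiv.coe_toEquiv, hcoef]

variable {b : Set (IrrCharacter G)} (hb : IsPBlock M b)

/-- The restriction of a vector to a block. -/
def res (v : IrrCharacter G → ℂ) : b → ℂ := fun φ => v φ

include hM hb in
/-- **The trace of an automorphism on a block is a natural number.** -/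
theorem exists_nat_trace (α : G ≃* G) (hα : ∀ φ, φ ∈ b → pullIrr α φ ∈ b) :
    ∃ n : ℕ, ∑ φ ∈ b.toFinite.toFinset,
      classInner (fun x => regInd p x * (φ : G → ℂ) (α x)) (φ : G → ℂ) = (n : ℂ) := by
  classical
  have := charP_kres hM
  have : IsAlgClosed (kres M) := isAlgClosed_kres
  have := Fintype.ofFinite (IrrCharacter G)
  obtain ⟨S⟩ := exists_splitData (k := kres M) (Λ := MonoidAlgebra (kres M) G)
  set bI : MonoidAlgebra (kres M) G := (blkIdem M b : MonoidAlgebra (kres M) G) with hbI
  set I := Finset.univ.filter fun i => rk S i bI ≠ 0 with hI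
  -- the block idempotent is the identity at the simple modules of the block
  have hone : ∀ i ∈ I, S.π bI i = 1 := by
    intro i hi
    have hne : S.π bI i ≠ 0 := fun e => (Finset.mem_filter.1 hi).2 (by
      rw [rk, e, LinearMap.range_zero, finrank_bot])
    obtain ⟨x₀, hx₀⟩ : ∃ x, S.π bI i x ≠ 0 := by
      by_contra h
      push Not at h
      exact hne (LinearMap.ext h)
    set v := S.π bI i x₀ with hv
    have hbv : S.π bI i v = v := LinearMap.congr_fun (apply_idem S (blk_idem hM hb) i) x₀
    obtain ⟨ψ, hψ⟩ : ∃ ψ : Module.Dual (kres M) (Fin (S.d i) → kres M), ψ v ≠ 0 := by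
      by_contra h
      push Not at h
      exact hx₀ ((Module.forall_dual_apply_eq_zero_iff _ v).1 h)
    refine LinearMap.ext fun x => ?_
    obtain ⟨a, ha⟩ := S.surj (Pi.single i (one' ((ψ v)⁻¹ • x) ψ))
    have hc : S.π bI i * S.π a i = S.π a i * S.π bI i := by
      rw [← Pi.mul_apply, ← Pi.mul_apply, ← map_mul, ← map_mul,
        Subalgebra.mem_center_iff.1 (blkIdem M b).2 a]
    have h1 := LinearMap.congr_fun hc v
    rw [Module.End.mul_apply, Module.End.mul_apply, hbv, ha, Pi.single_eq_same, one'_apply,
      smul_smul, mul_inv_cancel₀ hψ, one_smul] at h1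
    exact h1
  have hbprim : ∀ i ∈ I, mult (bI * prim S i) = mult (prim S i) := by
    intro i hi
    rw [mult_expansion hM S (blk_mul_idem hM hb (prim_idem S i))]
    conv_rhs => rw [mult_expansion hM S (prim_idem S i)]
    refine Finset.sum_congr rfl fun l _ => ?_
    congr 1
    rw [rk, rk, map_mul, Pi.mul_apply]
    rcases eq_or_ne l i with rfl | hli
    · rw [hone l hi, one_mul]
    · rw [pi_prim, Pi.single_eq_of_ne hli, mul_zero]
  have hout : ∀ i ∈ I, ∀ φ : IrrCharacter G, φ ∉ b → mult (prim S i) φ = 0 := by
    intro i hi φ hφ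
    rw [← hbprim i hi, hbI, mult_block_mul hM hb (prim_idem S i), if_neg hφ]
  have hin : ∀ l, l ∉ I → ∀ φ : IrrCharacter G, φ ∈ b → mult (prim S l) φ = 0 := by
    intro l hl φ hφ
    have h0 : rk S l bI = 0 := by
      by_contra h
      exact hl (Finset.mem_filter.2 ⟨Finset.mem_univ l, h⟩)
    have h1 : mult (bI * prim S l) = 0 := by
      rw [mult_expansion hM S (blk_mul_idem hM hb (prim_idem S l))]
      refine Finset.sum_eq_zero fun m _ => ?_
      suffices h : rk S m (bI * prim S l) = 0 by rw [h, zero_smul]
      rw [rk, map_mul, Pi.mul_apply]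
      rcases eq_or_ne m l with rfl | hml
      · rw [rk, Submodule.finrank_eq_zero, LinearMap.range_eq_bot] at h0
        rw [h0, zero_mul, LinearMap.range_zero, finrank_bot]
      · rw [pi_prim, Pi.single_eq_of_ne hml, mul_zero, LinearMap.range_zero, finrank_bot]
    rw [← if_pos (c := φ ∈ b) hφ (t := mult (prim S l) φ) (e := 0),
      ← mult_block_mul hM hb (prim_idem S l), ← hbI, h1, Pi.zero_apply]
  -- the columns
  let m : I → (b → ℂ) := fun i => res (mult (prim S (i : Fin S.n)))
  let D : (I → ℂ) →ₗ[ℂ] (b → ℂ) := Fintype.linearCombination ℂ m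
  choose nn hnn using fun (i : Fin S.n) (φ : IrrCharacter G) =>
    exists_nat_mult (M := M) hM (prim_idem S i) φ
  have hDinj : Function.Injective D := by
    let N : Matrix b I ℤ := Matrix.of fun φ i => (nn (i : Fin S.n) (φ : IrrCharacter G) : ℤ)
    have hdet : (N.transpose * N).det ≠ 0 := by
      intro h0
      obtain ⟨c, hc, hNc⟩ := Matrix.exists_mulVec_eq_zero_iff.2 h0
      have hsq : ∑ φ, (N.mulVec c φ) * (N.mulVec c φ) = 0 := by
        have h := congrArg (fun v => ∑ i, c i * v i) hNc
        simp only [Pi.zero_apply, mul_zero, Finset.sum_const_zero] at h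
        rw [← h]
        simp only [← Matrix.mulVec_mulVec]
        simp only [Matrix.mulVec, dotProduct, Matrix.transpose_apply, Finset.mul_sum,
          Finset.sum_mul]
        rw [Finset.sum_comm (s := (Finset.univ : Finset I)) (t := (Finset.univ : Finset b))]
        refine Finset.sum_congr rfl fun φ _ => Finset.sum_congr rfl fun i _ =>
          Finset.sum_congr rfl fun l _ => ?_
        ring
      have hz : ∀ φ, N.mulVec c φ = 0 := fun φ => mul_self_eq_zero.1
        ((Finset.sum_eq_zero_iff_of_nonneg fun ψ _ => mul_self_nonneg _).1 hsq φ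
          (Finset.mem_univ φ))
      refine hc (funext fun i => ?_)
      let c' : Fin S.n → ℤ := fun l => if h : l ∈ I then c ⟨l, h⟩ else 0
      have hc' := coeff_eq_zero hM S c' fun χ => by
        have e : ∑ l, (c' l : ℂ) * mult (prim S l) χ =
            ∑ i : I, (c i : ℂ) * mult (prim S (i : Fin S.n)) χ := by
          rw [← Finset.sum_subset (Finset.subset_univ I) (fun l _ hl => by simp [c', hl]),
            ← Finset.sum_coe_sort I]
          exact Finset.sum_congr rfl fun i _ => by simp [c', i.2]
        rw [e]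
        by_cases hχ : χ ∈ b
        · have h := congrArg (fun z : ℤ => (z : ℂ)) (hz ⟨χ, hχ⟩)
          simp only [Matrix.mulVec, dotProduct, N, Matrix.of_apply, Int.cast_sum, Int.cast_mul,
            Int.cast_natCast, Int.cast_zero] at h
          rw [← h]
          exact Finset.sum_congr rfl fun i _ => by rw [hnn, mul_comm]
        · exact Finset.sum_eq_zero fun i _ => by rw [hout _ i.2 χ hχ, mul_zero]
      have h := congrFun hc' (i : Fin S.n)
      simpa [c', i.2] using h
    have hCdet : ((N.map (Int.castRingHom ℂ)).transpose * N.map (Int.castRingHom ℂ)).det ≠ 0 := by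
      have e : (N.map (Int.castRingHom ℂ)).transpose * N.map (Int.castRingHom ℂ) =
          (N.transpose * N).map (Int.castRingHom ℂ) := by rw [Matrix.map_mul]; rfl
      rw [e, ← RingHom.mapMatrix_apply, ← RingHom.map_det]
      simpa using hdet
    intro x y hxy
    have hD : ∀ w, D w = (N.map (Int.castRingHom ℂ)).mulVec w := fun w => by
      funext φ
      simp only [D, m, res, Fintype.linearCombination_apply, Finset.sum_apply, Pi.smul_apply,
        smul_eq_mul, Matrix.mulVec, dotProduct, Matrix.map_apply, N, Matrix.of_apply, hnn,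
        eq_intCast, Int.cast_natCast]
      exact Finset.sum_congr rfl fun i _ => mul_comm _ _
    refine sub_eq_zero.1 (Matrix.eq_zero_of_mulVec_eq_zero hCdet ?_)
    rw [← Matrix.mulVec_mulVec, Matrix.mulVec_sub, ← hD, ← hD, hxy, sub_self, Matrix.mulVec_zero]
  -- the regular projection
  let row : b → (b → ℂ) := fun χ ξ =>
    classInner (fun x => regInd p x * ((χ : IrrCharacter G) : G → ℂ) x) ((ξ : IrrCharacter G) : G → ℂ)
  let T : (b → ℂ) →ₗ[ℂ] (b → ℂ) := Fintype.linearCombination ℂ row
  have hTm : ∀ i : I, T (m i) = m i := by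
    intro i
    funext ξ
    have hvan : ∀ x : G, ∑ χ : b, mult (prim S (i : Fin S.n)) (χ : IrrCharacter G) *
        (regInd p x * ((χ : IrrCharacter G) : G → ℂ) x) =
        ∑ χ : b, mult (prim S (i : Fin S.n)) (χ : IrrCharacter G) *
          ((χ : IrrCharacter G) : G → ℂ) x := by
      intro x
      by_cases hx : p ∣ orderOf x
      · have h := sum_mult_mul_eq_zero hM (prim_idem S (i : Fin S.n)) hx
        rw [← Finset.sum_subset (Finset.subset_univ b.toFinite.toFinset) (fun φ _ hφ => by
          rw [hout _ i.2 φ (fun h' => hφ (b.toFinite.mem_toFinset.2 h')), zero_mul]),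
          Finset.sum_subtype b.toFinite.toFinset (p := (· ∈ b)) (by simp)] at h
        simp only [regInd, if_pos hx, zero_mul, mul_zero, Finset.sum_const_zero]
        exact h.symm
      · simp only [regInd, if_neg hx, one_mul]
    have h1 : ∀ χ : b, classInner ((χ : IrrCharacter G) : G → ℂ) ((ξ : IrrCharacter G) : G → ℂ) =
        if χ = ξ then 1 else 0 := fun χ => by
      rw [CfsgLib.Char.irr_classInner (χ : IrrCharacter G).2 (ξ : IrrCharacter G).2]
      simp [Subtype.ext_iff]
    calc T (m i) ξ = ∑ χ : b, mult (prim S (i : Fin S.n)) (χ : IrrCharacter G) *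
          classInner (fun x => regInd p x * ((χ : IrrCharacter G) : G → ℂ) x)
            ((ξ : IrrCharacter G) : G → ℂ) := by
          simp only [T, m, res, row, Fintype.linearCombination_apply, Finset.sum_apply,
            Pi.smul_apply, smul_eq_mul]
      _ = ∑ χ : b, mult (prim S (i : Fin S.n)) (χ : IrrCharacter G) *
          classInner ((χ : IrrCharacter G) : G → ℂ) ((ξ : IrrCharacter G) : G → ℂ) := by
          simp only [CfsgLib.Char.classInner_def, Finset.mul_sum]
          rw [Finset.sum_comm]
          conv_rhs => rw [Finset.sum_comm]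
          refine Finset.sum_congr rfl fun x _ => ?_
          simp only [← mul_assoc, mul_comm _ ((Nat.card G : ℂ)⁻¹), ← Finset.sum_mul]
          simp only [mul_assoc, ← Finset.mul_sum]
          rw [hvan x]
      _ = m i ξ := by simp [h1, m, res]
  have hle : LinearMap.range D ≤ LinearMap.range T := by
    rintro _ ⟨w, rfl⟩
    refine ⟨D w, ?_⟩
    simp only [D, Fintype.linearCombination_apply, map_sum, map_smul, hTm]
  have hrange : LinearMap.range D = LinearMap.range T := by
    refine Submodule.eq_of_le_of_finrank_le hle ?_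
    rw [LinearMap.finrank_range_of_inj hDinj, Module.finrank_fintype_fun_eq_card, Fintype.card_coe]
    refine le_trans ?_ (blockRank_le_filter hM hb S)
    let L : (b → ℂ) →ₗ[ℂ] (G → ℂ) :=
      Fintype.linearCombination ℂ fun χ : b => ((χ : IrrCharacter G) : G → ℂ)
    have hLinj : Function.Injective L :=
      linearIndependent_iff_injective_fintypeLinearCombination.1
        (CfsgLib.Char.irr_linearIndependent.comp (fun χ : b => (χ : IrrCharacter G))
          Subtype.val_injective)
    rw [(Submodule.equivMapOfInjective L hLinj _).finrank_eq, blockRank,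
      Fintype.range_linearCombination, Submodule.map_span]
    refine Submodule.finrank_mono (Submodule.span_mono ?_)
    rintro _ ⟨_, ⟨χ, rfl⟩, rfl⟩
    refine ⟨χ, χ.2, ?_⟩
    simp only [L, row, Fintype.linearCombination_apply]
    funext g
    rw [pRegularPart_eq_regInd_mul]
    simp only [Finset.sum_apply, Pi.smul_apply, smul_eq_mul]
    rw [regInd_mul_eq_sum hM hb χ.2 g, finsum_mem_eq_finite_toFinset_sum _ b.toFinite]
    exact Finset.sum_subtype b.toFinite.toFinset (p := (· ∈ b)) (by simp) _
  let Ew : (b → ℂ) →ₗ[ℂ] (I → ℂ) := (LinearEquiv.ofInjective D hDinj).symm.toLinearMap.comp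
    (LinearMap.codRestrict (LinearMap.range D) T fun w => hrange ▸ LinearMap.mem_range_self T w)
  have hDE : ∀ w, D (Ew w) = T w := fun w => by
    have h := (LinearEquiv.ofInjective D hDinj).apply_symm_apply
      ⟨T w, hrange ▸ LinearMap.mem_range_self T w⟩
    exact congrArg Subtype.val h
  let αb : b → b := fun φ => ⟨pullIrr α φ, hα _ φ.2⟩
  let Sw : (b → ℂ) →ₗ[ℂ] (b → ℂ) := LinearMap.funLeft ℂ ℂ αb
  have hbij : Function.Bijective αb := Finite.injective_iff_bijective.1 fun φ ψ h =>
    Subtype.ext (pullIrr_injective α (congrArg Subtype.val h))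
  choose j hj hjα using fun i => exists_mult_pull (M := M) hM α (prim_idem S i)
  have hentry : ∀ i : I, Ew (Sw (D (Pi.single i 1))) =
      fun l : I => ((rk S (l : Fin S.n) (j i) : ℕ) : ℂ) := by
    intro i
    apply hDinj
    rw [hDE]
    have h1 : Sw (D (Pi.single i 1)) = D fun l : I => ((rk S (l : Fin S.n) (j i) : ℕ) : ℂ) := by
      funext φ
      simp only [Sw, D, LinearMap.funLeft_apply, Fintype.linearCombination_apply, Finset.sum_apply,
        Pi.smul_apply, smul_eq_mul, m, res, αb]
      rw [Finset.sum_eq_single i (fun l _ hl => by rw [Pi.single_eq_of_ne hl, zero_mul])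
        (fun h => absurd (Finset.mem_univ i) h), Pi.single_eq_same, one_mul]
      rw [hjα, mult_expansion hM S (hj i), Finset.sum_apply,
        ← Finset.sum_subset (Finset.subset_univ I) (fun l _ hl => by
          rw [Pi.smul_apply, hin l hl _ φ.2, smul_zero]), ← Finset.sum_coe_sort I]
      exact Finset.sum_congr rfl fun l _ => by rw [Pi.smul_apply, nsmul_eq_mul]
    rw [h1]
    simp only [D, Fintype.linearCombination_apply, map_sum, map_smul, hTm]
  refine ⟨∑ i : I, rk S (i : Fin S.n) (j i), ?_⟩
  have htr : LinearMap.trace ℂ _ (T.comp Sw) = LinearMap.trace ℂ _ (Ew.comp (Sw.comp D)) := by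
    rw [show T.comp Sw = D.comp (Ew.comp Sw) from LinearMap.ext fun w => (hDE _).symm,
      LinearMap.trace_comp_comm', LinearMap.comp_assoc]
  rw [LinearMap.trace_eq_matrix_trace ℂ (Pi.basisFun ℂ b),
    LinearMap.trace_eq_matrix_trace ℂ (Pi.basisFun ℂ I)] at htr
  simp only [Matrix.trace, Matrix.diag_apply, LinearMap.toMatrix_apply, Pi.basisFun_apply,
    Pi.basisFun_repr, LinearMap.comp_apply, hentry] at htr
  have hval : ∑ χ : b, row χ (αb χ) = ((∑ i : I, rk S (i : Fin S.n) (j i) : ℕ) : ℂ) := by
    rw [Nat.cast_sum, ← htr]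
    refine Fintype.sum_equiv (Equiv.ofBijective αb hbij) _ _ fun χ => ?_
    simp only [Equiv.ofBijective_apply, T, Sw, Fintype.linearCombination_apply, Finset.sum_apply,
      Pi.smul_apply, smul_eq_mul, LinearMap.funLeft_apply]
    rw [Finset.sum_eq_single χ (fun ψ _ hψ => by
      rw [Pi.single_eq_of_ne (fun e => hψ (hbij.1 e)), zero_mul])
      (fun h => absurd (Finset.mem_univ χ) h), Pi.single_eq_same, one_mul]
  rw [← Complex.conj_natCast, ← hval, map_sum,
    Finset.sum_subtype b.toFinite.toFinset (p := (· ∈ b)) (by simp)]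
  refine Finset.sum_congr rfl fun χ _ => ?_
  simp only [row, αb, CfsgLib.Char.classInner_def, map_mul, map_sum, map_inv₀,
    Complex.conj_natCast, pullIrr_apply, Complex.conj_conj]
  congr 1
  refine Finset.sum_congr rfl fun x _ => ?_
  unfold regInd
  split_ifs <;> simp [mul_comm]

end CfsgLib.BlockB.BlockPermTrace
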