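import Cfsg.Agent.Lib.BlockB.Psi
import Cfsg.Agent.Lib.Clifford.Intertwiner
import Cfsg.Agent.Lib.Clifford.Extension
import Cfsg.Agent.Lib.Char.Constituent
import Mathlib.GroupTheory.SemidirectProduct
import Mathlib.NumberTheory.LegendreSymbol.AddCharacter
import Mathlib.LinearAlgebra.BilinearForm.Properties

/-!
The square root `ψ` for a coprime group preserving a bilinear form with nondegenerate
antisymmetrisation, by the Heisenberg group.
-/

set_option autoImplicit false
set_option linter.unusedSectionVars false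

open scoped ComplexConjugate

namespace CfsgLib.BlockB.HeisenbergPsi

open CfsgLib.BlockB CfsgLib.BlockB.CycInt CfsgLib.BlockB.Psi

universe u v

variable {p : ℕ} [Fact p.Prime] {U : Type v} [AddCommGroup U] [Module (ZMod p) U] [Finite U]

/-- The Heisenberg group of a bilinear form. -/
@[ext]
structure Heis (b : LinearMap.BilinForm (ZMod p) U) where
  /-- the vector part -/
  fst : U
  /-- the central part -/
  snd : ZMod p

variable {b : LinearMap.BilinForm (ZMod p) U}

instance : Mul (Heis b) := ⟨fun x y => ⟨x.fst + y.fst, x.snd + y.snd + b x.fst y.fst⟩⟩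
instance : One (Heis b) := ⟨⟨0, 0⟩⟩
instance : Inv (Heis b) := ⟨fun x => ⟨-x.fst, -x.snd + b x.fst x.fst⟩⟩

@[simp] theorem mul_fst (x y : Heis b) : (x * y).fst = x.fst + y.fst := rfl
@[simp] theorem mul_snd (x y : Heis b) : (x * y).snd = x.snd + y.snd + b x.fst y.fst := rfl
@[simp] theorem one_fst : (1 : Heis b).fst = 0 := rfl
@[simp] theorem one_snd : (1 : Heis b).snd = 0 := rfl
@[simp] theorem inv_fst (x : Heis b) : x⁻¹.fst = -x.fst := rfl
@[simp] theorem inv_snd (x : Heis b) : x⁻¹.snd = -x.snd + b x.fst x.fst := rfl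

instance : Group (Heis b) where
  mul_assoc x y z := Heis.ext (add_assoc _ _ _) (by simp; abel)
  one_mul x := Heis.ext (zero_add _) (by simp)
  mul_one x := Heis.ext (add_zero _) (by simp)
  inv_mul_cancel x := Heis.ext (neg_add_cancel _) (by simp)

/-- The underlying set. -/
def equivProd : Heis b ≃ U × ZMod p where
  toFun x := (x.fst, x.snd)
  invFun x := ⟨x.1, x.2⟩
  left_inv _ := rfl
  right_inv _ := rfl

instance : Finite (Heis b) := Finite.of_equiv _ equivProd.symm

theorem natCard_heis : Nat.card (Heis b) = Nat.card U * p := by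
  rw [Nat.card_congr equivProd, Nat.card_prod, Nat.card_zmod]

/-- The centre. -/
def z (t : ZMod p) : Heis b := ⟨0, t⟩

theorem z_mul (t : ZMod p) (e : Heis b) : z t * e = ⟨e.fst, t + e.snd⟩ :=
  Heis.ext (zero_add _) (by simp [z])

theorem z_comm (t : ZMod p) (e : Heis b) : z t * e = e * z t :=
  Heis.ext (by simp [z]) (by simp [z, add_comm])

theorem z_pow (k : ℕ) : (z (1 : ZMod p) : Heis b) ^ k = z (k : ZMod p) := by
  induction k with
  | zero => exact Heis.ext rfl (by simp [z])
  | succ k ih => rw [pow_succ, ih]; exact Heis.ext (by simp [z]) (by simp [z])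

theorem commutator_eq (g h : Heis b) :
    h * g * h⁻¹ = z (b h.fst g.fst - b g.fst h.fst) * g := by
  rw [mul_inv_eq_iff_eq_mul, z_mul]
  exact Heis.ext (add_comm _ _) (by simp; abel)

theorem pow_card (ω : ℂ) (hω : ω ^ p = 1) (a : ZMod p) (c : ℂ) (h : ω ≠ 1)
    (ha : a ≠ 0) (hc : c = ω ^ a.val * c) : c = 0 := by
  by_contra hc0
  have h1 : ω ^ a.val = 1 := (mul_eq_right₀ hc0).1 hc.symm
  have hprime : p.Prime := Fact.out
  have h2 : Nat.Coprime a.val p := by
    refine (hprime.coprime_iff_not_dvd.2 fun hd => ha ?_).symm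
    rw [← ZMod.natCast_zmod_val a, (ZMod.natCast_eq_zero_iff _ _).2 hd]
  have h3 : orderOf ω ∣ Nat.gcd a.val p :=
    Nat.dvd_gcd (orderOf_dvd_of_pow_eq_one h1) (orderOf_dvd_of_pow_eq_one hω)
  rw [h2.gcd_eq_one, Nat.dvd_one, orderOf_eq_one_iff] at h3
  exact h h3

/-- Functions with central scalar `ω ≠ 1` vanish off the centre. -/
theorem vanish (hnd : ∀ u, (∀ w, b u w = b w u) → u = 0) {f : Heis b → ℂ} {ω : ℂ}
    (hω : ω ^ p = 1) (h1 : ω ≠ 1) (hz : ∀ t e, f (z t * e) = ω ^ t.val * f e)
    (hcl : ∀ g h, f (h * g * h⁻¹) = f g) {e : Heis b} (he : e.fst ≠ 0) : f e = 0 := by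
  obtain ⟨w, hw⟩ := not_forall.1 fun h => he (hnd _ h)
  refine pow_card ω hω (b w e.fst - b e.fst w) _ h1 (fun h => hw (sub_eq_zero.1 h).symm) ?_
  conv_lhs => rw [← hcl e ⟨w, 0⟩, commutator_eq, hz]

/-- A central element acts on an irreducible character by a root of unity. -/
theorem central_scalar {G : Type*} [Group G] [Finite G] {χ : G → ℂ}
    (hχ : Cfsg.IsIrrCharacter G χ) {x : G} (hx : ∀ g, x * g = g * x) :
    ∃ ω : ℂ, ω ^ orderOf x = 1 ∧ ∀ g, χ (x * g) = ω * χ g := by
  obtain ⟨n, ρ, hρ, rfl⟩ := hχ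
  let I : Representation.IntertwiningMap ρ ρ := ⟨ρ x, fun g => by
    show ρ x * ρ g = ρ g * ρ x
    rw [← map_mul, hx, map_mul]⟩
  obtain ⟨c, hc'⟩ :=
    (Representation.IsIrreducible.algebraMap_intertwiningMap_bijective_of_isAlgClosed
      (ρ := ρ) (k := ℂ)).2 I
  have hc : ρ x = algebraMap ℂ (Module.End ℂ (Fin n → ℂ)) c := LinearMap.ext fun v => by
    have := congr_arg (fun J : Representation.IntertwiningMap ρ ρ => J.toLinearMap v) hc'
    simpa [I, Algebra.algebraMap_eq_smul_one] using this.symm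
  refine ⟨c, ?_, fun g => ?_⟩
  · have := CfsgLib.Char.nontrivial_of_isIrreducible ρ
    have h : (algebraMap ℂ (Module.End ℂ (Fin n → ℂ)) c) ^ orderOf x = 1 := by
      rw [← hc, ← map_pow, pow_orderOf_eq_one, map_one]
    rw [← map_pow, ← map_one (algebraMap ℂ (Module.End ℂ (Fin n → ℂ)))] at h
    exact (algebraMap ℂ (Module.End ℂ (Fin n → ℂ))).injective h
  · simp only [Representation.character, map_mul, hc, Algebra.algebraMap_eq_smul_one,
      smul_mul_assoc, one_mul, map_smul, smul_eq_mul]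

/-- Central scalars of an irreducible character. -/
theorem exists_scalar {G : Type v} [Group G] [Finite G] (χ : Cfsg.IrrCharacter G) (ι : Heis b →* G)
    (hc : ∀ t g, ι (z t) * g = g * ι (z t)) :
    ∃ ω : ℂ, ω ^ p = 1 ∧ ‖ω‖ = 1 ∧
      ∀ t g, (χ : G → ℂ) (ι (z t) * g) = ω ^ t.val * (χ : G → ℂ) g := by
  obtain ⟨ω, ho, hmul⟩ := central_scalar χ.2 (hc 1)
  have hp : ι (z (1 : ZMod p) : Heis b) ^ p = 1 := by
    rw [← map_pow, z_pow, ZMod.natCast_self]
    exact map_one ι
  refine ⟨ω, ?_, Complex.norm_eq_one_of_pow_eq_one ho (orderOf_pos _).ne', fun t g => ?_⟩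
  · obtain ⟨k, hk⟩ := orderOf_dvd_of_pow_eq_one hp
    rw [hk, pow_mul, ho, one_pow]
  · have hstep : ∀ (k : ℕ) g, (χ : G → ℂ) (ι (z (1 : ZMod p)) ^ k * g) =
        ω ^ k * (χ : G → ℂ) g := by
      intro k
      induction k with
      | zero => intro g; simp
      | succ k ih => intro g; rw [pow_succ', mul_assoc, hmul, ih, pow_succ']; ring
    have := hstep t.val g
    rwa [← map_pow, z_pow, ZMod.natCast_zmod_val] at this

theorem sum_heis [Fintype (Heis b)] [Fintype U] (F : Heis b → ℂ)
    (h0 : ∀ e : Heis b, e.fst ≠ 0 → F e = 0) : ∑ e, F e = ∑ t : ZMod p, F (z t) := by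
  rw [← equivProd.symm.sum_comp, Fintype.sum_prod_type, Finset.sum_eq_single (0 : U)]
  · rfl
  · intro u _ hu; exact Finset.sum_eq_zero fun t _ => h0 _ hu
  · intro h; exact absurd (Finset.mem_univ _) h

/-- The degree of an irreducible character nontrivial on the centre. -/
theorem degree_sq (hnd : ∀ u, (∀ w, b u w = b w u) → u = 0) {θ : Heis b → ℂ}
    (hθ : Cfsg.IsIrrCharacter (Heis b) θ) {ω : ℂ} (hω : ω ^ p = 1) (h1 : ω ≠ 1)
    (hz : ∀ t e, θ (z t * e) = ω ^ t.val * θ e) {d : ℕ} (hd : θ 1 = d) :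
    d ^ 2 = Nat.card U := by
  classical
  have := Fintype.ofFinite (Heis b)
  have := Fintype.ofFinite U
  have hn : ‖ω‖ = 1 := Complex.norm_eq_one_of_pow_eq_one hω (Fact.out : p.Prime).ne_zero
  have hv := fun e (he : e.fst ≠ 0) => vanish hnd hω h1 hz
    (fun g h => CfsgLib.Char.irr_isClassFunction hθ g h) (e := e) he
  have h := CfsgLib.Char.irr_classInner_self hθ
  have hterm : ∀ t : ZMod p, θ (z t) * conj (θ (z t)) = ((d ^ 2 : ℕ) : ℂ) := fun t => by
    have := hz t 1
    rw [mul_one, hd] at this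
    rw [this, map_mul, map_pow, Complex.conj_natCast, mul_mul_mul_comm, ← mul_pow,
      Complex.mul_conj', hn]
    push_cast; ring
  rw [CfsgLib.Char.classInner_def, sum_heis _ (fun e he => by simp [hv e he])] at h
  simp only [hterm, Finset.sum_const, Finset.card_univ, ZMod.card, natCard_heis,
    nsmul_eq_mul] at h
  have hU : (Nat.card U : ℂ) ≠ 0 := Nat.cast_ne_zero.2 Nat.card_pos.ne'
  have hp : (p : ℂ) ≠ 0 := Nat.cast_ne_zero.2 (Fact.out : p.Prime).ne_zero
  push_cast at h
  field_simp at h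
  exact_mod_cast h

section Action

variable {H : Type u} [Group H] (ρ : Representation (ZMod p) H U)
  (hinv : ∀ c x y, b (ρ c x) (ρ c y) = b x y)

/-- The action of `H` on the Heisenberg group. -/
def act : H →* MulAut (Heis b) where
  toFun c :=
    { toFun := fun e => ⟨ρ c e.fst, e.snd⟩
      invFun := fun e => ⟨ρ c⁻¹ e.fst, e.snd⟩
      left_inv := fun e => Heis.ext (by simp) rfl
      right_inv := fun e => Heis.ext (by simp) rfl
      map_mul' := fun e f => Heis.ext (map_add _ _ _) (by simp [hinv]) }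
  map_one' := MulEquiv.ext fun e => Heis.ext (by simp) rfl
  map_mul' a c := MulEquiv.ext fun e => Heis.ext (by simp) rfl

theorem act_apply (c : H) (e : Heis b) : act ρ hinv c e = ⟨ρ c e.fst, e.snd⟩ := rfl

theorem act_z (c : H) (t : ZMod p) : act ρ hinv c (z t) = z t :=
  Heis.ext (map_zero _) rfl

end Action

variable {H : Type u} [Group H] [Fintype H] {N : ℕ} [NeZero N]

set_option maxHeartbeats 1000000 in
/-- The square root for a form with nondegenerate antisymmetrisation. -/
theorem hasPsi {U : Type u} [AddCommGroup U] [Module (ZMod p) U] [Finite U]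
    (ρ : Representation (ZMod p) H U) (b : LinearMap.BilinForm (ZMod p) U)
    (hcop : ¬ p ∣ Nat.card H) (hHN : Nat.card H ∣ N)
    (hinv : ∀ c x y, b (ρ c x) (ρ c y) = b x y)
    (hnd : ∀ u, (∀ w, b u w = b w u) → u = 0) : HasPsi ρ N (⊤ : Submodule (ZMod p) U) := by
  classical
  have hp : p.Prime := Fact.out
  have := Fintype.ofFinite U
  have := Fintype.ofFinite (Heis b)
  -- an irreducible character nontrivial on the centre
  have hz1 : (z (1 : ZMod p) : Heis b) ≠ 1 := fun h => one_ne_zero (congrArg Heis.snd h)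
  obtain ⟨θ, hθne⟩ := CfsgLib.Char.exists_irr_apply_ne hz1
  obtain ⟨ω, hωp, hωn, hωz⟩ := exists_scalar θ (MonoidHom.id _) (fun t g => z_comm t g)
  simp only [MonoidHom.id_apply] at hωz
  have hω1 : ω ≠ 1 := fun h => hθne (by
    have := hωz 1 1
    rw [mul_one, h, one_pow, one_mul] at this
    exact this)
  obtain ⟨n, ρ₀, hρ₀, hρθ⟩ := θ.2
  have hd1 : (θ : Heis b → ℂ) 1 = (n : ℂ) := by
    rw [← hρθ, Representation.char_one, Module.finrank_fin_fun]
  have hdeg : n ^ 2 = Nat.card U := degree_sq hnd θ.2 hωp hω1 hωz hd1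
  have hv : ∀ e : Heis b, e.fst ≠ 0 → (θ : Heis b → ℂ) e = 0 := fun e he =>
    vanish hnd hωp hω1 hωz (fun g h => CfsgLib.Char.irr_isClassFunction θ.2 g h) he
  -- the semidirect product and the extension
  let S := Heis b ⋊[act ρ hinv] H
  have : Finite S := Finite.of_equiv _ SemidirectProduct.equivProd.symm
  have := Fintype.ofFinite S
  let inl : Heis b →* S := SemidirectProduct.inl
  let inr : H →* S := SemidirectProduct.inr
  let NE : Subgroup S := inl.range
  have hNn : NE.Normal := by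
    show ((SemidirectProduct.inl : Heis b →* S).range).Normal
    rw [SemidirectProduct.range_inl_eq_ker_rightHom]
    infer_instance
  let iso : Heis b ≃* NE := MonoidHom.ofInjective SemidirectProduct.inl_injective
  let ρN : Representation ℂ NE (Fin n → ℂ) := ρ₀.comp iso.symm.toMonoidHom
  have hρN : ρN.IsIrreducible :=
    CfsgLib.Char.isIrreducible_comp_surjective ρ₀ iso.symm.toMonoidHom iso.symm.surjective
  have := Fintype.ofFinite NE
  have hinvθ : ∀ (c : H) (e : Heis b),
      (θ : Heis b → ℂ) (act ρ hinv c e) = (θ : Heis b → ℂ) e := by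
    intro c e
    by_cases he : e.fst = 0
    · have : e = z e.snd := Heis.ext he rfl
      rw [this, act_z]
    · rw [hv e he, hv]
      rw [act_apply]
      exact fun h => he (by simpa using congrArg (ρ c⁻¹) h)
  have hisoap : ∀ e, ((iso e : NE) : S) = inl e := fun e => rfl
  have hcharN : ∀ m : NE, ρN.character m = (θ : Heis b → ℂ) (iso.symm m) := fun m => by
    rw [← hρθ]; rfl
  have hconj : ∀ (g : S) (m : NE), ∃ h : Heis b, iso.symm (CfsgLib.Clifford.conjN g m) =
      h * act ρ hinv g.right (iso.symm m) * h⁻¹ := by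
    intro g m
    obtain ⟨e, rfl⟩ := iso.surjective m
    refine ⟨g.left, iso.injective (Subtype.ext ?_)⟩
    rw [MulEquiv.apply_symm_apply, MulEquiv.symm_apply_apply, hisoap,
      CfsgLib.Clifford.coe_conjN, hisoap]
    show g * SemidirectProduct.inl e * g⁻¹ = SemidirectProduct.inl _
    rw [map_mul, map_mul, map_inv, SemidirectProduct.inl_aut]
    conv_lhs => rw [← SemidirectProduct.inl_left_mul_inr_right g]
    simp only [map_inv, mul_inv_rev, mul_assoc]
  have hinvN : ∀ (g : S) (m : NE),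
      ρN.character (CfsgLib.Clifford.conjN g m) = ρN.character m := by
    intro g m
    obtain ⟨h, hh⟩ := hconj g m
    rw [hcharN, hcharN, hh, CfsgLib.Char.irr_isClassFunction θ.2, hinvθ]
  let lam : NE →* ℂˣ := Units.map (LinearMap.det : Module.End ℂ (Fin n → ℂ) →* ℂ) |>.comp
    ρN.toHomUnits
  have hlam : ∀ m : NE, (lam m : ℂ) = LinearMap.det (ρN m) := fun m => rfl
  have hlaminv : ∀ (g : S) (m : NE), lam (CfsgLib.Clifford.conjN g m) = lam m := by
    intro g m
    let cj : NE →* NE := MonoidHom.mk' (CfsgLib.Clifford.conjN g) fun a c =>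
      Subtype.ext (by simp [mul_assoc])
    obtain ⟨eqv⟩ := CfsgLib.Char.equiv_of_char_eq (ρN.comp cj) ρN (funext fun m => hinvN g m)
    refine Units.ext ?_
    rw [hlam, hlam]
    have e : ρN m = eqv.toLinearEquiv.conj (ρN (cj m)) := (eqv.conj_apply_self m).symm
    rw [e, LinearEquiv.conj_apply]
    exact (LinearMap.det_conj (ρN (cj m)) eqv.toLinearEquiv).symm
  have hidx : NE.index = Nat.card H := by
    have e : Nat.card NE = Nat.card (Heis b) := (Nat.card_congr iso.toEquiv).symm
    have h := Subgroup.card_mul_index NE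
    rw [e, SemidirectProduct.card] at h
    exact Nat.eq_of_mul_eq_mul_left Nat.card_pos h
  have hpU : ∃ M, Nat.card U = p ^ M := ⟨_, by
    rw [Module.natCard_eq_pow_finrank (K := ZMod p), Nat.card_zmod]⟩
  obtain ⟨M, hM⟩ := hpU
  have hcopE : Nat.Coprime (Nat.card H) (Nat.card NE) := by
    rw [← Nat.card_congr iso.toEquiv, natCard_heis, hM, ← pow_succ]
    exact ((hp.coprime_iff_not_dvd.2 hcop).symm).pow_right _
  obtain ⟨μ, hμ, -, -⟩ := CfsgLib.Clifford.exists_linear_extension lam hlaminv (by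
    rw [hidx]; exact hcopE.coprime_dvd_right (CfsgLib.Clifford.orderOf_dvd_natCard lam))
  have hcopn : Nat.Coprime NE.index n := by
    rw [hidx]
    exact Nat.Coprime.coprime_dvd_right (dvd_pow_self n two_ne_zero) (by
      rw [hdeg, hM]; exact ((hp.coprime_iff_not_dvd.2 hcop).symm).pow_right _)
  obtain ⟨X, hX, hXN⟩ := CfsgLib.Clifford.exists_irr_extension_of_det ρN hinvN μ
    (fun m => by rw [hμ, hlam]) hcopn
  have hXinl : ∀ e, X (inl e) = (θ : Heis b → ℂ) e := fun e => by
    rw [← hisoap, hXN, hcharN, MulEquiv.symm_apply_apply]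
  have hzS : ∀ t (g : S), inl (z t) * g = g * inl (z t) := fun t g => by
    have e1 : ∀ c : H, inl (z t) * inr c = inr c * inl (z t) := fun c => by
      have h := SemidirectProduct.inl_aut (φ := act ρ hinv) c (z t)
      rw [act_z, map_inv, eq_mul_inv_iff_mul_eq] at h
      exact h
    rw [← SemidirectProduct.inl_left_mul_inr_right g]
    show inl (z t) * (inl g.left * inr g.right) = inl g.left * inr g.right * inl (z t)
    rw [← mul_assoc, ← map_mul, z_comm, map_mul, mul_assoc, e1, mul_assoc]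
  obtain ⟨ω', -, -, hXz'⟩ := exists_scalar (⟨X, hX⟩ : Cfsg.IrrCharacter S) inl hzS
  have hn0 : (n : ℂ) ≠ 0 := by
    rw [← hd1]; exact CfsgLib.Char.irr_apply_one_ne_zero θ.2
  have hωt : ∀ t : ZMod p, ω' ^ t.val = ω ^ t.val := fun t => by
    have h1 := hXz' t 1
    have h2 := hωz t 1
    rw [mul_one] at h1 h2
    simp only at h1
    rw [hXinl, h2, ← map_one inl, hXinl, hd1] at h1
    exact (mul_right_cancel₀ hn0 h1).symm
  have hXz : ∀ t (g : S), X (inl (z t) * g) = ω ^ t.val * X g := fun t g => by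
    rw [← hωt]; exact hXz' t g
  -- the character on `H`
  obtain ⟨n', σ, hσirr, hσX⟩ := hX
  have hn' : n' = n := by
    have h := hXinl 1
    rw [map_one, ← hσX, Representation.char_one, Module.finrank_fin_fun, hd1] at h
    exact_mod_cast h
  subst hn'
  let τ : Representation ℂ H (Fin n' → ℂ) := σ.comp inr
  let φ : H → ℂ := fun c => X (inr c)
  have hφc : Cfsg.IsCharacter H φ := ⟨n', τ, by funext c; show σ.character (inr c) = _; rw [hσX]⟩
  have hφ1 : φ 1 = (n' : ℂ) := by
    show X (inr 1) = _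
    rw [map_one, ← map_one inl, hXinl, hd1]
  -- `φ φ̄` is the permutation character
  let sec : U → Heis b := fun u => ⟨u, 0⟩
  let P : (U → ℂ) →ₗ[ℂ] ((Fin n' → ℂ) →ₗ[ℂ] (Fin n' → ℂ)) :=
    ∑ u : U, (LinearMap.proj (R := ℂ) (φ := fun _ : U => ℂ) u).smulRight (σ (inl (sec u)))
  have hP : ∀ f, P f = ∑ u : U, f u • σ (inl (sec u)) := fun f => by
    simp [P, LinearMap.sum_apply]
  have hPinj : Function.Injective P := by
    rw [injective_iff_map_eq_zero]
    intro f hf
    funext u0
    have htr := congrArg (fun A : Module.End ℂ (Fin n' → ℂ) =>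
      LinearMap.trace ℂ _ (A * σ (inl (sec u0)⁻¹))) hf
    simp only [zero_mul, map_zero] at htr
    rw [hP, Finset.sum_mul, map_sum, Finset.sum_eq_single u0] at htr
    · rw [smul_mul_assoc, map_smul, ← map_mul σ, ← map_mul inl, mul_inv_cancel, map_one inl,
        map_one, LinearMap.trace_one, Module.finrank_fin_fun, smul_eq_mul] at htr
      exact (mul_eq_zero.1 htr).resolve_right hn0
    · intro u _ hu
      rw [smul_mul_assoc, map_smul, ← map_mul σ, ← map_mul inl]
      show f u • σ.character _ = 0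
      rw [hσX, hXinl, hv _ (by simpa [sec, ← sub_eq_add_neg, sub_eq_zero] using hu), smul_zero]
    · intro h; exact absurd (Finset.mem_univ _) h
  have hPdim : Module.finrank ℂ (U → ℂ) =
      Module.finrank ℂ ((Fin n' → ℂ) →ₗ[ℂ] (Fin n' → ℂ)) := by
    rw [Module.finrank_pi, Module.finrank_linearMap, Module.finrank_fin_fun,
      ← Nat.card_eq_fintype_card, ← hdeg, sq]
  letI : MulAction H U := MulAction.compHom U (Psi.toPerm ρ)
  have hsmul : ∀ (c : H) (u : U), c • u = ρ c u := fun c u => rfl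
  have hPeq : ∀ (c : H) f,
      P (Cfsg.permRep ℂ H U c f) = (Representation.linHom τ τ) c (P f) := by
    intro c f
    rw [Representation.linHom_apply, hP, hP]
    show _ = τ c * (∑ u, f u • σ (inl (sec u))) * τ c⁻¹
    rw [Finset.mul_sum, Finset.sum_mul]
    refine ((Fintype.sum_equiv (MulAction.toPerm c) _ _ fun u => ?_)).symm
    show _ = f (c⁻¹ • (c • u)) • σ (inl (sec (c • u)))
    rw [inv_smul_smul, mul_smul_comm, smul_mul_assoc]
    congr 1
    show σ (inr c) * σ (inl (sec u)) * σ (inr c⁻¹) = _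
    rw [← map_mul σ, ← map_mul σ, map_inv]
    congr 1
    have h := SemidirectProduct.inl_aut (φ := act ρ hinv) c (sec u)
    rw [map_inv] at h
    exact h.symm
  have hφπ : ∀ c, φ c * conj (φ c) = (Nat.card (fix ρ c) : ℂ) := by
    intro c
    let e : (Cfsg.permRep ℂ H U).Equiv (Representation.linHom τ τ) :=
      Representation.Equiv.mk (LinearMap.linearEquivOfInjective P hPinj hPdim)
        fun g => LinearMap.ext fun f => hPeq g f
    have h := congrFun (Representation.char_iso e) c
    rw [CfsgLib.Perm.char_permRep, Representation.char_linHom] at h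
    have hτ : ∀ x, τ.character x = φ x := fun x => by
      have e1 : τ.character x = σ.character (inr x) := by
        unfold Representation.character
        exact congrArg (LinearMap.trace ℂ (Fin n' → ℂ)) rfl
      rw [e1, hσX]
    rw [hτ, hτ, CfsgLib.Char.char_inv hφc] at h
    rw [mul_comm, ← h]
    have e2 : Nat.card (MulAction.fixedBy U c) = Nat.card (fix ρ c) := Nat.card_congr
      { toFun := fun u => ⟨u.1, (mem_fix ρ).2 u.2⟩
        invFun := fun u => ⟨u.1, (mem_fix ρ).1 u.2⟩
        left_inv := fun u => rfl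
        right_inv := fun u => rfl }
    exact congrArg (Nat.cast (R := ℂ)) e2
  -- divisibility of `φ c` by the root of the number of fixed points
  have hdiv : ∀ c, ∃ (d0 : ℕ) (t : ℂ), d0 ^ 2 = Nat.card (fix ρ c) ∧ t ∈ cycInt N ∧
      φ c = (d0 : ℂ) * t := by
    intro c
    let b0 : LinearMap.BilinForm (ZMod p) (fix ρ c) := b.restrict (fix ρ c)
    have hcompl := isCompl_fix_range ρ hcop c
    have horth : ∀ x ∈ fix ρ c, ∀ y ∈ LinearMap.range (ρ c - 1), b x y = 0 ∧ b y x = 0 := by
      rintro x hx _ ⟨u, rfl⟩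
      rw [mem_fix] at hx
      simp only [LinearMap.sub_apply, Module.End.one_apply, map_sub, sub_eq_zero]
      refine ⟨?_, ?_⟩
      · conv_lhs => rw [← hx]
        rw [hinv]
      · conv_lhs => rw [← hx]
        rw [hinv]
    have hnd0 : ∀ u, (∀ w, b0 u w = b0 w u) → u = 0 := by
      intro u hu
      refine Subtype.ext (hnd u fun w => ?_)
      obtain ⟨a, ha, r, hr, rfl⟩ := Submodule.mem_sup.1
        (show w ∈ fix ρ c ⊔ LinearMap.range (ρ c - 1) by rw [hcompl.sup_eq_top]; trivial)
      simp only [map_add, LinearMap.add_apply, (horth u u.2 r hr).1, (horth u u.2 r hr).2,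
        add_zero]
      exact hu ⟨a, ha⟩
    let incl : Heis b0 →* Heis b :=
      MonoidHom.mk' (fun e => ⟨(e.fst : U), e.snd⟩) fun e f => Heis.ext rfl rfl
    let C : Subgroup H := Subgroup.zpowers c
    have hfix : ∀ x ∈ C, ∀ u ∈ fix ρ c, ρ x u = u := by
      intro x hx u hu
      obtain ⟨k, rfl⟩ := Submonoid.mem_powers_iff _ _ |>.1
        (mem_powers_iff_mem_zpowers.2 hx)
      induction k with
      | zero => simp
      | succ k ih =>
        rw [pow_succ, map_mul, Module.End.mul_apply, (mem_fix ρ).1 hu,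
          ih (Subgroup.pow_mem _ (Subgroup.mem_zpowers c) k)]
    have hcomm : ∀ (e : Heis b0) (x : C), Commute (inl (incl e)) (inr (x : H)) := by
      intro e x
      have h := SemidirectProduct.inl_aut (φ := act ρ hinv) (x : H) (incl e)
      rw [show act ρ hinv x (incl e) = incl e from Heis.ext (hfix x x.2 _ e.fst.2) rfl,
        map_inv, eq_mul_inv_iff_mul_eq] at h
      exact h
    let g : Heis b0 × C →* S :=
      MonoidHom.mk' (fun q => inl (incl q.1) * inr (q.2 : H)) fun q r => by
        simp only [Prod.fst_mul, Prod.snd_mul, map_mul, Subgroup.coe_mul]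
        exact ((hcomm r.1 q.2).mul_mul_mul_comm _ _)
    have := Fintype.ofFinite (Heis b0)
    have := Fintype.ofFinite (fix ρ c)
    have := Fintype.ofFinite C
    have hXc : Cfsg.IsCharacter S X := ⟨n', σ, hσX⟩
    let f : Heis b0 × C → ℂ := fun q => X (g q)
    have hfc : Cfsg.IsCharacter (Heis b0 × C) f := CfsgLib.Char.isCharacter_comp hXc g
    have hfz : ∀ t (q : Heis b0 × C), f (z t * q.1, q.2) = ω ^ t.val * f q := by
      intro t q
      show X (inl (incl (z t * q.1)) * inr (q.2 : H)) = _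
      rw [map_mul, map_mul, mul_assoc, show incl (z t : Heis b0) = z t from rfl, hXz]
      rfl
    have hf0 : ∀ q : Heis b0 × C, q.1.fst ≠ 0 → f q = 0 := fun q hq =>
      vanish hnd0 hωp hω1 (f := fun e => f (e, q.2)) (fun t e => hfz t (e, q.2))
        (fun a h => by
          have := CfsgLib.Char.isCharacter_isClassFunction hfc (a, q.2) (h, 1)
          simpa using this) hq
    -- a constituent of the restriction to the small Heisenberg group
    have hrc : Cfsg.IsCharacter (Heis b0) (fun e => f (e, 1)) :=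
      CfsgLib.Char.isCharacter_comp hfc (MonoidHom.inl _ _)
    have hf1 : f (1, 1) = (n' : ℂ) := by
      show X (g (1, 1)) = _
      rw [← Prod.one_eq_mk, map_one, ← map_one inl, hXinl, hd1]
    obtain ⟨η, hη, hηne⟩ := CfsgLib.Char.exists_constituent hrc (by rw [hf1]; exact hn0)
    obtain ⟨ω₀, hω₀p, hω₀n, hηz⟩ :=
      exists_scalar (⟨η, hη⟩ : Cfsg.IrrCharacter (Heis b0)) (MonoidHom.id _)
        (fun t x => z_comm t x)
    simp only [MonoidHom.id_apply] at hηz
    obtain ⟨d0, hd0⟩ := CfsgLib.Char.char_apply_one_eq_nat (CfsgLib.Char.irr_isCharacter hη)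
    have hval : ∀ (F : Heis b0 → ℂ) (w : ℂ), (∀ t e, F (z t * e) = w ^ t.val * F e) →
        ∀ t, F (z t) = w ^ t.val * F 1 := fun F w h t => by
      have := h t 1
      rwa [mul_one] at this
    have hωω : ω₀ = ω := by
      by_contra hne
      apply hηne
      rw [CfsgLib.Char.classInner_def, sum_heis _ (fun e he => by rw [hf0 (e, 1) he, zero_mul])]
      refine mul_eq_zero_of_right _ ?_
      have e : ∀ t : ZMod p, f (z t, 1) * conj (η (z t)) =
          (f (1, 1) * conj (η 1)) * (ω * conj ω₀) ^ t.val := fun t => by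
        rw [hval (fun e => f (e, 1)) ω (fun t e => hfz t (e, 1)) t, hval η ω₀ hηz t,
          map_mul, map_pow, mul_pow]
        ring
      simp only [e, ← Finset.mul_sum]
      refine mul_eq_zero_of_right _ ?_
      have hb : ω * conj ω₀ ≠ 1 := fun h => hne (by
        have hn : ω₀ * conj ω₀ = 1 := by rw [Complex.mul_conj', hω₀n]; norm_num
        calc ω₀ = ω₀ * (ω * conj ω₀) := by rw [h, mul_one]
          _ = ω * (ω₀ * conj ω₀) := by ring
          _ = ω := by rw [hn, mul_one])
      have hbp : (ω * conj ω₀) ^ p = 1 := by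
        rw [mul_pow, ← map_pow, hωp, hω₀p, map_one, one_mul]
      have := (AddChar.zmodChar p hbp).sum_eq_zero_iff_ne_zero.2 (AddChar.ne_zero_iff.2
        ⟨(1 : ZMod p), by
          rw [AddChar.zmodChar_apply, ZMod.val_one, pow_one]; exact hb⟩)
      simpa [AddChar.zmodChar_apply] using this
    subst hωω
    have hd : d0 ^ 2 = Nat.card (fix ρ c) := degree_sq hnd0 hη hω₀p hω1 hηz hd0
    have hd0ne : (d0 : ℂ) ≠ 0 := by rw [← hd0]; exact CfsgLib.Char.irr_apply_one_ne_zero hη
    let φC : C → ℂ := fun x => φ x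
    have hφC : Cfsg.IsCharacter C φC := CfsgLib.Char.isCharacter_comp hφc C.subtype
    have hk : ∀ κ : Cfsg.IrrCharacter C, ∃ k : ℕ,
        Cfsg.classInner φC (κ : C → ℂ) = (d0 : ℂ) * k := by
      intro κ
      have hprod : Cfsg.IsCharacter (Heis b0 × C) (fun q => η q.1 * (κ : C → ℂ) q.2) :=
        CfsgLib.Char.isCharacter_mul
          (CfsgLib.Char.isCharacter_comp (CfsgLib.Char.irr_isCharacter hη) (MonoidHom.fst (Heis b0) C))
          (CfsgLib.Char.isCharacter_comp (CfsgLib.Char.irr_isCharacter κ.2) (MonoidHom.snd (Heis b0) C))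
      obtain ⟨k, hk⟩ := CfsgLib.Char.classInner_isCharacter_nat hfc hprod
      refine ⟨k, ?_⟩
      rw [← hk, CfsgLib.Char.classInner_def, CfsgLib.Char.classInner_def, Fintype.sum_prod_type,
        sum_heis (fun e => ∑ x : C, f (e, x) * conj (η e * (κ : C → ℂ) x))
          (fun e he => Finset.sum_eq_zero fun x _ => by rw [hf0 (e, x) he, zero_mul])]
      have hterm : ∀ (t : ZMod p) (x : C), f (z t, x) * conj (η (z t) * (κ : C → ℂ) x) =
          (d0 : ℂ) * (φC x * conj ((κ : C → ℂ) x)) := fun t x => by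
        have hfx : f (1, x) = φC x := by
          show X (inl (incl 1) * inr (x : H)) = X (inr (x : H))
          rw [map_one, map_one, one_mul]
        have h1 := hfz t (1, x)
        simp only [mul_one] at h1
        rw [h1, hfx, hval η _ hηz t, hd0, map_mul, map_mul, map_pow, Complex.conj_natCast]
        have hn : ω₀ ^ t.val * conj ω₀ ^ t.val = 1 := by
          rw [← mul_pow, Complex.mul_conj', hω₀n]; norm_num
        linear_combination ((d0 : ℂ) * φC x * conj ((κ : C → ℂ) x)) * hn
      simp only [hterm, ← Finset.mul_sum, Finset.sum_const, Finset.card_univ, ZMod.card,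
        nsmul_eq_mul]
      rw [Nat.card_prod, natCard_heis, ← hd]
      push_cast
      have hp0 : (p : ℂ) ≠ 0 := Nat.cast_ne_zero.2 hp.ne_zero
      have hC0 : (Nat.card C : ℂ) ≠ 0 := Nat.cast_ne_zero.2 Nat.card_pos.ne'
      field_simp
    choose k hk using hk
    have := Fintype.ofFinite (Cfsg.IrrCharacter C)
    have hCN : Nat.card C ∣ N := (Subgroup.card_subgroup_dvd_card C).trans hHN
    refine ⟨d0, ∑ κ : Cfsg.IrrCharacter C,
      (k κ : ℂ) * (κ : C → ℂ) ⟨c, Subgroup.mem_zpowers c⟩, hd, sum_mem fun κ _ =>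
        mul_mem (natCast_mem _ _) (char_mem hCN (CfsgLib.Char.irr_isCharacter κ.2) _), ?_⟩
    show φC ⟨c, Subgroup.mem_zpowers c⟩ = _
    rw [CfsgLib.Char.classFunction_apply_eq_sum
      (CfsgLib.Char.isCharacter_isClassFunction hφC), Finset.mul_sum]
    exact Finset.sum_congr rfl fun κ _ => by rw [hk]; ring
  choose d0 t hd0 ht hφt using hdiv
  choose ex hex using exists_card_fix ρ
  have hπne : ∀ c, (Nat.card (fix ρ c) : ℂ) ≠ 0 := fun c => Nat.cast_ne_zero.2 Nat.card_pos.ne'
  let ψ : H → ℂ := fun c => φ c * (n' : ℂ) / (Nat.card (fix ρ c) : ℂ)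
  have hdd : ∀ c, ∃ q : ℕ, n' = d0 c * q ∧ (fix ρ c ≠ ⊤ → p ∣ q) := by
    intro c
    obtain ⟨e0, he0⟩ : ∃ e, Nat.card (fix ρ c) = p ^ e := ⟨_, by
      rw [Module.natCard_eq_pow_finrank (K := ZMod p), Nat.card_zmod]⟩
    obtain ⟨i, -, hi⟩ := (Nat.dvd_prime_pow hp).1 (show d0 c ∣ p ^ e0 by rw [← he0, ← hd0 c, sq]; exact dvd_mul_right _ _)
    obtain ⟨j, -, hj⟩ := (Nat.dvd_prime_pow hp).1
      (show n' ∣ p ^ M by rw [← hM, ← hdeg, sq]; exact dvd_mul_right _ _)
    have hle : Nat.card (fix ρ c) ≤ Nat.card U :=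
      Nat.card_le_card_of_injective _ Subtype.val_injective
    have hij : i ≤ j := by
      rw [← hd0, hi, ← hdeg, hj, ← pow_mul, ← pow_mul] at hle
      have := (Nat.pow_le_pow_iff_right hp.one_lt).1 hle
      omega
    refine ⟨p ^ (j - i), by rw [hi, hj, ← pow_add, Nat.add_sub_cancel' hij], fun hne => ?_⟩
    refine dvd_pow_self p fun h0 => hne ?_
    have hieq : i = j := by omega
    refine Submodule.toAddSubgroup_injective ?_
    refine AddSubgroup.eq_top_of_card_eq _ ?_
    show Nat.card (fix ρ c) = Nat.card U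
    rw [← hd0, hi, ← hdeg, hj, hieq]
  choose q hq hpq using hdd
  have hψt : ∀ c, ψ c = (q c : ℂ) * t c := fun c => by
    show φ c * (n' : ℂ) / (Nat.card (fix ρ c) : ℂ) = _
    rw [div_eq_iff (hπne c), hφt c, ← hd0 c, hq c]
    push_cast
    ring
  refine ⟨ψ, ⟨inSpan_of_mul_char hHN hcop (isCharacter_card_fix ρ) ex hex ?_ ?_ ?_, ?_,
    fun c => ?_, fun c hc => ?_⟩⟩
  · intro g x
    show φ _ * (n' : ℂ) / _ = φ g * (n' : ℂ) / _
    rw [CfsgLib.Char.isCharacter_isClassFunction hφc g x]
    exact congrArg _ (CfsgLib.Char.isCharacter_isClassFunction (isCharacter_card_fix ρ) g x)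
  · intro c
    rw [hψt]
    exact mul_mem (natCast_mem _ _) (ht c)
  · refine Eq.subst (motive := InSpan N) ?_
      ((inSpan_of_char (H := H) hφc).smul (natCast_mem _ n'))
    funext c
    show _ = φ c * (n' : ℂ) / _ * _
    rw [div_mul_cancel₀ _ (hπne c), mul_comm]
  · show φ 1 * (n' : ℂ) / _ = 1
    rw [fix_one, Nat.card_congr Submodule.topEquiv.toEquiv, hφ1, ← hdeg, sq, Nat.cast_mul,
      div_self (mul_ne_zero hn0 hn0)]
  · rw [top_inf_eq, Nat.card_congr Submodule.topEquiv.toEquiv, ← hdeg]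
    show φ c * (n' : ℂ) / _ * conj (φ c * (n' : ℂ) / _) * _ = _
    rw [map_div₀, map_mul, Complex.conj_natCast, Complex.conj_natCast]
    have := hπne c
    field_simp
    push_cast
    linear_combination ((n' : ℂ) ^ 2) * hφπ c
  · obtain ⟨q', hq'⟩ := hpq c fun h => hc (h ▸ le_rfl)
    rw [hψt, hq', Nat.cast_mul, mul_assoc]
    exact div_natCast_self.mul_right
      ((isIntegral_algebraMap : IsIntegral ℤ ((q' : ℤ) : ℂ)).mul (isIntegral_of_mem (ht c)))

end CfsgLib.BlockB.HeisenbergPsi
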