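import Cfsg.Agent.Lib.Clifford.ExtensionDet
import Cfsg.Agent.Lib.Clifford.ExtendCoprime
import Cfsg.Agent.Lib.Clifford.Degree
import Cfsg.Agent.Lib.Clifford.Cover
import Cfsg.Agent.Lib.Char.Integral
import Cfsg.Agent.Lib.BlockB.ClassMul
import Cfsg.Agent.Lib.BlockB.HeisenbergPsi

/-!
Over a normal `p'`-subgroup of `p`-power index: characters of degree prime to `p` restrict
irreducibly, and each invariant character has one extension with determinant of order prime to `p`.
-/

set_option autoImplicit false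
set_option linter.unusedSectionVars false
set_option linter.style.haveILetI false

namespace CfsgLib.BlockB.McKay

open CfsgLib.Clifford

universe u

/-- The determinant of `η` takes roots of unity of order dividing `m`. -/
def Canon {P : Type u} [Group P] (m : ℕ) (η : P → ℂ) : Prop := ∀ g, Cfsg.detChar η g ^ m = 1

theorem canon_comp {P P' : Type u} [Group P] [Group P'] [Finite P] [Finite P'] (e : P' ≃* P)
    {m : ℕ} {η : P → ℂ} (hη : Cfsg.IsIrrCharacter P η) (h : Canon m η) : Canon m (η ∘ e) := by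
  obtain ⟨n, σ, hσ, rfl⟩ := hη
  haveI := hσ
  let τ : Representation ℂ P' (Fin n → ℂ) := σ.comp e.toMonoidHom
  haveI : τ.IsIrreducible := CfsgLib.Char.isIrreducible_comp_surjective σ e.toMonoidHom e.surjective
  intro g
  rw [show σ.character ∘ e = τ.character from rfl, detChar_eq τ]
  have := h (e g)
  rw [detChar_eq σ] at this
  exact this

variable {P : Type u} [Group P] [Finite P] {p : ℕ} [Fact p.Prime] (K : Subgroup P) [K.Normal]
  [Fintype K]

/-- A character of degree prime to `p` over a normal subgroup of `p`-power index restricts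
irreducibly. -/
theorem irr_restrict_of_prime_degree (hidx : ∃ a, K.index = p ^ a) {η : P → ℂ}
    (hη : Cfsg.IsIrrCharacter P η) (hd : ¬ p ∣ Cfsg.charDegree η) :
    Cfsg.IsIrrCharacter K (fun k : K => η k) := by
  haveI := Fintype.ofFinite P
  obtain ⟨θ, hθ, hne⟩ := exists_irr_constituent_restrict (N := K) hη
  obtain ⟨e, he, hdvd⟩ := degree_quot_dvd_index hη hθ hne
  obtain ⟨a, ha⟩ := hidx
  rw [ha] at hdvd
  obtain ⟨b, -, rfl⟩ := (Nat.dvd_prime_pow (Fact.out : p.Prime)).1 hdvd
  rcases Nat.eq_zero_or_pos b with rfl | hb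
  · rw [pow_zero, Nat.cast_one, one_mul] at he
    obtain ⟨R, hR, hRe⟩ := exists_add_of_constituent
      (CfsgLib.Char.isCharacter_restrict (CfsgLib.Char.irr_isCharacter hη) K) hθ hne
    have hR1 : R 1 = 0 := by
      have := congr_fun hRe 1
      simp only [Subgroup.coe_one, Pi.add_apply, he] at this
      exact add_eq_left.1 this.symm
    rw [eq_zero_of_apply_one_eq_zero hR hR1, add_zero] at hRe
    rwa [hRe]
  · refine absurd ?_ hd
    have h1 : Cfsg.charDegree η = p ^ b * Cfsg.charDegree θ := by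
      have hc : ((Cfsg.charDegree η : ℕ) : ℂ) = ((p ^ b * Cfsg.charDegree θ : ℕ) : ℂ) := by
        rw [Nat.cast_mul, charDegree_cast (CfsgLib.Char.irr_isCharacter hη),
          charDegree_cast (CfsgLib.Char.irr_isCharacter hθ), he]
      exact_mod_cast hc
    exact h1 ▸ dvd_mul_of_dvd_left (dvd_pow_self p hb.ne') _

/-- The canonical extension. -/
theorem existsUnique_canon (hK : ¬ p ∣ Nat.card K) (hidx : ∃ a, K.index = p ^ a) {θ : K → ℂ}
    (hθ : Cfsg.IsIrrCharacter K θ) (hinv : ∀ g, conjFn g θ = θ) :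
    ∃! η : P → ℂ, Cfsg.IsIrrCharacter P η ∧ (∀ k : K, η k = θ k) ∧ Canon (Nat.card K) η := by
  obtain ⟨a, ha⟩ := hidx
  have hp := (Fact.out : p.Prime)
  have hcop : (Nat.card K).Coprime K.index := by
    rw [ha]; exact Nat.Coprime.pow_right a (hp.coprime_iff_not_dvd.2 hK).symm
  obtain ⟨n, ρ, hρ, rfl⟩ := hθ
  haveI := hρ
  haveI := Fintype.ofFinite P
  obtain ⟨Θ, hΘ, hΘres⟩ := ExtendCoprime.exists_extension K hcop
    (CfsgLib.Char.isIrrCharacter_of_rep ρ) fun g m => congr_fun (hinv g) m
  obtain ⟨σ, hσN, rfl⟩ := exists_rep_extension_top ρ (CfsgLib.Char.irr_isCharacter hΘ) hΘres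
  let δ : P →* ℂˣ := (Units.map LinearMap.det).comp (repUnits σ)
  let lam : K →* ℂˣ := δ.comp K.subtype
  have hlam : ∀ m : K, (lam m : ℂ) = LinearMap.det (ρ m) := fun m => by
    show LinearMap.det (σ (m : P)) = _
    rw [hσN]
  obtain ⟨μ, hμ, hμord, hμu⟩ := exists_linear_extension lam (fun g m => by
      show δ (g * (m : P) * g⁻¹) = δ m
      rw [map_mul, map_mul, map_inv, mul_right_comm, mul_inv_cancel, one_mul])
    ((hcop.coprime_dvd_left (CfsgLib.Clifford.orderOf_dvd_natCard lam)).symm)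
  have hn : Nat.Coprime K.index n := by
    have hd := CfsgLib.Char.degree_dvd_card ρ
    rw [Module.finrank_fin_fun] at hd
    exact (hcop.coprime_dvd_left hd).symm
  obtain ⟨χ, ⟨hχ1, hχ2, hχ3⟩, hu⟩ := existsUnique_extension_det ρ hn σ hσN μ
    fun m => by rw [hμ]; exact hlam m
  refine ⟨χ, ⟨hχ1, hχ2, fun g => ?_⟩, fun η ⟨hη1, hη2, hη3⟩ => hu η ⟨hη1, hη2, ?_⟩⟩
  · rw [hχ3]
    have h : μ ^ Nat.card K = 1 :=
      (orderOf_dvd_iff_pow_eq_one (x := μ) (n := Nat.card K)).1
        (hμord.dvd.trans (CfsgLib.Clifford.orderOf_dvd_natCard lam))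
    rw [← Units.val_pow_eq_pow_val, ← MonoidHom.pow_apply, h, MonoidHom.one_apply, Units.val_one]
  · obtain ⟨τ, hτN, rfl⟩ := exists_rep_extension_top ρ (CfsgLib.Char.irr_isCharacter hη1) hη2
    haveI := isIrreducible_extension ρ τ hτN
    let μ' : P →* ℂˣ := (Units.map LinearMap.det).comp (repUnits τ)
    have hμ'K : ∀ m : K, μ' m = lam m := fun m => Units.ext (by
      rw [hlam]
      show LinearMap.det (τ (m : P)) = _
      rw [hτN])
    have hpow : μ' ^ Nat.card K = 1 := MonoidHom.ext fun g => Units.ext (by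
      have := hη3 g
      rw [detChar_eq τ] at this
      simpa [μ'] using this)
    have := hμu μ' hμ'K ((hcop.coprime_dvd_left (orderOf_dvd_of_pow_eq_one hpow)).symm)
    rw [detChar_eq τ, ← this]
    rfl

/-- The canonical extension is trivial on central `p`-elements. -/
theorem canon_central (hK : ¬ p ∣ Nat.card K) {η : P → ℂ} (hη : Cfsg.IsIrrCharacter P η)
    (hd : ¬ p ∣ Cfsg.charDegree η) (hc : Canon (Nat.card K) η) {z : P}
    (hz : ∀ g, z * g = g * z) (hzp : ∃ j, z ^ p ^ j = 1) (g : P) : η (z * g) = η g := by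
  have hp := (Fact.out : p.Prime)
  obtain ⟨n, σ, hσ, rfl⟩ := hη
  haveI := hσ
  let I : Representation.IntertwiningMap σ σ := ⟨σ z, fun g => by
    show σ z * σ g = σ g * σ z
    rw [← map_mul, hz, map_mul]⟩
  obtain ⟨c, hc'⟩ :=
    (Representation.IsIrreducible.algebraMap_intertwiningMap_bijective_of_isAlgClosed
      (ρ := σ) (k := ℂ)).2 I
  have hzs : σ z = c • (1 : Module.End ℂ (Fin n → ℂ)) := LinearMap.ext fun v => by
    have := congr_arg (fun J : Representation.IntertwiningMap σ σ => J.toLinearMap v) hc'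
    simpa [I, Algebra.algebraMap_eq_smul_one] using this.symm
  obtain ⟨j, hj⟩ := hzp
  haveI := CfsgLib.Char.nontrivial_of_isIrreducible σ
  have hcp : c ^ p ^ j = 1 := by
    have h : (c • (1 : Module.End ℂ (Fin n → ℂ))) ^ p ^ j = 1 := by
      rw [← hzs, ← map_pow, hj, map_one]
    rw [← Algebra.algebraMap_eq_smul_one, ← map_pow,
      ← map_one (algebraMap ℂ (Module.End ℂ (Fin n → ℂ)))] at h
    exact (algebraMap ℂ (Module.End ℂ (Fin n → ℂ))).injective h
  have hcd : c ^ (n * Nat.card K) = 1 := by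
    have := hc z
    rw [detChar_eq σ] at this
    simp only [hzs, LinearMap.det_smul, Module.finrank_fin_fun, map_one, mul_one, ← pow_mul] at this
    exact this
  have hn : Cfsg.charDegree σ.character = n := by
    have h := charDegree_cast (χ := σ.character) ⟨n, σ, rfl⟩
    rw [Representation.char_one, Module.finrank_fin_fun] at h
    exact_mod_cast h
  rw [hn] at hd
  have hcop : Nat.gcd (p ^ j) (n * Nat.card K) = 1 :=
    Nat.Coprime.pow_left j (hp.coprime_iff_not_dvd.2 fun h => (hp.dvd_mul.1 h).elim hd hK)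
  have hc1 : c = 1 := by
    have h : c ^ Nat.gcd (p ^ j) (n * Nat.card K) = 1 := pow_gcd_eq_one.2 ⟨hcp, hcd⟩
    rwa [hcop, pow_one] at h
  simp only [Representation.character, map_mul, hzs, hc1, one_smul, one_mul]

end CfsgLib.BlockB.McKay
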