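import Cfsg.Agent.Lib.Clifford.CosetAvg
import Cfsg.Agent.Lib.Clifford.Correspondence
import Cfsg.Agent.Lib.Clifford.Constituents
import Cfsg.Agent.Lib.BlockB.PEltValue

/-!
The characters over an irreducible character of a normal subgroup that extends to its inertia
group: Clifford and Gallagher together.
-/

set_option autoImplicit false
set_option linter.unusedSectionVars false

namespace CfsgLib.BlockB.OverTheta

open CfsgLib.Clifford
open scoped ComplexConjugate

universe u v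

/-- Inner products pull back along surjective homomorphisms. -/
theorem classInner_comp_surjective {H : Type u} {K : Type v} [Group H] [Group K] [Fintype H]
    [Fintype K] (f : H →* K) (hf : Function.Surjective f) (a b : K → ℂ) :
    Cfsg.classInner (a ∘ f) (b ∘ f) = Cfsg.classInner a b := by
  classical
  rw [CfsgLib.Char.classInner_def, CfsgLib.Char.classInner_def]
  simp only [Function.comp_apply]
  have hfib : ∀ k : K, (Finset.univ.filter fun h : H => f h = k).card = Nat.card f.ker := by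
    intro k
    obtain ⟨h₀, rfl⟩ := hf k
    rw [← Nat.card_eq_finsetCard]
    exact Nat.card_congr
      { toFun := fun h => ⟨h₀⁻¹ * h.1, by
          rw [MonoidHom.mem_ker, map_mul, (Finset.mem_filter.1 h.2).2, map_inv, inv_mul_cancel]⟩
        invFun := fun t => ⟨h₀ * t.1, Finset.mem_filter.2 ⟨Finset.mem_univ _, by
          rw [map_mul, MonoidHom.mem_ker.1 t.2, mul_one]⟩⟩
        left_inv := fun h => Subtype.ext (mul_inv_cancel_left h₀ h.1)
        right_inv := fun t => Subtype.ext (inv_mul_cancel_left h₀ t.1) }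
  have hcard : (Nat.card H : ℂ) = (Nat.card f.ker : ℂ) * (Nat.card K : ℂ) := by
    rw [← Nat.cast_mul, ← f.ker.card_mul_index, Subgroup.index_ker, MonoidHom.range_eq_top.2 hf,
      Subgroup.card_top]
  rw [← Finset.sum_fiberwise Finset.univ f,
    Finset.sum_congr rfl (g := fun k : K => (Nat.card f.ker : ℂ) * (a k * conj (b k))) fun k _ => by
      rw [Finset.sum_congr rfl (g := fun _ : H => a k * conj (b k)) fun h hh => by
        rw [(Finset.mem_filter.1 hh).2], Finset.sum_const, hfib, nsmul_eq_mul],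
    ← Finset.mul_sum, hcard]
  have h1 : (Nat.card f.ker : ℂ) ≠ 0 := Nat.cast_ne_zero.2 Nat.card_pos.ne'
  field_simp

/-- A natural multiplicity sum vanishes only termwise. -/
theorem inner_add_eq_zero {H : Type u} [Group H] [Fintype H] {a b θ : H → ℂ}
    (ha : Cfsg.IsCharacter H a) (hb : Cfsg.IsCharacter H b) (hθ : Cfsg.IsCharacter H θ)
    (h : Cfsg.classInner (a + b) θ = 0) : Cfsg.classInner a θ = 0 := by
  obtain ⟨i, hi⟩ := CfsgLib.Char.classInner_isCharacter_nat ha hθ
  obtain ⟨j, hj⟩ := CfsgLib.Char.classInner_isCharacter_nat hb hθ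
  rw [CfsgLib.Char.classInner_add_left, hi, hj] at h
  have : i + j = 0 := by exact_mod_cast h
  rw [hi, show i = 0 by omega, Nat.cast_zero]

variable {G : Type u} [Group G] [Fintype G] {N : Subgroup G} [hN : N.Normal] [Fintype N]

/-- `θ` is an irreducible character of `N` with inertia group `T`, and `Θ` extends it to `T`. -/
structure Data (T : Subgroup G) (θ : N → ℂ) (Θ : T → ℂ) : Prop where
  irr : Cfsg.IsIrrCharacter N θ
  inertia : ∀ g, g ∈ T ↔ conjFn g θ = θ
  le : N ≤ T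
  char : Cfsg.IsCharacter T Θ
  ext : ∀ (n : N) (t : T), (t : G) = n → Θ t = θ n

/-- A function of `T` constant on the cosets of `N`. -/
def IsQuot (N : Subgroup G) {T : Subgroup G} (γ : T → ℂ) : Prop :=
  ∀ n t : T, (n : G) ∈ N → γ (n * t) = γ t

variable {T : Subgroup G} [Fintype T] {θ : N → ℂ} {Θ : T → ℂ} (D : Data T θ Θ)
include D

theorem restrict_mul {γ : T → ℂ} (hγ : IsQuot N γ) :
    (fun n : N => (Θ * γ) ⟨(n : G), D.le n.2⟩) = γ 1 • θ := by
  funext n
  have h := hγ ⟨(n : G), D.le n.2⟩ 1 n.2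
  rw [mul_one] at h
  rw [Pi.mul_apply, Pi.smul_apply, smul_eq_mul, D.ext n ⟨(n : G), D.le n.2⟩ rfl, h, mul_comm]

theorem inner_restrict {γ : T → ℂ} (hγ : IsQuot N γ) :
    Cfsg.classInner (fun n : N => (Θ * γ) ⟨(n : G), D.le n.2⟩) θ = γ 1 := by
  rw [restrict_mul D hγ, CfsgLib.Char.classInner_smul_left, CfsgLib.Char.irr_classInner_self D.irr,
    mul_one]

theorem ext_irr :
    Cfsg.IsIrrCharacter (N.subgroupOf T) (fun m : N.subgroupOf T => Θ (m : T)) := by
  let e₀ : N.subgroupOf T ≃* N := Subgroup.subgroupOfEquivOfLe D.le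
  have h : (fun m : N.subgroupOf T => Θ (m : T)) = θ ∘ e₀ :=
    funext fun m => D.ext (e₀ m) (m : T) rfl
  rw [h]
  exact CfsgLib.Char.isIrrCharacter_comp_surjective D.irr e₀.toMonoidHom e₀.surjective

theorem inner_mul_mul {β γ : T → ℂ} (hβ : IsQuot N β) (hγ : IsQuot N γ) :
    Cfsg.classInner (Θ * β) (Θ * γ) = Cfsg.classInner β γ := by
  have := Fintype.ofFinite (N.subgroupOf T)
  exact classInner_mul_mul (N.subgroupOf T) D.char (ext_irr D) β γ
    (fun m t => hβ _ _ (Subgroup.mem_subgroupOf.1 m.2))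
    (fun m t => hγ _ _ (Subgroup.mem_subgroupOf.1 m.2))

theorem isIrr_mul {γ : T → ℂ} (hγi : Cfsg.IsIrrCharacter T γ) (hγ : IsQuot N γ) :
    Cfsg.IsIrrCharacter T (Θ * γ) := by
  have := Fintype.ofFinite (N.subgroupOf T)
  exact isIrrCharacter_mul_of_invariant (N.subgroupOf T) D.char (ext_irr D) hγi
    (fun m t => hγ _ _ (Subgroup.mem_subgroupOf.1 m.2))

theorem inner_ne_zero {γ : T → ℂ} (hγi : Cfsg.IsIrrCharacter T γ) (hγ : IsQuot N γ) :
    Cfsg.classInner (fun n : N => (Θ * γ) ⟨(n : G), D.le n.2⟩) θ ≠ 0 := by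
  rw [inner_restrict D hγ]
  exact CfsgLib.Char.irr_apply_one_ne_zero hγi

theorem isIrr_ind {γ : T → ℂ} (hγi : Cfsg.IsIrrCharacter T γ) (hγ : IsQuot N γ) :
    Cfsg.IsIrrCharacter G (Cfsg.indFun T (Θ * γ)) :=
  (indFun_inertia T D.le D.irr D.inertia (isIrr_mul D hγi hγ) (inner_ne_zero D hγi hγ)).1

theorem ind_over {γ : T → ℂ} (hγi : Cfsg.IsIrrCharacter T γ) (hγ : IsQuot N γ) :
    Cfsg.classInner (fun n : N => Cfsg.indFun T (Θ * γ) n) θ ≠ 0 := by
  rw [indFun_inertia_restrict T D.le D.irr D.inertia (isIrr_mul D hγi hγ)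
    (inner_ne_zero D hγi hγ)]
  exact inner_ne_zero D hγi hγ

theorem ind_injective {γ γ' : T → ℂ} (hγi : Cfsg.IsIrrCharacter T γ) (hγ : IsQuot N γ)
    (hγi' : Cfsg.IsIrrCharacter T γ') (hγ' : IsQuot N γ')
    (h : Cfsg.indFun T (Θ * γ) = Cfsg.indFun T (Θ * γ')) : γ = γ' := by
  have h1 := (indFun_inertia T D.le D.irr D.inertia (isIrr_mul D hγi hγ)
    (inner_ne_zero D hγi hγ)).2 _ (isIrr_mul D hγi' hγ') (inner_ne_zero D hγi' hγ') (by
      rw [← h, CfsgLib.Char.irr_classInner_self (isIrr_ind D hγi hγ)]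
      exact one_ne_zero)
  refine (CfsgLib.Char.irr_classInner_eq_one_iff hγi hγi').1 ?_
  rw [← inner_mul_mul D hγ hγ', h1]
  exact CfsgLib.Char.irr_classInner_self (isIrr_mul D hγi' hγ')

theorem exists_ind {χ : G → ℂ} (hχ : Cfsg.IsIrrCharacter G χ)
    (h : Cfsg.classInner (fun n : N => χ n) θ ≠ 0) :
    ∃ γ : T → ℂ, Cfsg.IsIrrCharacter T γ ∧ IsQuot N γ ∧ Cfsg.indFun T (Θ * γ) = χ := by
  obtain ⟨ψ, hψ, hind, hmul⟩ := exists_indFun_inertia T D.le D.irr D.inertia hχ h
  have := Fintype.ofFinite (N.subgroupOf T)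
  have hne : Cfsg.classInner (fun m : N.subgroupOf T => ψ (m : T))
      (fun m : N.subgroupOf T => Θ (m : T)) ≠ 0 := by
    let e₀ : N.subgroupOf T ≃* N := Subgroup.subgroupOfEquivOfLe D.le
    have h1 : (fun m : N.subgroupOf T => ψ (m : T)) =
        (fun n : N => ψ ⟨(n : G), D.le n.2⟩) ∘ e₀.toMonoidHom := funext fun m => rfl
    have h2 : (fun m : N.subgroupOf T => Θ (m : T)) = θ ∘ e₀.toMonoidHom :=
      funext fun m => D.ext (e₀ m) (m : T) rfl
    rw [h1, h2, classInner_comp_surjective e₀.toMonoidHom e₀.surjective, hmul]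
    exact h
  obtain ⟨hirr, heq⟩ := gallagher_factor (N.subgroupOf T) hψ D.char (ext_irr D) hne
  refine ⟨_, hirr, fun n t hn => ?_, ?_⟩
  · exact cosetAvg_mul_left (N.subgroupOf T) _ ⟨n, Subgroup.mem_subgroupOf.2 hn⟩ t
  · rw [← heq, hind]

/-- The multiplicity of the character over `θ` in a restriction. -/
theorem inner_ind {F : G → ℂ} (hF : Cfsg.IsCharacter G F) (γ : T → ℂ) :
    Cfsg.classInner F (Cfsg.indFun T (Θ * γ)) =
      Cfsg.classInner (fun t : T => F t) (Θ * γ) := by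
  rw [← CfsgLib.Char.classInner_conj_symm,
    CfsgLib.Char.frobenius_reciprocity T (Θ * γ) _ (CfsgLib.Char.isCharacter_isClassFunction hF),
    CfsgLib.Char.classInner_conj_symm]

/-- The rest of the restriction to the inertia group is not over `θ`. -/
theorem exists_restrict_eq {γ : T → ℂ} (hγi : Cfsg.IsIrrCharacter T γ) (hγ : IsQuot N γ) :
    ∃ R : T → ℂ, Cfsg.IsCharacter T R ∧
      (fun t : T => Cfsg.indFun T (Θ * γ) t) = Θ * γ + R ∧
      Cfsg.classInner (fun n : N => R ⟨(n : G), D.le n.2⟩) θ = 0 := by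
  have hψ := isIrr_mul D hγi hγ
  have hχ := CfsgLib.Char.irr_isCharacter (isIrr_ind D hγi hγ)
  have hne : Cfsg.classInner (fun t : T => Cfsg.indFun T (Θ * γ) t) (Θ * γ) ≠ 0 := by
    rw [← inner_ind D hχ, CfsgLib.Char.irr_classInner_self (isIrr_ind D hγi hγ)]
    exact one_ne_zero
  obtain ⟨R, hR, hRe⟩ := exists_add_of_constituent (CfsgLib.Char.isCharacter_restrict hχ T) hψ hne
  refine ⟨R, hR, hRe, ?_⟩
  have h1 := indFun_inertia_restrict T D.le D.irr D.inertia hψ (inner_ne_zero D hγi hγ)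
  rw [show (fun n : N => Cfsg.indFun T (Θ * γ) n) =
      (fun n : N => (Θ * γ) ⟨(n : G), D.le n.2⟩) + fun n : N => R ⟨(n : G), D.le n.2⟩ from
      funext fun n => congr_fun hRe ⟨(n : G), D.le n.2⟩,
    CfsgLib.Char.classInner_add_left, add_eq_left] at h1
  exact h1

end CfsgLib.BlockB.OverTheta
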