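import Cfsg.Agent.Lib.BlockB.GlaubermanChain
import Cfsg.Agent.Lib.BlockB.OverTheta
import Mathlib.GroupTheory.FiniteAbelian.Duality

/-!
Extensions over an abelian quotient, seen in an ambient group: the twists of one extension, and
the transfer of extendibility along the Glauberman correspondence of a group centralising the
quotient.
-/

set_option autoImplicit false
set_option linter.unusedSectionVars false
set_option linter.style.haveILetI false

namespace CfsgLib.BlockB.McKay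

open CfsgLib.Clifford
open scoped ComplexConjugate

universe u

variable {G : Type u} [Group G] [Finite G]

theorem mem_sup_norm {K A : Subgroup G} (h : A ≤ Subgroup.normalizer (K : Set G)) {x : G}
    (hx : x ∈ K ⊔ A) : ∃ k ∈ K, ∃ a ∈ A, x = k * a := by
  have hx' : x ∈ (↑(K ⊔ A) : Set G) := hx
  rw [Subgroup.coe_mul_of_right_le_normalizer_left K A h] at hx'
  obtain ⟨k, hk, a, ha, rfl⟩ := hx'
  exact ⟨k, hk, a, ha, rfl⟩

theorem relIndex_sup_norm {K A : Subgroup G} (h : A ≤ Subgroup.normalizer (K : Set G)) :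
    K.relIndex (K ⊔ A) = K.relIndex A := by
  set N := Subgroup.normalizer (K : Set G)
  haveI : (K.subgroupOf N).Normal := Subgroup.normal_in_normalizer
  rw [← Subgroup.relIndex_subgroupOf (sup_le Subgroup.le_normalizer h),
    ← Subgroup.relIndex_subgroupOf h, Subgroup.subgroupOf_sup Subgroup.le_normalizer h,
    Subgroup.relIndex_sup_left]

theorem card_sup_not_dvd {p : ℕ} [Fact p.Prime] {K A : Subgroup G}
    (h : A ≤ Subgroup.normalizer (K : Set G)) (hK : ¬ p ∣ Nat.card K) (hA : ¬ p ∣ Nat.card A) :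
    ¬ p ∣ Nat.card (K ⊔ A : Subgroup G) := by
  have hd : Nat.card (K ⊔ A : Subgroup G) = Nat.card K * K.relIndex A := by
    rw [← relIndex_sup_norm h, ← Subgroup.relIndex_bot_left, ← Subgroup.relIndex_bot_left,
      Subgroup.relIndex_mul_relIndex ⊥ K _ bot_le le_sup_left]
  rw [hd, (Fact.out : p.Prime).dvd_mul]
  exact not_or.2 ⟨hK, fun h' => hA (h'.trans (Subgroup.relIndex_dvd_card K A))⟩

theorem le_normalizer_sup_self {K B : Subgroup G} (h : B ≤ Subgroup.normalizer (K : Set G)) :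
    (K ⊔ B) ≤ Subgroup.normalizer (K : Set G) := sup_le Subgroup.le_normalizer h

/-- Restricting to an intermediate subgroup keeps an extension irreducible. -/
theorem isIrr_inclusion {K B A : Subgroup G} (hKB : K ≤ B) (hBA : B ≤ A) {θ : K → ℂ}
    (hθ : Cfsg.IsIrrCharacter K θ) {f : A → ℂ} (hf : Cfsg.IsCharacter A f)
    (hres : ∀ (k : K) (a : A), (a : G) = k → f a = θ k) :
    Cfsg.IsIrrCharacter B (f ∘ Subgroup.inclusion hBA) := by
  haveI := Fintype.ofFinite B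
  let e : K.subgroupOf B ≃* K := Subgroup.subgroupOfEquivOfLe hKB
  refine isIrrCharacter_of_restrict (H := K.subgroupOf B) (CfsgLib.Char.isCharacter_comp hf _) ?_
  rw [show (fun m : K.subgroupOf B => (f ∘ Subgroup.inclusion hBA) m) = θ ∘ e from
    funext fun m => hres (e m) _ rfl]
  exact CfsgLib.Char.isIrrCharacter_comp_surjective hθ e.toMonoidHom e.surjective

/-- Extendibility over a cyclic section. -/
theorem ext_cyclic_iff {K B A : Subgroup G} (hKB : K ≤ B) (hBA : B ≤ A)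
    (hAB : A ≤ Subgroup.normalizer (B : Set G)) (a₀ : G) (ha₀ : a₀ ∈ A)
    (hgen : ∀ a ∈ A, ∃ i : ℤ, a * (a₀ ^ i)⁻¹ ∈ B) {θ : K → ℂ} (hθ : Cfsg.IsIrrCharacter K θ) :
    Ext K A θ ↔ ∃ f : B → ℂ, Cfsg.IsIrrCharacter B f ∧
      (∀ (k : K) (b : B), (b : G) = k → f b = θ k) ∧ ∀ a ∈ A, InvBy B a f := by
  constructor
  · rintro ⟨f, hf, hres⟩
    refine ⟨f ∘ Subgroup.inclusion hBA, isIrr_inclusion hKB hBA hθ
      (CfsgLib.Char.irr_isCharacter hf) hres, fun k b h => hres k _ h, fun a ha b b' hb => ?_⟩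
    rw [Function.comp_apply, Function.comp_apply, show Subgroup.inclusion hBA b' =
      ⟨a, ha⟩ * Subgroup.inclusion hBA b * ⟨a, ha⟩⁻¹ from Subtype.ext hb]
    exact CfsgLib.Char.irr_isClassFunction hf _ _
  · rintro ⟨f, hf, hres, hinv⟩
    haveI := Fintype.ofFinite A
    haveI := Fintype.ofFinite (B.subgroupOf A)
    haveI : (B.subgroupOf A).Normal := Subgroup.normal_subgroupOf_of_le_normalizer hAB
    let e : B.subgroupOf A ≃* B := Subgroup.subgroupOfEquivOfLe hBA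
    haveI : IsCyclic (A ⧸ B.subgroupOf A) := by
      refine ⟨⟨QuotientGroup.mk' (B.subgroupOf A) ⟨a₀, ha₀⟩, fun r => ?_⟩⟩
      obtain ⟨a, rfl⟩ := QuotientGroup.mk'_surjective (B.subgroupOf A) r
      obtain ⟨i, hi⟩ := hgen a a.2
      refine ⟨i, ?_⟩
      show QuotientGroup.mk' (B.subgroupOf A) ⟨a₀, ha₀⟩ ^ i = _
      rw [← map_zpow]
      refine (QuotientGroup.eq.2 (Subgroup.mem_subgroupOf.2 ?_))
      have h2 := (Subgroup.mem_normalizer_iff''.1 (hAB (zpow_mem ha₀ i)) _).1 hi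
      simpa [mul_assoc] using h2
    have he : Cfsg.IsIrrCharacter (B.subgroupOf A) (f ∘ e) :=
      CfsgLib.Char.isIrrCharacter_comp_surjective hf e.toMonoidHom e.surjective
    obtain ⟨F, hF, hFres⟩ := exists_extension_cyclic (B.subgroupOf A) he fun a => funext fun m =>
      hinv a a.2 (e m) _ rfl
    refine ⟨F, hF, fun k a ha => ?_⟩
    rw [show a = ((e.symm ⟨k, hKB k.2⟩ : B.subgroupOf A) : A) from Subtype.ext ha, hFres,
      Function.comp_apply, e.apply_symm_apply]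
    exact hres k _ rfl

/-- As many characters as the index over an invariant character: they all extend it. -/
theorem extends_of_family {K B : Subgroup G} (hKB : K ≤ B)
    (hBK : B ≤ Subgroup.normalizer (K : Set G)) {θ : K → ℂ} (hθ : Cfsg.IsIrrCharacter K θ)
    (hinv : ∀ b ∈ B, InvBy K b θ) {ι : Type u} [Finite ι] (hι : K.relIndex B ≤ Nat.card ι)
    (g : ι → B → ℂ) (hg : ∀ i, Cfsg.IsIrrCharacter B (g i)) (hginj : Function.Injective g)
    (hover : ∀ i, mult hKB (g i) θ ≠ 0) (i : ι) (k : K) (b : B) (hb : (b : G) = k) :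
    g i b = θ k := by
  haveI := Fintype.ofFinite B
  haveI := Fintype.ofFinite K
  haveI := Fintype.ofFinite (K.subgroupOf B)
  haveI : (K.subgroupOf B).Normal := Subgroup.normal_subgroupOf_of_le_normalizer hBK
  let e : K.subgroupOf B ≃* K := Subgroup.subgroupOfEquivOfLe hKB
  have he : Cfsg.IsIrrCharacter (K.subgroupOf B) (θ ∘ e) :=
    CfsgLib.Char.isIrrCharacter_comp_surjective hθ e.toMonoidHom e.surjective
  have hi : ∀ t : B, conjFn t (θ ∘ e) = θ ∘ e := fun t => funext fun m =>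
    hinv t t.2 (e m) _ rfl
  let F : ι → Over (fun m : K.subgroupOf B => (m : B)) (θ ∘ e) := fun j => ⟨⟨g j, hg j⟩, by
    have h := hover j
    rw [mult_def, ← OverTheta.classInner_comp_surjective e.toMonoidHom e.surjective] at h
    exact h⟩
  have hF : Function.Injective F := fun a b h =>
    hginj (congrArg (fun x => ((x.1 : Cfsg.IrrCharacter B) : B → ℂ)) h)
  have := extends_of_index_le (K.subgroupOf B) he hi (hι.trans (Nat.card_le_card_of_injective F hF))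
    (F i) (e.symm k)
  rw [Function.comp_apply, e.apply_symm_apply] at this
  rw [show b = ((e.symm k : K.subgroupOf B) : B) from Subtype.ext hb]
  exact this

/-- The twists of an extension over an abelian section. -/
theorem exists_twists {K B : Subgroup G} (hKB : K ≤ B)
    (hBK : B ≤ Subgroup.normalizer (K : Set G))
    (hab : ∀ a ∈ B, ∀ b ∈ B, a * b * a⁻¹ * b⁻¹ ∈ K) {θ : K → ℂ} (hθ : Cfsg.IsIrrCharacter K θ)
    {f : B → ℂ} (hf : Cfsg.IsIrrCharacter B f)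
    (hres : ∀ (k : K) (b : B), (b : G) = k → f b = θ k) :
    ∃ (ι : Type u) (_ : Finite ι) (g : ι → B → ℂ) (i₀ : ι), K.relIndex B ≤ Nat.card ι ∧
      Function.Injective g ∧ g i₀ = f ∧ ∀ i, Cfsg.IsIrrCharacter B (g i) ∧
        (∀ (k : K) (b : B), (b : G) = k → g i b = θ k) ∧
        ∀ x : G, InvBy B x f → (∀ b ∈ B, x * b * x⁻¹ * b⁻¹ ∈ K) → InvBy B x (g i) := by
  classical
  haveI := Fintype.ofFinite B
  haveI := Fintype.ofFinite (K.subgroupOf B)
  haveI : (K.subgroupOf B).Normal := Subgroup.normal_subgroupOf_of_le_normalizer hBK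
  let Q := B ⧸ K.subgroupOf B
  letI : CommGroup Q :=
    { (inferInstance : Group Q) with
      mul_comm := fun x y => by
        obtain ⟨a, rfl⟩ := QuotientGroup.mk'_surjective (K.subgroupOf B) x
        obtain ⟨b, rfl⟩ := QuotientGroup.mk'_surjective (K.subgroupOf B) y
        rw [← map_mul, ← map_mul]
        refine (QuotientGroup.eq.2 (Subgroup.mem_subgroupOf.2 ?_))
        simpa [mul_assoc] using hab (b : G)⁻¹ (inv_mem b.2) (a : G)⁻¹ (inv_mem a.2) }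
  haveI : Finite Q := Quotient.finite _
  haveI : NeZero (Monoid.exponent Q : ℂ) :=
    ⟨Nat.cast_ne_zero.2 (Monoid.exponent_ne_zero_of_finite)⟩
  let e : K.subgroupOf B ≃* K := Subgroup.subgroupOfEquivOfLe hKB
  have hresirr : Cfsg.IsIrrCharacter (K.subgroupOf B) (fun m : K.subgroupOf B => f m) := by
    rw [show (fun m : K.subgroupOf B => f m) = θ ∘ e from funext fun m => hres (e m) _ rfl]
    exact CfsgLib.Char.isIrrCharacter_comp_surjective hθ e.toMonoidHom e.surjective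
  have hfin : Finite (Q →* ℂˣ) := Nat.finite_of_card_ne_zero (by
    rw [CommGroup.card_monoidHom_of_hasEnoughRootsOfUnity]; exact Nat.card_pos.ne')
  let g : (Q →* ℂˣ) → B → ℂ := fun l => f * fun b => ((l (QuotientGroup.mk' _ b) : ℂˣ) : ℂ)
  have hlin : ∀ l : Q →* ℂˣ, Cfsg.IsIrrCharacter B
      (fun b => ((l (QuotientGroup.mk' _ b) : ℂˣ) : ℂ)) := fun l =>
    CfsgLib.Char.isIrrCharacter_linear (l.comp (QuotientGroup.mk' _))
  have hcos : ∀ (l : Q →* ℂˣ) (m : K.subgroupOf B) (b : B),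
      ((l (QuotientGroup.mk' _ ((m : B) * b)) : ℂˣ) : ℂ) = (l (QuotientGroup.mk' _ b) : ℂˣ) := by
    intro l m b
    rw [map_mul, show QuotientGroup.mk' (K.subgroupOf B) (m : B) = 1 from
      (QuotientGroup.eq_one_iff _).2 m.2, one_mul]
  refine ⟨Q →* ℂˣ, hfin, g, 1, ?_, fun l l' h => ?_, ?_, fun l => ⟨?_, fun k b hb => ?_, ?_⟩⟩
  · rw [CommGroup.card_monoidHom_of_hasEnoughRootsOfUnity]
    exact le_rfl
  · have h2 := classInner_mul_mul (K.subgroupOf B) (CfsgLib.Char.irr_isCharacter hf) hresirr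
      (fun b => ((l (QuotientGroup.mk' _ b) : ℂˣ) : ℂ))
      (fun b => ((l' (QuotientGroup.mk' _ b) : ℂˣ) : ℂ)) (hcos l) (hcos l')
    rw [show f * (fun b => ((l' (QuotientGroup.mk' _ b) : ℂˣ) : ℂ)) = g l' from rfl, ← h,
      CfsgLib.Char.irr_classInner_self (isIrrCharacter_mul_of_invariant _
        (CfsgLib.Char.irr_isCharacter hf) hresirr (hlin l) (hcos l))] at h2
    have h3 := (CfsgLib.Char.irr_classInner_eq_one_iff (hlin l) (hlin l')).1 h2.symm
    refine MonoidHom.ext fun q => ?_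
    obtain ⟨b, rfl⟩ := QuotientGroup.mk'_surjective (K.subgroupOf B) q
    exact Units.ext (congr_fun h3 b)
  · funext b
    simp [g]
  · exact isIrrCharacter_mul_of_invariant _ (CfsgLib.Char.irr_isCharacter hf) hresirr (hlin l)
      (hcos l)
  · simp only [g]
    rw [show b = ((e.symm k : K.subgroupOf B) : B) * 1 from Subtype.ext (by simp [e, hb]),
      Pi.mul_apply, hcos, map_one, map_one, Units.val_one, mul_one, mul_one]
    exact hres k _ rfl
  · intro x hx hxc b b' hb'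
    simp only [g, Pi.mul_apply]
    rw [hx b b' hb']
    congr 3
    refine (QuotientGroup.eq.2 (Subgroup.mem_subgroupOf.2 ?_))
    rw [Subgroup.coe_mul, Subgroup.coe_inv, hb']
    have := hxc b b.2
    have h2 := (Subgroup.mem_normalizer_iff''.1 (hBK b.2) _).1 (K.inv_mem this)
    simpa [mul_assoc] using h2

/-- A `p`-element centralising a `p'`-section fixes every extension of a fixed character. -/
theorem invBy_extension {p : ℕ} [Fact p.Prime] {K B : Subgroup G} (hKB : K ≤ B)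
    (hBK : B ≤ Subgroup.normalizer (K : Set G)) (hB : ¬ p ∣ Nat.card B) {x : G}
    (hx : ∃ n : ℕ, x ^ p ^ n = 1) (hxB : x ∈ Subgroup.normalizer (B : Set G))
    (hxK : x ∈ Subgroup.normalizer (K : Set G)) (hxc : ∀ b ∈ B, x * b * x⁻¹ * b⁻¹ ∈ K)
    {θ : K → ℂ} (hθ : Cfsg.IsIrrCharacter K θ) (hxθ : InvBy K x θ) {f : B → ℂ}
    (hf : Cfsg.IsIrrCharacter B f) (hres : ∀ (k : K) (b : B), (b : G) = k → f b = θ k) :
    InvBy B x f := by
  haveI := Fintype.ofFinite B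
  haveI := Fintype.ofFinite (K.subgroupOf B)
  haveI : (K.subgroupOf B).Normal := Subgroup.normal_subgroupOf_of_le_normalizer hBK
  let e : K.subgroupOf B ≃* K := Subgroup.subgroupOfEquivOfLe hKB
  let c := conjAut B hxB
  have hresirr : Cfsg.IsIrrCharacter (K.subgroupOf B) (fun m : K.subgroupOf B => f m) := by
    rw [show (fun m : K.subgroupOf B => f m) = θ ∘ e from funext fun m => hres (e m) _ rfl]
    exact CfsgLib.Char.isIrrCharacter_comp_surjective hθ e.toMonoidHom e.surjective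
  have hfc : Cfsg.IsIrrCharacter B (f ∘ c) :=
    CfsgLib.Char.isIrrCharacter_comp_surjective hf c.toMonoidHom c.surjective
  have hfcres : (fun m : K.subgroupOf B => (f ∘ c) m) = fun m : K.subgroupOf B => f m :=
    funext fun m => by
      rw [Function.comp_apply, hres (conjAut K hxK (e m)) _ rfl, hres (e m) (m : B) rfl]
      exact hxθ (e m) _ rfl
  obtain ⟨hγ, hγe⟩ := gallagher_factor (K.subgroupOf B) hfc (CfsgLib.Char.irr_isCharacter hf)
    hresirr (by rw [hfcres, CfsgLib.Char.irr_classInner_self hresirr]; exact one_ne_zero)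
  obtain ⟨φ, hφ⟩ := exists_hom_of_linear (CfsgLib.Char.irr_isCharacter hγ) (by
    rw [gallagherQuot_apply_one, hfcres, CfsgLib.Char.irr_classInner_self hresirr])
  have hcos : ∀ (m : K.subgroupOf B) (b : B), φ ((m : B) * b) = φ b := fun m b => Units.ext (by
    rw [hφ, hφ]; exact cosetAvg_mul_left _ _ m b)
  have hφc : ∀ b, φ (c b) = φ b := fun b => by
    have h := hcos ⟨⟨x * b * x⁻¹ * (b : G)⁻¹, hKB (hxc b b.2)⟩, hxc b b.2⟩ b
    refine Eq.trans (congrArg φ (Subtype.ext ?_)) h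
    simp [c, coe_conjAut]
  have hiter : ∀ (n : ℕ) (b : B), f ((c ^ n) b) = f b * (φ b : ℂ) ^ n := by
    intro n
    induction n with
    | zero => intro b; simp
    | succ n ih =>
      intro b
      rw [pow_succ, MulAut.mul_apply, ih, show f (c b) = _ from congr_fun hγe b, Pi.mul_apply,
        ← hφ, hφc]
      ring
  obtain ⟨n, hn⟩ := hx
  have hcn : ∀ b : B, (c ^ p ^ n) b = b := fun b => by
    have h : c ^ p ^ n = B.normalizerMonoidHom (⟨x, hxB⟩ ^ p ^ n) := (map_pow _ _ _).symm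
    rw [h, show (⟨x, hxB⟩ : Subgroup.normalizer (B : Set G)) ^ p ^ n = 1 from Subtype.ext (by
      simp [hn]), map_one]
    rfl
  have hcos' : ∀ (m : K.subgroupOf B) (b : B), (((φ ^ p ^ n) ((m : B) * b) : ℂˣ) : ℂ) =
      ((φ ^ p ^ n) b : ℂˣ) := fun m b => by rw [MonoidHom.pow_apply, hcos, MonoidHom.pow_apply]
  have h1 := classInner_mul_mul (K.subgroupOf B) (CfsgLib.Char.irr_isCharacter hf) hresirr
    (fun b => (((φ ^ p ^ n) b : ℂˣ) : ℂ)) (fun _ => 1) hcos' (fun _ _ => rfl)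
  rw [show (f * fun b => (((φ ^ p ^ n) b : ℂˣ) : ℂ)) = f from funext fun b => by
      rw [Pi.mul_apply, MonoidHom.pow_apply, Units.val_pow_eq_pow_val, ← hiter, hcn],
    show (f * fun _ => (1 : ℂ)) = f from funext fun b => mul_one _,
    CfsgLib.Char.irr_classInner_self hf] at h1
  have h2 := (CfsgLib.Char.irr_classInner_eq_one_iff
    (CfsgLib.Char.isIrrCharacter_linear (φ ^ p ^ n)) CfsgLib.Char.isIrrCharacter_one).1 h1.symm
  have hφ1 : φ = 1 := by
    suffices h : orderOf φ = 1 by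
      have h' := pow_orderOf_eq_one φ
      rw [h, pow_one] at h'
      exact h'
    refine Nat.dvd_one.1 ?_
    have hcop2 : Nat.gcd (p ^ n) (Nat.card B) = 1 :=
      Nat.Coprime.pow_left n ((Fact.out : p.Prime).coprime_iff_not_dvd.2 hB)
    rw [← hcop2]
    refine Nat.dvd_gcd (orderOf_dvd_of_pow_eq_one (MonoidHom.ext fun b => Units.ext ?_))
      (orderOf_dvd_natCard φ)
    simpa using congr_fun h2 b
  intro b b' hb'
  rw [show b' = c b from Subtype.ext hb', show f (c b) = _ from congr_fun hγe b, Pi.mul_apply,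
    ← hφ, hφ1, MonoidHom.one_apply, Units.val_one, mul_one]

variable {p : ℕ} [Fact p.Prime]

/-- Fixed extensions correspond along the Glauberman correspondence of `Z`, which centralises
`B₀`. -/
theorem ext_transfer (Z K B₀ : Subgroup G) (hZ : IsPGroup p Z) (hK : ¬ p ∣ Nat.card K)
    (hB₀ : ¬ p ∣ Nat.card B₀) (hZK : Z ≤ Subgroup.normalizer (K : Set G))
    (hB₀K : B₀ ≤ Subgroup.normalizer (K : Set G))
    (hZB₀ : ∀ z ∈ Z, ∀ b ∈ B₀, z * b = b * z) (hab : ∀ a ∈ B₀, ∀ b ∈ B₀, a * b * a⁻¹ * b⁻¹ ∈ K)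
    {K₁ : Subgroup G} (hK₁ : K₁ = K ⊓ Subgroup.centralizer (Z : Set G)) (hK₁K : K₁ ≤ K)
    {θ : K → ℂ} (hθ : Cfsg.IsIrrCharacter K θ) (hθZ : ∀ z ∈ Z, InvBy K z θ)
    (hθB : ∀ b ∈ B₀, InvBy K b θ) {θ₁ : K₁ → ℂ} (hθ₁ : Cfsg.IsIrrCharacter K₁ θ₁)
    (hc : Corr p hK₁K θ θ₁) (A : Set G)
    (hA : ∀ a ∈ A, a ∈ Subgroup.normalizer (K : Set G) ∧ a ∈ Subgroup.normalizer (B₀ : Set G) ∧
      a ∈ Subgroup.normalizer (Z : Set G)) :
    (∃ f : ↥(K ⊔ B₀) → ℂ, Cfsg.IsIrrCharacter ↥(K ⊔ B₀) f ∧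
      (∀ (k : K) (b : ↥(K ⊔ B₀)), (b : G) = k → f b = θ k) ∧ ∀ a ∈ A, InvBy (K ⊔ B₀) a f) ↔
    ∃ f : ↥(K₁ ⊔ B₀) → ℂ, Cfsg.IsIrrCharacter ↥(K₁ ⊔ B₀) f ∧
      (∀ (k : K₁) (b : ↥(K₁ ⊔ B₀)), (b : G) = k → f b = θ₁ k) ∧
      ∀ a ∈ A, InvBy (K₁ ⊔ B₀) a f := by
  have hZB : Z ≤ Subgroup.normalizer ((K ⊔ B₀ : Subgroup G) : Set G) := by
    intro z hz
    refine Subgroup.mem_normalizer_fintype fun y hy => ?_
    obtain ⟨k, hk, b, hb, rfl⟩ := mem_sup_norm hB₀K hy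
    rw [show z * (k * b) * z⁻¹ = (z * k * z⁻¹) * (z * b * z⁻¹) by group,
      hZB₀ z hz b hb, mul_inv_cancel_right]
    exact Subgroup.mul_mem_sup ((Subgroup.mem_normalizer_iff.1 (hZK hz) k).1 hk) hb
  have hB₀K₁ : B₀ ≤ Subgroup.normalizer (K₁ : Set G) := by
    intro b hb
    refine Subgroup.mem_normalizer_fintype fun y hy => ?_
    simp only [SetLike.mem_coe, hK₁, Subgroup.mem_inf, Subgroup.mem_centralizer_iff] at hy ⊢
    refine ⟨(Subgroup.mem_normalizer_iff.1 (hB₀K hb) y).1 hy.1, fun z hz => ?_⟩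
    have hzb : z * b = b * z := hZB₀ z hz b hb
    calc z * (b * y * b⁻¹) = (z * b) * y * b⁻¹ := by group
      _ = b * (z * y) * b⁻¹ := by rw [hzb]; group
      _ = b * y * (z * b⁻¹) := by rw [hy.2 z hz]; group
      _ = b * y * b⁻¹ * z := by
          rw [show z * b⁻¹ = b⁻¹ * z from hZB₀ z hz b⁻¹ (inv_mem hb)]; group
  have hB₁ : K₁ ⊔ B₀ = (K ⊔ B₀) ⊓ Subgroup.centralizer (Z : Set G) := by
    refine le_antisymm (le_inf (sup_le_sup_right hK₁K _) (sup_le ?_ ?_)) fun x hx => ?_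
    · rw [hK₁]; exact inf_le_right
    · exact fun b hb => Subgroup.mem_centralizer_iff.2 fun z hz => hZB₀ z hz b hb
    · obtain ⟨k, hk, b, hb, rfl⟩ := mem_sup_norm hB₀K hx.1
      refine Subgroup.mul_mem_sup ?_ hb
      rw [hK₁]
      have hbz : b ∈ Subgroup.centralizer (Z : Set G) :=
        Subgroup.mem_centralizer_iff.2 fun z hz => hZB₀ z hz b hb
      have h2 : k * b ∈ Subgroup.centralizer (Z : Set G) := hx.2
      exact ⟨hk, by simpa using Subgroup.mul_mem _ h2 (Subgroup.inv_mem _ hbz)⟩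
  have hle : K₁ ⊔ B₀ ≤ K ⊔ B₀ := sup_le_sup_right hK₁K _
  have hBcop := card_sup_not_dvd hB₀K hK hB₀
  have hBK := le_normalizer_sup_self hB₀K
  have hB₁K₁ := le_normalizer_sup_self hB₀K₁
  have hidx : K₁.relIndex (K₁ ⊔ B₀) = K.relIndex (K ⊔ B₀) := by
    rw [relIndex_sup_norm hB₀K₁, relIndex_sup_norm hB₀K, ← Subgroup.inf_relIndex_right K₁,
      ← Subgroup.inf_relIndex_right K]
    refine congrArg (fun H : Subgroup G => H.relIndex B₀)
      (le_antisymm (inf_le_inf_right _ hK₁K) ?_)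
    intro x hx
    exact ⟨hK₁ ▸ ⟨hx.1, Subgroup.mem_centralizer_iff.2 fun z hz => hZB₀ z hz x hx.2⟩, hx.2⟩
  have habs : ∀ L : Subgroup G, B₀ ≤ Subgroup.normalizer (L : Set G) →
      (∀ a ∈ B₀, ∀ b ∈ B₀, a * b * a⁻¹ * b⁻¹ ∈ L) →
      ∀ a ∈ L ⊔ B₀, ∀ b ∈ L ⊔ B₀, a * b * a⁻¹ * b⁻¹ ∈ L := by
    intro L hLn hL a ha b hb
    obtain ⟨k, hk, x, hx, rfl⟩ := mem_sup_norm hLn ha
    obtain ⟨l, hl, y, hy, rfl⟩ := mem_sup_norm hLn hb
    rw [show k * x * (l * y) * (k * x)⁻¹ * (l * y)⁻¹ = k * (x * l * x⁻¹) * (x * y * x⁻¹ * y⁻¹) *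
      (y * k⁻¹ * y⁻¹) * l⁻¹ by group]
    exact L.mul_mem (L.mul_mem (L.mul_mem (L.mul_mem hk
      ((Subgroup.mem_normalizer_iff.1 (hLn hx) l).1 hl)) (hL x hx y hy))
      ((Subgroup.mem_normalizer_iff.1 (hLn hy) _).1 (L.inv_mem hk))) (L.inv_mem hl)
  have hab₁ : ∀ a ∈ B₀, ∀ b ∈ B₀, a * b * a⁻¹ * b⁻¹ ∈ K₁ := fun a ha b hb => by
    rw [hK₁]
    exact ⟨hab a ha b hb, Subgroup.mem_centralizer_iff.2 fun z hz => hZB₀ z hz _
      (B₀.mul_mem (B₀.mul_mem (B₀.mul_mem ha hb) (B₀.inv_mem ha)) (B₀.inv_mem hb))⟩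
  have hzc : ∀ z ∈ Z, ∀ b ∈ K ⊔ B₀, z * b * z⁻¹ * b⁻¹ ∈ K := by
    intro z hz b hb
    obtain ⟨k, hk, y, hy, rfl⟩ := mem_sup_norm hB₀K hb
    rw [show z * (k * y) * z⁻¹ * (k * y)⁻¹ = (z * k * z⁻¹) * (z * y * z⁻¹ * y⁻¹) * k⁻¹ by group,
      hZB₀ z hz y hy, mul_inv_cancel_right, mul_inv_cancel, mul_one]
    exact K.mul_mem ((Subgroup.mem_normalizer_iff.1 (hZK hz) k).1 hk) (K.inv_mem hk)
  have hzpow : ∀ z ∈ Z, ∃ n : ℕ, z ^ p ^ n = 1 := fun z hz =>
    (hZ ⟨z, hz⟩).imp fun n hn => congrArg Subtype.val hn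
  obtain ⟨-, hg2, -⟩ := glauberman Z K hZ hK hZK K₁ hK₁ hK₁K
  obtain ⟨h1, h2, h3⟩ := glauberman Z (K ⊔ B₀) hZ hBcop hZB (K₁ ⊔ B₀) hB₁ hle
  have hnorm : ∀ a ∈ A, a ∈ Subgroup.normalizer ((K ⊔ B₀ : Subgroup G) : Set G) ∧
      a ∈ Subgroup.normalizer ((K₁ ⊔ B₀ : Subgroup G) : Set G) := by
    intro a ha
    have hK₁n : a ∈ Subgroup.normalizer ((K₁ : Subgroup G) : Set G) := by
      rw [hK₁]
      refine Subgroup.mem_normalizer_fintype fun y hy => ?_
      simp only [SetLike.mem_coe, Subgroup.mem_inf, Subgroup.mem_centralizer_iff] at hy ⊢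
      refine ⟨(Subgroup.mem_normalizer_iff.1 (hA a ha).1 y).1 hy.1, fun z hz => ?_⟩
      have h := hy.2 _ ((Subgroup.mem_normalizer_iff''.1 (hA a ha).2.2 z).1 hz)
      calc z * (a * y * a⁻¹) = a * (a⁻¹ * z * a * y) * a⁻¹ := by group
        _ = a * (y * (a⁻¹ * z * a)) * a⁻¹ := by rw [h]
        _ = a * y * a⁻¹ * z := by group
    constructor <;> refine Subgroup.mem_normalizer_fintype fun y hy => ?_
    · obtain ⟨k, hk, b, hb, rfl⟩ := mem_sup_norm hB₀K hy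
      rw [show a * (k * b) * a⁻¹ = (a * k * a⁻¹) * (a * b * a⁻¹) by group]
      exact Subgroup.mul_mem_sup ((Subgroup.mem_normalizer_iff.1 (hA a ha).1 k).1 hk)
        ((Subgroup.mem_normalizer_iff.1 (hA a ha).2.1 b).1 hb)
    · obtain ⟨k, hk, b, hb, rfl⟩ := mem_sup_norm hB₀K₁ hy
      rw [show a * (k * b) * a⁻¹ = (a * k * a⁻¹) * (a * b * a⁻¹) by group]
      exact Subgroup.mul_mem_sup ((Subgroup.mem_normalizer_iff.1 hK₁n k).1 hk)
        ((Subgroup.mem_normalizer_iff.1 (hA a ha).2.1 b).1 hb)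
  constructor
  · rintro ⟨f, hf, hres, hfA⟩
    have hfZ : ∀ z ∈ Z, InvBy (K ⊔ B₀) z f := fun z hz =>
      invBy_extension (K := K) (B := K ⊔ B₀) le_sup_left hBK hBcop (hzpow z hz) (hZB hz) (hZK hz)
        (hzc z hz) hθ (hθZ z hz) hf hres
    obtain ⟨ι, hfin, g, i₀, hcard, hginj, hg0, hg⟩ :=
      exists_twists (K := K) (B := K ⊔ B₀) le_sup_left hBK (habs K hB₀K hab) hθ hf hres
    have hgZ : ∀ i, ∀ z ∈ Z, InvBy (K ⊔ B₀) z (g i) := fun i z hz =>
      (hg i).2.2 z (hfZ z hz) (hzc z hz)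
    choose φ hφ hφc hφu using fun i => h1 (g i) (hg i).1 (hgZ i)
    have hφinj : Function.Injective φ := fun i j hij => hginj
      (h2 _ _ (hg i).1 (hg j).1 (hgZ i) (hgZ j) (φ i) (hφ i) (hφc i) (hij ▸ hφc j))
    have hover : ∀ i, mult (le_sup_left : K₁ ≤ K₁ ⊔ B₀) (φ i) θ₁ ≠ 0 := by
      intro i
      have hc' : Corr p ((le_sup_left : K₁ ≤ K₁ ⊔ B₀).trans hle) (g i) θ₁ := by
        obtain ⟨m, hm, hm'⟩ := hc
        refine ⟨m, ?_, hm'⟩
        rw [← hm]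
        haveI := Fintype.ofFinite K₁
        rw [mult_def, mult_def]
        refine congrArg (fun F => Cfsg.classInner F θ₁) (funext fun c => ?_)
        exact (hg i).2.1 (Subgroup.inclusion hK₁K c) _ rfl
      obtain ⟨m, hm, hm'⟩ := (corr_trans_iff hle (le_sup_left : K₁ ≤ K₁ ⊔ B₀)
        (CfsgLib.Char.irr_isCharacter (hg i).1) (hφ i) (hφc i) (hφu i)
        (CfsgLib.Char.irr_isCharacter hθ₁)).1 hc'
      rw [hm, Nat.cast_ne_zero]
      exact fun h => hm' (h ▸ dvd_zero p)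
    have hinv₁ : ∀ b ∈ K₁ ⊔ B₀, InvBy K₁ b θ₁ := by
      intro b hb
      obtain ⟨k, hk, y, hy, rfl⟩ := mem_sup_norm hB₀K₁ hb
      refine invBy_mul (hB₀K₁ hy) (invBy_of_mem hk (CfsgLib.Char.irr_isClassFunction hθ₁)) ?_
      exact invBy_of_corr Z K hZ hK hZK hK₁ hK₁K (hB₀K hy) (hB₀K₁ hy) hθ hθZ hθ₁ hc (hθB y hy)
    have hext := extends_of_family (le_sup_left : K₁ ≤ K₁ ⊔ B₀) hB₁K₁ hθ₁ hinv₁
      (hidx ▸ hcard) φ hφ hφinj hover
    refine ⟨φ i₀, hφ i₀, hext i₀, fun a ha => ?_⟩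
    exact invBy_of_corr Z (K ⊔ B₀) hZ hBcop hZB hB₁ hle (hnorm a ha).1 (hnorm a ha).2 (hg i₀).1
      (hgZ i₀) (hφ i₀) (hφc i₀) (hg0 ▸ hfA a ha)
  · rintro ⟨f, hf, hres, hfA⟩
    obtain ⟨ι, hfin, g, i₀, hcard, hginj, hg0, hg⟩ :=
      exists_twists (K := K₁) (B := K₁ ⊔ B₀) le_sup_left hB₁K₁ (habs K₁ hB₀K₁ hab₁) hθ₁ hf hres
    choose χ hχ hχZ hχc using fun i => h3 (g i) (hg i).1
    have hχu : ∀ i, ∀ β, Cfsg.IsIrrCharacter ↥(K₁ ⊔ B₀) β → Corr p hle (χ i) β → β = g i :=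
      fun i β hβ hβc => (corr_unique Z (K ⊔ B₀) hZ hBcop hZB hB₁ hle (hχ i) (hχZ i) hβ (hg i).1
        hβc (hχc i))
    have hχinj : Function.Injective χ := fun i j hij => hginj
      (hχu j (g i) (hg i).1 (hij ▸ hχc i))
    have hover : ∀ i, mult (le_sup_left : K ≤ K ⊔ B₀) (χ i) θ ≠ 0 := by
      intro i
      have hg1 : Corr p (le_sup_left : K₁ ≤ K₁ ⊔ B₀) (g i) θ₁ := by
        refine ⟨1, ?_, (Fact.out : p.Prime).not_dvd_one⟩
        haveI := Fintype.ofFinite K₁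
        rw [mult_def, show g i ∘ Subgroup.inclusion (le_sup_left : K₁ ≤ K₁ ⊔ B₀) = θ₁ from
          funext fun c => (hg i).2.1 c _ rfl, CfsgLib.Char.irr_classInner_self hθ₁, Nat.cast_one]
      have hc' := (corr_trans_iff hle (le_sup_left : K₁ ≤ K₁ ⊔ B₀)
        (CfsgLib.Char.irr_isCharacter (hχ i)) (hg i).1 (hχc i) (hχu i)
        (CfsgLib.Char.irr_isCharacter hθ₁)).2 hg1
      obtain ⟨μ, hμ, hμZ, hμc, hμne⟩ := exists_inv_between Z K hZ hK hZK hK₁ hK₁K hZB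
        (le_sup_left : K ≤ K ⊔ B₀) (CfsgLib.Char.irr_isCharacter (hχ i)) (hχZ i) hθ₁ hc'
      rwa [hg2 μ θ hμ hθ hμZ hθZ θ₁ hθ₁ hμc hc] at hμne
    have hinv : ∀ b ∈ K ⊔ B₀, InvBy K b θ := by
      intro b hb
      obtain ⟨k, hk, y, hy, rfl⟩ := mem_sup_norm hB₀K hb
      exact invBy_mul (hB₀K hy) (invBy_of_mem hk (CfsgLib.Char.irr_isClassFunction hθ)) (hθB y hy)
    have hext := extends_of_family (le_sup_left : K ≤ K ⊔ B₀) hBK hθ hinv
      (hidx ▸ hcard) χ hχ hχinj hover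
    refine ⟨χ i₀, hχ i₀, hext i₀, fun a ha => ?_⟩
    exact invBy_of_corr' Z (K ⊔ B₀) hZ hBcop hZB hB₁ hle (hnorm a ha).1 (hnorm a ha).2
      (hA a ha).2.2 (hχ i₀) (hχZ i₀) (hg i₀).1 (hχc i₀) (hg0 ▸ hfA a ha)

end CfsgLib.BlockB.McKay
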