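import Cfsg.Agent.Lib.BlockB.CanonExt
import Cfsg.Agent.Lib.Clifford.Degrees
import Cfsg.Agent.Lib.BlockB.ExtTwists

/-!
The characters of degree prime to `p` of `K S`, `K` a normal `p'`-subgroup and `S` a `p`-group,
as pairs of an invariant character of `K` and a linear character of `S`.
-/

set_option autoImplicit false
set_option linter.unusedSectionVars false
set_option linter.style.haveILetI false

namespace CfsgLib.BlockB.McKay

open CfsgLib.Clifford

universe u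

variable {G : Type u} [Group G] [Finite G] {p : ℕ} [Fact p.Prime]

theorem eq_one_of_coprime_mem {K S : Subgroup G} (hS : IsPGroup p S) (hK : ¬ p ∣ Nat.card K) {x : G}
    (hxK : x ∈ K) (hxS : x ∈ S) : x = 1 := by
  obtain ⟨m, hm⟩ := IsPGroup.iff_orderOf.1 hS ⟨x, hxS⟩
  rw [← Subgroup.orderOf_coe] at hm
  rcases Nat.eq_zero_or_pos m with rfl | hm0
  · exact orderOf_eq_one_iff.1 (hm.trans (pow_zero p))
  · exact absurd ((dvd_pow_self p hm0.ne').trans (hm ▸ Subgroup.orderOf_dvd_natCard K hxK)) hK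

/-- Central factors: in a central element of `K S` both factors are central. -/
theorem exists_central_factors {K S : Subgroup G} (hS : IsPGroup p S) (hK : ¬ p ∣ Nat.card K)
    (hSK : S ≤ Subgroup.normalizer (K : Set G)) {z : G} (hz : z ∈ K ⊔ S)
    (hc : ∀ g, z * g = g * z) :
    ∃ k ∈ K, ∃ s ∈ S, z = k * s ∧ (∀ g, k * g = g * k) ∧ (∀ g, s * g = g * s) ∧
      k ∈ Subgroup.zpowers z ∧ s ∈ Subgroup.zpowers z := by
  obtain ⟨k, hk, s, hs, rfl⟩ := mem_sup_norm hSK hz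
  have hks : k * s = s * k := by
    have := hc s
    rw [← mul_assoc] at this
    exact mul_right_cancel this
  have hkn : k ^ Nat.card K = 1 := by
    have := pow_card_eq_one' (x := (⟨k, hk⟩ : K))
    exact (Subgroup.coe_pow K ⟨k, hk⟩ _).symm.trans (congrArg Subtype.val this)
  obtain ⟨m, hm⟩ := hS ⟨s, hs⟩
  have hsm : s ^ p ^ m = 1 := congrArg Subtype.val hm
  have hcop : Nat.Coprime (Nat.card K) (p ^ m) :=
    Nat.Coprime.pow_right m ((Fact.out : p.Prime).coprime_iff_not_dvd.2 hK).symm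
  obtain ⟨a, b, hab⟩ := Nat.isCoprime_iff_coprime.2 hcop
  have h1 : s = s ^ ((Nat.card K : ℤ) * a) := by
    conv_lhs => rw [← zpow_one s,
      show (1 : ℤ) = (Nat.card K : ℤ) * a + ((p ^ m : ℕ) : ℤ) * b by linear_combination -hab]
    rw [zpow_add, zpow_mul s ((p ^ m : ℕ) : ℤ), zpow_natCast, hsm, one_zpow, mul_one]
  have hsz : s = (k * s) ^ ((Nat.card K : ℤ) * a) := by
    rw [(show Commute k s from hks).mul_zpow, zpow_mul k, zpow_natCast, hkn, one_zpow, one_mul]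
    exact h1
  have hspow : s ∈ Subgroup.zpowers (k * s) := ⟨_, hsz.symm⟩
  have hkpow : k ∈ Subgroup.zpowers (k * s) := by
    have := Subgroup.mul_mem _ (Subgroup.mem_zpowers (k * s)) (Subgroup.inv_mem _ hspow)
    rwa [mul_inv_cancel_right] at this
  have hcen : ∀ y ∈ Subgroup.zpowers (k * s), ∀ g, y * g = g * y := by
    rintro y ⟨i, rfl⟩ g
    exact (Commute.zpow_left (show Commute (k * s) g from hc g) i)
  exact ⟨k, hk, s, hs, rfl, hcen k hkpow, hcen s hspow, hkpow, hspow⟩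

variable (K S : Subgroup G) (hS : IsPGroup p S) (hK : ¬ p ∣ Nat.card K)
  (hSK : S ≤ Subgroup.normalizer (K : Set G))

/-- An invariant character of `K` together with a linear character of `S`. -/
abbrev Param : Type u :=
  {q : Cfsg.IrrCharacter K × (S →* ℂˣ) // ∀ s ∈ S, InvBy K s (q.1 : K → ℂ)}

include hS hK hSK

theorem exists_hom_lift (μ : S →* ℂˣ) :
    ∃ μ' : ↥(K ⊔ S) →* ℂˣ, ∀ (x : ↥(K ⊔ S)) (k : K) (s : S), (x : G) = k * s → μ' x = μ s := by
  choose k hk s hs he using fun x : ↥(K ⊔ S) => mem_sup_norm hSK x.2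
  have huniq : ∀ (k k' : G) (s s' : G), k ∈ K → k' ∈ K → s ∈ S → s' ∈ S → k * s = k' * s' →
      s = s' := by
    intro k k' s s' hk hk' hs hs' h
    have e : k'⁻¹ * k = s' * s⁻¹ := by
      rw [eq_mul_inv_iff_mul_eq, mul_assoc, h, inv_mul_cancel_left]
    exact (mul_inv_eq_one.1 (eq_one_of_coprime_mem hS hK
      (e ▸ K.mul_mem (K.inv_mem hk') hk) (S.mul_mem hs' (S.inv_mem hs)))).symm
  refine ⟨MonoidHom.mk' (fun x => μ ⟨s x, hs x⟩) fun x y => ?_, fun x k' s' h => ?_⟩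
  · rw [← map_mul]
    refine congrArg μ (Subtype.ext (huniq (k (x * y)) (k x * (s x * k y * (s x)⁻¹)) _ _ (hk _)
      (K.mul_mem (hk x) ((Subgroup.mem_normalizer_iff.1 (hSK (hs x)) _).1 (hk y))) (hs _)
      (S.mul_mem (hs x) (hs y)) ?_))
    rw [← he, Subgroup.coe_mul, he x, he y]
    simp only [Subgroup.coe_mul]
    group
  · exact congrArg μ (Subtype.ext (huniq (k x) k' _ _ (hk x) k'.2 (hs x) s'.2 ((he x).symm.trans h)))

theorem relIndex_pow : ∃ a, K.relIndex (K ⊔ S) = p ^ a := by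
  obtain ⟨m, hm⟩ := IsPGroup.iff_card.1 hS
  obtain ⟨a, -, ha⟩ := (Nat.dvd_prime_pow (Fact.out : p.Prime)).1
    (hm ▸ Subgroup.relIndex_dvd_card K S)
  exact ⟨a, (relIndex_sup_norm hSK).trans ha⟩

/-- The parametrisation, with its restriction, its central values and its equivariance. -/
theorem exists_param :
    ∃ F : Param K S → Cfsg.IrrCharacter ↥(K ⊔ S), Function.Injective F ∧
      (∀ η : Cfsg.IrrCharacter ↥(K ⊔ S),
        ¬ p ∣ Cfsg.charDegree (η : ↥(K ⊔ S) → ℂ) ↔ η ∈ Set.range F) ∧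
      (∀ (q : Param K S) (k : K) (x : ↥(K ⊔ S)), (x : G) = k →
        (F q : ↥(K ⊔ S) → ℂ) x = (q.1.1 : K → ℂ) k) ∧
      (∀ (q : Param K S) (c : K) (s : S) (x : ↥(K ⊔ S)), (∀ g, (c : G) * g = g * c) →
        (∀ g, (s : G) * g = g * s) → (x : G) = c * s →
        (F q : ↥(K ⊔ S) → ℂ) x = (q.1.1 : K → ℂ) c * ((q.1.2 s : ℂˣ) : ℂ)) ∧
      ∀ (q : Param K S) (r : G), r ∈ Subgroup.normalizer (K : Set G) →
        r ∈ Subgroup.normalizer (S : Set G) →
        (InvBy (K ⊔ S) r (F q : ↥(K ⊔ S) → ℂ) ↔ InvBy K r (q.1.1 : K → ℂ) ∧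
          ∀ s s' : S, (s' : G) = r * s * r⁻¹ → q.1.2 s' = q.1.2 s) := by
  have hp := (Fact.out : p.Prime)
  haveI := Fintype.ofFinite ↥(K ⊔ S)
  let K' := K.subgroupOf (K ⊔ S)
  haveI := Fintype.ofFinite K'
  haveI : K'.Normal := Subgroup.normal_subgroupOf_of_le_normalizer (le_normalizer_sup_self hSK)
  let e : K' ≃* K := Subgroup.subgroupOfEquivOfLe le_sup_left
  have hK' : ¬ p ∣ Nat.card K' := by rwa [Nat.card_congr e.toEquiv]
  have hidx : ∃ a, K'.index = p ^ a := relIndex_pow K S hS hK hSK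
  have hθe : ∀ θ : Cfsg.IrrCharacter K, Cfsg.IsIrrCharacter K' ((θ : K → ℂ) ∘ e) := fun θ =>
    CfsgLib.Char.isIrrCharacter_comp_surjective θ.2 e.toMonoidHom e.surjective
  have hinv : ∀ q : Param K S, ∀ t : ↥(K ⊔ S),
      conjFn t ((q.1.1 : K → ℂ) ∘ e) = (q.1.1 : K → ℂ) ∘ e := by
    intro q t
    obtain ⟨k, hk, s, hs, ht⟩ := mem_sup_norm hSK t.2
    refine funext fun m => invBy_mul (hSK hs)
      (invBy_of_mem hk (CfsgLib.Char.irr_isClassFunction q.1.1.2)) (q.2 s hs) (e m) _ ?_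
    rw [← ht]; rfl
  choose η₀ hη₀ hη₀u using fun q : Param K S =>
    existsUnique_canon K' hK' hidx (hθe q.1.1) (hinv q)
  choose lift hlift using exists_hom_lift K S hS hK hSK
  have hliftK : ∀ (μ : S →* ℂˣ) (x : ↥(K ⊔ S)), (x : G) ∈ K → lift μ x = 1 := fun μ x hx => by
    rw [hlift μ x ⟨x, hx⟩ 1 (by simp), map_one]
  let f : Param K S → ↥(K ⊔ S) → ℂ := fun q => η₀ q * fun x => ((lift q.1.2 x : ℂˣ) : ℂ)
  have hres : ∀ q, (fun m : K' => η₀ q m) = (q.1.1 : K → ℂ) ∘ e := fun q => funext (hη₀ q).2.1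
  have hresirr : ∀ q, Cfsg.IsIrrCharacter K' (fun m : K' => η₀ q m) := fun q => by
    rw [hres]; exact hθe _
  have hcos : ∀ (μ : S →* ℂˣ) (m : K') (x : ↥(K ⊔ S)),
      ((lift μ ((m : ↥(K ⊔ S)) * x) : ℂˣ) : ℂ) = (lift μ x : ℂˣ) := fun μ m x => by
    rw [map_mul, hliftK μ (m : ↥(K ⊔ S)) m.2, one_mul]
  have hfirr : ∀ q, Cfsg.IsIrrCharacter ↥(K ⊔ S) (f q) := fun q =>
    isIrrCharacter_mul_of_invariant K' (CfsgLib.Char.irr_isCharacter (hη₀ q).1) (hresirr q)
      (CfsgLib.Char.isIrrCharacter_linear (lift q.1.2)) (hcos q.1.2)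
  have hfres : ∀ (q : Param K S) (k : K) (x : ↥(K ⊔ S)), (x : G) = k →
      f q x = (q.1.1 : K → ℂ) k := fun q k x hx => by
    have hxK : (x : G) ∈ K := hx ▸ k.2
    show η₀ q x * _ = _
    dsimp only
    rw [hliftK _ x hxK, Units.val_one, mul_one]
    exact ((hη₀ q).2.1 ⟨x, hxK⟩).trans (congrArg (q.1.1 : K → ℂ) (Subtype.ext hx))
  have hdeg : ∀ q, ¬ p ∣ Cfsg.charDegree (f q) := fun q hd => by
    have h1 : Cfsg.charDegree (f q) = Cfsg.charDegree (q.1.1 : K → ℂ) := by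
      have hc : ((Cfsg.charDegree (f q) : ℕ) : ℂ) = (Cfsg.charDegree (q.1.1 : K → ℂ) : ℂ) := by
        rw [charDegree_cast (CfsgLib.Char.irr_isCharacter (hfirr q)), irr_degree_cast]
        exact hfres q 1 1 rfl
      exact_mod_cast hc
    rw [h1] at hd
    exact hK (hd.trans (Degrees.charDegree_dvd_card q.1.1.2))
  have hgal : ∀ (q : Param K S) (γ : ↥(K ⊔ S) → ℂ), (∀ (m : K') x, γ ((m : ↥(K ⊔ S)) * x) = γ x) →
      gallagherQuot K' (η₀ q * γ) (η₀ q) = γ := fun q γ hγ => by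
    have e1 : (fun g => (η₀ q * γ) g * (starRingEnd ℂ) (η₀ q g)) =
        (fun g => η₀ q g * (starRingEnd ℂ) (η₀ q g)) * γ := funext fun g => by
      simp only [Pi.mul_apply]; ring
    rw [gallagherQuot, e1, cosetAvg_mul_of_invariant K' _ _ hγ,
      cosetAvg_normSq_eq_one K' (CfsgLib.Char.irr_isCharacter (hη₀ q).1) (hresirr q)]
    exact funext fun g => one_mul _
  have hparam : ∀ q q' : Param K S, f q = f q' → q = q' := by
    intro q q' h
    have hθ : q.1.1 = q'.1.1 := Subtype.ext (funext fun k => by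
      rw [← hfres q k ⟨k, Subgroup.mem_sup_left k.2⟩ rfl, h, hfres q' k _ rfl])
    have hη : η₀ q' = η₀ q := hη₀u q _ ⟨(hη₀ q').1, fun m => by rw [(hη₀ q').2.1 m, hθ], (hη₀ q').2.2⟩
    have h2 := hgal q (fun x => ((lift q.1.2 x : ℂˣ) : ℂ)) (hcos q.1.2)
    rw [show (η₀ q * fun x => ((lift q.1.2 x : ℂˣ) : ℂ)) =
      η₀ q * fun x => ((lift q'.1.2 x : ℂˣ) : ℂ) by
      show f q = _; rw [h, ← hη], hgal q _ (hcos q'.1.2)] at h2
    refine Subtype.ext (Prod.ext hθ (MonoidHom.ext fun s => ?_))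
    have hs := congr_fun h2 ⟨s, Subgroup.mem_sup_right s.2⟩
    simp only [hlift q.1.2 ⟨(s : G), Subgroup.mem_sup_right s.2⟩ 1 s (by simp),
      hlift q'.1.2 ⟨(s : G), Subgroup.mem_sup_right s.2⟩ 1 s (by simp)] at hs
    exact (Units.ext hs).symm
  refine ⟨fun q => ⟨f q, hfirr q⟩, fun q q' h => hparam q q' (congrArg Subtype.val h),
    fun η => ⟨fun hd => ?_, ?_⟩, hfres, fun q c s x hc hs hx => ?_, fun q r hrK hrS => ?_⟩
  · have hθ := irr_restrict_of_prime_degree K' hidx η.2 hd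
    have hθK : Cfsg.IsIrrCharacter K (fun k : K => (η : ↥(K ⊔ S) → ℂ) (e.symm k)) :=
      CfsgLib.Char.isIrrCharacter_comp_surjective hθ e.symm.toMonoidHom e.symm.surjective
    let θ : Cfsg.IrrCharacter K := ⟨_, hθK⟩
    have hθi : ∀ s ∈ S, InvBy K s (θ : K → ℂ) := by
      intro s hs k k' hk
      show (η : ↥(K ⊔ S) → ℂ) (e.symm k') = (η : ↥(K ⊔ S) → ℂ) (e.symm k)
      rw [show ((e.symm k' : K') : ↥(K ⊔ S)) =
        ⟨s, Subgroup.mem_sup_right hs⟩ * (e.symm k : K') * ⟨s, Subgroup.mem_sup_right hs⟩⁻¹ from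
        Subtype.ext hk]
      exact CfsgLib.Char.irr_isClassFunction η.2 _ _
    let q₀ : Param K S := ⟨(θ, 1), hθi⟩
    have hq : (fun m : K' => (η : ↥(K ⊔ S) → ℂ) m) = fun m : K' => η₀ q₀ m := by
      rw [hres]
      funext m
      show _ = (η : ↥(K ⊔ S) → ℂ) (e.symm (e m))
      rw [e.symm_apply_apply]
    obtain ⟨hγ, hγe⟩ := gallagher_factor K' η.2 (CfsgLib.Char.irr_isCharacter (hη₀ q₀).1)
      (hresirr q₀) (by rw [hq, CfsgLib.Char.irr_classInner_self (hresirr q₀)]; exact one_ne_zero)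
    obtain ⟨φ, hφ⟩ := exists_hom_of_linear (CfsgLib.Char.irr_isCharacter hγ) (by
      rw [gallagherQuot_apply_one, hq, CfsgLib.Char.irr_classInner_self (hresirr q₀)])
    let q : Param K S := ⟨(θ, φ.comp (Subgroup.inclusion le_sup_right)), hθi⟩
    have hη0 : η₀ q = η₀ q₀ := hη₀u q₀ _ ⟨(hη₀ q).1, fun m => (hη₀ q).2.1 m, (hη₀ q).2.2⟩
    refine ⟨q, Subtype.ext ?_⟩
    show f q = (η : ↥(K ⊔ S) → ℂ)
    rw [hγe]
    funext x
    show η₀ q x * _ = η₀ q₀ x * _
    rw [hη0, ← hφ]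
    obtain ⟨k, hk, s, hs, hx⟩ := mem_sup_norm hSK x.2
    congr 1
    dsimp only
    congr 1
    rw [hlift _ x ⟨k, hk⟩ ⟨s, hs⟩ hx]
    show φ (Subgroup.inclusion le_sup_right ⟨s, hs⟩) = φ x
    rw [show x = ⟨k, Subgroup.mem_sup_left hk⟩ * Subgroup.inclusion le_sup_right ⟨s, hs⟩ from
      Subtype.ext hx, map_mul, show φ ⟨k, Subgroup.mem_sup_left hk⟩ = 1 from Units.ext (by
        rw [hφ]
        exact (cosetAvg_mem K' _ ⟨⟨k, Subgroup.mem_sup_left hk⟩, hk⟩).trans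
          ((gallagherQuot_apply_one K' _ _).trans (by
            rw [hq, CfsgLib.Char.irr_classInner_self (hresirr q₀)]; rfl))), one_mul]
  · rintro ⟨q, rfl⟩; exact hdeg q
  · show η₀ q x * _ = _
    dsimp only
    rw [hlift _ x c s hx, show x = ⟨(s : G), Subgroup.mem_sup_right s.2⟩ *
        ⟨(c : G), Subgroup.mem_sup_left c.2⟩ from Subtype.ext (hx.trans (hc _))]
    obtain ⟨m, hm⟩ := hS s
    rw [canon_central K' hK' (hη₀ q).1 (fun hd => hdeg q ?_) (hη₀ q).2.2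
      (fun g => Subtype.ext (hs g)) ⟨m, Subtype.ext (congrArg Subtype.val hm :)⟩]
    · congr 1
      exact (hη₀ q).2.1 ⟨⟨(c : G), Subgroup.mem_sup_left c.2⟩, c.2⟩
    · have hc : ((Cfsg.charDegree (f q) : ℕ) : ℂ) = (Cfsg.charDegree (η₀ q) : ℂ) := by
        rw [charDegree_cast (CfsgLib.Char.irr_isCharacter (hfirr q)),
          charDegree_cast (CfsgLib.Char.irr_isCharacter (hη₀ q).1)]
        show η₀ q 1 * _ = _
        dsimp only
        rw [map_one, Units.val_one, mul_one]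
      rw [show Cfsg.charDegree (f q) = Cfsg.charDegree (η₀ q) by exact_mod_cast hc]
      exact hd
  · have hrP : r ∈ Subgroup.normalizer ((K ⊔ S : Subgroup G) : Set G) := by
      refine Subgroup.mem_normalizer_fintype fun y hy => ?_
      obtain ⟨k, hk, s, hs, rfl⟩ := mem_sup_norm hSK hy
      rw [show r * (k * s) * r⁻¹ = (r * k * r⁻¹) * (r * s * r⁻¹) by group]
      exact Subgroup.mul_mem_sup ((Subgroup.mem_normalizer_iff.1 hrK k).1 hk)
        ((Subgroup.mem_normalizer_iff.1 hrS s).1 hs)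
    let c := conjAut (K ⊔ S) hrP
    have hci : ∀ q' : Param K S, InvBy K r (q'.1.1 : K → ℂ) → η₀ q' ∘ c = η₀ q' := by
      intro q' hθr
      refine hη₀u q' _ ⟨CfsgLib.Char.isIrrCharacter_comp_surjective (hη₀ q').1 c.toMonoidHom
        c.surjective, fun m => ?_, canon_comp c (hη₀ q').1 (hη₀ q').2.2⟩
      have hm : c (m : ↥(K ⊔ S)) = ((e.symm (conjAut K hrK (e m)) : K') : ↥(K ⊔ S)) :=
        Subtype.ext rfl
      rw [Function.comp_apply, hm, (hη₀ q').2.1, Function.comp_apply, Function.comp_apply,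
        e.apply_symm_apply]
      exact hθr (e m) _ rfl
    constructor
    · intro h
      have hθr : InvBy K r (q.1.1 : K → ℂ) := fun k k' hk => by
        rw [← hfres q k' ⟨k', Subgroup.mem_sup_left k'.2⟩ rfl,
          ← hfres q k ⟨k, Subgroup.mem_sup_left k.2⟩ rfl]
        exact h _ _ hk
      refine ⟨hθr, fun s s' hss => ?_⟩
      have hfc : f q = η₀ q * fun x => ((lift q.1.2 (c x) : ℂˣ) : ℂ) := funext fun x => by
        refine (h x (c x) rfl).symm.trans ?_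
        show η₀ q (c x) * _ = _
        rw [show η₀ q (c x) = η₀ q x from congr_fun (hci q hθr) x]
        rfl
      have h2 := hgal q (fun x => ((lift q.1.2 (c x) : ℂˣ) : ℂ)) fun m x => by
        have hcm : c ((m : ↥(K ⊔ S)) * x) =
            ((e.symm (conjAut K hrK (e m)) : K') : ↥(K ⊔ S)) * c x := by
          rw [map_mul]; exact congrArg (· * c x) (Subtype.ext rfl)
        rw [hcm, hcos]
      rw [← hfc] at h2
      have h3 := congr_fun ((hgal q _ (hcos q.1.2)).symm.trans h2) ⟨s, Subgroup.mem_sup_right s.2⟩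
      simp only [hlift q.1.2 ⟨(s : G), Subgroup.mem_sup_right s.2⟩ 1 s (by simp),
        hlift q.1.2 (c ⟨(s : G), Subgroup.mem_sup_right s.2⟩) 1 s'
          (by rw [OneMemClass.coe_one, one_mul, hss]; rfl)] at h3
      exact (Units.ext h3).symm
    · rintro ⟨hθr, hμ⟩ x x' hx
      rw [show x' = c x from Subtype.ext hx]
      show η₀ q (c x) * _ = η₀ q x * _
      rw [show η₀ q (c x) = η₀ q x from congr_fun (hci q hθr) x]
      obtain ⟨k, hk, s, hs, hxe⟩ := mem_sup_norm hSK x.2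
      congr 1
      dsimp only
      congr 1
      rw [hlift _ x ⟨k, hk⟩ ⟨s, hs⟩ hxe, hlift _ (c x)
        ⟨r * k * r⁻¹, (Subgroup.mem_normalizer_iff.1 hrK k).1 hk⟩
        ⟨r * s * r⁻¹, (Subgroup.mem_normalizer_iff.1 hrS s).1 hs⟩ (by
          show r * (x : G) * r⁻¹ = _
          rw [hxe]; group)]
      exact hμ ⟨s, hs⟩ _ rfl

end CfsgLib.BlockB.McKay
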