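import Cfsg.Agent.Lib.BlockB.ClassMul
import Cfsg.Agent.Lib.Char.Monomial

/-!
# The function `d ↦ χ (d * y)` on a subgroup centralizing `y`
-/

namespace CfsgLib.BlockB

open scoped ComplexConjugate
open CfsgLib.Char

universe u

variable {G : Type u} [Group G]

theorem exists_scalar_right {A B : Type u} [Group A] [Group B] [Finite A] [Finite B]
    (ψ : Cfsg.IrrCharacter (A × B)) (y : B) (hy : y ∈ Subgroup.center B) :
    ∃ ω : ℂ, IsIntegral ℤ ω ∧ ∀ a : A,
      (ψ : A × B → ℂ) (a, y) = ω * (ψ : A × B → ℂ) (a, 1) := by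
  obtain ⟨ψ, n, ρ, hρ, rfl⟩ := ψ
  have hcomm : ∀ g : A × B, ρ (1, y) ∘ₗ ρ g = ρ g ∘ₗ ρ (1, y) := fun g => by
    rw [← Module.End.mul_eq_comp, ← Module.End.mul_eq_comp, ← map_mul, ← map_mul]
    congr 1
    exact Prod.ext (by simp) (Subgroup.mem_center_iff.1 hy g.2).symm
  obtain ⟨c, hc⟩ := exists_scalar_of_commute ρ _ hcomm
  have := nontrivial_of_isIrreducible ρ
  obtain ⟨v, hv⟩ := exists_ne (0 : Fin n → ℂ)
  refine ⟨c, ?_, fun a => ?_⟩
  · have h1 : c ^ orderOf ((1, y) : A × B) = 1 := by
      have h2 := congrArg (fun T => T v) (rep_pow_orderOf ρ ((1, y) : A × B))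
      rw [hc, ← Module.End.one_eq_id] at h2
      simp only [smul_pow, one_pow, LinearMap.smul_apply, Module.End.one_apply] at h2
      by_contra hne
      have h3 : (c ^ orderOf ((1, y) : A × B) - 1) • v = 0 := by rw [sub_smul, h2, one_smul, sub_self]
      exact hv ((smul_eq_zero.1 h3).resolve_left (sub_ne_zero.2 hne))
    refine IsIntegral.of_pow (orderOf_pos ((1, y) : A × B)) ?_
    rw [h1]; exact isIntegral_one
  · show ρ.character (a, y) = c * ρ.character (a, 1)
    have e : ((a, y) : A × B) = (a, 1) * (1, y) := by simp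
    unfold Representation.character
    rw [e, map_mul, hc, ← Module.End.one_eq_id, mul_smul_comm, mul_one, map_smul, smul_eq_mul]

/-- The inner products of `d ↦ χ (d * y)` with irreducible characters of `D` are algebraic
integers. -/
theorem isIntegral_classInner_twist [Finite G] {χ : G → ℂ} (hχ : Cfsg.IsCharacter G χ)
    (D : Subgroup G) [Fintype D] {y : G} (hy : ∀ d ∈ D, Commute d y) (μ : Cfsg.IrrCharacter D) :
    IsIntegral ℤ (Cfsg.classInner (fun d : D => χ ((d : G) * y)) (μ : D → ℂ)) := by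
  classical
  let f : D × Subgroup.zpowers y →* G :=
    { toFun := fun q => (q.1 : G) * (q.2 : G)
      map_one' := by simp
      map_mul' := fun a b => by
        have hc : Commute (a.2 : G) (b.1 : G) := by
          obtain ⟨m, hm⟩ := a.2.2
          rw [← hm]
          exact ((hy _ b.1.2).symm.zpow_left m)
        simp only [Prod.fst_mul, Prod.snd_mul, Subgroup.coe_mul]
        exact hc.symm.mul_mul_mul_comm _ _ }
  have hf : Cfsg.IsCharacter (D × Subgroup.zpowers y) (χ ∘ f) := isCharacter_comp hχ f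
  have := Fintype.ofFinite (D × Subgroup.zpowers y)
  have := Fintype.ofFinite (Cfsg.IrrCharacter (D × Subgroup.zpowers y))
  choose m hm using fun ψ : Cfsg.IrrCharacter (D × Subgroup.zpowers y) =>
    classInner_isCharacter_nat hf (irr_isCharacter ψ.2)
  let y' : Subgroup.zpowers y := ⟨y, Subgroup.mem_zpowers y⟩
  have hy' : y' ∈ Subgroup.center (Subgroup.zpowers y) :=
    Subgroup.mem_center_iff.2 fun b => mul_comm' b y'
  choose ω hω hψ using fun ψ : Cfsg.IrrCharacter (D × Subgroup.zpowers y) =>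
    exists_scalar_right ψ y' hy'
  have e : (fun d : D => χ ((d : G) * y)) = ∑ ψ : Cfsg.IrrCharacter (D × Subgroup.zpowers y),
      ((m ψ : ℂ) * ω ψ) • (fun d : D => (ψ : D × Subgroup.zpowers y → ℂ) (d, 1)) := by
    funext d
    have h := classFunction_apply_eq_sum (isCharacter_isClassFunction hf) (d, y')
    simp only [hm, hψ, Function.comp_apply] at h
    rw [Finset.sum_apply]
    refine h.trans (Finset.sum_congr rfl fun ψ _ => ?_)
    simp only [Pi.smul_apply, smul_eq_mul]
    ring
  rw [e, classInner_sum_left]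
  refine IsIntegral.sum _ fun ψ _ => ?_
  rw [classInner_smul_left]
  obtain ⟨k, hk⟩ := classInner_isCharacter_nat
    (isCharacter_comp (irr_isCharacter ψ.2) (MonoidHom.inl D (Subgroup.zpowers y)))
    (irr_isCharacter μ.2)
  have hcast : ∀ i : ℕ, IsIntegral ℤ (i : ℂ) := fun i => by
    simpa using isIntegral_algebraMap (R := ℤ) (A := ℂ) (x := (i : ℤ))
  refine ((hcast _).mul (hω ψ)).mul ?_
  rw [show (fun d : D => (ψ : D × Subgroup.zpowers y → ℂ) (d, 1)) =
    (ψ : D × Subgroup.zpowers y → ℂ) ∘ MonoidHom.inl D (Subgroup.zpowers y) from rfl, hk]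
  exact hcast k

end CfsgLib.BlockB
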