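import Cfsg.Agent.Lib.BlockB.ClassMul
import Cfsg.Agent.Lib.Char.Column
import Cfsg.Agent.Lib.Char.Diag

/-!
# Convolution of an irreducible character with itself, commutator equations
-/

namespace CfsgLib.BlockB

open scoped ComplexConjugate
open CfsgLib.Char Module

universe u

variable {G : Type u} [Group G]

theorem norm_irr_apply_le [Finite G] (χ : Cfsg.IrrCharacter G) (g : G) :
    ‖(χ : G → ℂ) g‖ ≤ ‖(χ : G → ℂ) 1‖ := by
  obtain ⟨χ, n, ρ, hρ, rfl⟩ := χ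
  refine (norm_char_le ρ g).trans_eq ?_
  change _ = ‖ρ.character 1‖
  rw [Representation.char_one, Complex.norm_natCast]

theorem irr_apply_one_conj (χ : Cfsg.IrrCharacter G) :
    conj ((χ : G → ℂ) 1) = (χ : G → ℂ) 1 := by
  rw [← irr_degree_cast χ, Complex.conj_natCast]

variable [Fintype G]

theorem sum_irr_mul_irr_inv (χ : Cfsg.IrrCharacter G) (a : G) :
    ∑ x : G, (χ : G → ℂ) (a * x) * (χ : G → ℂ) x⁻¹ =
      (Nat.card G : ℂ) * (χ : G → ℂ) a / (χ : G → ℂ) 1 := by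
  obtain ⟨χ, n, ρ, hρ, rfl⟩ := χ
  have h := congr_arg (fun f => LinearMap.trace ℂ (Fin n → ℂ) (ρ a * f))
    (classOp_eq_scalar (irr_isClassFunction (isIrrCharacter_of_rep ρ)) ρ)
  rw [irr_classInner_self (isIrrCharacter_of_rep ρ)] at h
  simp only [classOp, Finset.mul_sum, map_sum, mul_smul_comm, map_smul, ← map_mul, smul_eq_mul,
    mul_one] at h
  simp only [Representation.char_one]
  change ∑ x : G, LinearMap.trace ℂ (Fin n → ℂ) (ρ (a * x)) * ρ.character x⁻¹ = _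
  rw [← Equiv.sum_comp (Equiv.inv G)]
  simp only [Equiv.inv_apply, inv_inv]
  rw [Finset.sum_congr rfl (fun x _ => mul_comm _ _), h, ← Module.End.one_eq_id, mul_one,
    Representation.character]
  ring

theorem sum_irr_mul_commutator (χ : Cfsg.IrrCharacter G) (w : G) :
    ∑ p : G × G, (χ : G → ℂ) (w * (p.1 * p.2 * p.1⁻¹ * p.2⁻¹)) =
      (Nat.card G : ℂ) ^ 2 * (χ : G → ℂ) w / (χ : G → ℂ) 1 ^ 2 := by
  rw [Fintype.sum_prod_type]
  simp only
  have h1 : ∀ x : G, ∑ y : G, (χ : G → ℂ) (w * (x * y * x⁻¹ * y⁻¹)) =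
      (Nat.card G : ℂ) / (χ : G → ℂ) 1 * ((χ : G → ℂ) (w * x) * (χ : G → ℂ) x⁻¹) := by
    intro x
    rw [Finset.sum_congr rfl (fun y _ => by
      rw [show w * (x * y * x⁻¹ * y⁻¹) = w * x * (y * x⁻¹ * y⁻¹) by simp [mul_assoc]]),
      sum_irr_mul_conj]
    ring
  simp only [h1, ← Finset.mul_sum, sum_irr_mul_irr_inv]
  ring

/-- The indicator of a single element through the regular character. -/
theorem ite_eq_sum_irr [DecidableEq G] [Fintype (Cfsg.IrrCharacter G)] (w z : G) :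
    (if w = z then (1 : ℂ) else 0) =
      (Nat.card G : ℂ)⁻¹ * ∑ χ : Cfsg.IrrCharacter G, (χ : G → ℂ) 1 * (χ : G → ℂ) (z⁻¹ * w) := by
  rw [sum_irr_mul_degree]
  by_cases h : w = z
  · subst h
    simp
  · simp [h, inv_mul_eq_one, Ne.symm h]

theorem natCard_commutator_eq [DecidableEq G] [Fintype (Cfsg.IrrCharacter G)] (z : G) :
    (Nat.card {xy : G × G // xy.1 * xy.2 * xy.1⁻¹ * xy.2⁻¹ = z} : ℂ) =
      (Nat.card G : ℂ) * ∑ χ : Cfsg.IrrCharacter G, (χ : G → ℂ) z / (χ : G → ℂ) 1 := by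
  have h0 : (Nat.card {xy : G × G // xy.1 * xy.2 * xy.1⁻¹ * xy.2⁻¹ = z} : ℂ) =
      (Nat.card G : ℂ) * ∑ χ : Cfsg.IrrCharacter G, (χ : G → ℂ) z⁻¹ / (χ : G → ℂ) 1 := by
    rw [Nat.card_eq_fintype_card, Fintype.card_subtype, Finset.natCast_card_filter]
    simp only [ite_eq_sum_irr _ z]
    rw [← Finset.mul_sum, Finset.sum_comm, Finset.mul_sum, Finset.mul_sum]
    refine Finset.sum_congr rfl fun χ _ => ?_
    rw [← Finset.mul_sum, sum_irr_mul_commutator]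
    field_simp [irr_apply_one_ne_zero χ.2, natCard_ne_zero]
  have h1 := congr_arg conj h0
  simp only [Complex.conj_natCast, map_mul, map_sum, map_div₀, irr_apply_one_conj] at h1
  rw [h1]
  congr 1
  refine Finset.sum_congr rfl fun χ _ => ?_
  rw [char_inv (irr_isCharacter χ.2), Complex.conj_conj]

theorem natCard_two_commutator_eq [DecidableEq G] [Fintype (Cfsg.IrrCharacter G)] (z : G) :
    (Nat.card {q : (G × G) × G × G //
      (q.1.1 * q.1.2 * q.1.1⁻¹ * q.1.2⁻¹) * (q.2.1 * q.2.2 * q.2.1⁻¹ * q.2.2⁻¹) = z} : ℂ) =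
      (Nat.card G : ℂ) ^ 3 * ∑ χ : Cfsg.IrrCharacter G,
        (χ : G → ℂ) z⁻¹ / (χ : G → ℂ) 1 ^ 3 := by
  rw [Nat.card_eq_fintype_card, Fintype.card_subtype, Finset.natCast_card_filter]
  simp only [ite_eq_sum_irr _ z]
  rw [← Finset.mul_sum, Finset.sum_comm, Finset.mul_sum, Finset.mul_sum]
  refine Finset.sum_congr rfl fun χ _ => ?_
  rw [← Finset.mul_sum, Fintype.sum_prod_type]
  have h1 : ∀ p : G × G, ∑ q : G × G,
      (χ : G → ℂ) (z⁻¹ * ((p.1 * p.2 * p.1⁻¹ * p.2⁻¹) * (q.1 * q.2 * q.1⁻¹ * q.2⁻¹))) =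
      (Nat.card G : ℂ) ^ 2 / (χ : G → ℂ) 1 ^ 2 *
        (χ : G → ℂ) (z⁻¹ * (p.1 * p.2 * p.1⁻¹ * p.2⁻¹)) := by
    intro p
    rw [Finset.sum_congr rfl (fun q _ => by rw [← mul_assoc z⁻¹]), sum_irr_mul_commutator]
    ring
  simp only [h1, ← Finset.mul_sum, sum_irr_mul_commutator]
  field_simp [irr_apply_one_ne_zero χ.2, natCard_ne_zero]

end CfsgLib.BlockB
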