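import Cfsg.Agent.Lib.BlockB.OverTheta
import Cfsg.Agent.Lib.BlockB.ClassMul
import Cfsg.Agent.Lib.BlockA.Glauberman
import Cfsg.Agent.Lib.Clifford.AbelianInertia
import Mathlib.GroupTheory.GroupAction.Quotient

/-!
The Glauberman correspondence for a `p`-group acting on a group with a normal `p`-subgroup of
index prime to `p`: the fixed points are taken modulo that subgroup.
-/

set_option autoImplicit false
set_option linter.unusedSectionVars false
set_option maxHeartbeats 1000000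

namespace CfsgLib.BlockB.RelGlauberman

open CfsgLib.Clifford CfsgLib.BlockB.OverTheta CfsgLib.BlockA
open scoped ComplexConjugate

universe u v w

/-- An irreducible character constant on the fibres of a surjection factors through it. -/
theorem exists_factor {H : Type u} {K : Type v} [Group H] [Group K] [Finite H] (f : H →* K)
    (hf : Function.Surjective f) {χ : H → ℂ} (hχ : Cfsg.IsIrrCharacter H χ)
    (hker : ∀ k t : H, f k = 1 → χ (k * t) = χ t) :
    ∃ ψ : K → ℂ, Cfsg.IsIrrCharacter K ψ ∧ χ = ψ ∘ f := by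
  let e := QuotientGroup.quotientKerEquivOfSurjective f hf
  obtain ⟨ψ, hψ⟩ := (CfsgLib.BlockB.quotIrrEquiv f.ker).surjective
    ⟨⟨χ, hχ⟩, fun k hk => by simpa using hker k 1 (MonoidHom.mem_ker.1 hk)⟩
  have hv : ∀ h : H, χ h = (ψ : H ⧸ f.ker → ℂ) (h : H ⧸ f.ker) := fun h => by
    rw [← CfsgLib.BlockB.quotIrrEquiv_apply, hψ]
  refine ⟨(ψ : H ⧸ f.ker → ℂ) ∘ e.symm,
    CfsgLib.Char.isIrrCharacter_comp_surjective ψ.2 e.symm.toMonoidHom e.symm.surjective,
    funext fun h => ?_⟩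
  rw [hv, Function.comp_apply, Function.comp_apply]
  exact congrArg _ ((e.eq_symm_apply).2 rfl)

section Action

variable {G : Type u} [Group G] {S : Type v} [Group S] [MulDistribMulAction S G]

/-- The action on a stable subgroup. -/
@[instance_reducible]
def subAct (T : Subgroup G) (hT : ∀ (s : S) (t : G), t ∈ T → s • t ∈ T) :
    MulDistribMulAction S T where
  smul s t := ⟨s • (t : G), hT s t t.2⟩
  one_smul t := Subtype.ext (one_smul S (t : G))
  mul_smul a b t := Subtype.ext (mul_smul a b (t : G))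
  smul_mul s a b := Subtype.ext (smul_mul' s (a : G) b)
  smul_one s := Subtype.ext (MulDistribMulAction.smul_one s)

variable (N : Subgroup G) [hN : N.Normal]

/-- The action on the quotient by a stable normal subgroup. -/
@[instance_reducible]
noncomputable def quotAct (hNS : ∀ (s : S) (n : G), n ∈ N → s • n ∈ N) :
    MulDistribMulAction S (G ⧸ N) where
  smul s x := QuotientGroup.map N N (MulDistribMulAction.toMonoidHom G s) (fun n hn => hNS s n hn) x
  one_smul x := by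
    induction x using QuotientGroup.induction_on with
    | _ a => exact congrArg QuotientGroup.mk (one_smul S a)
  mul_smul s t x := by
    induction x using QuotientGroup.induction_on with
    | _ a => exact congrArg QuotientGroup.mk (mul_smul s t a)
  smul_mul s x y := map_mul (QuotientGroup.map N N (MulDistribMulAction.toMonoidHom G s) _) x y
  smul_one s := map_one (QuotientGroup.map N N (MulDistribMulAction.toMonoidHom G s) _)

/-- The fixed points of an action by automorphisms. -/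
def fixSubgroup (S : Type v) [Group S] (H : Type u) [Group H] [MulDistribMulAction S H] :
    Subgroup H where
  carrier := {h | ∀ s : S, s • h = h}
  one_mem' := fun s => MulDistribMulAction.smul_one s
  mul_mem' := fun {a b} ha hb s => by rw [smul_mul', ha s, hb s]
  inv_mem' := fun {a} ha s => by rw [smul_inv', ha s]

theorem mem_fixSubgroup {H : Type u} [Group H] [MulDistribMulAction S H] (h : H) :
    h ∈ fixSubgroup S H ↔ ∀ s : S, s • h = h := Iff.rfl

/-- A function on a subgroup invariant under the action. -/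
def InvOn (S : Type v) [Group S] [MulDistribMulAction S G] (T : Subgroup G) (θ : T → ℂ) : Prop :=
  ∀ (s : S) (t t' : T), (t' : G) = s • (t : G) → θ t' = θ t

variable [Finite G] {p : ℕ} [Fact p.Prime] (hS : IsPGroup p S)
  (hNS : ∀ (s : S) (n : G), n ∈ N → s • n ∈ N) (hidx : ¬ p ∣ N.index)

include hS hNS hidx

/-- A coset stable under the action contains an element fixed modulo `N`. -/
theorem exists_fix_mul (T : Subgroup G) (hNT : N ≤ T) (hT : ∀ (s : S) (t : G), t ∈ T → s • t ∈ T)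
    {g : G} (hg : ∀ s : S, g⁻¹ * (s • g) ∈ T) :
    ∃ t ∈ T, ∀ s : S, (s • (g * t)) * (g * t)⁻¹ ∈ N := by
  letI := quotAct (S := S) N hNS
  have hmk : ∀ (s : S) (a : G), (s • (a : G ⧸ N)) = ((s • a : G) : G ⧸ N) := fun s a => rfl
  set Tb : Subgroup (G ⧸ N) := T.map (QuotientGroup.mk' N) with hTb
  have hTbS : ∀ (s : S) (x : G ⧸ N), x ∈ Tb → s • x ∈ Tb := by
    rintro s _ ⟨a, ha, rfl⟩
    exact ⟨s • a, hT s a ha, rfl⟩
  let X := {x : G ⧸ N // (g : G ⧸ N)⁻¹ * x ∈ Tb}
  letI : MulAction S X :=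
    { smul := fun s x => ⟨s • x.1, by
        have h1 : (g : G ⧸ N)⁻¹ * (s • (g : G ⧸ N)) ∈ Tb := by
          rw [hmk]
          exact ⟨g⁻¹ * (s • g), hg s, by simp⟩
        have h2 := Tb.mul_mem h1 (hTbS s _ x.2)
        rw [smul_mul', smul_inv', mul_assoc, mul_inv_cancel_left] at h2
        exact h2⟩
      one_smul := fun x => Subtype.ext (one_smul S x.1)
      mul_smul := fun a b x => Subtype.ext (mul_smul a b x.1) }
  have hcard : Nat.card X = Nat.card Tb := Nat.card_congr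
    { toFun := fun x => ⟨_, x.2⟩
      invFun := fun t => ⟨(g : G ⧸ N) * t.1, by rw [inv_mul_cancel_left]; exact t.2⟩
      left_inv := fun x => Subtype.ext (mul_inv_cancel_left _ _)
      right_inv := fun t => Subtype.ext (inv_mul_cancel_left _ _) }
  obtain ⟨x, hx⟩ := hS.nonempty_fixed_point_of_prime_not_dvd_card X (by
    rw [hcard]
    exact fun h => hidx (h.trans (Subgroup.card_subgroup_dvd_card Tb)))
  obtain ⟨t, ht, hte⟩ := x.2
  have hxv : x.1 = ((g * t : G) : G ⧸ N) := by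
    rw [QuotientGroup.mk_mul, show (t : G ⧸ N) = (g : G ⧸ N)⁻¹ * x.1 from hte, mul_inv_cancel_left]
  refine ⟨t, ht, fun s => ?_⟩
  have h1 : s • x.1 = x.1 := congrArg Subtype.val (hx s)
  rw [hxv, hmk] at h1
  rw [← div_eq_mul_inv]
  exact QuotientGroup.eq_iff_div_mem.1 h1

variable [Fintype N]

/-- An invariant irreducible character has an invariant constituent on `N`. -/
theorem exists_fixed_constituent {χ : G → ℂ} (hχ : Cfsg.IsIrrCharacter G χ)
    (hinv : ∀ (s : S) (g : G), χ (s • g) = χ g) :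
    ∃ θ : N → ℂ, Cfsg.IsIrrCharacter N θ ∧ InvOn S N θ ∧
      Cfsg.classInner (fun n : N => χ n) θ ≠ 0 := by
  classical
  have := Fintype.ofFinite G
  letI := subAct (S := S) N hNS
  obtain ⟨θ₀, hθ₀, hne₀⟩ := exists_irr_constituent_restrict (N := N) hχ
  have hsmul : ∀ (s : S) (φ : Cfsg.IrrCharacter N),
      Cfsg.classInner (fun n : N => χ n) ((s • φ : Cfsg.IrrCharacter N) : N → ℂ) =
        Cfsg.classInner (fun n : N => χ n) (φ : N → ℂ) := by
    intro s φ
    rw [CfsgLib.Char.classInner_def, CfsgLib.Char.classInner_def]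
    congr 1
    refine Fintype.sum_equiv (MulAction.toPerm s⁻¹) _ _ fun n => ?_
    simp only [MulAction.toPerm_apply, smul_irr_apply]
    congr 1
    exact (hinv s⁻¹ n).symm
  let X := {φ : Cfsg.IrrCharacter N // Cfsg.classInner (fun n : N => χ n) (φ : N → ℂ) ≠ 0}
  letI : MulAction S X :=
    { smul := fun s φ => ⟨s • φ.1, by rw [hsmul]; exact φ.2⟩
      one_smul := fun φ => Subtype.ext (one_smul S φ.1)
      mul_smul := fun a b φ => Subtype.ext (mul_smul a b φ.1) }
  set I := inertia (G := G) θ₀ with hI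
  have hconstit : ∀ g : G, Cfsg.classInner (fun n : N => χ n) (conjFn g θ₀) ≠ 0 := by
    intro g
    conv => arg 1; rw [show (fun n : N => χ n) = conjFn g (fun n : N => χ n) from
      (isCharacter_restrict_conj (CfsgLib.Char.irr_isClassFunction hχ) g).symm]
    rw [show Cfsg.classInner (conjFn g fun n : N => χ n) (conjFn g θ₀) =
      Cfsg.classInner (fun n : N => χ n) θ₀ from ?_]
    · exact hne₀
    rw [CfsgLib.Char.classInner_def, CfsgLib.Char.classInner_def]
    congr 1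
    exact Fintype.sum_equiv
      ⟨conjN g, conjN g⁻¹, fun n => by rw [← conjN_mul, inv_mul_cancel, conjN_one],
        fun n => by rw [← conjN_mul, mul_inv_cancel, conjN_one]⟩ _ _ fun n => rfl
  let F : G ⧸ I → X := Quotient.lift
    (fun g : G => (⟨⟨conjFn g⁻¹ θ₀, isIrrCharacter_conjFn hθ₀ g⁻¹⟩, hconstit g⁻¹⟩ : X)) (by
      intro a b hab
      have hab' : a⁻¹ * b ∈ I := QuotientGroup.leftRel_apply.1 hab
      refine Subtype.ext (Subtype.ext ?_)
      show conjFn a⁻¹ θ₀ = conjFn b⁻¹ θ₀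
      conv_rhs => rw [show b⁻¹ = (a⁻¹ * b)⁻¹ * a⁻¹ by group, ← conjFn_conjFn,
        mem_inertia_iff_conjFn.1 (I.inv_mem hab')])
  have hF : Function.Bijective F := by
    constructor
    · intro x y hxy
      induction x using Quotient.inductionOn with
      | _ a =>
        induction y using Quotient.inductionOn with
        | _ b =>
          have h : conjFn a⁻¹ θ₀ = conjFn b⁻¹ θ₀ :=
            congrArg (fun φ : X => ((φ.1 : Cfsg.IrrCharacter N) : N → ℂ)) hxy
          refine Quotient.sound (QuotientGroup.leftRel_apply.2 (mem_inertia_iff_conjFn.2 ?_))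
          have h2 := congrArg (conjFn b) h
          rw [conjFn_conjFn, conjFn_conjFn, inv_mul_cancel, conjFn_one] at h2
          exact h2
    · rintro ⟨⟨φ, hφ⟩, hne⟩
      obtain ⟨g, hg⟩ := exists_conj_of_constituents hχ hθ₀ hφ hne₀ hne
      exact ⟨Quotient.mk _ g⁻¹, Subtype.ext (Subtype.ext (by
        show conjFn g⁻¹⁻¹ θ₀ = φ
        rw [inv_inv, hg]))⟩
  obtain ⟨φ, hφ⟩ := hS.nonempty_fixed_point_of_prime_not_dvd_card X (by
    rw [← Nat.card_congr (Equiv.ofBijective F hF)]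
    exact fun h => hidx (h.trans (Subgroup.index_dvd_of_le
      (le_inertia (CfsgLib.Char.irr_isClassFunction hθ₀)))))
  refine ⟨(φ.1 : N → ℂ), φ.1.2, fun s t t' ht => ?_, φ.2⟩
  have h1 := (isInv_iff_fixed (S := S) φ.1).2 (fun s => congrArg Subtype.val (hφ s)) s t
  rwa [show t' = s • t from Subtype.ext ht]

/-- Two invariant constituents are conjugate by an element fixed modulo `N`. -/
theorem exists_conj_fixed {χ : G → ℂ} (hχ : Cfsg.IsIrrCharacter G χ) {θ θ' : N → ℂ}
    (hθ : Cfsg.IsIrrCharacter N θ) (hθ' : Cfsg.IsIrrCharacter N θ') (hi : InvOn S N θ)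
    (hi' : InvOn S N θ') (h : Cfsg.classInner (fun n : N => χ n) θ ≠ 0)
    (h' : Cfsg.classInner (fun n : N => χ n) θ' ≠ 0) :
    ∃ c : G, (∀ s : S, (s • c) * c⁻¹ ∈ N) ∧ conjFn c θ = θ' := by
  have := Fintype.ofFinite G
  obtain ⟨g, hg⟩ := exists_conj_of_constituents hχ hθ hθ' h h'
  have hT : ∀ (s : S) (t : G), t ∈ inertia θ → s • t ∈ inertia θ := by
    intro s t ht n
    have hn : ∀ m : N, s⁻¹ • (m : G) ∈ N := fun m => hNS s⁻¹ m m.2
    have e1 : θ (conjN (s • t) n) = θ ⟨_, hn (conjN (s • t) n)⟩ :=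
      hi s ⟨_, hn (conjN (s • t) n)⟩ (conjN (s • t) n) (smul_inv_smul s _).symm
    have e2 : θ n = θ ⟨_, hn n⟩ := hi s ⟨_, hn n⟩ n (smul_inv_smul s _).symm
    rw [e1, e2]
    convert ht ⟨_, hn n⟩ using 2
    refine Subtype.ext ?_
    simp only [coe_conjN, smul_mul', smul_inv', inv_smul_smul]
  obtain ⟨t, ht, hfix⟩ := exists_fix_mul N hS hNS hidx (inertia θ)
    (le_inertia (CfsgLib.Char.irr_isClassFunction hθ)) hT (g := g⁻¹) fun s => by
      rw [inv_inv, smul_inv', mem_inertia_iff_conjFn]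
      have h1 : conjFn (s • g) θ = θ' := by
        funext n
        have hn : s⁻¹ • (n : G) ∈ N := hNS s⁻¹ n n.2
        rw [← hg, conjFn_apply]
        have e1 : θ (conjN (s • g) n) = θ (conjN g ⟨_, hn⟩) :=
          hi s (conjN g ⟨_, hn⟩) (conjN (s • g) n) (by
            simp only [coe_conjN, smul_mul', smul_inv', smul_inv_smul])
        rw [e1, ← conjFn_apply g θ ⟨_, hn⟩, hg]
        exact (hi' s ⟨_, hn⟩ n (smul_inv_smul s (n : G)).symm).symm
      rw [← conjFn_conjFn, hg, ← h1, conjFn_conjFn, mul_inv_cancel, conjFn_one]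
  refine ⟨(g⁻¹ * t)⁻¹, fun s => ?_, ?_⟩
  · rw [smul_inv', inv_inv]
    have h1 := hfix s
    have h2 := hN.conj_mem _ (N.inv_mem h1) (g⁻¹ * t)⁻¹
    rw [inv_inv] at h2
    convert h2 using 1
    group
  · rw [mul_inv_rev, inv_inv, ← conjFn_conjFn,
      mem_inertia_iff_conjFn.1 ((inertia θ).inv_mem ht), hg]

/-- An invariant character extends invariantly to its inertia group. -/
theorem exists_invariant_extension (hNp : IsPGroup p N) {θ : N → ℂ}
    (hθ : Cfsg.IsIrrCharacter N θ) (T : Subgroup G) [Fintype T] [Fintype G]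
    (hT : ∀ g, g ∈ T ↔ conjFn g θ = θ) (hTS : ∀ (s : S) (t : G), t ∈ T → s • t ∈ T)
    (hi : InvOn S N θ) :
    ∃ Θ : T → ℂ, Data T θ Θ ∧ InvOn S T Θ := by
  classical
  have hNT : N ≤ T := fun n hn => (hT n).2
    (mem_inertia_iff_conjFn.1 (le_inertia (CfsgLib.Char.irr_isClassFunction hθ) hn))
  set N' := N.subgroupOf T with hN'
  have := Fintype.ofFinite N'
  let e₀ : N' ≃* N := Subgroup.subgroupOfEquivOfLe hNT
  let θ' : N' → ℂ := θ ∘ e₀
  have hθ' : Cfsg.IsIrrCharacter N' θ' :=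
    CfsgLib.Char.isIrrCharacter_comp_surjective hθ e₀.toMonoidHom e₀.surjective
  have hinv : ∀ t : T, conjFn t θ' = θ' := fun t =>
    funext fun m => subgroupOf_conjFn_eq T hT t m
  have hidx' : ¬ p ∣ N'.index := fun h => hidx (h.trans (Subgroup.relIndex_dvd_index_of_normal N T))
  obtain ⟨a, ha⟩ := hNp.exists_card_eq
  have hcop : Nat.Coprime N'.index (Nat.card N') := by
    rw [Nat.card_congr e₀.toEquiv, ha]
    exact ((Fact.out : p.Prime).coprime_iff_not_dvd.2 hidx').symm.pow_right a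
  obtain ⟨k, ρ, hρ, hρc⟩ := id hθ'
  have hci : ∀ (t : T) (m : N'), ρ.character (conjN t m) = ρ.character m := fun t m => by
    rw [hρc]; exact congr_fun (hinv t) m
  let lam : N' →* ℂˣ := (Units.map LinearMap.det).comp (repUnits ρ)
  have hlinv : ∀ (t : T) (m : N'), lam (conjN t m) = lam m := by
    intro t m
    obtain ⟨b, rfl⟩ := proj_surjective ρ hci t
    have h := congr_arg (Units.map LinearMap.det) (opUnits_mul_rep ρ b m)
    rw [map_mul, map_mul, mul_comm] at h
    exact (mul_right_cancel h).symm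
  obtain ⟨μ, hμ, -, -⟩ := exists_linear_extension lam hlinv
    (hcop.coprime_dvd_right (Clifford.orderOf_dvd_natCard lam))
  have hk : k ∣ Nat.card N' := by simpa using CfsgLib.Char.degree_dvd_card ρ
  obtain ⟨Θ₀, hΘ₀, hres⟩ := exists_irr_extension_of_det ρ hci μ
    (fun m => by rw [hμ]; rfl) (hcop.coprime_dvd_right hk)
  have hD₀ : Data T θ Θ₀ := ⟨hθ, hT, hNT, CfsgLib.Char.irr_isCharacter hΘ₀, fun n t ht => by
    have hm : t ∈ N' := Subgroup.mem_subgroupOf.2 (ht ▸ n.2)
    have h1 : Θ₀ t = θ' ⟨t, hm⟩ := (hres ⟨t, hm⟩).trans (congr_fun hρc ⟨t, hm⟩)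
    rw [h1]
    exact congrArg θ (Subtype.ext ht)⟩
  -- the extensions form a torsor under the linear characters of the quotient
  let E := {Θ : Cfsg.IrrCharacter T // ∀ (n : N) (t : T), (t : G) = n → (Θ : T → ℂ) t = θ n}
  let L : (T ⧸ N' →* ℂˣ) → (T → ℂ) := fun μ t => (μ (t : T ⧸ N') : ℂ)
  have hLq : ∀ μ, IsQuot N (L μ) := fun μ n t hn => by
    show (μ ((n * t : T) : T ⧸ N') : ℂ) = (μ (t : T ⧸ N') : ℂ)
    rw [QuotientGroup.mk_mul, (QuotientGroup.eq_one_iff n).2 (Subgroup.mem_subgroupOf.2 hn),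
      one_mul]
  have hLi : ∀ μ, Cfsg.IsIrrCharacter T (L μ) := fun μ =>
    CfsgLib.Char.isIrrCharacter_linear (μ.comp (QuotientGroup.mk' N'))
  let Φ : (T ⧸ N' →* ℂˣ) → E := fun μ => ⟨⟨Θ₀ * L μ, isIrr_mul hD₀ (hLi μ) (hLq μ)⟩, fun n t ht => by
    show Θ₀ t * L μ t = θ n
    have h1 : L μ t = 1 := by
      show (μ (t : T ⧸ N') : ℂ) = 1
      rw [(QuotientGroup.eq_one_iff t).2 (Subgroup.mem_subgroupOf.2 (ht ▸ n.2)), map_one,
        Units.val_one]
    rw [hD₀.ext n t ht, h1, mul_one]⟩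
  have hΦ : Function.Bijective Φ := by
    constructor
    · intro μ ν h
      have h1 : Θ₀ * L μ = Θ₀ * L ν := congrArg (fun x : E => ((x.1 : Cfsg.IrrCharacter T) : T → ℂ)) h
      have h2 : L μ = L ν := (CfsgLib.Char.irr_classInner_eq_one_iff (hLi μ) (hLi ν)).1 (by
        rw [← inner_mul_mul hD₀ (hLq μ) (hLq ν), h1]
        exact CfsgLib.Char.irr_classInner_self (isIrr_mul hD₀ (hLi ν) (hLq ν)))
      refine MonoidHom.ext fun x => ?_
      induction x using QuotientGroup.induction_on with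
      | _ t => exact Units.ext (congr_fun h2 t)
    · rintro ⟨Θ, hΘ⟩
      have hne : Cfsg.classInner (fun m : N' => (Θ : T → ℂ) (m : T))
          (fun m : N' => Θ₀ (m : T)) ≠ 0 := by
        rw [show (fun m : N' => (Θ : T → ℂ) (m : T)) = fun m : N' => Θ₀ (m : T) from
          funext fun m => by rw [hΘ (e₀ m) (m : T) rfl, hD₀.ext (e₀ m) (m : T) rfl],
          CfsgLib.Char.irr_classInner_self (ext_irr hD₀)]
        exact one_ne_zero
      obtain ⟨hirr, heq⟩ := gallagher_factor N' Θ.2 hD₀.char (ext_irr hD₀) hne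
      set β := gallagherQuot N' (Θ : T → ℂ) Θ₀
      have h1 : β 1 = 1 := by
        have h2 := congr_fun heq 1
        rw [Pi.mul_apply, hΘ 1 1 rfl, hD₀.ext 1 1 rfl] at h2
        exact (mul_right_eq_self₀.1 h2.symm).resolve_right
          (CfsgLib.Char.irr_apply_one_ne_zero hθ)
      obtain ⟨f, hf⟩ := exists_hom_of_linear (CfsgLib.Char.irr_isCharacter hirr) h1
      have hker : N' ≤ f.ker := fun m hm => Units.ext (by
        rw [hf, Units.val_one, ← h1]
        show β m = β 1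
        simpa [β, gallagherQuot] using cosetAvg_mul_left N' _ ⟨m, hm⟩ 1)
      refine ⟨QuotientGroup.lift N' f hker, Subtype.ext (Subtype.ext ?_)⟩
      show Θ₀ * L _ = (Θ : T → ℂ)
      rw [heq]
      funext t
      simp [L, hf]
  letI := subAct (S := S) T hTS
  letI : MulAction S E :=
    { smul := fun s Θ => ⟨s • Θ.1, fun n t ht => by
        have hn : s⁻¹ • (n : G) ∈ N := hNS s⁻¹ n n.2
        rw [smul_irr_apply, Θ.2 ⟨_, hn⟩ (s⁻¹ • t) (show s⁻¹ • (t : G) = s⁻¹ • (n : G) by rw [ht])]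
        exact (hi s ⟨_, hn⟩ n (smul_inv_smul s (n : G)).symm).symm⟩
      one_smul := fun Θ => Subtype.ext (one_smul S Θ.1)
      mul_smul := fun a b Θ => Subtype.ext (mul_smul a b Θ.1) }
  obtain ⟨Θ, hΘ⟩ := hS.nonempty_fixed_point_of_prime_not_dvd_card E (by
    rw [← Nat.card_congr (Equiv.ofBijective Φ hΦ)]
    intro h
    refine hidx' (h.trans ?_)
    rw [Nat.card_congr (Abelianization.lift (G := T ⧸ N') (A := ℂˣ))]
    have : Finite (Abelianization (T ⧸ N')) := Quotient.finite _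
    obtain ⟨e⟩ := CommGroup.monoidHom_mulEquiv_of_hasEnoughRootsOfUnity
      (Abelianization (T ⧸ N')) ℂ
    rw [Nat.card_congr e.toEquiv]
    exact Subgroup.card_quotient_dvd_card _)
  refine ⟨(Θ.1 : T → ℂ), ⟨hθ, hT, hNT, CfsgLib.Char.irr_isCharacter Θ.1.2, Θ.2⟩,
    fun s t t' ht => ?_⟩
  have h1 := (isInv_iff_fixed (S := S) Θ.1).2 (fun s => congrArg Subtype.val (hΘ s)) s t
  rwa [show t' = s • t from Subtype.ext ht]

end Action

section Main

variable {G : Type u} [Group G] [Fintype G] {S : Type v} [Group S] [MulDistribMulAction S G]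
  (N : Subgroup G) [hN : N.Normal] (C : Subgroup G) [Fintype C]

/-- Inducing commutes with the action. -/
theorem indFun_smul (T : Subgroup G) (hT : ∀ (s : S) (t : G), t ∈ T → s • t ∈ T) (f : T → ℂ)
    (s : S) (g : G) :
    Cfsg.indFun T f (s • g) = Cfsg.indFun T (fun t : T => f ⟨s • (t : G), hT s t t.2⟩) g := by
  simp only [CfsgLib.Char.indFun_def]
  congr 1
  refine (Fintype.sum_equiv (MulAction.toPerm s) _ _ fun x => ?_).symm
  simp only [MulAction.toPerm_apply]
  rw [← smul_inv', ← smul_mul', ← smul_mul']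
  by_cases h : x⁻¹ * g * x ∈ T
  · rw [CfsgLib.Char.extendByZero_of_mem f (hT s _ h), CfsgLib.Char.extendByZero_of_mem _ h]
  · rw [CfsgLib.Char.extendByZero_of_not_mem _ h, CfsgLib.Char.extendByZero_of_not_mem f]
    intro h2
    exact h (by simpa using hT s⁻¹ _ h2)

variable {p : ℕ} [Fact p.Prime] (hS : IsPGroup p S)
  (hNS : ∀ (s : S) (n : G), n ∈ N → s • n ∈ N) (hidx : ¬ p ∣ N.index) (hNp : IsPGroup p N)
  (hC : ∀ g : G, g ∈ C ↔ ∀ s : S, (s • g) * g⁻¹ ∈ N)

include hS hNS hidx hNp hC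

theorem le_fix : N ≤ C := fun n hn => (hC n).2 fun s => N.mul_mem (hNS s n hn) (N.inv_mem hn)

theorem fix_stable (s : S) (g : G) (hg : g ∈ C) : s • g ∈ C := by
  refine (hC _).2 fun r => ?_
  have h := (hC g).1 hg
  have e : (r • (s • g)) * (s • g)⁻¹ = ((r * s) • g * g⁻¹) * ((s • g) * g⁻¹)⁻¹ := by
    rw [mul_smul]; group
  rw [e]
  exact N.mul_mem (h _) (N.inv_mem (h s))

/-- The correspondence over one invariant character of `N`. -/
theorem local_corr [Fintype N] [Fintype (N.subgroupOf C)] {θ : N → ℂ}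
    (hθ : Cfsg.IsIrrCharacter N θ) (hi : InvOn S N θ) :
    ∃ θC : N.subgroupOf C → ℂ, Cfsg.IsIrrCharacter (N.subgroupOf C) θC ∧
      (∀ (m : N.subgroupOf C) (n : N), ((m : C) : G) = n → θC m = θ n) ∧
    (∀ χ : G → ℂ, Cfsg.IsIrrCharacter G χ → (∀ (s : S) (g : G), χ (s • g) = χ g) →
      Cfsg.classInner (fun n : N => χ n) θ ≠ 0 →
      ∃ ξ : C → ℂ, Cfsg.IsIrrCharacter C ξ ∧
        (∀ (s : S) (c c' : C), (c' : G) = s • (c : G) → ξ c' = ξ c) ∧
        ∃ m : ℕ, Cfsg.classInner (fun c : C => χ c) ξ = m ∧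
          ((m : ZMod p) = 1 ∨ (m : ZMod p) = -1) ∧
          ((Cfsg.charDegree ξ : ZMod p) = (Cfsg.charDegree χ : ZMod p) ∨
            (Cfsg.charDegree ξ : ZMod p) = -(Cfsg.charDegree χ : ZMod p)) ∧
          ∀ ξ' : C → ℂ, Cfsg.IsIrrCharacter C ξ' →
            Cfsg.classInner (fun c : N.subgroupOf C => ξ' (c : C)) θC ≠ 0 →
            ∀ m' : ℕ, Cfsg.classInner (fun c : C => χ c) ξ' = m' → ¬ p ∣ m' → ξ' = ξ) ∧
    (∀ χ χ' : G → ℂ, Cfsg.IsIrrCharacter G χ → Cfsg.IsIrrCharacter G χ' →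
      (∀ (s : S) (g : G), χ (s • g) = χ g) → (∀ (s : S) (g : G), χ' (s • g) = χ' g) →
      Cfsg.classInner (fun n : N => χ n) θ ≠ 0 → Cfsg.classInner (fun n : N => χ' n) θ ≠ 0 →
      ∀ ξ : C → ℂ, Cfsg.IsIrrCharacter C ξ →
        Cfsg.classInner (fun c : N.subgroupOf C => ξ (c : C)) θC ≠ 0 →
        ∀ m m' : ℕ, Cfsg.classInner (fun c : C => χ c) ξ = m → ¬ p ∣ m →
          Cfsg.classInner (fun c : C => χ' c) ξ = m' → ¬ p ∣ m' → χ = χ') ∧
    (∀ ξ : C → ℂ, Cfsg.IsIrrCharacter C ξ →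
      Cfsg.classInner (fun c : N.subgroupOf C => ξ (c : C)) θC ≠ 0 →
      ∃ χ : G → ℂ, Cfsg.IsIrrCharacter G χ ∧ (∀ (s : S) (g : G), χ (s • g) = χ g) ∧
        ∃ m : ℕ, Cfsg.classInner (fun c : C => χ c) ξ = m ∧ ¬ p ∣ m) := by
  classical
  have hp := (Fact.out : p.Prime)
  have hNC := le_fix N C hS hNS hidx hNp hC
  -- the inertia group and the extension
  set T := inertia (G := G) θ with hTdef
  have := Fintype.ofFinite T
  have hT : ∀ g, g ∈ T ↔ conjFn g θ = θ := fun g => mem_inertia_iff_conjFn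
  have hTS : ∀ (s : S) (t : G), t ∈ T → s • t ∈ T := by
    intro s t ht n
    have hn : ∀ m : N, s⁻¹ • (m : G) ∈ N := fun m => hNS s⁻¹ m m.2
    have e1 : θ (conjN (s • t) n) = θ ⟨_, hn (conjN (s • t) n)⟩ :=
      hi s ⟨_, hn (conjN (s • t) n)⟩ (conjN (s • t) n) (smul_inv_smul s _).symm
    have e2 : θ n = θ ⟨_, hn n⟩ := hi s ⟨_, hn n⟩ n (smul_inv_smul s _).symm
    rw [e1, e2]
    convert ht ⟨_, hn n⟩ using 2
    refine Subtype.ext ?_
    simp only [coe_conjN, smul_mul', smul_inv', inv_smul_smul]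
  obtain ⟨Θ, D, hΘi⟩ := exists_invariant_extension N hS hNS hidx hNp hθ T hT hTS hi
  -- the subgroup of `C`
  set J := T.subgroupOf C with hJdef
  have := Fintype.ofFinite J
  let jT : J →* T :=
    { toFun := fun j => ⟨((j : C) : G), j.2⟩
      map_one' := rfl
      map_mul' := fun _ _ => rfl }
  let eN : N.subgroupOf C ≃* N := Subgroup.subgroupOfEquivOfLe hNC
  let θC : N.subgroupOf C → ℂ := θ ∘ eN
  have hθC : Cfsg.IsIrrCharacter (N.subgroupOf C) θC :=
    CfsgLib.Char.isIrrCharacter_comp_surjective hθ eN.toMonoidHom eN.surjective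
  let ΘC : J → ℂ := Θ ∘ jT
  have DC : Data (N := N.subgroupOf C) J θC ΘC :=
    { irr := hθC
      inertia := fun c => by
        rw [hJdef, Subgroup.mem_subgroupOf, hT]
        constructor
        · intro h
          funext m
          have h1 := congr_fun h (eN m)
          show θ (eN (conjN c m)) = θ (eN m)
          rw [← h1, conjFn_apply]
          exact congrArg θ (Subtype.ext rfl)
        · intro h
          funext n
          have h1 := congr_fun h (eN.symm n)
          rw [conjFn_apply] at h1 ⊢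
          simp only [θC, Function.comp_apply, MulEquiv.apply_symm_apply] at h1
          rw [← h1]
          exact congrArg θ (Subtype.ext rfl)
      le := fun c hc => D.le hc
      char := CfsgLib.Char.isCharacter_comp D.char jT
      ext := fun m j hj => D.ext (eN m) (jT j) (congrArg Subtype.val hj) }
  -- the quotient and its fixed points
  set N' := N.subgroupOf T with hN'
  letI := subAct (S := S) T hTS
  letI := quotAct (S := S) N' fun s n hn => Subgroup.mem_subgroupOf.2 (hNS s _ hn)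
  set Fx := fixSubgroup S (T ⧸ N') with hFxdef
  have := Fintype.ofFinite Fx
  have := Fintype.ofFinite (T ⧸ N')
  have hfix : ∀ t : T, (t : T ⧸ N') ∈ Fx ↔ (t : G) ∈ C := by
    intro t
    rw [hFxdef, mem_fixSubgroup, hC]
    refine forall_congr' fun s => ?_
    show (((s • t : T)) : T ⧸ N') = (t : T ⧸ N') ↔ _
    rw [QuotientGroup.eq_iff_div_mem, hN', Subgroup.mem_subgroupOf, div_eq_mul_inv]
    exact Iff.rfl
  let π : J →* Fx := ((QuotientGroup.mk' N').comp jT).codRestrict Fx fun j =>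
    (hfix (jT j)).2 (j : C).2
  have hπ : Function.Surjective π := by
    rintro ⟨x, hx⟩
    obtain ⟨t, rfl⟩ := QuotientGroup.mk'_surjective N' x
    exact ⟨⟨⟨(t : G), (hfix t).1 hx⟩, t.2⟩, rfl⟩
  have hqπ : ∀ β : Fx → ℂ, IsQuot (N.subgroupOf C) (β ∘ π) := fun β n t hn => by
    show β (π (n * t)) = β (π t)
    have h1 : π n = 1 := Subtype.ext ((QuotientGroup.eq_one_iff (jT n)).2
      (Subgroup.mem_subgroupOf.2 (Subgroup.mem_subgroupOf.1 hn)))
    rw [map_mul, h1, one_mul]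
  have hqT : ∀ γ : T ⧸ N' → ℂ, IsQuot N (γ ∘ QuotientGroup.mk' N') := fun γ n t hn => by
    show γ ((n * t : T) : T ⧸ N') = γ (t : T ⧸ N')
    rw [QuotientGroup.mk_mul, (QuotientGroup.eq_one_iff n).2 (Subgroup.mem_subgroupOf.2 hn), one_mul]
  have hiπ : ∀ {β : Fx → ℂ}, Cfsg.IsIrrCharacter Fx β → Cfsg.IsIrrCharacter J (β ∘ π) :=
    fun hβ => CfsgLib.Char.isIrrCharacter_comp_surjective hβ π hπ
  have hiT : ∀ {γ : T ⧸ N' → ℂ}, Cfsg.IsIrrCharacter (T ⧸ N') γ →
      Cfsg.IsIrrCharacter T (γ ∘ QuotientGroup.mk' N') := fun hγ =>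
    CfsgLib.Char.isIrrCharacter_comp_surjective hγ _ (QuotientGroup.mk'_surjective N')
  -- invariance of the induced characters
  have hTS' : ∀ (s : S) (t : G), t ∈ T → s • t ∈ T := hTS
  have hχinv : ∀ γ : T ⧸ N' → ℂ, (∀ (s : S) (x : T ⧸ N'), γ (s • x) = γ x) →
      ∀ (s : S) (g : G), Cfsg.indFun T (Θ * γ ∘ QuotientGroup.mk' N') (s • g) =
        Cfsg.indFun T (Θ * γ ∘ QuotientGroup.mk' N') g := by
    intro γ hγ s g
    rw [indFun_smul T hTS']
    congr 1
    funext t
    show Θ (s • t) * γ ((s • t : T) : T ⧸ N') = Θ t * γ (t : T ⧸ N')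
    rw [hΘi s t (s • t) rfl, show ((s • t : T) : T ⧸ N') = s • (t : T ⧸ N') from rfl, hγ]
  have hξinv : ∀ β : Fx → ℂ, ∀ (s : S) (c c' : C), (c' : G) = s • (c : G) →
      Cfsg.indFun J (ΘC * β ∘ π) c' = Cfsg.indFun J (ΘC * β ∘ π) c := by
    intro β s c c' hcc
    have hCS := fix_stable N C hS hNS hidx hNp hC
    letI := subAct (S := S) C hCS
    have hJS : ∀ (s : S) (j : C), j ∈ J → s • j ∈ J := fun s j hj => hTS s _ hj
    rw [show c' = s • c from Subtype.ext hcc, indFun_smul J hJS]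
    congr 1
    funext j
    show Θ (jT ⟨s • (j : C), hJS s j j.2⟩) * β (π ⟨s • (j : C), hJS s j j.2⟩) =
      Θ (jT j) * β (π j)
    rw [hΘi s (jT j) (jT ⟨s • (j : C), hJS s j j.2⟩) rfl]
    congr 2
    exact Subtype.ext ((π j).2 s)
  -- multiplicities
  have hmult : ∀ (γ : T ⧸ N' → ℂ) (β : Fx → ℂ), Cfsg.IsIrrCharacter (T ⧸ N') γ →
      Cfsg.IsIrrCharacter Fx β →
      Cfsg.classInner (fun c : C => Cfsg.indFun T (Θ * γ ∘ QuotientGroup.mk' N') c)
          (Cfsg.indFun J (ΘC * β ∘ π)) =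
        Cfsg.classInner (fun x : Fx => γ x) β := by
    intro γ β hγ hβ
    obtain ⟨R, hR, hRe, hR0⟩ := exists_restrict_eq D (hiT hγ) (hqT γ)
    rw [inner_ind DC (CfsgLib.Char.isCharacter_restrict (CfsgLib.Char.irr_isCharacter
      (isIrr_ind D (hiT hγ) (hqT γ))) C)]
    have he : (fun j : J => Cfsg.indFun T (Θ * γ ∘ QuotientGroup.mk' N') ((j : C) : G)) =
        ΘC * ((fun x : Fx => γ x) ∘ π) + R ∘ jT := funext fun j => congr_fun hRe (jT j)
    rw [he, CfsgLib.Char.classInner_add_left, inner_mul_mul DC (hqπ _) (hqπ β),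
      classInner_comp_surjective π hπ]
    refine add_eq_left.2 ?_
    by_contra hne
    obtain ⟨R', hR', hRe'⟩ := exists_add_of_constituent (CfsgLib.Char.isCharacter_comp hR jT)
      (isIrr_mul DC (hiπ hβ) (hqπ β)) hne
    let eJ : N →* J :=
      { toFun := fun n => ⟨⟨(n : G), hNC n.2⟩, D.le n.2⟩
        map_one' := rfl
        map_mul' := fun _ _ => rfl }
    have h1 : (fun n : N => R ⟨(n : G), D.le n.2⟩) =
        (ΘC * β ∘ π) ∘ eJ + R' ∘ eJ := funext fun n => congr_fun hRe' (eJ n)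
    rw [h1] at hR0
    have h2 := inner_add_eq_zero (CfsgLib.Char.isCharacter_comp (CfsgLib.Char.irr_isCharacter
      (isIrr_mul DC (hiπ hβ) (hqπ β))) eJ) (CfsgLib.Char.isCharacter_comp hR' eJ)
      (CfsgLib.Char.irr_isCharacter hθ) hR0
    have h3 : (ΘC * β ∘ π) ∘ eJ = β 1 • θ := funext fun n => by
      show Θ (jT (eJ n)) * β (π (eJ n)) = β 1 * θ n
      have h4 : π (eJ n) = 1 := Subtype.ext ((QuotientGroup.eq_one_iff (jT (eJ n))).2
        (Subgroup.mem_subgroupOf.2 n.2))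
      rw [D.ext n (jT (eJ n)) rfl, h4, mul_comm]
    rw [h3, CfsgLib.Char.classInner_smul_left, CfsgLib.Char.irr_classInner_self hθ, mul_one] at h2
    exact CfsgLib.Char.irr_apply_one_ne_zero hβ h2
  -- the parametrisations
  have hpar : ∀ χ : G → ℂ, Cfsg.IsIrrCharacter G χ → (∀ (s : S) (g : G), χ (s • g) = χ g) →
      Cfsg.classInner (fun n : N => χ n) θ ≠ 0 →
      ∃ γ : Cfsg.IrrCharacter (T ⧸ N'), IsInv S (γ : T ⧸ N' → ℂ) ∧
        χ = Cfsg.indFun T (Θ * (γ : T ⧸ N' → ℂ) ∘ QuotientGroup.mk' N') := by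
    intro χ hχ hinv hover
    obtain ⟨γ, hγ, hγq, hind⟩ := exists_ind D hχ hover
    obtain ⟨γb, hγb, rfl⟩ := exists_factor (QuotientGroup.mk' N') (QuotientGroup.mk'_surjective N')
      hγ fun k t hk => hγq k t (Subgroup.mem_subgroupOf.1 ((QuotientGroup.eq_one_iff k).1 hk))
    refine ⟨⟨γb, hγb⟩, fun s x => ?_, hind.symm⟩
    obtain ⟨t, rfl⟩ := QuotientGroup.mk'_surjective N' x
    have hγs : Cfsg.IsIrrCharacter (T ⧸ N') (fun x => γb (s • x)) :=
      CfsgLib.Char.isIrrCharacter_comp_surjective hγb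
        (MulDistribMulAction.toMonoidHom (T ⧸ N') s) (MulAction.surjective s)
    refine congr_fun (ind_injective D (hiT hγs) (hqT _) (hiT hγb) (hqT _) ?_) t
    rw [hind]
    funext g
    conv_rhs => rw [← hinv s g, ← hind, indFun_smul T hTS']
    congr 1
    funext u
    show Θ u * γb (s • (u : T ⧸ N')) = Θ (s • u) * γb ((s • u : T) : T ⧸ N')
    rw [hΘi s u (s • u) rfl]
    rfl
  have hparC : ∀ ξ : C → ℂ, Cfsg.IsIrrCharacter C ξ →
      Cfsg.classInner (fun c : N.subgroupOf C => ξ (c : C)) θC ≠ 0 →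
      ∃ β : Cfsg.IrrCharacter Fx, ξ = Cfsg.indFun J (ΘC * (β : Fx → ℂ) ∘ π) := by
    intro ξ hξ hover
    obtain ⟨β, hβ, hβq, hind⟩ := exists_ind DC hξ hover
    obtain ⟨βb, hβb, rfl⟩ := exists_factor π hπ hβ fun k t hk => hβq k t (by
      have := (QuotientGroup.eq_one_iff (jT k)).1 (congrArg Subtype.val hk)
      exact Subgroup.mem_subgroupOf.2 (Subgroup.mem_subgroupOf.1 this))
    exact ⟨⟨βb, hβb⟩, hind.symm⟩
  -- Glauberman on the quotient
  have hcopq : ¬ p ∣ Nat.card (T ⧸ N') := fun h =>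
    hidx (h.trans (Subgroup.relIndex_dvd_index_of_normal N T))
  obtain ⟨g1, g2, g3, g4⟩ := glauberman_pGroup (S := S) (p := p) Fx.subtype
    Subtype.val_injective (fun x => by rw [Fx.range_subtype]; exact Iff.rfl) hS hcopq
  refine ⟨θC, hθC, fun m n h => congrArg θ (Subtype.ext h), ?_, ?_, ?_⟩
  · intro χ hχ hinv hover
    obtain ⟨γ, hγi, rfl⟩ := hpar χ hχ hinv hover
    obtain ⟨β, ⟨m, hm, hmp⟩, huniq⟩ := g1 γ hγi
    have hξ := isIrr_ind DC (hiπ β.2) (hqπ (β : Fx → ℂ))
    have hmz : (m : ZMod p) = 1 ∨ (m : ZMod p) = -1 := by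
      rcases g2 γ hγi β m hm hmp with h | h
      · exact Or.inl (by have := (ZMod.intCast_eq_intCast_iff _ _ p).2 h; simpa using this)
      · exact Or.inr (by have := (ZMod.intCast_eq_intCast_iff _ _ p).2 h; simpa using this)
    refine ⟨_, hξ, hξinv _, m, (hmult _ _ γ.2 β.2).trans hm, hmz, ?_, ?_⟩
    · -- the degrees
      letI : MulAction S (G ⧸ T) :=
        { smul := fun s => Quotient.map (fun g => s • g) fun a b hab => by
            refine QuotientGroup.leftRel_apply.2 ?_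
            have := QuotientGroup.leftRel_apply.1 hab
            rw [← smul_inv', ← smul_mul']
            exact hTS s _ this
          one_smul := fun x => by
            induction x using Quotient.inductionOn with
            | _ a => exact congrArg (Quotient.mk _) (one_smul S a)
          mul_smul := fun a b x => by
            induction x using Quotient.inductionOn with
            | _ c => exact congrArg (Quotient.mk _) (mul_smul a b c) }
      have hidxmod : (T.index : ZMod p) = (J.index : ZMod p) := by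
        have h := hS.card_modEq_card_fixedPoints (G ⧸ T)
        rw [← ZMod.natCast_eq_natCast_iff] at h
        refine h.trans (congrArg Nat.cast ?_)
        let F : C ⧸ J → MulAction.fixedPoints S (G ⧸ T) := Quotient.lift
          (fun c : C => (⟨((c : G) : G ⧸ T), fun s => by
            show (((s • (c : G))) : G ⧸ T) = ((c : G) : G ⧸ T)
            refine QuotientGroup.eq.2 (D.le ?_)
            have h1 := hN.conj_mem _ (N.inv_mem ((hC c).1 c.2 s)) (c : G)⁻¹
            convert h1 using 1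
            group⟩ : MulAction.fixedPoints S (G ⧸ T)))
          fun a b hab => Subtype.ext (QuotientGroup.eq.2
            (Subgroup.mem_subgroupOf.1 (QuotientGroup.leftRel_apply.1 hab)))
        refine (Nat.card_eq_of_bijective F ⟨fun x y hxy => ?_, fun x => ?_⟩).symm
        · induction x using Quotient.inductionOn with
          | _ a =>
            induction y using Quotient.inductionOn with
            | _ b =>
              exact Quotient.sound (QuotientGroup.leftRel_apply.2 (Subgroup.mem_subgroupOf.2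
                (QuotientGroup.eq.1 (congrArg Subtype.val hxy))))
        · obtain ⟨x, hx⟩ := x
          induction x using Quotient.inductionOn with
          | _ g =>
            obtain ⟨t, ht, hfx⟩ := exists_fix_mul N hS hNS hidx T D.le hTS (g := g) fun s =>
              QuotientGroup.eq.1 (hx s).symm
            exact ⟨Quotient.mk _ ⟨g * t, (hC _).2 hfx⟩, Subtype.ext (QuotientGroup.eq.2 (by
              simpa using T.inv_mem ht))⟩
      obtain ⟨dg, hdg⟩ := CfsgLib.Char.char_apply_one_eq_nat (CfsgLib.Char.irr_isCharacter γ.2)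
      obtain ⟨db, hdb⟩ := CfsgLib.Char.char_apply_one_eq_nat (CfsgLib.Char.irr_isCharacter β.2)
      obtain ⟨dt, hdt⟩ := CfsgLib.Char.char_apply_one_eq_nat (CfsgLib.Char.irr_isCharacter hθ)
      have hχd : Cfsg.charDegree (Cfsg.indFun T (Θ * (γ : T ⧸ N' → ℂ) ∘ QuotientGroup.mk' N')) =
          T.index * (dt * dg) := by
        apply Nat.cast_injective (R := ℂ)
        rw [CfsgLib.BlockB.charDegree_cast (CfsgLib.Char.irr_isCharacter hχ),
          CfsgLib.Char.indFun_apply_one]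
        push_cast
        rw [← hdt, ← hdg, Pi.mul_apply, D.ext 1 1 rfl]
        rfl
      have hξd : Cfsg.charDegree (Cfsg.indFun J (ΘC * (β : Fx → ℂ) ∘ π)) =
          J.index * (dt * db) := by
        apply Nat.cast_injective (R := ℂ)
        rw [CfsgLib.BlockB.charDegree_cast (CfsgLib.Char.irr_isCharacter hξ),
          CfsgLib.Char.indFun_apply_one]
        push_cast
        rw [← hdt, ← hdb, Pi.mul_apply, show ΘC 1 = Θ (jT 1) from rfl, map_one, D.ext 1 1 rfl]
        simp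
      have hg : (dg : ZMod p) = (m : ZMod p) * (db : ZMod p) := by
        have := Fintype.ofFinite (Cfsg.IrrCharacter Fx)
        have hnat : ∀ φ : Cfsg.IrrCharacter Fx, ∃ i j : ℕ,
            Cfsg.classInner (fun x : Fx => (γ : T ⧸ N' → ℂ) x) (φ : Fx → ℂ) = i ∧
              (φ : Fx → ℂ) 1 = j := fun φ => by
          obtain ⟨i, hi'⟩ := CfsgLib.Char.classInner_isCharacter_nat
            (CfsgLib.Char.isCharacter_restrict (CfsgLib.Char.irr_isCharacter γ.2) Fx)
            (CfsgLib.Char.irr_isCharacter φ.2)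
          obtain ⟨j, hj⟩ := CfsgLib.Char.char_apply_one_eq_nat (CfsgLib.Char.irr_isCharacter φ.2)
          exact ⟨i, j, hi', hj⟩
        choose vi vj hvi hvj using hnat
        have hsum : dg = ∑ φ, vi φ * vj φ := by
          apply Nat.cast_injective (R := ℂ)
          push_cast
          have h := CfsgLib.Char.classFunction_apply_eq_sum (CfsgLib.Char.isCharacter_isClassFunction
            (CfsgLib.Char.isCharacter_restrict (CfsgLib.Char.irr_isCharacter γ.2) Fx)) (1 : Fx)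
          rw [← hdg]
          refine Eq.trans ?_ (h.trans (Finset.sum_congr rfl fun φ _ => by rw [hvi, hvj]))
          rfl
        have hb : vi β = m ∧ vj β = db := by
          constructor
          · exact Nat.cast_injective (R := ℂ) ((hvi β).symm.trans hm)
          · exact Nat.cast_injective (R := ℂ) ((hvj β).symm.trans hdb)
        rw [hsum, Nat.cast_sum, Finset.sum_eq_single_of_mem β (Finset.mem_univ β) ?_, Nat.cast_mul,
          hb.1, hb.2]
        intro φ _ hφ
        have hdvd : p ∣ vi φ := by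
          by_contra hnd
          exact hφ (huniq φ ⟨_, hvi φ, hnd⟩)
        rw [Nat.cast_mul, (ZMod.natCast_eq_zero_iff _ _).2 hdvd, zero_mul]
      rw [hχd, hξd]
      push_cast
      rw [hg, hidxmod]
      rcases hmz with h | h <;> rw [h]
      · exact Or.inl (by ring)
      · exact Or.inr (by ring)
    · intro ξ' hξ' hover' m' hm' hnd
      obtain ⟨β', rfl⟩ := hparC ξ' hξ' hover'
      rw [hmult _ _ γ.2 β'.2] at hm'
      rw [huniq β' ⟨m', hm', hnd⟩]
  · intro χ χ' hχ hχ' hinv hinv' ho ho' ξ hξ hover m m' hm hmp hm' hmp'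
    obtain ⟨γ, hγi, rfl⟩ := hpar χ hχ hinv ho
    obtain ⟨γ', hγi', rfl⟩ := hpar χ' hχ' hinv' ho'
    obtain ⟨β, rfl⟩ := hparC ξ hξ hover
    rw [hmult _ _ γ.2 β.2] at hm
    rw [hmult _ _ γ'.2 β.2] at hm'
    rw [g3 γ γ' hγi hγi' β m m' hm hmp hm' hmp']
  · intro ξ hξ hover
    obtain ⟨β, rfl⟩ := hparC ξ hξ hover
    obtain ⟨γ, hγi, m, hm, hmp⟩ := g4 β
    exact ⟨_, isIrr_ind D (hiT γ.2) (hqT _), hχinv _ hγi, m, (hmult _ _ γ.2 β.2).trans hm, hmp⟩

/-- **The correspondence.** -/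
theorem exists_bijection :
    ∃ f : {χ : Cfsg.IrrCharacter G // IsInv S (χ : G → ℂ)} →
        {ξ : Cfsg.IrrCharacter C // ∀ (s : S) (c c' : C), (c' : G) = s • (c : G) →
          (ξ : C → ℂ) c' = (ξ : C → ℂ) c},
      Function.Bijective f ∧ ∀ χ,
        (∀ ξ : {ξ : Cfsg.IrrCharacter C // ∀ (s : S) (c c' : C), (c' : G) = s • (c : G) →
            (ξ : C → ℂ) c' = (ξ : C → ℂ) c},
          ∃ m : ℕ, Cfsg.classInner (fun c : C => (χ.1 : G → ℂ) c) (ξ.1 : C → ℂ) = m ∧
            (ξ = f χ → ((m : ZMod p) = 1 ∨ (m : ZMod p) = -1)) ∧ (ξ ≠ f χ → p ∣ m)) ∧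
        ((Cfsg.charDegree ((f χ).1 : C → ℂ) : ZMod p) = (Cfsg.charDegree (χ.1 : G → ℂ) : ZMod p) ∨
          (Cfsg.charDegree ((f χ).1 : C → ℂ) : ZMod p) =
            -(Cfsg.charDegree (χ.1 : G → ℂ) : ZMod p)) := by
  classical
  have hp := (Fact.out : p.Prime)
  have := Fintype.ofFinite N
  have := Fintype.ofFinite (N.subgroupOf C)
  have hNC := le_fix N C hS hNS hidx hNp hC
  have hCS := fix_stable N C hS hNS hidx hNp hC
  have hidxC : ¬ p ∣ (N.subgroupOf C).index := fun h =>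
    hidx (h.trans (Subgroup.relIndex_dvd_index_of_normal N C))
  let eN : N.subgroupOf C ≃* N := Subgroup.subgroupOfEquivOfLe hNC
  -- an invariant constituent of an invariant character of `C`
  have hfixC : ∀ ξ : C → ℂ, Cfsg.IsIrrCharacter C ξ →
      (∀ (s : S) (c c' : C), (c' : G) = s • (c : G) → ξ c' = ξ c) →
      ∃ θ : N → ℂ, Cfsg.IsIrrCharacter N θ ∧ InvOn S N θ ∧
        Cfsg.classInner (fun n : N => ξ ⟨(n : G), hNC n.2⟩) θ ≠ 0 := by
    intro ξ hξ hinv
    letI := subAct (S := S) C hCS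
    obtain ⟨θ, hθ, hi, hne⟩ := exists_fixed_constituent (N.subgroupOf C) hS
      (fun s n hn => Subgroup.mem_subgroupOf.2 (hNS s _ hn)) hidxC hξ
      fun s c => hinv s c (s • c) rfl
    refine ⟨θ ∘ eN.symm, CfsgLib.Char.isIrrCharacter_comp_surjective hθ eN.symm.toMonoidHom
      eN.symm.surjective, fun s t t' ht => hi s (eN.symm t) (eN.symm t') (Subtype.ext ht), ?_⟩
    have e : Cfsg.classInner (fun n : N => ξ ⟨(n : G), hNC n.2⟩) (θ ∘ eN.symm) =
        Cfsg.classInner (fun m : N.subgroupOf C => ξ (m : C)) θ := by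
      rw [← classInner_comp_surjective eN.toMonoidHom eN.surjective]
      congr 1
    rw [e]
    exact hne
  -- a constituent of `ξ` is one of `χ`
  have hlift : ∀ (χ : G → ℂ) (ξ : C → ℂ) (θ : N → ℂ), Cfsg.IsIrrCharacter G χ →
      Cfsg.IsIrrCharacter C ξ → Cfsg.IsIrrCharacter N θ →
      Cfsg.classInner (fun c : C => χ c) ξ ≠ 0 →
      Cfsg.classInner (fun n : N => ξ ⟨(n : G), hNC n.2⟩) θ ≠ 0 →
      Cfsg.classInner (fun n : N => χ n) θ ≠ 0 := by
    intro χ ξ θ hχ hξ hθ h1 h2 h0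
    obtain ⟨R, hR, hRe⟩ := exists_add_of_constituent
      (CfsgLib.Char.isCharacter_restrict (CfsgLib.Char.irr_isCharacter hχ) C) hξ h1
    have e : (fun n : N => χ n) =
        (ξ ∘ Subgroup.inclusion hNC) + (R ∘ Subgroup.inclusion hNC) :=
      funext fun n => congr_fun hRe ⟨(n : G), hNC n.2⟩
    rw [e] at h0
    exact h2 (inner_add_eq_zero
      (CfsgLib.Char.isCharacter_comp (CfsgLib.Char.irr_isCharacter hξ) (Subgroup.inclusion hNC))
      (CfsgLib.Char.isCharacter_comp hR (Subgroup.inclusion hNC)) (CfsgLib.Char.irr_isCharacter hθ) h0)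
  -- translate being over `θC`
  have hoverC : ∀ (θ : N → ℂ) (θC : N.subgroupOf C → ℂ) (ξ : C → ℂ),
      (∀ (m : N.subgroupOf C) (n : N), ((m : C) : G) = n → θC m = θ n) →
      Cfsg.classInner (fun m : N.subgroupOf C => ξ (m : C)) θC =
        Cfsg.classInner (fun n : N => ξ ⟨(n : G), hNC n.2⟩) θ := by
    intro θ θC ξ h
    rw [← classInner_comp_surjective eN.toMonoidHom eN.surjective
      (fun n : N => ξ ⟨(n : G), hNC n.2⟩) θ]
    congr 1
    funext m
    exact h m (eN m) rfl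
  -- any two invariant constituents below are exchanged inside `C`
  have hsame : ∀ (χ : G → ℂ) (ξ : C → ℂ) (θ θ' : N → ℂ), Cfsg.IsIrrCharacter G χ →
      Cfsg.IsIrrCharacter C ξ → Cfsg.IsIrrCharacter N θ → Cfsg.IsIrrCharacter N θ' →
      InvOn S N θ → InvOn S N θ' → Cfsg.classInner (fun n : N => χ n) θ ≠ 0 →
      Cfsg.classInner (fun n : N => χ n) θ' ≠ 0 →
      Cfsg.classInner (fun n : N => ξ ⟨(n : G), hNC n.2⟩) θ' ≠ 0 →
      Cfsg.classInner (fun n : N => ξ ⟨(n : G), hNC n.2⟩) θ ≠ 0 := by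
    intro χ ξ θ θ' hχ hξ hθ hθ' hi hi' h h' hne
    obtain ⟨c, hc, rfl⟩ := exists_conj_fixed N hS hNS hidx hχ hθ hθ' hi hi' h h'
    intro h0
    refine hne ?_
    rw [← h0, CfsgLib.Char.classInner_def, CfsgLib.Char.classInner_def]
    congr 1
    refine Fintype.sum_equiv
      ⟨conjN c, conjN c⁻¹, fun n => by rw [← conjN_mul, inv_mul_cancel, conjN_one],
        fun n => by rw [← conjN_mul, mul_inv_cancel, conjN_one]⟩ _ _ fun n => ?_
    simp only [Equiv.coe_fn_mk, conjFn_apply]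
    congr 1
    have := CfsgLib.Char.irr_isClassFunction hξ (⟨(n : G), hNC n.2⟩ : C) ⟨c, (hC c).2 hc⟩
    rw [← this]
    exact congrArg ξ (Subtype.ext (by simp))
  have hmain : ∀ χ : {χ : Cfsg.IrrCharacter G // IsInv S (χ : G → ℂ)},
      ∃ ξ : {ξ : Cfsg.IrrCharacter C // ∀ (s : S) (c c' : C), (c' : G) = s • (c : G) →
          (ξ : C → ℂ) c' = (ξ : C → ℂ) c},
        (∃ m : ℕ, Cfsg.classInner (fun c : C => (χ.1 : G → ℂ) c) (ξ.1 : C → ℂ) = m ∧
          ((m : ZMod p) = 1 ∨ (m : ZMod p) = -1)) ∧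
        ((Cfsg.charDegree (ξ.1 : C → ℂ) : ZMod p) = (Cfsg.charDegree (χ.1 : G → ℂ) : ZMod p) ∨
          (Cfsg.charDegree (ξ.1 : C → ℂ) : ZMod p) =
            -(Cfsg.charDegree (χ.1 : G → ℂ) : ZMod p)) ∧
        ∀ ξ' : {ξ : Cfsg.IrrCharacter C // ∀ (s : S) (c c' : C), (c' : G) = s • (c : G) →
            (ξ : C → ℂ) c' = (ξ : C → ℂ) c},
          ∀ m : ℕ, Cfsg.classInner (fun c : C => (χ.1 : G → ℂ) c) (ξ'.1 : C → ℂ) = m →
            ¬ p ∣ m → ξ' = ξ := by
    intro χ
    obtain ⟨θ, hθ, hi, hne⟩ := exists_fixed_constituent N hS hNS hidx χ.1.2 χ.2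
    obtain ⟨θC, -, hθCe, h1, -, -⟩ := local_corr N C hS hNS hidx hNp hC hθ hi
    obtain ⟨ξ, hξ, hξi, m, hm, hmz, hdeg, huniq⟩ := h1 (χ.1 : G → ℂ) χ.1.2 χ.2 hne
    refine ⟨⟨⟨ξ, hξ⟩, hξi⟩, ⟨m, hm, hmz⟩, hdeg, fun ξ' m' hm' hnd => ?_⟩
    refine Subtype.ext (Subtype.ext (huniq _ ξ'.1.2 ?_ m' hm' hnd))
    rw [hoverC θ θC _ hθCe]
    obtain ⟨θ', hθ', hi', hne'⟩ := hfixC _ ξ'.1.2 ξ'.2
    have hne2 : Cfsg.classInner (fun c : C => (χ.1 : G → ℂ) c) (ξ'.1 : C → ℂ) ≠ 0 := by
      rw [hm']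
      exact Nat.cast_ne_zero.2 fun h => hnd (h ▸ dvd_zero p)
    exact hsame _ _ θ θ' χ.1.2 ξ'.1.2 hθ hθ' hi hi' hne
      (hlift _ _ θ' χ.1.2 ξ'.1.2 hθ' hne2 hne') hne'
  choose f hf1 hf2 hf3 using hmain
  have hunit : ∀ {m : ℕ}, ((m : ZMod p) = 1 ∨ (m : ZMod p) = -1) → ¬ p ∣ m := by
    intro m h hd
    have h0 : (m : ZMod p) = 0 := (ZMod.natCast_eq_zero_iff m p).2 hd
    rcases h with h | h <;> rw [h0] at h
    · exact zero_ne_one h
    · exact zero_ne_one (neg_eq_zero.1 h.symm).symm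
  refine ⟨f, ⟨fun χ χ' he => ?_, fun ξ => ?_⟩, fun χ => ⟨fun ξ => ?_, hf2 χ⟩⟩
  · obtain ⟨m, hm, hmz⟩ := hf1 χ
    obtain ⟨m', hm', hmz'⟩ := hf1 χ'
    rw [← he] at hm'
    obtain ⟨θ, hθ, hi, hne⟩ := hfixC _ (f χ).1.2 (f χ).2
    obtain ⟨θC, -, hθCe, -, h2, -⟩ := local_corr N C hS hNS hidx hNp hC hθ hi
    have hpos : ∀ {k : ℕ}, ¬ p ∣ k → (k : ℂ) ≠ 0 := fun h =>
      Nat.cast_ne_zero.2 fun h0 => h (h0 ▸ dvd_zero p)
    refine Subtype.ext (Subtype.ext (h2 _ _ χ.1.2 χ'.1.2 χ.2 χ'.2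
      (hlift _ _ θ χ.1.2 (f χ).1.2 hθ (hm ▸ hpos (hunit hmz)) hne)
      (hlift _ _ θ χ'.1.2 (f χ).1.2 hθ (hm' ▸ hpos (hunit hmz')) hne)
      _ (f χ).1.2 (by rw [hoverC θ θC _ hθCe]; exact hne) m m' hm (hunit hmz) hm' (hunit hmz')))
  · obtain ⟨θ, hθ, hi, hne⟩ := hfixC _ ξ.1.2 ξ.2
    obtain ⟨θC, -, hθCe, -, -, h3⟩ := local_corr N C hS hNS hidx hNp hC hθ hi
    obtain ⟨χ, hχ, hinv, m, hm, hmp⟩ := h3 _ ξ.1.2 (by rw [hoverC θ θC _ hθCe]; exact hne)
    exact ⟨⟨⟨χ, hχ⟩, hinv⟩, (hf3 ⟨⟨χ, hχ⟩, hinv⟩ ξ m hm hmp).symm⟩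
  · obtain ⟨m, hm⟩ := CfsgLib.Char.classInner_isCharacter_nat
      (CfsgLib.Char.isCharacter_restrict (CfsgLib.Char.irr_isCharacter χ.1.2) C)
      (CfsgLib.Char.irr_isCharacter ξ.1.2)
    refine ⟨m, hm, fun he => ?_, fun hne => ?_⟩
    · subst he
      obtain ⟨m', hm', hmz⟩ := hf1 χ
      have : m = m' := Nat.cast_injective (R := ℂ) (hm.symm.trans hm')
      rwa [this]
    · by_contra hnd
      exact hne (hf3 χ ξ m hm hnd)

end Main

end CfsgLib.BlockB.RelGlauberman
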