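import Cfsg.Agent.Lib.BlockB.PrimeFibre
import Cfsg.Agent.Lib.BlockB.RelGlauberman
import Cfsg.Agent.Lib.BlockB.HeisenbergPsi
import Cfsg.Agent.Lib.Clifford.Cover

/-!
Passing from an invariant character of a normal subgroup to a linear character of a central
subgroup, through a central cover in which it extends.
-/

set_option autoImplicit false
set_option linter.unusedSectionVars false
set_option linter.style.haveILetI false

namespace CfsgLib.BlockB.McKay

open CfsgLib.Clifford
open scoped ComplexConjugate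

universe u

/-- The counts agree in the cover. -/
theorem card_transfer {G E Q L : Type u} [Group G] [Fintype G] [Group E] [Fintype E] [Group Q]
    [Fintype Q] [Group L] [Fintype L] {p : ℕ} [Fact p.Prime] (π : E →* G)
    (hπ : Function.Surjective π) (q : E →* Q) (hq : Function.Surjective q) (ι : L →* G)
    (hι : Function.Injective ι) (emb : L →* E) (hemb : ∀ l, π (emb l) = ι l)
    (hker : q.ker = emb.range) {ν : L → ℂ} (hν : Cfsg.IsIrrCharacter L ν)
    (hνd : ¬ p ∣ Cfsg.charDegree ν) {σ : E → ℂ} (hσ : Cfsg.IsCharacter E σ)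
    (hres : ∀ l, σ (emb l) = ν l) (hscal : ∀ k, π k = 1 → ∃ s : ℂ, ∀ x, σ (x * k) = s * σ x)
    (Z : Subgroup Q) [Fintype Z] (hZc : ∀ z : Z, ∀ w : Q, (z : Q) * w = w * z)
    (hZ : ∀ z : Z, ∃ k, π k = 1 ∧ q k = z) (hZ' : ∀ k, π k = 1 → q k ∈ Z)
    {lam : Z → ℂ} (hlam : Cfsg.IsIrrCharacter Z lam)
    (hlamk : ∀ (k : E) (z : Z), π k = 1 → q k = z → σ k * lam z = σ 1) :
    Nat.card (PrimeOver p ι ν) = Nat.card (PrimeOver p (fun z : Z => (z : Q)) lam) := by
  haveI hN : emb.range.Normal := hker ▸ inferInstance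
  haveI := Fintype.ofFinite emb.range
  have hinj : Function.Injective emb := fun a b h => hι (by rw [← hemb, h, hemb])
  let e : L ≃* emb.range := MonoidHom.ofInjective hinj
  have hresirr : Cfsg.IsIrrCharacter emb.range (fun n : emb.range => σ n) := by
    rw [show (fun n : emb.range => σ n) = ν ∘ e.symm from funext fun n => by
      obtain ⟨l, rfl⟩ := e.surjective n
      rw [Function.comp_apply, e.symm_apply_apply]
      exact hres l]
    exact CfsgLib.Char.isIrrCharacter_comp_surjective hν e.symm.toMonoidHom e.symm.surjective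
  have hin : ∀ f : G → ℂ, Cfsg.classInner (fun n : emb.range => f (π n)) (fun n : emb.range => σ n) =
      Cfsg.classInner (f ∘ ι) ν := fun f => by
    rw [← OverTheta.classInner_comp_surjective e.toMonoidHom e.surjective]
    exact congrArg₂ Cfsg.classInner (funext fun l => congrArg f (hemb l)) (funext hres)
  have hqconst : ∀ (f : Q → ℂ) (n : emb.range) (x : E), f (q ((n : E) * x)) = f (q x) :=
    fun f n x => by
      rw [map_mul, MonoidHom.mem_ker.1 (hker.symm ▸ n.2 : (n : E) ∈ q.ker), one_mul]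
  have hσ1 : σ 1 = ν 1 := by rw [← hres, map_one]
  have hσ1ne : σ 1 ≠ 0 := hσ1 ▸ CfsgLib.Char.irr_apply_one_ne_zero hν
  have hsk : ∀ k, π k = 1 → ∃ s : ℂ, s ≠ 0 ∧ ∀ x, σ (x * k) = s * σ x := by
    intro k hk
    obtain ⟨s, hs⟩ := hscal k hk
    refine ⟨s, fun h0 => hσ1ne ?_, hs⟩
    have := hs k⁻¹
    rw [inv_mul_cancel, h0, zero_mul] at this
    exact this
  have hover : ∀ γ : Cfsg.IrrCharacter Q, Cfsg.classInner ((γ : Q → ℂ) ∘ fun z : Z => (z : Q)) lam ≠ 0 ↔
      ∀ z : Z, (γ : Q → ℂ) z = (γ : Q → ℂ) 1 * lam z :=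
    fun γ => over_central_iff Z.subtype Z.subtype_injective hZc hlam γ
  -- from the group to the cover
  have hfwd : ∀ χ : PrimeOver p ι ν, ∃ γ : PrimeOver p (fun z : Z => (z : Q)) lam,
      ∀ x, (χ.1 : G → ℂ) (π x) = σ x * (γ.1 : Q → ℂ) (q x) := by
    intro χ
    have hχE : Cfsg.IsIrrCharacter E ((χ.1 : G → ℂ) ∘ π) :=
      CfsgLib.Char.isIrrCharacter_comp_surjective χ.1.2 π hπ
    obtain ⟨hγ, hfac⟩ := gallagher_factor emb.range hχE hσ hresirr (by
      show Cfsg.classInner (fun n : emb.range => (χ.1 : G → ℂ) (π n)) _ ≠ 0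
      rw [hin]
      exact χ.2.2)
    obtain ⟨γ, hγirr, hγe⟩ := RelGlauberman.exists_factor q hq hγ fun k t hk => by
      obtain ⟨l, hl⟩ := (hker ▸ MonoidHom.mem_ker.2 hk : k ∈ emb.range)
      exact cosetAvg_mul_left emb.range _ ⟨k, l, hl⟩ t
    have hval : ∀ x, (χ.1 : G → ℂ) (π x) = σ x * γ (q x) := fun x => by
      have := congr_fun hfac x
      rw [hγe, Pi.mul_apply] at this
      exact this
    have hdeg : Cfsg.charDegree (χ.1 : G → ℂ) = Cfsg.charDegree ν * Cfsg.charDegree γ := by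
      have h := hval 1
      rw [map_one, map_one, hσ1, ← irr_degree_cast, ← charDegree_cast (CfsgLib.Char.irr_isCharacter hν),
        ← charDegree_cast (CfsgLib.Char.irr_isCharacter hγirr)] at h
      exact_mod_cast h
    refine ⟨⟨⟨γ, hγirr⟩, fun hd => χ.2.1 (hdeg ▸ hd.mul_left _), (hover _).2 fun z => ?_⟩, hval⟩
    obtain ⟨k, hk, hkz⟩ := hZ z
    have h1 := hval k
    have h0 := hval 1
    rw [hk] at h1
    rw [map_one] at h0
    rw [map_one] at h0
    have hl := hlamk k z hk hkz
    rw [hkz] at h1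
    obtain ⟨s, hs0, hs⟩ := hsk k hk
    have hσk : σ k ≠ 0 := by
      have := hs 1; rw [one_mul] at this; rw [this]; exact mul_ne_zero hs0 hσ1ne
    apply mul_left_cancel₀ hσk
    rw [← h1, h0, ← hl]
    ring
  choose F hF using hfwd
  have hgal : ∀ (γ : Q → ℂ), gallagherQuot emb.range (fun x => σ x * γ (q x)) σ = γ ∘ q := by
    intro γ
    rw [gallagherQuot, show (fun g => σ g * γ (q g) * conj (σ g)) =
      (fun g => σ g * conj (σ g)) * (γ ∘ q) from funext fun g => by simp only [Pi.mul_apply, Function.comp_apply]; ring,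
      cosetAvg_mul_of_invariant emb.range _ _ (hqconst γ), cosetAvg_normSq_eq_one emb.range hσ hresirr]
    exact funext fun g => one_mul _
  refine Nat.card_congr (Equiv.ofBijective F ⟨fun χ χ' h => ?_, fun γ => ?_⟩)
  · refine Subtype.ext (Subtype.ext (funext fun g => ?_))
    obtain ⟨x, rfl⟩ := hπ g
    rw [hF χ x, hF χ' x, h]
  · have hω : ∀ (k : E) (hk : π k = 1) (w : Q),
        (γ.1 : Q → ℂ) (q k * w) = lam ⟨q k, hZ' k hk⟩ * (γ.1 : Q → ℂ) w := by
      intro k hk w
      obtain ⟨ω, -, hω⟩ := HeisenbergPsi.central_scalar γ.1.2 (x := q k)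
        (fun g => hZc ⟨q k, hZ' k hk⟩ g)
      have h1 := (hover γ.1).1 γ.2.2 ⟨q k, hZ' k hk⟩
      have h2 := hω 1
      rw [mul_one] at h2
      rw [h2, mul_comm] at h1
      rw [hω, mul_left_cancel₀ (CfsgLib.Char.irr_apply_one_ne_zero γ.1.2) h1]
    have hirr : Cfsg.IsIrrCharacter E (σ * ((γ.1 : Q → ℂ) ∘ q)) :=
      isIrrCharacter_mul_of_invariant emb.range hσ hresirr
        (CfsgLib.Char.isIrrCharacter_comp_surjective γ.1.2 q hq) (hqconst _)
    obtain ⟨χ, hχ, hχe⟩ := RelGlauberman.exists_factor π hπ hirr fun k t hk => by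
      obtain ⟨s, hs0, hs⟩ := hsk k hk
      have hc : σ (k * t) = s * σ t := by
        rw [← hs t, CfsgLib.Char.isClassFunction_mul_comm (CfsgLib.Char.isCharacter_isClassFunction hσ)]
      have hl := hlamk k ⟨q k, hZ' k hk⟩ hk rfl
      have h1 := hs 1
      rw [one_mul] at h1
      rw [h1] at hl
      have hsl : s * lam ⟨q k, hZ' k hk⟩ = 1 := mul_right_cancel₀ hσ1ne (by rw [one_mul]; linear_combination hl)
      simp only [Pi.mul_apply, Function.comp_apply, map_mul, hc, hω k hk]
      linear_combination (σ t * (γ.1 : Q → ℂ) (q t)) * hsl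
    have hval : ∀ x, χ (π x) = σ x * (γ.1 : Q → ℂ) (q x) := fun x => (congr_fun hχe x).symm
    have hdeg : Cfsg.charDegree χ = Cfsg.charDegree ν * Cfsg.charDegree (γ.1 : Q → ℂ) := by
      have h := hval 1
      rw [map_one, map_one, hσ1, ← charDegree_cast (CfsgLib.Char.irr_isCharacter hχ),
        ← charDegree_cast (CfsgLib.Char.irr_isCharacter hν), ← irr_degree_cast] at h
      exact_mod_cast h
    have hmem : Cfsg.classInner (χ ∘ ι) ν ≠ 0 := by
      rw [← hin, show (fun n : emb.range => χ (π n)) =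
        (γ.1 : Q → ℂ) 1 • (fun n : emb.range => σ n) from funext fun n => by
          rw [hval, Pi.smul_apply, smul_eq_mul, mul_comm]
          have := hqconst (γ.1 : Q → ℂ) n 1
          rw [mul_one, map_one] at this
          rw [this],
        CfsgLib.Char.classInner_smul_left, CfsgLib.Char.irr_classInner_self hresirr, mul_one]
      exact CfsgLib.Char.irr_apply_one_ne_zero γ.1.2
    let χ' : PrimeOver p ι ν := ⟨⟨χ, hχ⟩, by
      show ¬ p ∣ Cfsg.charDegree χ
      rw [hdeg, (Fact.out : p.Prime).dvd_mul]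
      exact not_or.2 ⟨hνd, γ.2.1⟩, hmem⟩
    refine ⟨χ', Subtype.ext (Subtype.ext (funext fun w => ?_))⟩
    obtain ⟨x, rfl⟩ := hq w
    have h1 : (fun x => σ x * ((F χ').1 : Q → ℂ) (q x)) = fun x => σ x * (γ.1 : Q → ℂ) (q x) :=
      funext fun x => (hF χ' x).symm.trans (hval x)
    have h2 := congr_fun (hgal ((F χ').1 : Q → ℂ)) x
    rw [h1, hgal] at h2
    exact h2.symm

end CfsgLib.BlockB.McKay
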