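import Cfsg.Agent.Lib.BlockB.GaloisAvg
import Cfsg.Agent.Lib.Char.Inner
import Cfsg.Agent.Lib.Char.Galois
import Cfsg.Agent.Lib.Char.Integral
import Mathlib.FieldTheory.KummerExtension

/-!
Class functions with coefficients in `ℤ[ζ_N]`, divisibility by `1 - ζ_p`, and the bound
`#{nonzero} ≤ Σ |a|²` for families in `ℤ[ζ_N]` whose sum of squares is an integer.
-/

set_option autoImplicit false
set_option linter.unusedSectionVars false

open Polynomial
open scoped ComplexConjugate

namespace CfsgLib.BlockB.CycInt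

open CfsgLib.BlockB (zetaN zetaN_isPrimitiveRoot)

universe u

/-- The ring `ℤ[ζ_N]`. -/
noncomputable def cycInt (N : ℕ) : Subalgebra ℤ ℂ := Algebra.adjoin ℤ {zetaN N}

section Ring

variable {N : ℕ} [NeZero N]

theorem mem_iff {x : ℂ} : x ∈ cycInt N ↔ ∃ P : ℤ[X], aeval (zetaN N) P = x := by
  rw [cycInt, Algebra.adjoin_singleton_eq_range_aeval]
  exact AlgHom.mem_range _

theorem isIntegral_of_mem {x : ℂ} (h : x ∈ cycInt N) : IsIntegral ℤ x :=
  adjoin_le_integralClosure
    ((zetaN_isPrimitiveRoot (NeZero.ne N)).isIntegral (Nat.pos_of_ne_zero (NeZero.ne N))) h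

theorem mem_of_pow_eq_one {x : ℂ} (h : x ^ N = 1) : x ∈ cycInt N := by
  obtain ⟨i, -, rfl⟩ := (zetaN_isPrimitiveRoot (NeZero.ne N)).eq_pow_of_pow_eq_one h
  exact pow_mem (Algebra.subset_adjoin (Set.mem_singleton _)) i

theorem mem_of_pow_eq_one_of_dvd {x : ℂ} {d : ℕ} (hd : d ∣ N) (h : x ^ d = 1) :
    x ∈ cycInt N := by
  obtain ⟨e, rfl⟩ := hd
  exact mem_of_pow_eq_one (by rw [pow_mul, h, one_pow])

theorem conj_mem {x : ℂ} (h : x ∈ cycInt N) : conj x ∈ cycInt N := by
  obtain ⟨P, rfl⟩ := mem_iff.1 h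
  have e : conj (aeval (zetaN N) P) = aeval (conj (zetaN N)) P := by
    rw [aeval_def, aeval_def, Polynomial.hom_eval₂]
    exact congrArg (fun φ => eval₂ φ _ P) (RingHom.ext_int _ _)
  rw [e]
  refine Algebra.adjoin_le (Set.singleton_subset_iff.2 (mem_of_pow_eq_one ?_))
    (aeval_mem_adjoin_singleton ℤ _)
  rw [← map_pow, (zetaN_isPrimitiveRoot (NeZero.ne N)).pow_eq_one, map_one]

theorem char_mem {G : Type u} [Group G] [Finite G] (hG : Nat.card G ∣ N) {χ : G → ℂ}
    (hχ : Cfsg.IsCharacter G χ) (g : G) : χ g ∈ cycInt N := by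
  obtain ⟨P, hP⟩ := CfsgLib.BlockB.isCyclo_char hχ g
  have := hP 1
  simp only [pow_one] at this
  rw [this]
  exact Algebra.adjoin_le (Set.singleton_subset_iff.2 (mem_of_pow_eq_one_of_dvd hG
    (zetaN_isPrimitiveRoot Nat.card_pos.ne').pow_eq_one)) (aeval_mem_adjoin_singleton ℤ _)

theorem mem_of_mul_nat {a : ℂ} {A B : ℕ} (h : A.Coprime B) (hA : (A : ℂ) * a ∈ cycInt N)
    (hB : (B : ℂ) * a ∈ cycInt N) : a ∈ cycInt N := by
  obtain ⟨x, y, hxy⟩ : IsCoprime (A : ℤ) B := Int.isCoprime_iff_nat_coprime.2 (by simpa using h)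
  have e : a = (x : ℂ) * ((A : ℂ) * a) + (y : ℂ) * ((B : ℂ) * a) := by
    have : (x : ℂ) * A + (y : ℂ) * B = 1 := by exact_mod_cast hxy
    linear_combination -a * this
  rw [e]
  exact add_mem (mul_mem (intCast_mem _ x) hA) (mul_mem (intCast_mem _ y) hB)

/-- A finite family in `ℤ[ζ_N]` with integral sum of squared absolute values has at most that
many nonzero members. -/
theorem card_ne_zero_le {ι : Type*} (s : Finset ι) (a : ι → ℂ) (ha : ∀ i ∈ s, a i ∈ cycInt N)
    (m : ℤ) (hm : ∑ i ∈ s, a i * conj (a i) = (m : ℂ)) :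
    ((s.filter fun i => a i ≠ 0).card : ℤ) ≤ m := by
  classical
  have hn : N ≠ 0 := NeZero.ne N
  have hex : ∀ i, ∃ P : ℤ[X], i ∈ s → aeval (zetaN N) P = a i := fun i => by
    by_cases hi : i ∈ s
    · obtain ⟨P, hP⟩ := mem_iff.1 (ha i hi)
      exact ⟨P, fun _ => hP⟩
    · exact ⟨0, fun h => absurd h hi⟩
  choose P hP using hex
  have hc : ∀ i, IsCyclo N fun k => aeval (zetaN N ^ k) (P i) * conj (aeval (zetaN N ^ k) (P i)) :=
    fun i => IsCyclo.mul (f := fun k => aeval (zetaN N ^ k) (P i))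
      (g := fun k => conj (aeval (zetaN N ^ k) (P i))) ⟨P i, fun _ => rfl⟩
      (IsCyclo.conj hn (f := fun k => aeval (zetaN N ^ k) (P i)) ⟨P i, fun _ => rfl⟩)
  have hsum := IsCyclo.sum s (f := fun i k =>
    aeval (zetaN N ^ k) (P i) * conj (aeval (zetaN N ^ k) (P i))) fun i _ => hc i
  obtain ⟨Q, hQ⟩ := hsum
  have hQ1 : aeval (zetaN N) Q = ((m : ℤ) : ℂ) := by
    have := hQ 1
    simp only [pow_one] at this
    rw [← this, ← hm]
    exact Finset.sum_congr rfl fun i hi => by rw [hP i hi]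
  have hgal : ∀ k : ℕ, k.Coprime N → ∀ R : ℤ[X], aeval (zetaN N) R = 0 →
      aeval (zetaN N ^ k) R = 0 := by
    intro k hk R hR
    have hζ := zetaN_isPrimitiveRoot hn
    have h1 := minpoly.isIntegrallyClosed_dvd (hζ.isIntegral (Nat.pos_of_ne_zero hn)) hR
    obtain ⟨T, rfl⟩ := h1
    rw [map_mul, hζ.minpoly_eq_pow_coprime hk, minpoly.aeval, zero_mul]
  have hQk : ∀ k : ℕ, k.Coprime N → aeval (zetaN N ^ k) Q = ((m : ℤ) : ℂ) := fun k hk => by
    have := hgal k hk (Q - C m) (by simp [hQ1])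
    rw [map_sub, aeval_C, sub_eq_zero] at this
    simpa using this
  -- the conjugates of one nonzero member
  have hone : ∀ i ∈ s.filter (fun i => a i ≠ 0),
      (Fintype.card (ZMod N)ˣ : ℝ) ≤
        ∑ u : (ZMod N)ˣ, ‖aeval (zetaN N ^ (u : ZMod N).val) (P i)‖ ^ 2 := by
    intro i hi
    obtain ⟨his, hne⟩ := Finset.mem_filter.1 hi
    let f : (ZMod N)ˣ → ℕ → ℂ := fun u k => aeval (zetaN N ^ ((u : ZMod N).val * k)) (P i)
    have := CfsgLib.BlockB.card_le_sum_norm_pow (Finset.univ : Finset (ZMod N)ˣ) f hn ?_ ?_ ?_ 2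
    · simpa [f, Finset.card_univ] using this
    · intro u _
      refine ⟨(P i).comp (X ^ (u : ZMod N).val), fun k => ?_⟩
      simp only [f, aeval_comp, map_pow, aeval_X, ← pow_mul, mul_comm k]
    · intro k hk
      let v : (ZMod N)ˣ := ZMod.unitOfCoprime k hk
      refine ⟨⟨fun u => ⟨u.1 * v, Finset.mem_univ _⟩, fun u => ⟨u.1 * v⁻¹, Finset.mem_univ _⟩,
        fun u => by simp, fun u => by simp⟩, fun u => ?_⟩
      simp only [f, mul_one, Equiv.coe_fn_mk]
      congr 2
      rw [Units.val_mul, ZMod.val_mul, ← pow_eq_pow_mod _ (zetaN_isPrimitiveRoot hn).pow_eq_one,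
        show (v : ZMod N) = (k : ZMod N) from rfl, ZMod.val_natCast]
      conv_rhs => rw [pow_mul]
      rw [pow_mul, ← pow_eq_pow_mod]
      rw [← pow_mul, mul_comm, pow_mul, (zetaN_isPrimitiveRoot hn).pow_eq_one, one_pow]
    · intro u _ h0
      have hcop : (u : ZMod N).val.Coprime N := ZMod.val_coe_unit_coprime u
      simp only [f, mul_one] at h0
      apply hne
      obtain ⟨l, -, hl⟩ : ∃ l, l < N ∧ ((u : ZMod N).val * l) % N = 1 % N := by
        refine ⟨((u⁻¹ : (ZMod N)ˣ) : ZMod N).val, ZMod.val_lt _, ?_⟩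
        have : (((u : ZMod N).val * ((u⁻¹ : (ZMod N)ˣ) : ZMod N).val : ℕ) : ZMod N) =
            ((1 : ℕ) : ZMod N) := by
          push_cast
          rw [ZMod.natCast_zmod_val, ZMod.natCast_zmod_val, Units.mul_inv]
        exact (ZMod.natCast_eq_natCast_iff' _ _ _).1 this
      have hlcop : ((u⁻¹ : (ZMod N)ˣ) : ZMod N).val.Coprime N := ZMod.val_coe_unit_coprime _
      have hprim := (zetaN_isPrimitiveRoot hn).pow_of_coprime _ hcop
      rw [← hP i his]
      have h1 := minpoly.isIntegrallyClosed_dvd (hprim.isIntegral (Nat.pos_of_ne_zero hn)) h0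
      obtain ⟨T, hT⟩ := h1
      rw [← (zetaN_isPrimitiveRoot hn).minpoly_eq_pow_coprime hcop] at hT
      rw [hT, map_mul, minpoly.aeval, zero_mul]
  have htot := Finset.sum_le_sum hone
  rw [Finset.sum_const, nsmul_eq_mul, Finset.sum_comm] at htot
  have hper : ∀ u : (ZMod N)ˣ, ∑ i ∈ s.filter (fun i => a i ≠ 0),
      ‖aeval (zetaN N ^ (u : ZMod N).val) (P i)‖ ^ 2 ≤ (m : ℝ) := by
    intro u
    refine (Finset.sum_le_sum_of_subset_of_nonneg (Finset.filter_subset _ _)
      fun i _ _ => sq_nonneg _).trans (le_of_eq ?_)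
    have h := hQ (u : ZMod N).val
    rw [hQk _ (ZMod.val_coe_unit_coprime u)] at h
    have h2 := congrArg Complex.re h
    simpa [Complex.mul_conj', ← Complex.ofReal_pow] using h2
  have h3 := htot.trans (Finset.sum_le_sum fun u _ => hper u)
  rw [Finset.sum_const, Finset.card_univ, nsmul_eq_mul, mul_comm] at h3
  have hpos : (0 : ℝ) < Fintype.card (ZMod N)ˣ := by exact_mod_cast Fintype.card_pos
  exact_mod_cast le_of_mul_le_mul_left h3 hpos

end Ring

section Div

variable {p : ℕ} [Fact p.Prime]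

/-- Divisibility by `1 - ζ_p` among algebraic integers. -/
def Div (p : ℕ) (x : ℂ) : Prop := ∃ s, IsIntegral ℤ s ∧ x = (1 - zetaN p) * s

theorem isIntegral_zeta : IsIntegral ℤ (zetaN p) :=
  (zetaN_isPrimitiveRoot (Fact.out : p.Prime).ne_zero).isIntegral (Fact.out : p.Prime).pos

theorem Div.mul_left {x y : ℂ} (h : Div p x) (hy : IsIntegral ℤ y) : Div p (y * x) := by
  obtain ⟨s, hs, rfl⟩ := h
  exact ⟨y * s, hy.mul hs, by ring⟩

theorem Div.mul_right {x y : ℂ} (h : Div p x) (hy : IsIntegral ℤ y) : Div p (x * y) := by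
  rw [mul_comm]; exact h.mul_left hy

theorem Div.add {x y : ℂ} (h : Div p x) (h' : Div p y) : Div p (x + y) := by
  obtain ⟨s, hs, rfl⟩ := h
  obtain ⟨t, ht, rfl⟩ := h'
  exact ⟨s + t, hs.add ht, by ring⟩

theorem div_zero' : Div p 0 := ⟨0, isIntegral_zero, by ring⟩

theorem Div.sum {ι : Type*} (t : Finset ι) {f : ι → ℂ} (h : ∀ i ∈ t, Div p (f i)) :
    Div p (∑ i ∈ t, f i) := by
  classical
  induction t using Finset.induction_on with
  | empty => simpa using div_zero'
  | @insert a t ha ih =>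
    rw [Finset.sum_insert ha]
    exact (h a (Finset.mem_insert_self _ _)).add
      (ih fun i hi => h i (Finset.mem_insert_of_mem hi))

theorem div_pow_sub_one (k : ℕ) : Div p (zetaN p ^ k - 1) := by
  refine ⟨-∑ i ∈ Finset.range k, zetaN p ^ i,
    (IsIntegral.sum _ fun i _ => isIntegral_zeta.pow i).neg, ?_⟩
  linear_combination -(geom_sum_mul (zetaN p) k)

theorem prod_one_sub : ∏ i ∈ Finset.range (p - 1), (1 - zetaN p ^ (i + 1)) = (p : ℂ) := by
  have hp : p.Prime := Fact.out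
  have hζ : IsPrimitiveRoot (zetaN p) (p - 1 + 1) := by
    rw [Nat.sub_add_cancel hp.one_le]; exact zetaN_isPrimitiveRoot hp.ne_zero
  have e := X_pow_sub_C_eq_prod hζ (α := (1 : ℂ)) (a := 1) (Nat.succ_pos _) (one_pow _)
  simp only [mul_one, map_one, Finset.prod_range_succ', pow_zero] at e
  rw [← geom_sum_mul] at e
  have e' := mul_right_cancel₀ (X_sub_C_ne_zero (1 : ℂ)) (by simpa using e :
    (∑ i ∈ Finset.range (p - 1 + 1), (X : ℂ[X]) ^ i) * (X - C 1) =
      (∏ i ∈ Finset.range (p - 1), (X - C (zetaN p ^ (i + 1)))) * (X - C 1))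
  have h1 := congrArg (eval (1 : ℂ)) e'
  simp only [eval_finsetSum, eval_pow, eval_X, one_pow, eval_prod, eval_sub, eval_C,
    Finset.sum_const, Finset.card_range, nsmul_eq_mul, mul_one] at h1
  rw [← h1, Nat.sub_add_cancel hp.one_le]

theorem div_natCast_self : Div p (p : ℂ) := by
  classical
  have hp : p.Prime := Fact.out
  have h0 : (0 : ℕ) ∈ Finset.range (p - 1) := Finset.mem_range.2 (by have := hp.two_le; omega)
  refine ⟨∏ i ∈ (Finset.range (p - 1)).erase 0, (1 - zetaN p ^ (i + 1)),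
    IsIntegral.prod _ fun i _ => isIntegral_one.sub (isIntegral_zeta.pow _), ?_⟩
  rw [← prod_one_sub, ← Finset.mul_prod_erase _ _ h0]
  simp

theorem dvd_of_div {n : ℤ} (h : Div p (n : ℂ)) : (p : ℤ) ∣ n := by
  have hp : p.Prime := Fact.out
  obtain ⟨s, hs, he⟩ := h
  have hg : ∀ i ∈ Finset.range (p - 1), ∃ g : ℂ, IsIntegral ℤ g ∧
      1 - zetaN p = (1 - zetaN p ^ (i + 1)) * g := by
    intro i hi
    have hcop : (i + 1).Coprime p := (hp.coprime_iff_not_dvd.2 fun hd => by
      have := Nat.le_of_dvd (by omega) hd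
      have := Finset.mem_range.1 hi
      omega).symm
    have hprim := (zetaN_isPrimitiveRoot hp.ne_zero).pow_of_coprime _ hcop
    have : NeZero p := ⟨hp.ne_zero⟩
    obtain ⟨l, -, hl⟩ := hprim.eq_pow_of_pow_eq_one (zetaN_isPrimitiveRoot hp.ne_zero).pow_eq_one
    refine ⟨∑ t ∈ Finset.range l, (zetaN p ^ (i + 1)) ^ t,
      IsIntegral.sum _ fun t _ => (isIntegral_zeta.pow _).pow t, ?_⟩
    conv_lhs => rw [← hl]
    linear_combination geom_sum_mul (zetaN p ^ (i + 1)) l
  choose! g hg1 hg2 using hg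
  have e : ((n : ℤ) : ℂ) ^ (p - 1) =
      (p : ℂ) * ((∏ i ∈ Finset.range (p - 1), g i) * s ^ (p - 1)) := by
    rw [he, mul_pow, ← prod_one_sub, ← mul_assoc, ← Finset.prod_mul_distrib]
    congr 1
    conv_lhs => rw [← Finset.card_range (p - 1), ← Finset.prod_const]
    exact Finset.prod_congr rfl hg2
  have hint : IsIntegral ℤ ((((n ^ (p - 1) : ℤ) : ℚ) / (p : ℚ) : ℚ) : ℂ) := by
    push_cast
    rw [e, mul_div_cancel_left₀ _ (by exact_mod_cast hp.ne_zero)]
    exact (IsIntegral.prod _ hg1).mul (hs.pow _)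
  obtain ⟨k, hk⟩ := CfsgLib.Char.exists_int_of_isIntegral_rat hint
  refine (Nat.prime_iff_prime_int.1 hp).dvd_of_dvd_pow (n := p - 1) ⟨k, ?_⟩
  rw [div_eq_iff (by exact_mod_cast hp.ne_zero)] at hk
  have : ((n ^ (p - 1) : ℤ) : ℚ) = (((p : ℤ) * k : ℤ) : ℚ) := by rw [hk]; push_cast; ring
  exact_mod_cast this

end Div

section Span

variable {H : Type u} [Group H] [Fintype H] {N : ℕ} [NeZero N]

/-- A class function all of whose coefficients at irreducible characters lie in `ℤ[ζ_N]`. -/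
structure InSpan (N : ℕ) (f : H → ℂ) : Prop where
  classFun : Cfsg.IsClassFunction H f
  coeff : ∀ μ, Cfsg.IsIrrCharacter H μ → Cfsg.classInner f μ ∈ cycInt N

omit [NeZero N] in
theorem inSpan_of_generalized {f : H → ℂ} (h : Cfsg.IsGeneralizedCharacter H f) : InSpan N f :=
  ⟨CfsgLib.Char.isGeneralized_isClassFunction h, fun μ hμ => by
    obtain ⟨k, hk⟩ := CfsgLib.Char.classInner_isGeneralized_int h
      (CfsgLib.Char.isGeneralized_of_isCharacter (CfsgLib.Char.irr_isCharacter hμ))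
    rw [hk]; exact intCast_mem _ k⟩

omit [NeZero N] in
theorem inSpan_of_char {f : H → ℂ} (h : Cfsg.IsCharacter H f) : InSpan N f :=
  inSpan_of_generalized (CfsgLib.Char.isGeneralized_of_isCharacter h)

omit [NeZero N] in
theorem InSpan.smul {f : H → ℂ} (h : InSpan N f) {a : ℂ} (ha : a ∈ cycInt N) :
    InSpan N (fun c => a * f c) := by
  refine ⟨fun g x => by simp only [h.classFun g x], fun μ hμ => ?_⟩
  rw [show (fun c => a * f c) = a • f from rfl, CfsgLib.Char.classInner_smul_left]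
  exact mul_mem ha (h.coeff μ hμ)

omit [NeZero N] in
theorem inSpan_zero : InSpan N (0 : H → ℂ) :=
  ⟨fun _ _ => rfl, fun μ _ => by rw [CfsgLib.Char.classInner_zero_left]; exact zero_mem _⟩

omit [NeZero N] in
theorem InSpan.add {f g : H → ℂ} (hf : InSpan N f) (hg : InSpan N g) : InSpan N (f + g) :=
  ⟨fun a x => by simp only [Pi.add_apply, hf.classFun a x, hg.classFun a x], fun μ hμ => by
    rw [CfsgLib.Char.classInner_add_left]; exact add_mem (hf.coeff μ hμ) (hg.coeff μ hμ)⟩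

omit [NeZero N] in
theorem InSpan.sum {ι : Type*} (s : Finset ι) {f : ι → H → ℂ} (h : ∀ i ∈ s, InSpan N (f i)) :
    InSpan N (∑ i ∈ s, f i) := by
  classical
  induction s using Finset.induction_on with
  | empty => simpa using inSpan_zero
  | @insert a s ha ih =>
    rw [Finset.sum_insert ha]
    exact (h a (Finset.mem_insert_self _ _)).add
      (ih fun i hi => h i (Finset.mem_insert_of_mem hi))

omit [NeZero N] in
theorem InSpan.mul {f g : H → ℂ} (hf : InSpan N f) (hg : InSpan N g) :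
    InSpan N (fun c => f c * g c) := by
  have := Fintype.ofFinite (Cfsg.IrrCharacter H)
  have e : (fun c => f c * g c) = ∑ χ : Cfsg.IrrCharacter H, ∑ ξ : Cfsg.IrrCharacter H,
      fun c => (Cfsg.classInner f (χ : H → ℂ) * Cfsg.classInner g (ξ : H → ℂ)) *
        ((χ : H → ℂ) c * (ξ : H → ℂ) c) := by
    funext c
    rw [CfsgLib.Char.classFunction_apply_eq_sum hf.classFun,
      CfsgLib.Char.classFunction_apply_eq_sum hg.classFun, Finset.sum_mul_sum]
    simp only [Finset.sum_apply]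
    exact Finset.sum_congr rfl fun χ _ => Finset.sum_congr rfl fun ξ _ => by ring
  rw [e]
  exact InSpan.sum _ fun χ _ => InSpan.sum _ fun ξ _ => (inSpan_of_char
    (CfsgLib.Char.isCharacter_mul (CfsgLib.Char.irr_isCharacter χ.2)
      (CfsgLib.Char.irr_isCharacter ξ.2))).smul (mul_mem (hf.coeff _ χ.2) (hg.coeff _ ξ.2))

/-- Dividing by a character with prime-power values. -/
theorem inSpan_of_mul_char {p : ℕ} [Fact p.Prime] (hHN : Nat.card H ∣ N)
    (hcop : ¬ p ∣ Nat.card H) {π : H → ℂ} (hπ : Cfsg.IsCharacter H π) (e : H → ℕ)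
    (hval : ∀ c, π c = (p : ℂ) ^ e c) {ψ : H → ℂ} (hψc : Cfsg.IsClassFunction H ψ)
    (hψ : ∀ c, ψ c ∈ cycInt N) (hprod : InSpan N (fun c => ψ c * π c)) : InSpan N ψ := by
  classical
  have hp : p.Prime := Fact.out
  set vals : Finset ℕ := Finset.univ.image e
  set P : ℤ[X] := ∏ j ∈ vals, (X - C ((p : ℤ) ^ j))
  have hP0 : ∀ c, aeval (π c) P = 0 := fun c => by
    rw [map_prod]
    refine Finset.prod_eq_zero (Finset.mem_image.2 ⟨c, Finset.mem_univ _, rfl⟩) ?_
    simp [hval]
  have hspan : ∀ R : ℤ[X], InSpan N (fun c => ψ c * π c * aeval (π c) R) := by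
    intro R
    induction R using Polynomial.induction_on' with
    | add R S hR hS =>
      refine Eq.subst (motive := InSpan N) ?_ (hR.add hS)
      funext c; simp [mul_add]
    | monomial k a =>
      have hpow : ∀ k, InSpan N (fun c => ψ c * π c * π c ^ k) := fun k => by
        induction k with
        | zero => simpa using hprod
        | succ k ih =>
          refine Eq.subst (motive := InSpan N) ?_ (ih.mul (inSpan_of_char hπ))
          funext c; ring
      refine Eq.subst (motive := InSpan N) ?_ ((hpow k).smul (intCast_mem _ a))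
      funext c; simp [aeval_monomial]; ring
  have hc0 : ∃ k : ℕ, (P.coeff 0).natAbs = p ^ k := by
    refine ⟨∑ j ∈ vals, j, ?_⟩
    rw [coeff_zero_eq_eval_zero, eval_prod, ← Finset.prod_pow_eq_pow_sum]
    have hab : ∀ t : Finset ℕ, (∏ j ∈ t, eval 0 (X - C ((p : ℤ) ^ j))).natAbs =
        ∏ j ∈ t, (eval 0 (X - C ((p : ℤ) ^ j))).natAbs := fun t => by
      induction t using Finset.induction_on with
      | empty => rfl
      | @insert a t ha ih => rw [Finset.prod_insert ha, Finset.prod_insert ha, Int.natAbs_mul, ih]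
    rw [hab]
    exact Finset.prod_congr rfl fun j _ => by simp [Int.natAbs_pow]
  obtain ⟨k, hk⟩ := hc0
  have hc : InSpan N (fun c => ((P.coeff 0 : ℤ) : ℂ) * ψ c) := by
    refine Eq.subst (motive := InSpan N) ?_
      ((hspan P.divX).smul (a := -1) (neg_mem (one_mem _)))
    funext c
    have h := congrArg (aeval (π c)) (X_mul_divX_add P)
    rw [map_add, map_mul, aeval_X, aeval_C, hP0] at h
    simp only [algebraMap_int_eq, eq_intCast] at h
    linear_combination -ψ c * h
  refine ⟨hψc, fun μ hμ => mem_of_mul_nat (A := (P.coeff 0).natAbs) (B := Nat.card H) ?_ ?_ ?_⟩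
  · rw [hk]; exact Nat.Coprime.pow_left k (hp.coprime_iff_not_dvd.2 hcop)
  · have h := hc.coeff μ hμ
    rw [show (fun c => ((P.coeff 0 : ℤ) : ℂ) * ψ c) = ((P.coeff 0 : ℤ) : ℂ) • ψ from rfl,
      CfsgLib.Char.classInner_smul_left] at h
    rcases Int.natAbs_eq (P.coeff 0) with hpos | hneg
    · rw [hpos] at h; simpa using h
    · rw [hneg] at h; simpa using neg_mem h
  · rw [CfsgLib.Char.classInner_def, ← mul_assoc, mul_inv_cancel₀ CfsgLib.Char.natCard_ne_zero,
      one_mul]
    exact sum_mem fun c _ =>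
      mul_mem (hψ c) (conj_mem (char_mem hHN (CfsgLib.Char.irr_isCharacter hμ) c))

theorem InSpan.apply_mem (hHN : Nat.card H ∣ N) {f : H → ℂ} (hf : InSpan N f) (c : H) :
    f c ∈ cycInt N := by
  have := Fintype.ofFinite (Cfsg.IrrCharacter H)
  rw [CfsgLib.Char.classFunction_apply_eq_sum hf.classFun]
  exact sum_mem fun χ _ =>
    mul_mem (hf.coeff _ χ.2) (char_mem hHN (CfsgLib.Char.irr_isCharacter χ.2) c)

end Span

end CfsgLib.BlockB.CycInt
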