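import Cfsg.Agent.Lib.BlockB.ClassMul
import Cfsg.Agent.Lib.Transfer.Frobenius
import Mathlib.Data.Nat.Factorization.Basic
import Mathlib.Tactic

/-!
# Counting without characters of defect zero
-/

namespace CfsgLib.BlockB

open scoped ComplexConjugate
open CfsgLib.Char

universe u

variable {G : Type u} [Group G] [Finite G] {p : ℕ} [Fact p.Prime]

/-- Without a character of `p`-defect zero, `p` times any degree divides the group order. -/
theorem degree_mul_prime_dvd_card (χ : Cfsg.IrrCharacter G)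
    (h : (Cfsg.charDegree (χ : G → ℂ)).factorization p ≠ (Nat.card G).factorization p) :
    Cfsg.charDegree (χ : G → ℂ) * p ∣ Nat.card G := by
  obtain ⟨c, hc⟩ := irr_degree_dvd_card χ
  rw [hc]
  refine Nat.mul_dvd_mul_left _ ?_
  have hc0 : c ≠ 0 := by
    rintro rfl
    exact Nat.card_pos.ne' (by simpa using hc)
  by_contra hpc
  apply h
  rw [hc, Nat.factorization_mul (irr_degree_ne_zero χ) hc0]
  simp [Nat.factorization_eq_zero_of_not_dvd hpc]

/-- The elements whose order is a power of `p`, as a predicate. -/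
def IsPElt (p : ℕ) (g : G) : Prop := ∃ k : ℕ, orderOf g = p ^ k

theorem isPElt_one : IsPElt p (1 : G) := ⟨0, by simp⟩

omit [Finite G] [Fact p.Prime] in
theorem isPElt_conj (g h : G) : IsPElt p (h * g * h⁻¹) ↔ IsPElt p g := by
  have : orderOf (h * g * h⁻¹) = orderOf g := MulEquiv.orderOf_eq (MulAut.conj h) g
  simp [IsPElt, this]

/-- Without a character of `p`-defect zero, the number of `t` for which `a * (t * b * t⁻¹)` is a
`p`-element is divisible by `p`. -/
theorem prime_dvd_card_conj_mul_pElt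
    (h : ∀ χ : Cfsg.IrrCharacter G,
      (Cfsg.charDegree (χ : G → ℂ)).factorization p ≠ (Nat.card G).factorization p)
    (a b : G) : p ∣ Nat.card {t : G // IsPElt p (a * (t * b * t⁻¹))} := by
  classical
  have := Fintype.ofFinite G
  have := Fintype.ofFinite (Cfsg.IrrCharacter G)
  obtain ⟨P⟩ := Sylow.nonempty (p := p) (G := G)
  set g : G → G := fun t => a * (t * b * t⁻¹) with hg
  let fx : G → ℕ := fun t =>
    Nat.card (MulAction.fixedPoints (Subgroup.zpowers (g t)) (G ⧸ (P : Subgroup G)))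
  choose k hk using fun χ : Cfsg.IrrCharacter G => sum_conj_subgroup_eq (P : Subgroup G) χ
  have h1 := sum_conjMemCount (P : Subgroup G) a b
  simp only [hk] at h1
  have hP0 : (Nat.card (P : Subgroup G) : ℂ) ≠ 0 := natCard_ne_zero
  have h2 : ((∑ t, fx t : ℕ) : ℂ) = ∑ χ : Cfsg.IrrCharacter G,
      ((Nat.card G : ℂ) / (χ : G → ℂ) 1) * k χ * (χ : G → ℂ) a * (χ : G → ℂ) b := by
    have e : (Nat.card (P : Subgroup G) : ℂ) * ((∑ t, fx t : ℕ) : ℂ) =
        ∑ t : G, (conjMemCount (P : Subgroup G) (a * (t * b * t⁻¹)) : ℂ) := by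
      rw [Nat.cast_sum, Finset.mul_sum]
      refine Finset.sum_congr rfl fun t _ => ?_
      rw [← Nat.cast_mul, conjMemCount_eq]
    rw [h1] at e
    apply mul_left_cancel₀ hP0
    rw [e, Finset.mul_sum, Finset.mul_sum]
    exact Finset.sum_congr rfl fun χ _ => by ring
  have h3 : p ∣ ∑ t, fx t := by
    refine CfsgLib.Char.dvd_of_isIntegral_div (Fact.out : p.Prime).pos ?_
    rw [h2, Finset.sum_div]
    refine IsIntegral.sum _ fun χ _ => ?_
    obtain ⟨m, hm⟩ := degree_mul_prime_dvd_card χ (h χ)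
    have e : ((Nat.card G : ℂ) / (χ : G → ℂ) 1) * k χ * (χ : G → ℂ) a * (χ : G → ℂ) b / (p : ℂ) =
        ((m * k χ : ℕ) : ℂ) * (χ : G → ℂ) a * (χ : G → ℂ) b := by
      rw [← irr_degree_cast χ, hm]
      have h1 : (Cfsg.charDegree (χ : G → ℂ) : ℂ) ≠ 0 := by
        exact_mod_cast irr_degree_ne_zero χ
      have h2 : (p : ℂ) ≠ 0 := by exact_mod_cast (Fact.out : p.Prime).ne_zero
      push_cast
      field_simp
    rw [e]
    have h7 : IsIntegral ℤ ((m * k χ : ℕ) : ℂ) := by
      simpa using isIntegral_algebraMap (R := ℤ) (A := ℂ) (x := ((m * k χ : ℕ) : ℤ))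
    exact (h7.mul (irr_isIntegral χ a)).mul (irr_isIntegral χ b)
  have h4 : ∑ t, fx t ≡ (P : Subgroup G).index *
      Nat.card {t : G // IsPElt p (a * (t * b * t⁻¹))} [MOD p] := by
    rw [Nat.card_eq_fintype_card, Fintype.card_subtype, mul_comm, ← smul_eq_mul,
      ← Finset.sum_const, Finset.sum_filter]
    rw [← ZMod.natCast_eq_natCast_iff, Nat.cast_sum, Nat.cast_sum]
    refine Finset.sum_congr rfl fun t _ => ?_
    rw [ZMod.natCast_eq_natCast_iff]
    split_ifs with ht
    · exact fixedPoints_modEq_index _ _ ht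
    · have h0 := conjMemCount_eq_zero_of_not_isPPower (P : Subgroup G) P.2 (g t) ht
      rw [conjMemCount_eq] at h0
      have : fx t = 0 := (mul_eq_zero.1 h0).resolve_left Nat.card_pos.ne'
      rw [this]
  exact ((Fact.out : p.Prime).dvd_mul.1 ((Nat.ModEq.dvd_iff h4 dvd_rfl).1 h3)).resolve_left
    P.not_dvd_index

/-- Without a character of `p`-defect zero, an element with `p'`-centralizer has a conjugate,
different from it, with quotient a `p`-element. -/
theorem exists_conj_quotient_pElt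
    (h : ∀ χ : Cfsg.IrrCharacter G,
      (Cfsg.charDegree (χ : G → ℂ)).factorization p ≠ (Nat.card G).factorization p)
    (z : G) (hz : ¬ p ∣ Nat.card (Subgroup.centralizer ({z} : Set G))) :
    ∃ t : G, t * z * t⁻¹ ≠ z ∧ IsPElt p (z⁻¹ * (t * z * t⁻¹)) := by
  by_contra hne
  push Not at hne
  apply hz
  have h1 := prime_dvd_card_conj_mul_pElt h z⁻¹ z
  have h2 : Nat.card {t : G // IsPElt p (z⁻¹ * (t * z * t⁻¹))} =
      Nat.card (Subgroup.centralizer ({z} : Set G)) := by
    refine Nat.card_congr (Equiv.subtypeEquivRight fun t => ?_)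
    rw [Subgroup.mem_centralizer_singleton_iff]
    constructor
    · intro ht
      by_contra hc
      exact hne t (fun e => hc (mul_inv_eq_iff_eq_mul.1 e)) ht
    · intro hc
      rw [show t * z * t⁻¹ = z from by rw [hc]; group, inv_mul_cancel]
      exact isPElt_one
  rwa [h2] at h1

omit [Finite G] [Fact p.Prime] in
/-- The normalizer of a subgroup normalizes its centralizer. -/
theorem normalizer_le_normalizer_centralizer' (S : Subgroup G) :
    Subgroup.normalizer (S : Set G) ≤
      Subgroup.normalizer (Subgroup.centralizer (S : Set G) : Set G) := by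
  intro n hn
  have key : ∀ n ∈ Subgroup.normalizer (S : Set G), ∀ c ∈ Subgroup.centralizer (S : Set G),
      n * c * n⁻¹ ∈ Subgroup.centralizer (S : Set G) := by
    intro n hn c hc
    rw [Subgroup.mem_centralizer_iff] at hc ⊢
    intro x hx
    have h1 := ((Subgroup.mem_normalizer_iff.1 ((Subgroup.normalizer (S : Set G)).inv_mem hn)) x).1 hx
    rw [inv_inv] at h1
    calc x * (n * c * n⁻¹) = n * ((n⁻¹ * x * n) * c) * n⁻¹ := by group
      _ = n * (c * (n⁻¹ * x * n)) * n⁻¹ := by rw [hc _ h1]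
      _ = n * c * n⁻¹ * x := by group
  refine Subgroup.mem_normalizer_iff.2 fun c => ⟨key n hn c, fun h => ?_⟩
  have := key n⁻¹ (Subgroup.inv_mem _ hn) _ h
  simpa [mul_assoc] using this

variable {s : G}

/-- An involution with `p'`-centralizer normalizing a `p`-group inverts it. -/
theorem inverts_of_normalizes (hs : s * s = 1)
    (hcs : ¬ p ∣ Nat.card (Subgroup.centralizer ({s} : Set G))) {R : Subgroup G}
    (hR : IsPGroup p R) (hn : ∀ x ∈ R, s * x * s ∈ R) : ∀ x ∈ R, s * x * s = x⁻¹ := by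
  have hsi : s⁻¹ = s := inv_eq_of_mul_eq_one_right hs
  let f : R → R := fun x => ⟨(x : G)⁻¹ * (s * x * s), R.mul_mem (R.inv_mem x.2) (hn x x.2)⟩
  have hinj : Function.Injective f := by
    rintro ⟨x, hx⟩ ⟨y, hy⟩ e
    have e' : x⁻¹ * (s * x * s) = y⁻¹ * (s * y * s) := congrArg Subtype.val e
    set d := y * x⁻¹ with hd
    have hdR : d ∈ R := R.mul_mem hy (R.inv_mem hx)
    have hds : s * d * s = d := by
      calc s * d * s = (s * y * s) * (s * x * s)⁻¹ := by
            have h3 : ∀ w : G, s * (s * w) = w := fun w => by rw [← mul_assoc, hs, one_mul]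
            simp only [hd, mul_inv_rev, hsi, mul_assoc, h3]
        _ = d := by
          have : s * x * s = x * (y⁻¹ * (s * y * s)) := by rw [← e']; group
          rw [this, hd]; group
    have hdc : d ∈ Subgroup.centralizer ({s} : Set G) := by
      rw [Subgroup.mem_centralizer_singleton_iff]
      calc d * s = (s * d * s) * s := by rw [hds]
        _ = s * d := by rw [mul_assoc, hs, mul_one]
    by_contra hne
    have hd1 : d ≠ 1 := by
      intro h1
      apply hne
      ext
      rw [hd, mul_inv_eq_one] at h1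
      exact h1.symm
    obtain ⟨k, hk⟩ := IsPGroup.iff_orderOf.1 hR ⟨d, hdR⟩
    rw [← Subgroup.orderOf_coe] at hk
    rcases k with _ | k
    · exact hd1 (orderOf_eq_one_iff.1 (by simpa using hk))
    · have hd2 : orderOf d ∣ Nat.card (Subgroup.centralizer ({s} : Set G)) :=
        Subgroup.orderOf_coe (⟨d, hdc⟩ : Subgroup.centralizer ({s} : Set G)) ▸ orderOf_dvd_natCard _
      exact hcs ((dvd_pow_self p k.succ_ne_zero).trans (hk ▸ hd2))
  intro x hx
  obtain ⟨y, hy⟩ := (Finite.injective_iff_surjective.1 hinj) ⟨x, hx⟩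
  have hy' : (y : G)⁻¹ * (s * y * s) = x := congrArg Subtype.val hy
  rw [← hy']
  have h3 : ∀ w : G, s * (s * w) = w := fun w => by rw [← mul_assoc, hs, one_mul]
  simp only [mul_inv_rev, inv_inv, hsi, mul_assoc, h3, hs, mul_one]

/-- If `G` has no character of `p`-defect zero and no element of order `2p`, every involution
inverts a Sylow `p`-subgroup elementwise. -/
theorem exists_sylow_inverted (hp2 : p ≠ 2)
    (h : ∀ χ : Cfsg.IrrCharacter G,
      (Cfsg.charDegree (χ : G → ℂ)).factorization p ≠ (Nat.card G).factorization p)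
    (h2p : ∀ g : G, orderOf g ≠ 2 * p) (hs : orderOf s = 2) :
    ∃ P : Sylow p G, (∀ x ∈ (P : Subgroup G), s * x * s = x⁻¹) ∧ (P : Subgroup G) ≠ ⊥ := by
  classical
  have hp : p.Prime := Fact.out
  have hs2 : s * s = 1 := by rw [← pow_two, ← hs, pow_orderOf_eq_one]
  have hsi : s⁻¹ = s := inv_eq_of_mul_eq_one_right hs2
  have hcomm : ∀ y : G, orderOf y = p → Commute s y → False := fun y hy hc =>
    h2p (s * y) (by
      rw [hc.orderOf_mul_eq_mul_orderOf_of_coprime, hs, hy]
      rw [hs, hy]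
      exact (Nat.coprime_primes Nat.prime_two hp).2 (Ne.symm hp2))
  have hcs : ¬ p ∣ Nat.card (Subgroup.centralizer ({s} : Set G)) := by
    intro hd
    obtain ⟨y, hy⟩ := exists_prime_orderOf_dvd_card' p hd
    refine hcomm y (by rw [Subgroup.orderOf_coe, hy]) ?_
    exact (Subgroup.mem_centralizer_singleton_iff.1 y.2).symm
  obtain ⟨t, ht, hu⟩ := exists_conj_quotient_pElt h s hcs
  set u := s⁻¹ * (t * s * t⁻¹) with hu'
  have hu1 : u ≠ 1 := fun e => ht (inv_mul_eq_one.1 e).symm
  have hinv : s * u * s = u⁻¹ := by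
    have h4 : (t * s * t⁻¹)⁻¹ = t * s * t⁻¹ := by simp only [mul_inv_rev, inv_inv, hsi, mul_assoc]
    rw [hu', mul_inv_rev, h4, inv_inv, hsi, ← mul_assoc, ← mul_assoc, ← mul_assoc, hs2, one_mul]
  obtain ⟨ku, hku⟩ := hu
  let 𝒮 : Finset (Subgroup G) := @Finset.filter _
    (fun S => IsPGroup p S ∧ S ≠ ⊥ ∧ ∀ x ∈ S, s * x * s = x⁻¹) (Classical.decPred _)
    (@Finset.univ _ (Fintype.ofFinite _))
  have hU : Subgroup.zpowers u ∈ 𝒮 := by
    simp only [𝒮, Finset.mem_filter, Finset.mem_univ, true_and]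
    refine ⟨IsPGroup.of_card (n := ku) (by rw [Nat.card_zpowers, hku]), ?_, ?_⟩
    · simpa [Subgroup.zpowers_eq_bot] using hu1
    · rintro x ⟨n, rfl⟩
      have := congrArg (fun w => w ^ n) hinv
      simp only [inv_zpow] at this
      change s * u ^ n * s = (u ^ n)⁻¹
      rw [← this]
      conv_rhs => arg 1; rw [show s * u * s = s * u * s⁻¹ by rw [hsi]]
      rw [conj_zpow, hsi]
  obtain ⟨S, hS, hmax⟩ := Finset.exists_max_image 𝒮 (fun S => Nat.card S) ⟨_, hU⟩
  simp only [𝒮, Finset.mem_filter, Finset.mem_univ, true_and] at hS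
  obtain ⟨hSp, hS1, hSinv⟩ := hS
  obtain ⟨Q, hSQ⟩ := hSp.exists_le_sylow
  suffices hQS : (Q : Subgroup G) = S from
    ⟨Q, by rw [hQS]; exact hSinv, by rw [hQS]; exact hS1⟩
  by_contra hne
  obtain ⟨w, hwQ, hwN, hwS⟩ := CfsgLib.Transfer.exists_mem_normalizer_not_mem Q.2
    (lt_of_le_of_ne hSQ (Ne.symm hne))
  set C := Subgroup.centralizer (S : Set G) with hC
  have hodd : Odd (Nat.card C) := by
    rw [← Nat.not_even_iff_odd]
    intro he
    obtain ⟨j, hj⟩ := exists_prime_orderOf_dvd_card' 2 (even_iff_two_dvd.1 he)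
    obtain ⟨y, hy⟩ := exists_prime_orderOf_dvd_card' p (hSp.card_eq_or_dvd.resolve_left fun e =>
      hS1 (Subgroup.card_eq_one.1 e))
    have hc : Commute (j : G) (y : G) := (Subgroup.mem_centralizer_iff.1 j.2 y y.2).symm
    refine h2p ((j : G) * y) ?_
    rw [hc.orderOf_mul_eq_mul_orderOf_of_coprime, Subgroup.orderOf_coe, Subgroup.orderOf_coe, hj, hy]
    rw [Subgroup.orderOf_coe, Subgroup.orderOf_coe, hj, hy]
    exact (Nat.coprime_primes Nat.prime_two hp).2 (Ne.symm hp2)
  -- every element normalizing `S` is a product of one centralizing `S` and one centralizing `s`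
  have hsplit : ∀ m ∈ Subgroup.normalizer (S : Set G), ∃ c ∈ C, c * m * s = s * (c * m) := by
    intro m hm
    have hcC : m * s * m⁻¹ * s ∈ C := by
      rw [hC, Subgroup.mem_centralizer_iff]
      intro x hx
      have hy : m⁻¹ * (s * x * s) * m ∈ S := by
        rw [hSinv x hx]
        have := ((Subgroup.mem_normalizer_iff.1 ((Subgroup.normalizer (S : Set G)).inv_mem hm))
          x⁻¹).1 (S.inv_mem hx)
        simpa using this
      have h5 := hSinv _ hy
      rw [hSinv x hx] at h5
      have h6 : (m * s * m⁻¹ * s) * x * (m * s * m⁻¹ * s)⁻¹ = x := by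
        calc (m * s * m⁻¹ * s) * x * (m * s * m⁻¹ * s)⁻¹
            = m * (s * (m⁻¹ * (s * x * s) * m) * s) * m⁻¹ := by
              simp only [mul_inv_rev, inv_inv, hsi, mul_assoc]
          _ = x := by rw [hSinv x hx, h5]; group
      exact (mul_inv_eq_iff_eq_mul.1 h6).symm
    set c := m * s * m⁻¹ * s with hc
    have hodd' : Odd (orderOf c) := hodd.of_dvd_nat
      (Subgroup.orderOf_coe (⟨c, hcC⟩ : C) ▸ orderOf_dvd_natCard _)
    obtain ⟨k, hk⟩ := hodd'
    have hscs : s * c * s = c⁻¹ := by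
      rw [hc]
      simp only [mul_inv_rev, inv_inv, hsi, mul_assoc, hs2, mul_one]
    refine ⟨c ^ k, C.pow_mem hcC k, ?_⟩
    have hm' : m * s = c * (s * m) := by
      rw [hc]; simp only [mul_assoc]
      rw [← mul_assoc s s, hs2, one_mul, inv_mul_cancel, mul_one]
    have hsck : s * c ^ k = c⁻¹ ^ k * s := by
      rw [← hscs, show s * c * s = s * c * s⁻¹ by rw [hsi], conj_pow]
      simp [mul_assoc]
    have hck : c ^ k * c = c⁻¹ ^ k := by
      rw [inv_pow, eq_inv_iff_mul_eq_one, ← pow_succ, ← pow_add,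
        show k + 1 + k = 2 * k + 1 by ring, ← hk, pow_orderOf_eq_one]
    calc c ^ k * m * s = c ^ k * c * (s * m) := by rw [mul_assoc, hm', ← mul_assoc]
      _ = c⁻¹ ^ k * s * m := by rw [hck, mul_assoc]
      _ = s * (c ^ k * m) := by rw [← hsck, mul_assoc]
  -- `p`-elements normalizing `S` centralize it
  have hpel : ∀ y ∈ Subgroup.normalizer (S : Set G), IsPElt p y → y ∈ C := by
    intro y hy hyp
    obtain ⟨c, hc, hcy⟩ := hsplit y hy
    have hd : c * y ∈ Subgroup.centralizer ({s} : Set G) :=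
      Subgroup.mem_centralizer_singleton_iff.2 hcy
    let N := Subgroup.normalizer (S : Set G)
    have hCN : C ≤ N := Subgroup.centralizer_le_normalizer _
    have : (C.subgroupOf N).Normal := Subgroup.normal_subgroupOf_centralizer_normalizer (S : Set G)
    let π := QuotientGroup.mk' (C.subgroupOf N)
    have e1 : π ⟨c * y, N.mul_mem (hCN hc) hy⟩ = π ⟨y, hy⟩ := by
      rw [show (⟨c * y, N.mul_mem (hCN hc) hy⟩ : N) = ⟨c, hCN hc⟩ * ⟨y, hy⟩ from rfl, map_mul,
        show π ⟨c, hCN hc⟩ = 1 from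
          (QuotientGroup.eq_one_iff _).2 (Subgroup.mem_subgroupOf.2 hc), one_mul]
    obtain ⟨k, hk⟩ := hyp
    have h1 : orderOf (π ⟨y, hy⟩) ∣ p ^ k := by
      rw [← hk, ← Subgroup.orderOf_mk y hy]; exact orderOf_map_dvd π _
    have h2 : orderOf (π ⟨y, hy⟩) ∣ Nat.card (Subgroup.centralizer ({s} : Set G)) := by
      rw [← e1]
      refine (orderOf_map_dvd π _).trans ?_
      rw [Subgroup.orderOf_mk, ← Subgroup.orderOf_mk _ hd]
      exact orderOf_dvd_natCard _
    have h3 : orderOf (π ⟨y, hy⟩) = 1 := Nat.dvd_one.1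
      ((((hp.coprime_iff_not_dvd).2 hcs).pow_left k).gcd_eq_one ▸ Nat.dvd_gcd h1 h2)
    exact Subgroup.mem_subgroupOf.1 ((QuotientGroup.eq_one_iff _).1 (orderOf_eq_one_iff.1 h3))
  -- a Sylow subgroup of `C` normalized by `s`
  have hsC : s ∈ Subgroup.normalizer (C : Set G) := by
    refine normalizer_le_normalizer_centralizer' _ (Subgroup.mem_normalizer_iff.2 fun x => ?_)
    rw [hsi]
    constructor
    · intro hx; rw [hSinv x hx]; exact S.inv_mem hx
    · intro hx
      have := S.inv_mem hx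
      rw [← hSinv _ hx] at this
      have h3 : ∀ w : G, s * (s * w) = w := fun w => by rw [← mul_assoc, hs2, one_mul]
      simpa only [mul_assoc, h3, hs2, mul_one] using this
  obtain ⟨R, hRC, hRp, hRs, hRcard⟩ : ∃ R : Subgroup G, R ≤ C ∧ IsPGroup p R ∧
      (∀ x ∈ R, s * x * s ∈ R) ∧
        ∀ T : Subgroup G, T ≤ C → IsPGroup p T → Nat.card T ≤ Nat.card R := by
    let α : MulAut C := C.normalizerMonoidHom ⟨s, hsC⟩
    have hα : ∀ x : C, ((α x : C) : G) = s * x * s := fun x => by
      change s * (x : G) * s⁻¹ = _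
      rw [hsi]
    have hodd2 : Odd (Nat.card (Sylow p C)) := by
      obtain ⟨R0⟩ := Sylow.nonempty (p := p) (G := C)
      exact hodd.of_dvd_nat ((Sylow.card_dvd_index R0).trans (Subgroup.index_dvd_card _))
    obtain ⟨R, hR⟩ : ∃ R : Sylow p C, α • R = R := by
      by_contra hno
      push Not at hno
      have := Fintype.ofFinite (Sylow p C)
      have hαα : ∀ R : Sylow p C, α • α • R = R := fun R => by
        rw [← mul_smul, show α * α = 1 from ?_, one_smul]
        ext x
        have h3 : ∀ w : G, s * (s * w) = w := fun w => by rw [← mul_assoc, hs2, one_mul]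
        simp only [MulAut.mul_apply, MulAut.one_apply, hα]
        simp only [mul_assoc, h3, hs2, mul_one]
      have heven : Even (Fintype.card (Sylow p C)) := by
        rw [← Finset.card_univ, even_iff_two_dvd, ← ZMod.natCast_eq_zero_iff]
        rw [Finset.card_eq_sum_ones, Nat.cast_sum]
        exact Finset.sum_involution (fun R _ => α • R) (fun R _ => by decide)
          (fun R _ _ => hno R) (fun R _ => Finset.mem_univ _) (fun R _ => hαα R)
      rw [Nat.card_eq_fintype_card] at hodd2
      exact (Nat.not_even_iff_odd.2 hodd2) heven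
    refine ⟨(R : Subgroup C).map C.subtype, Subgroup.map_subtype_le _, R.2.map _, ?_, ?_⟩
    · rintro _ ⟨x, hx, rfl⟩
      refine ⟨α x, ?_, hα x⟩
      have : α x ∈ ((α • R : Sylow p C) : Subgroup C) := by
        exact Subgroup.smul_mem_pointwise_smul x α _ hx
      rwa [hR] at this
    · intro T hTC hT
      obtain ⟨R', hR'⟩ := (hT.comap_subtype (K := C)).exists_le_sylow
      calc Nat.card T = Nat.card (T.subgroupOf C) :=
            (Nat.card_congr (Subgroup.subgroupOfEquivOfLe hTC).toEquiv).symm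
        _ ≤ Nat.card (R' : Subgroup C) := Subgroup.card_le_of_le hR'
        _ = Nat.card (R : Subgroup C) := by rw [R'.card_eq_multiplicity, R.card_eq_multiplicity]
        _ = _ := (Subgroup.card_subtype _ _).symm
  have hRinv := inverts_of_normalizes hs2 hcs hRp hRs
  let T : Subgroup G := (Q : Subgroup G) ⊓ Subgroup.normalizer (S : Set G)
  have hTp : IsPGroup p T := Q.2.to_le inf_le_left
  have hTC : T ≤ C := fun y hy => hpel y hy.2 (by
    obtain ⟨k, hk⟩ := IsPGroup.iff_orderOf.1 hTp ⟨y, hy⟩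
    exact ⟨k, by rwa [← Subgroup.orderOf_coe] at hk⟩)
  have hST : S < T := lt_of_le_of_ne (le_inf hSQ Subgroup.le_normalizer)
    fun e => hwS (e ▸ ⟨hwQ, hwN⟩)
  have h1 : Nat.card T ≤ Nat.card R := hRcard T hTC hTp
  have h2 : Nat.card S < Nat.card T :=
    lt_of_le_of_ne (Subgroup.card_le_of_le hST.le)
      fun e => hST.ne (Subgroup.eq_of_le_of_card_ge hST.le e.ge)
  have hR𝒮 : R ∈ 𝒮 := by
    simp only [𝒮, Finset.mem_filter, Finset.mem_univ, true_and]
    refine ⟨hRp, fun e => ?_, hRinv⟩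
    rw [e, Subgroup.card_bot] at h1
    have : 0 < Nat.card S := Nat.card_pos
    omega
  have := hmax R hR𝒮
  omega

omit [Finite G] [Fact p.Prime] in
/-- A subgroup inverted by an element is abelian. -/
theorem isMulCommutative_of_inverted {s : G} (hs : s * s = 1) {P : Subgroup G}
    (h : ∀ x ∈ P, s * x * s = x⁻¹) : IsMulCommutative P := by
  refine ⟨⟨fun a b => Subtype.ext ?_⟩⟩
  have e := h _ (P.mul_mem a.2 b.2)
  have e2 : s * ((a : G) * b) * s = (s * a * s) * (s * b * s) := by
    have h3 : ∀ w : G, s * (s * w) = w := fun w => by rw [← mul_assoc, hs, one_mul]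
    simp only [mul_assoc, h3]
  rw [e2, h _ a.2, h _ b.2] at e
  have := congrArg (·⁻¹) e
  simpa using this.symm

end CfsgLib.BlockB
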