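import Cfsg.Agent.Lib.Block.Covering
import Cfsg.Agent.Lib.BlockB.ClassMul
import Cfsg.Agent.Lib.BlockB.PSolvableCentralizer
import Cfsg.Agent.Lib.Char.Fixed
import Cfsg.Agent.Lib.Char.Linear
import Cfsg.Agent.Lib.Clifford.Correspondence
import Cfsg.Agent.Lib.Coprime.Generation
import Cfsg.Agent.Lib.Coprime.Action
import Cfsg.Agent.Lib.Coprime.Sylow
import Cfsg.Agent.Lib.StructC.PSolvableQuot

/-!
Characters of defect zero when no element of order `p` commutes with one of order `q`.
-/

set_option autoImplicit false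
set_option linter.unusedSectionVars false

namespace CfsgLib.BlockB.DefectZeroPQ

open CfsgLib

universe u

variable {G : Type u} [Group G] [Finite G]

/-- An inertia group of order prime to `q` gives a character of `q`-defect zero. -/
theorem defectZero_of_inertia {q : ℕ} [Fact q.Prime] {N : Subgroup G} [N.Normal]
    (θ : Cfsg.IrrCharacter N) (h : ¬ q ∣ Nat.card (Clifford.inertia (θ : N → ℂ))) :
    ∃ χ : Cfsg.IrrCharacter G,
      (Cfsg.charDegree (χ : G → ℂ)).factorization q = (Nat.card G).factorization q := by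
  have := Fintype.ofFinite G
  have := Fintype.ofFinite N
  set T := Clifford.inertia (θ : N → ℂ) with hTdef
  have := Fintype.ofFinite T
  obtain ⟨χ, hχ⟩ := Block.exists_over_constituent (G := G) θ
  obtain ⟨ψ, hψ, hind, -⟩ := Clifford.exists_indFun_inertia T
    (Clifford.le_inertia (Char.irr_isClassFunction θ.2)) θ.2
    (fun g => Clifford.mem_inertia_iff_conjFn) χ.2 hχ
  refine ⟨χ, le_antisymm ?_ ?_⟩
  · exact (Nat.factorization_le_iff_dvd (fun e => by
      have h0 := BlockB.irr_degree_dvd_card χ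
      rw [e, zero_dvd_iff] at h0
      exact Nat.card_pos.ne' h0) Nat.card_pos.ne').2 (BlockB.irr_degree_dvd_card χ) q
  · have h1 : (χ : G → ℂ) 1 = (T.index : ℂ) * ψ 1 := by
      rw [← hind, Char.indFun_apply_one]
    rw [← BlockB.charDegree_cast (Char.irr_isCharacter χ.2),
      ← BlockB.charDegree_cast (Char.irr_isCharacter hψ)] at h1
    have h2 : Cfsg.charDegree (χ : G → ℂ) = T.index * Cfsg.charDegree ψ := by exact_mod_cast h1
    have hne : T.index * Cfsg.charDegree ψ ≠ 0 := by
      rw [← h2]
      intro e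
      have h0 := BlockB.irr_degree_dvd_card χ
      rw [e, zero_dvd_iff] at h0
      exact Nat.card_pos.ne' h0
    rw [h2, ← T.card_mul_index, Nat.factorization_mul Nat.card_pos.ne' (left_ne_zero_of_mul hne),
      Nat.factorization_mul (left_ne_zero_of_mul hne) (right_ne_zero_of_mul hne), Finsupp.add_apply,
      Finsupp.add_apply, Nat.factorization_eq_zero_of_not_dvd h, zero_add]
    exact Nat.le_add_right _ _

/-- An element whose order is a multiple of a prime has a power of that order. -/
theorem exists_pow_orderOf {p : ℕ} [Fact p.Prime] {w : G} (h : p ∣ orderOf w) :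
    ∃ i : ℕ, orderOf (w ^ i) = p := by
  refine ⟨orderOf w / p, ?_⟩
  have hdvd : orderOf w / p ∣ orderOf w := Nat.div_dvd_of_dvd h
  have hne : orderOf w / p ≠ 0 :=
    (Nat.div_pos (Nat.le_of_dvd (orderOf_pos w) h) (Fact.out : p.Prime).pos).ne'
  rw [orderOf_pow_of_dvd hne hdvd, Nat.div_div_self h (orderOf_pos w).ne']

variable {p q : ℕ}

/-- Two elements of order `p` in a `p`-group normalising a `p'`-group of order divisible by `q`. -/
theorem mem_zpowers_of_orderOf [hp : Fact p.Prime] [Fact q.Prime]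
    (hne : ∀ x y : G, orderOf x = p → orderOf y = q → ¬ Commute x y) (hpq : p ≠ q)
    {K : Subgroup G} [K.Normal] (hK : (Nat.card K).Coprime p) (hqK : q ∣ Nat.card K)
    {P : Subgroup G} (hP : IsPGroup p P) {a b : G} (ha : a ∈ P) (hb : b ∈ P)
    (hao : orderOf a = p) (hbo : orderOf b = p) : b ∈ Subgroup.zpowers a := by
  have : Nontrivial P := ⟨⟨⟨a, ha⟩, 1, fun e => hp.out.one_lt.ne'
    (hao ▸ orderOf_eq_one_iff.2 (congrArg Subtype.val e))⟩⟩
  obtain ⟨c₀, hc₀⟩ := exists_prime_orderOf_dvd_card' (G := Subgroup.center P) p (by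
    obtain ⟨k, hk⟩ := IsPGroup.iff_card.1 (hP.to_subgroup (Subgroup.center P))
    rcases k with _ | k
    · exact absurd hk (by
        rw [pow_zero]; exact (Finite.one_lt_card_iff_nontrivial.2 hP.center_nontrivial).ne')
    · rw [hk]; exact dvd_pow_self p k.succ_ne_zero)
  set c : G := ((c₀ : P) : G) with hc
  have hco : orderOf c = p := by rw [hc, Subgroup.orderOf_coe, Subgroup.orderOf_coe, hc₀]
  suffices key : ∀ x ∈ P, orderOf x = p → x ∈ Subgroup.zpowers c by
    obtain ⟨i, hi⟩ := Subgroup.mem_zpowers_iff.1 (key a ha hao)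
    have hle : Subgroup.zpowers a ≤ Subgroup.zpowers c := Subgroup.zpowers_le.2 (key a ha hao)
    rw [Subgroup.eq_of_le_of_card_ge hle (by rw [Nat.card_zpowers, Nat.card_zpowers, hao, hco])]
    exact key b hb hbo
  intro x hxP hxo
  by_contra hxc
  have hcomm : x * c = c * x := by
    have h := Subgroup.mem_center_iff.1 c₀.2 ⟨x, hxP⟩
    exact congrArg Subtype.val h
  set A := Subgroup.closure ({x, c} : Set G) with hA
  have hAab : IsMulCommutative A := Subgroup.isMulCommutative_closure (by
    rintro u (rfl | rfl) v (rfl | rfl) <;> first | rfl | exact hcomm | exact hcomm.symm)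
  have hxA : x ∈ A := Subgroup.subset_closure (by simp)
  have hcA : c ∈ A := Subgroup.subset_closure (by simp)
  have hpow : ∀ w ∈ A, w ^ p = 1 := by
    intro w hw
    induction hw using Subgroup.closure_induction with
    | mem u hu =>
      rcases hu with rfl | rfl
      · rw [← hxo]; exact pow_orderOf_eq_one _
      · rw [← hco]; exact pow_orderOf_eq_one _
    | one => exact one_pow p
    | mul u v hu hv h1 h2 =>
      rw [(show Commute u v from
        congrArg Subtype.val (hAab.is_comm.comm ⟨u, hu⟩ ⟨v, hv⟩)).mul_pow, h1, h2, one_mul]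
    | inv u hu h1 => rw [inv_pow, h1, inv_one]
  have hnc : ¬ IsCyclic A := by
    intro hcyc
    obtain ⟨w, hw⟩ := IsCyclic.exists_generator (α := A)
    refine hxc ?_
    have hle : Subgroup.zpowers c ≤ Subgroup.zpowers (w : G) := by
      obtain ⟨i, hi⟩ := Subgroup.mem_zpowers_iff.1 (hw ⟨c, hcA⟩)
      exact Subgroup.zpowers_le.2 (Subgroup.mem_zpowers_iff.2 ⟨i, congrArg Subtype.val hi⟩)
    rw [Subgroup.eq_of_le_of_card_ge hle (by
      rw [Nat.card_zpowers, Nat.card_zpowers, hco]
      exact Nat.le_of_dvd hp.out.pos (orderOf_dvd_of_pow_eq_one (hpow w w.2)))]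
    obtain ⟨i, hi⟩ := Subgroup.mem_zpowers_iff.1 (hw ⟨x, hxA⟩)
    exact Subgroup.mem_zpowers_iff.2 ⟨i, congrArg Subtype.val hi⟩
  have hAp : IsPGroup p A := hP.to_le (Subgroup.closure_le _ |>.2 (by
    rintro u (rfl | rfl)
    · exact hxP
    · exact (c₀ : P).2))
  obtain ⟨k, hk⟩ := IsPGroup.iff_card.1 hAp
  have hnormK : A ≤ Subgroup.normalizer (K : Set G) := by
    rw [Subgroup.normalizer_eq_top]; exact le_top
  have hcop : (Nat.card A).Coprime (Nat.card K) := hk ▸ hK.symm.pow_left k
  obtain ⟨Q, hQ⟩ := Coprime.exists_invariant_sylow hnormK hcop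
    (Or.inl (Group.isSolvable_of_comm hAab.is_comm.comm)) q
  set Q' := (Q : Subgroup K).map K.subtype with hQ'
  have hQcard : Nat.card Q' = Nat.card Q := Subgroup.card_map_of_injective K.subtype_injective
  obtain ⟨j, hj⟩ := IsPGroup.iff_card.1 Q.2
  have hgen := Coprime.iSup_centralizer_eq hAab hnc hQ (by
    rw [hk, hQcard, hj]
    exact Nat.Coprime.pow k j ((Nat.coprime_primes hp.out Fact.out).2 hpq))
  have hQbot : Q' = ⊥ := by
    rw [← hgen, eq_bot_iff]
    refine iSup_le fun ⟨w, hwA, hw1⟩ => ?_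
    intro y hy
    rw [Subgroup.mem_inf, Subgroup.mem_centralizer_singleton_iff] at hy
    rw [Subgroup.mem_bot]
    by_contra hy1
    have hwo : orderOf w = p := orderOf_eq_prime (hpow w hwA) hw1
    have hyq : q ∣ orderOf y := by
      obtain ⟨i, hi⟩ := IsPGroup.iff_orderOf.1 (IsPGroup.of_card (hQcard.trans hj)) ⟨y, hy.1⟩
      rw [Subgroup.orderOf_mk] at hi
      rcases i with _ | i
      · exact absurd (orderOf_eq_one_iff.1 (hi.trans (pow_zero q))) hy1
      · exact hi ▸ dvd_pow_self q i.succ_ne_zero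
    obtain ⟨i, hi⟩ := exists_pow_orderOf hyq
    exact hne w _ hwo hi ((show Commute w y from hy.2.symm).pow_right i)
  have h1 : q ∣ Nat.card Q' := hQcard ▸ Q.dvd_card_of_dvd_card hqK
  rw [hQbot, Subgroup.card_bot] at h1
  exact (Fact.out : q.Prime).one_lt.ne' (Nat.dvd_one.1 h1)

/-- No element of order `p` commutes with one of order `q`, and the group is `p`-solvable. -/
theorem main [hp : Fact p.Prime] [hq : Fact q.Prime]
    (hne : ∀ x y : G, orderOf x = p → orderOf y = q → ¬ Commute x y) (hpq : p ≠ q)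
    (hpG : p ∣ Nat.card G) (hs : Cfsg.IsPSolvable p G) :
    (∃ χ : Cfsg.IrrCharacter G,
      (Cfsg.charDegree (χ : G → ℂ)).factorization p = (Nat.card G).factorization p) ∨
    ∃ χ : Cfsg.IrrCharacter G,
      (Cfsg.charDegree (χ : G → ℂ)).factorization q = (Nat.card G).factorization q := by
  classical
  have := Fintype.ofFinite G
  have := CfsgLib.Solvable.pPrimeCore_normal p G
  set K := Cfsg.pPrimeCore p G with hKdef
  have hKp : (Nat.card K).Coprime p := CfsgLib.Solvable.pPrimeCore_coprime p
  have := CfsgLib.Solvable.pCore_normal p (G ⧸ K)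
  set V := Cfsg.pCore p (G ⧸ K) with hV
  have hVp : IsPGroup p V := CfsgLib.Solvable.pCore_isPGroup p
  have hKtop : ¬ p ∣ Nat.card K := fun h => hp.out.one_lt.ne'
    (Nat.dvd_one.1 (hKp.gcd_eq_one ▸ Nat.dvd_gcd h dvd_rfl))
  have hVne : Nontrivial V := by
    rw [Subgroup.nontrivial_iff_ne_bot]
    intro hbot
    have h := centralizer_pPrimeCore_le_of_isPSolvable
      (StructC.isPSolvable_quotient K hs) hbot
    rw [CfsgLib.Solvable.pPrimeCore_quotient_eq_bot] at h
    apply hKtop
    have hK1 : K.index = 1 := by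
      rw [Subgroup.index_eq_card, ← Subgroup.card_top (G := G ⧸ K)]
      refine Subgroup.card_eq_one.2 (le_bot_iff.1 (le_trans ?_ h))
      intro x _
      exact Subgroup.mem_centralizer_iff.2 fun y hy => by
        rw [Subgroup.mem_bot.1 hy, one_mul, mul_one]
    rw [← mul_one (Nat.card K), ← hK1, Subgroup.card_mul_index]
    exact hpG
  set M := V.comap (QuotientGroup.mk' K) with hM
  have : M.Normal := Subgroup.Normal.comap inferInstance _
  have hMcard : Nat.card M = Nat.card K * Nat.card V :=
    (CfsgLib.Solvable.card_comap_mk' K V).trans (Nat.mul_comm _ _)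
  by_cases hqK : q ∣ Nat.card K
  · -- a character of `p`-defect zero
    left
    have hpM : p ∣ Nat.card M := by
      obtain ⟨k, hk⟩ := IsPGroup.iff_card.1 hVp
      rcases k with _ | k
      · exact absurd hk (by rw [pow_zero]; exact (Finite.one_lt_card_iff_nontrivial.2 hVne).ne')
      · rw [hMcard, hk]; exact (dvd_pow_self p k.succ_ne_zero).mul_left _
    obtain ⟨z₀, hz₀⟩ := exists_prime_orderOf_dvd_card' (G := M) p hpM
    set z : G := (z₀ : G) with hzdef
    have hz : orderOf z = p := by rw [hzdef, Subgroup.orderOf_coe, hz₀]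
    have hmem : ∀ y : G, orderOf y = p → y ∈ M := by
      intro y hy
      obtain ⟨P, hP⟩ := (IsPGroup.of_card (n := 1)
        (by rw [Nat.card_zpowers, hy, pow_one]) : IsPGroup p (Subgroup.zpowers y)).exists_le_sylow
      obtain ⟨P', hP'⟩ := (IsPGroup.of_card (n := 1)
        (by rw [Nat.card_zpowers, hz, pow_one]) : IsPGroup p (Subgroup.zpowers z)).exists_le_sylow
      obtain ⟨g, hg⟩ := MulAction.exists_smul_eq G P' P
      have h1 : g * z * g⁻¹ ∈ (P : Subgroup G) := by
        rw [← hg]
        exact Subgroup.mem_map_of_mem (MulAut.conj g).toMonoidHom (hP' (Subgroup.mem_zpowers z))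
      have h2 := mem_zpowers_of_orderOf hne hpq hKp hqK P.2 h1 (hP (Subgroup.mem_zpowers y))
        (by rw [show g * z * g⁻¹ = MulAut.conj g z from rfl, MulEquiv.orderOf_eq, hz]) hy
      exact Subgroup.zpowers_le.2 (Subgroup.Normal.conj_mem inferInstance z z₀.2 g) h2
    have hzK : z ∉ K := fun h => hKtop (hz ▸ Subgroup.orderOf_dvd_natCard K h)
    obtain ⟨θ, hθ⟩ : ∃ θ : Cfsg.IrrCharacter K,
        (θ : K → ℂ) ∘ (MulAut.conjNormal z : MulAut K) ≠ (θ : K → ℂ) := by
      by_contra hall
      push Not at hall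
      set α : K ≃* K := (MulAut.conjNormal z : MulAut K) with hα
      have h1 := Char.natCard_fixed_irr_equiv α
      have h2 := Char.natCard_fixed_irr_equiv (MulEquiv.refl K)
      have h3 : Nat.card {χ : Cfsg.IrrCharacter K // (χ : K → ℂ) ∘ α = (χ : K → ℂ)} =
          Nat.card (Cfsg.IrrCharacter K) := Nat.card_congr (Equiv.subtypeUnivEquiv hall)
      have h4 : Nat.card {χ : Cfsg.IrrCharacter K //
          (χ : K → ℂ) ∘ (MulEquiv.refl K) = (χ : K → ℂ)} = Nat.card (Cfsg.IrrCharacter K) :=
        Nat.card_congr (Equiv.subtypeUnivEquiv fun _ => rfl)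
      have h5 : Nat.card {C : ConjClasses K //
          ConjClasses.map (MulEquiv.refl K).toMonoidHom C = C} = Nat.card (ConjClasses K) :=
        Nat.card_congr (Equiv.subtypeUnivEquiv fun C => by
          obtain ⟨g, rfl⟩ := ConjClasses.mk_surjective C; rfl)
      rw [h4, h5] at h2
      rw [h3, ← h2] at h1
      have hallC : ∀ C : ConjClasses K, ConjClasses.map α.toMonoidHom C = C := by
        have : Finite (ConjClasses K) := Finite.of_surjective _ ConjClasses.mk_surjective
        intro C
        by_contra hC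
        exact absurd h1 (Finite.card_subtype_lt (p := fun C : ConjClasses K =>
          ConjClasses.map α.toMonoidHom C = C) hC).ne
      obtain ⟨x, hx⟩ := exists_prime_orderOf_dvd_card' (G := K) q hqK
      obtain ⟨k, hk⟩ := isConj_iff.1
        (ConjClasses.mk_eq_mk_iff_isConj.1 (hallC (ConjClasses.mk x)))
      have hk' : (k : G) * (z * x * z⁻¹) * (k : G)⁻¹ = x := by
        have h := congrArg Subtype.val hk
        simpa [hα, MulAut.conjNormal_apply] using h
      have hcm : Commute ((k : G) * z) (x : G) := by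
        show (k : G) * z * x = x * ((k : G) * z)
        conv_rhs => rw [← hk']
        group
      have himg : orderOf (QuotientGroup.mk' K z) = p := orderOf_eq_prime
        (by rw [← map_pow, show z ^ p = 1 from hz ▸ pow_orderOf_eq_one z, map_one])
        (fun e => hzK ((QuotientGroup.eq_one_iff z).1 e))
      have hd : p ∣ orderOf ((k : G) * z) := by
        have h := orderOf_map_dvd (QuotientGroup.mk' K) ((k : G) * z)
        rwa [map_mul, show QuotientGroup.mk' K (k : G) = 1 from (QuotientGroup.eq_one_iff _).2 k.2,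
          one_mul, himg] at h
      obtain ⟨i, hi⟩ := exists_pow_orderOf hd
      exact hne _ (x : G) hi (by rw [Subgroup.orderOf_coe, hx]) (hcm.pow_left i)
    refine defectZero_of_inertia θ fun hdvd => hθ ?_
    obtain ⟨y₀, hy₀⟩ := exists_prime_orderOf_dvd_card'
      (G := Clifford.inertia (θ : K → ℂ)) p hdvd
    set y : G := (y₀ : G) with hydef
    have hy : orderOf y = p := by rw [hydef, Subgroup.orderOf_coe, hy₀]
    obtain ⟨P, hP⟩ := (IsPGroup.of_card (n := 1)
      (by rw [Nat.card_zpowers, hz, pow_one]) : IsPGroup p (Subgroup.zpowers z)).exists_le_sylow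
    have hyV : QuotientGroup.mk' K y ∈ V := hmem y hy
    obtain ⟨w, hw, hwy⟩ := CfsgLib.Solvable.pCore_le_sylow
      (P.mapSurjective (QuotientGroup.mk'_surjective K)) hyV
    have hwy' : w⁻¹ * y ∈ K := QuotientGroup.eq.1 hwy
    have hwo : orderOf w = p := by
      refine orderOf_eq_prime ?_ ?_
      · have h1 : w ^ p ∈ K := by
          rw [← QuotientGroup.eq_one_iff, ← QuotientGroup.mk'_apply, map_pow, hwy, ← map_pow,
            show y ^ p = 1 from hy ▸ pow_orderOf_eq_one y, map_one]
        obtain ⟨i, hi⟩ := IsPGroup.iff_orderOf.1 P.2 ⟨w ^ p, pow_mem hw p⟩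
        rw [Subgroup.orderOf_mk] at hi
        rw [← orderOf_eq_one_iff, hi]
        exact Nat.eq_one_of_dvd_coprimes (hKp.symm.pow_left i) dvd_rfl
          (hi ▸ Subgroup.orderOf_dvd_natCard K h1)
      · intro e
        rw [e, inv_one, one_mul] at hwy'
        exact hKtop (hy ▸ Subgroup.orderOf_dvd_natCard K hwy')
    have hle : K ≤ Clifford.inertia (θ : K → ℂ) :=
      Clifford.le_inertia (Char.irr_isClassFunction θ.2)
    have hwI : w ∈ Clifford.inertia (θ : K → ℂ) := by
      rw [show w = y * (w⁻¹ * y)⁻¹ by group]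
      exact mul_mem y₀.2 (inv_mem (hle hwy'))
    have hzI : z ∈ Clifford.inertia (θ : K → ℂ) := Subgroup.zpowers_le.2 hwI
      (mem_zpowers_of_orderOf hne hpq hKp hqK P.2 hw (hP (Subgroup.mem_zpowers z)) hwo hz)
    funext n
    exact (congrArg (θ : K → ℂ) (Subtype.ext (by simp [Clifford.coe_conjN]))).trans
      (Clifford.mem_inertia.1 hzI n)
  · -- a character of `q`-defect zero
    right
    have : Group.IsNilpotent V := hVp.isNilpotent
    have hcomm : commutator V ≠ ⊤ :=
      (Group.IsSolvable.commutator_lt_top_of_nontrivial V).ne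
    obtain ⟨v, hv⟩ : ∃ v : V, v ∉ commutator V := by
      by_contra h; push Not at h; exact hcomm (eq_top_iff.2 fun v _ => h v)
    obtain ⟨lam₀, hlam₀⟩ := Char.exists_linear_ne_one (G := Abelianization V)
      (fun a b => mul_comm a b) (g := Abelianization.of v)
      (fun e => hv ((Abelianization.ker_of V) ▸ (MonoidHom.mem_ker.2 e)))
    set f : M →* V := (QuotientGroup.mk' K).subgroupComap V with hf
    set lam : M →* ℂˣ := (lam₀.comp Abelianization.of).comp f with hlam
    refine defectZero_of_inertia ⟨_, Char.isIrrCharacter_linear lam⟩ fun hdvd => hlam₀ ?_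
    obtain ⟨x₀, hx₀⟩ := exists_prime_orderOf_dvd_card' q hdvd
    set x : G := (x₀ : G) with hxdef
    have hx : orderOf x = q := by rw [hxdef, Subgroup.orderOf_coe, hx₀]
    have hxI := x₀.2
    set A := Subgroup.zpowers x with hA
    have hAn : A ≤ Subgroup.normalizer (M : Set G) := by
      rw [Subgroup.normalizer_eq_top]; exact le_top
    obtain ⟨k, hk⟩ := IsPGroup.iff_card.1 hVp
    have hcop : (Nat.card A).Coprime (Nat.card M) := by
      rw [hA, Nat.card_zpowers, hx, hMcard, hk]
      exact ((hq.out.coprime_iff_not_dvd).2 hqK).mul_right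
        (((Nat.coprime_primes hq.out hp.out).2 (Ne.symm hpq)).pow_right k)
    have hgen := Coprime.commutator_sup_centralizer hAn hcop
      (Or.inl (Group.isSolvable_of_comm (IsCyclic.commGroup (α := A)).mul_comm))
    have hker : M ≤ lam.ker.map M.subtype := by
      conv_lhs => rw [← hgen]
      refine sup_le (Subgroup.commutator_le.2 fun m hm a ha => ?_) fun c hc => ?_
      · have hma : a * m⁻¹ * a⁻¹ ∈ M := Subgroup.Normal.conj_mem inferInstance _ (inv_mem hm) a
        refine ⟨⟨m, hm⟩ * ⟨_, hma⟩, ?_, by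
          simp [commutatorElement_def, mul_assoc]⟩
        have haI : a ∈ Clifford.inertia (fun m : M => (lam m : ℂ)) :=
          (Subgroup.zpowers_le.2 hxI) ha
        have h := Clifford.mem_inertia.1 haI ⟨m⁻¹, inv_mem hm⟩
        rw [SetLike.mem_coe, MonoidHom.mem_ker, map_mul]
        have h' : lam ⟨_, hma⟩ = lam ⟨m⁻¹, inv_mem hm⟩ := Units.ext h
        rw [h', ← map_mul]
        convert map_one lam
        exact Subtype.ext (mul_inv_cancel m)
      · obtain ⟨hcM, hcC⟩ := Subgroup.mem_inf.1 hc
        refine ⟨⟨c, hcM⟩, MonoidHom.mem_ker.2 ?_, rfl⟩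
        have hcx : Commute c x :=
          (Subgroup.mem_centralizer_iff.1 hcC x (Subgroup.mem_zpowers x)).symm
        have hpc : ¬ p ∣ orderOf c := fun h => by
          obtain ⟨i, hi⟩ := exists_pow_orderOf h
          exact hne _ x hi hx (hcx.pow_left i)
        have h1 : orderOf (lam ⟨c, hcM⟩) ∣ orderOf c := by
          have h := orderOf_map_dvd lam ⟨c, hcM⟩
          rwa [Subgroup.orderOf_mk] at h
        obtain ⟨i, hi⟩ := IsPGroup.iff_orderOf.1 hVp (f ⟨c, hcM⟩)
        have h2 : orderOf (lam ⟨c, hcM⟩) ∣ p ^ i :=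
          hi ▸ orderOf_map_dvd (lam₀.comp Abelianization.of) (f ⟨c, hcM⟩)
        exact orderOf_eq_one_iff.1
          (Nat.eq_one_of_dvd_coprimes
            (((hp.out.coprime_iff_not_dvd).2 hpc).pow_left i).symm h1 h2)
    obtain ⟨g, hg⟩ := QuotientGroup.mk'_surjective K (v : G ⧸ K)
    have hgM : g ∈ M := by rw [hM, Subgroup.mem_comap, hg]; exact v.2
    obtain ⟨m, hm, hme⟩ := hker hgM
    have hm' : lam m = 1 := hm
    rw [show m = ⟨g, hgM⟩ from Subtype.ext hme] at hm'
    have hfv : f ⟨g, hgM⟩ = v := Subtype.ext hg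
    rw [hlam, MonoidHom.comp_apply, hfv] at hm'
    exact hm'

end CfsgLib.BlockB.DefectZeroPQ
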