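import Cfsg.Agent.Lib.BlockB.ItoPSolvable
import Cfsg.Agent.Lib.BlockB.OverTheta
import Cfsg.Agent.Lib.BlockB.Codegree
import Cfsg.Agent.Lib.Clifford.Extension
import Cfsg.Agent.Lib.Char.Linear
import Cfsg.Agent.Lib.PLength.Series
import Cfsg.Agent.Lib.Transfer.Frobenius

/-!
In a `p`-solvable group the derived length of a Sylow `p`-subgroup is at most one more than the
number of irreducible characters of degree divisible by `p`.
-/

set_option autoImplicit false
set_option linter.unusedSectionVars false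
set_option linter.style.haveILetI false

namespace CfsgLib.BlockB.DerivedLengthDegrees

open CfsgLib
open scoped commutatorElement

universe u

variable {G : Type u} [Group G] [Finite G] {p : ℕ} [Fact p.Prime]

/-- The number of irreducible characters of degree divisible by `p`. -/
noncomputable def numDiv (p : ℕ) (G : Type u) [Group G] : ℕ :=
  Nat.card {χ : Cfsg.IrrCharacter G // p ∣ Cfsg.charDegree (χ : G → ℂ)}

/-- Inflation from a quotient. -/
noncomputable def inflate (N : Subgroup G) [N.Normal] (ψ : Cfsg.IrrCharacter (G ⧸ N)) :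
    Cfsg.IrrCharacter G :=
  ⟨_, Char.isIrrCharacter_comp_surjective ψ.2 (QuotientGroup.mk' N)
    (QuotientGroup.mk'_surjective N)⟩

theorem inflate_injective (N : Subgroup G) [N.Normal] : Function.Injective (inflate N) := by
  intro a b h
  refine Subtype.ext (funext fun x => ?_)
  obtain ⟨g, rfl⟩ := QuotientGroup.mk'_surjective N x
  exact congr_fun (congrArg Subtype.val h) g

theorem numDiv_quotient_le (N : Subgroup G) [N.Normal] : numDiv p (G ⧸ N) ≤ numDiv p G :=
  Nat.card_le_card_of_injective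
    (fun ψ => (⟨inflate N ψ.1, ψ.2⟩ : {χ : Cfsg.IrrCharacter G // p ∣ Cfsg.charDegree (χ : G → ℂ)}))
    fun _ _ h => Subtype.ext (inflate_injective N (congrArg Subtype.val h))

theorem numDiv_quotient_lt (N : Subgroup G) [N.Normal] (χ : Cfsg.IrrCharacter G)
    (hd : p ∣ Cfsg.charDegree (χ : G → ℂ)) (hN : ∃ n ∈ N, (χ : G → ℂ) n ≠ (χ : G → ℂ) 1) :
    numDiv p (G ⧸ N) < numDiv p G := by
  let F : {ψ : Cfsg.IrrCharacter (G ⧸ N) // p ∣ Cfsg.charDegree (ψ : G ⧸ N → ℂ)} →
      {χ : Cfsg.IrrCharacter G // p ∣ Cfsg.charDegree (χ : G → ℂ)} :=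
    fun ψ => ⟨inflate N ψ.1, ψ.2⟩
  unfold numDiv
  refine Nat.lt_of_le_of_ne (Nat.card_le_card_of_injective F fun a b h =>
    Subtype.ext (inflate_injective N (congrArg Subtype.val h))) fun he => ?_
  obtain ⟨ψ, hψ⟩ := (((Nat.bijective_iff_injective_and_card F).2
    ⟨fun a b h => Subtype.ext (inflate_injective N (congrArg Subtype.val h)), he⟩).2 ⟨χ, hd⟩)
  obtain ⟨n, hn, hne⟩ := hN
  refine hne ?_
  have h1 : (χ : G → ℂ) = ((ψ.1 : Cfsg.IrrCharacter (G ⧸ N)) : G ⧸ N → ℂ) ∘ QuotientGroup.mk' N :=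
    (congrArg (fun x => ((x.1 : Cfsg.IrrCharacter G) : G → ℂ)) hψ).symm
  rw [h1, Function.comp_apply, Function.comp_apply, map_one, QuotientGroup.mk'_apply,
    (QuotientGroup.eq_one_iff n).2 hn]

/-- If every character not trivial on an abelian normal `p`-subgroup `N` has degree prime to `p`,
the Sylow subgroups are abelian modulo `N`. -/
theorem commutator_le_of_degrees (hs : Cfsg.IsPSolvable p G) (N : Subgroup G) [N.Normal]
    (hN : IsPGroup p N) (hNc : IsMulCommutative N) (hN1 : N ≠ ⊥)
    (h : ∀ χ : Cfsg.IrrCharacter G, (∃ n ∈ N, (χ : G → ℂ) n ≠ (χ : G → ℂ) 1) →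
      ¬ p ∣ Cfsg.charDegree (χ : G → ℂ)) (P : Sylow p G) :
    ∀ a ∈ (P : Subgroup G), ∀ b ∈ (P : Subgroup G), (a * b)⁻¹ * (b * a) ∈ N := by
  classical
  have hp := (Fact.out : p.Prime)
  have := Fintype.ofFinite G
  have := Fintype.ofFinite N
  obtain ⟨n₀, hn₀, hn₁⟩ : ∃ n ∈ N, n ≠ 1 := (Subgroup.ne_bot_iff_exists_ne_one.1 hN1).elim
    fun n hn => ⟨n, n.2, fun e => hn (Subtype.ext e)⟩
  obtain ⟨lam, hlam⟩ := Char.exists_linear_ne_one (G := N)
    (fun a b => hNc.is_comm.comm a b) (g := ⟨n₀, hn₀⟩) (fun e => hn₁ (congrArg Subtype.val e))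
  set θ : N → ℂ := fun n => (lam n : ℂ) with hθdef
  have hθ : Cfsg.IsIrrCharacter N θ := Char.isIrrCharacter_linear lam
  have hker : ∀ χ : Cfsg.IrrCharacter G, Cfsg.classInner (fun n : N => (χ : G → ℂ) n) θ ≠ 0 →
      ∃ n ∈ N, (χ : G → ℂ) n ≠ (χ : G → ℂ) 1 := by
    intro χ hne
    by_contra hc
    push Not at hc
    refine hne ?_
    have e : (fun n : N => (χ : G → ℂ) n) = (χ : G → ℂ) 1 • fun _ : N => (1 : ℂ) := funext fun n => by
      rw [hc n n.2, Pi.smul_apply, smul_eq_mul, mul_one]
    rw [e, Char.classInner_smul_left, Char.irr_classInner_ne Char.isIrrCharacter_one hθ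
      (fun e1 => hlam (Units.ext (congr_fun e1 ⟨n₀, hn₀⟩).symm)), mul_zero]
  set T := Clifford.inertia (G := G) θ with hT
  have := Fintype.ofFinite T
  have hNT : N ≤ T := Clifford.le_inertia (Char.irr_isClassFunction hθ)
  obtain ⟨χ, hχ⟩ := Block.exists_over_constituent (G := G) (⟨θ, hθ⟩ : Cfsg.IrrCharacter N)
  obtain ⟨ψ, hψ, hind, hmul⟩ := Clifford.exists_indFun_inertia T hNT hθ
    (fun g => Clifford.mem_inertia_iff_conjFn) χ.2 hχ
  obtain ⟨m, ρ, hρ, hρc⟩ := id hψ
  have hdeg : ¬ p ∣ T.index * m := by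
    have e : Cfsg.charDegree (χ : G → ℂ) = T.index * m := by
      apply Nat.cast_injective (R := ℂ)
      rw [BlockB.charDegree_cast (Char.irr_isCharacter χ.2), ← hind, Char.indFun_apply_one, ← hρc,
        Representation.char_one, Nat.cast_mul, Module.finrank_fin_fun]
    exact e ▸ h χ (hker χ hχ)
  -- the restriction of `ψ` to `N` is scalar
  set N' := N.subgroupOf T with hN'
  have := Fintype.ofFinite N'
  let e₀ : N' ≃* N := Subgroup.subgroupOfEquivOfLe hNT
  let lam' : N' →* ℂˣ := lam.comp e₀.toMonoidHom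
  have hlam' : Cfsg.IsIrrCharacter N' (fun t => (lam' t : ℂ)) := Char.isIrrCharacter_linear lam'
  have hres : ∀ t : N', ψ t = (m : ℂ) * (lam' t : ℂ) := by
    have hinv : ∀ g : T, Clifford.conjFn g (fun t : N' => (lam' t : ℂ)) = fun t => (lam' t : ℂ) := by
      intro g
      funext t
      have h1 := congr_fun (Clifford.mem_inertia_iff_conjFn.1 g.2) (e₀ t)
      simp only [Clifford.conjFn_apply, hθdef] at h1 ⊢
      refine Eq.trans ?_ h1
      exact congrArg (fun x => (lam x : ℂ)) (Subtype.ext rfl)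
    have hne : Cfsg.classInner (fun t : N' => ψ t) (fun t : N' => (lam' t : ℂ)) ≠ 0 := by
      have e1 : (fun t : N' => ψ t) = (fun n : N => ψ ⟨(n : G), hNT n.2⟩) ∘ e₀.toMonoidHom :=
        funext fun t => rfl
      have e2 : (fun t : N' => (lam' t : ℂ)) = θ ∘ e₀.toMonoidHom := rfl
      rw [e1, e2, OverTheta.classInner_comp_surjective e₀.toMonoidHom e₀.surjective, hmul]
      exact hχ
    have hs' := Clifford.restrict_eq_smul_of_invariant hψ hlam' hinv hne
    have h1 := congr_fun hs' 1
    simp only [Pi.smul_apply, map_one, Units.val_one, smul_eq_mul, mul_one, OneMemClass.coe_one] at h1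
    rw [← hρc, Representation.char_one, Module.finrank_fin_fun] at h1
    intro t
    have h2 := congr_fun hs' t
    simp only [Pi.smul_apply, smul_eq_mul] at h2
    rw [h2, ← hρc, ← h1]
  have hscal : ∀ t : N', (ρ (t : T) : Module.End ℂ (Fin m → ℂ)) = (lam' t : ℂ) • 1 := by
    let τ : Representation ℂ N' (Fin m → ℂ) :=
      { toFun := fun t => ((lam' t)⁻¹ : ℂˣ).val • (ρ (t : T) : Module.End ℂ (Fin m → ℂ))
        map_one' := by simp
        map_mul' := fun a b => by
          rw [map_mul, mul_inv, Units.val_mul, Subgroup.coe_mul, map_mul, smul_mul_smul_comm] }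
    intro t
    have hk : τ t = 1 := by
      refine MonoidHom.mem_ker.1 ((Char.mem_ker_iff_char τ t).2 ?_)
      have e : ∀ s : N', τ.character s = ((lam' s)⁻¹ : ℂˣ).val * ρ.character (s : T) := fun s => by
        simp [Representation.character, τ]
      rw [e, e, hρc, hres, show ((1 : N') : T) = 1 from rfl, ← hρc, Representation.char_one,
        map_one, inv_one, Units.val_one, one_mul, Module.finrank_fin_fun, mul_left_comm,
        ← Units.val_mul, inv_mul_cancel, Units.val_one, mul_one]
    have h2 := congrArg (fun f => (lam' t : ℂ) • f) hk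
    have h3 : τ t = ((lam' t)⁻¹ : ℂˣ).val • (ρ (t : T) : Module.End ℂ (Fin m → ℂ)) := rfl
    simp only [h3, smul_smul, ← Units.val_mul, mul_inv_cancel, Units.val_one, one_smul] at h2
    exact h2
  obtain ⟨k, hk⟩ := hN.exists_card_eq
  have hcop : Nat.Coprime m (orderOf lam) := by
    refine Nat.Coprime.coprime_dvd_right (orderOf_dvd_of_pow_eq_one (n := Nat.card N) ?_) ?_
    · refine MonoidHom.ext fun n => ?_
      rw [MonoidHom.pow_apply, ← map_pow, pow_card_eq_one', map_one, MonoidHom.one_apply]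
    · rw [hk]
      exact ((hp.coprime_iff_not_dvd.2 fun hd => hdeg (hd.mul_left _)).symm).pow_right k
  obtain ⟨r, hr⟩ := exists_pow_eq_self_of_coprime hcop
  let μ : T →* ℂˣ := ((Units.map LinearMap.det).comp (Clifford.repUnits ρ)) ^ r
  have hμ : ∀ t : N', μ (t : T) = lam' t := by
    intro t
    have h1 : ((Units.map LinearMap.det).comp (Clifford.repUnits ρ)) (t : T) = lam' t ^ m := by
      refine Units.ext ?_
      show LinearMap.det (ρ (t : T)) = _
      rw [hscal t, LinearMap.det_smul, map_one, mul_one, Module.finrank_fin_fun, Units.val_pow_eq_pow_val]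
    show ((Units.map LinearMap.det).comp (Clifford.repUnits ρ)) (t : T) ^ r = _
    rw [h1]
    exact DFunLike.congr_fun hr (e₀ t)
  have D : OverTheta.Data T θ (fun t => (μ t : ℂ)) :=
    { irr := hθ
      inertia := fun g => Clifford.mem_inertia_iff_conjFn
      le := hNT
      char := Char.irr_isCharacter (Char.isIrrCharacter_linear μ)
      ext := fun n t ht => by
        have hm' : t ∈ N' := Subgroup.mem_subgroupOf.2 (ht ▸ n.2)
        rw [show μ t = lam' ⟨t, hm'⟩ from hμ ⟨t, hm'⟩]
        exact congrArg (fun x => (lam x : ℂ)) (Subtype.ext ht) }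
  have hquot : ∀ η : Cfsg.IrrCharacter (T ⧸ N'),
      ¬ p ∣ Cfsg.charDegree (η : T ⧸ N' → ℂ) := by
    intro η hd
    have hγ : OverTheta.IsQuot N ((η : T ⧸ N' → ℂ) ∘ QuotientGroup.mk' N') := fun n t hn => by
      show (η : T ⧸ N' → ℂ) ((n * t : T) : T ⧸ N') = (η : T ⧸ N' → ℂ) (t : T ⧸ N')
      rw [QuotientGroup.mk_mul, (QuotientGroup.eq_one_iff n).2 (Subgroup.mem_subgroupOf.2 hn),
        one_mul]
    have hγi := Char.isIrrCharacter_comp_surjective η.2 (QuotientGroup.mk' N')
      (QuotientGroup.mk'_surjective N')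
    refine h ⟨_, OverTheta.isIrr_ind D hγi hγ⟩ (hker _ (OverTheta.ind_over D hγi hγ)) ?_
    have e : Cfsg.charDegree (Cfsg.indFun T ((fun t => (μ t : ℂ)) *
        ((η : T ⧸ N' → ℂ) ∘ QuotientGroup.mk' N'))) =
        T.index * Cfsg.charDegree (η : T ⧸ N' → ℂ) := by
      apply Nat.cast_injective (R := ℂ)
      rw [BlockB.charDegree_cast (Char.irr_isCharacter (OverTheta.isIrr_ind D hγi hγ)),
        Char.indFun_apply_one, Nat.cast_mul, BlockB.charDegree_cast (Char.irr_isCharacter η.2)]
      simp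
    show p ∣ Cfsg.charDegree (Cfsg.indFun T _)
    rw [e]
    exact hd.mul_left _
  -- a Sylow subgroup inside `T`
  obtain ⟨S⟩ := (inferInstance : Nonempty (Sylow p T))
  have hS := (ItoPSolvable.normal_and_comm (p := p) _ (T ⧸ N') le_rfl
    (StructC.isPSolvable_quotient N' (PLength.isPSolvable_subgroup hs T)) hquot
    (S.mapSurjective (QuotientGroup.mk'_surjective N'))).2
  have hSG : ¬ p ∣ ((S : Subgroup T).map T.subtype).index := by
    rw [Subgroup.index_map_subtype]
    exact fun hd => (hp.dvd_mul.1 hd).elim S.not_dvd_index fun h2 => hdeg (h2.mul_right _)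
  let S' : Sylow p G := (S.isPGroup'.map T.subtype).toSylow hSG
  obtain ⟨g, hg⟩ := MulAction.exists_smul_eq G S' P
  intro a ha b hb
  have hg' : (P : Subgroup G) = ((S : Subgroup T).map T.subtype).map (MulAut.conj g).toMonoidHom := by
    rw [← hg]; rfl
  rw [hg'] at ha hb
  obtain ⟨_, ⟨x, hx, rfl⟩, rfl⟩ := ha
  obtain ⟨_, ⟨y, hy, rfl⟩, rfl⟩ := hb
  have h1 : ((x * y : T) : T ⧸ N') = ((y * x : T) : T ⧸ N') :=
    congrArg Subtype.val (hS.is_comm.comm ⟨_, ⟨x, hx, rfl⟩⟩ ⟨_, ⟨y, hy, rfl⟩⟩)
  have h2 : ((x : G) * y)⁻¹ * ((y : G) * x) ∈ N :=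
    Subgroup.mem_subgroupOf.1 (QuotientGroup.eq.1 h1)
  have h3 := (inferInstance : N.Normal).conj_mem _ h2 g
  simpa [MulAut.conj_apply, mul_assoc] using h3

/-- **The derived length bound.** -/
theorem derivedSeries_sylow_eq_bot : ∀ (n : ℕ) (G : Type u) [Group G] [Finite G], Nat.card G ≤ n →
    Cfsg.IsPSolvable p G → ∀ P : Sylow p G,
      derivedSeries ↥(P : Subgroup G) (numDiv p G + 1) = ⊥ := by
  intro n
  induction n with
  | zero => intro G _ _ hc; exact absurd hc (by have := Nat.card_pos (α := G); omega)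
  | succ n ih =>
    intro G _ _ hc hs P
    classical
    have hp := (Fact.out : p.Prime)
    have hab : IsMulCommutative P → derivedSeries ↥(P : Subgroup G) (numDiv p G + 1) = ⊥ := by
      intro hP
      have h1 : derivedSeries ↥(P : Subgroup G) 1 = ⊥ := by
        rw [derivedSeries_one, commutator_def]
        exact Subgroup.commutator_eq_bot_iff_le_centralizer.2 fun x _ =>
          Subgroup.mem_centralizer_iff.2 fun y _ => hP.is_comm.comm y x
      exact le_bot_iff.1 (h1 ▸ derivedSeries_antitone _ (Nat.le_add_left 1 _))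
    by_cases hI : ∀ χ : Cfsg.IrrCharacter G, ¬ p ∣ Cfsg.charDegree (χ : G → ℂ)
    · exact hab (ItoPSolvable.normal_and_comm _ G le_rfl hs hI P).2
    have hk1 : 1 ≤ numDiv p G := by
      push Not at hI
      obtain ⟨χ, hχ⟩ := hI
      have : Nonempty {χ : Cfsg.IrrCharacter G // p ∣ Cfsg.charDegree (χ : G → ℂ)} := ⟨⟨χ, hχ⟩⟩
      exact Nat.card_pos
    have hlt : ∀ N : Subgroup G, N ≠ ⊥ → Nat.card (G ⧸ N) ≤ n := by
      intro N hN
      rw [← Subgroup.index_eq_card]
      have h1 := N.index_mul_card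
      have h2 : 1 < Nat.card N := Subgroup.one_lt_card_iff_ne_bot N |>.2 hN
      have h3 : 0 < N.index := Nat.pos_of_ne_zero Subgroup.index_ne_zero_of_finite
      have h4 : N.index < Nat.card G := by
        rw [← h1]; exact lt_mul_of_one_lt_right h3 h2
      omega
    have hmod : ∀ (N : Subgroup G) [N.Normal], N ≠ ⊥ → ∀ x ∈ derivedSeries ↥(P : Subgroup G)
        (numDiv p (G ⧸ N) + 1), ((x : G)) ∈ N := by
      intro N _ hN x hx
      set Pb := P.mapSurjective (QuotientGroup.mk'_surjective N)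
      let f : (P : Subgroup G) →* (Pb : Subgroup (G ⧸ N)) :=
        (QuotientGroup.mk' N).subgroupMap (P : Subgroup G)
      have h1 := ih (G ⧸ N) (hlt N hN) (StructC.isPSolvable_quotient N hs) Pb
      have h2 : f x ∈ derivedSeries ↥(Pb : Subgroup (G ⧸ N)) (numDiv p (G ⧸ N) + 1) :=
        map_derivedSeries_le_derivedSeries f _ ⟨x, hx, rfl⟩
      rw [h1, Subgroup.mem_bot] at h2
      exact (QuotientGroup.eq_one_iff (x : G)).1 (congrArg Subtype.val h2)
    rcases subsingleton_or_nontrivial G with hG | hG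
    · exact hab ⟨⟨fun a b => Subsingleton.elim _ _⟩⟩
    by_cases hM : Cfsg.pPrimeCore p G = ⊥
    · set Q := Cfsg.pCore p G with hQ
      have hQn : Q.Normal := CfsgLib.Solvable.pCore_normal p G
      have hQ1 : Q ≠ ⊥ := PLength.pCore_ne_bot_of_isPSolvable hs hM
      have hQp : IsPGroup p Q := CfsgLib.Solvable.pCore_isPGroup p
      let N : Subgroup G := (Subgroup.center Q).map Q.subtype
      have hNn : N.Normal := CfsgLib.Solvable.map_subtype_normal (Subgroup.center Q)
      have hN1 : N ≠ ⊥ := by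
        have : Nontrivial Q := (Subgroup.nontrivial_iff_ne_bot Q).2 hQ1
        have := hQp.center_nontrivial
        intro e
        rw [Subgroup.map_eq_bot_iff_of_injective _ Q.subtype_injective] at e
        exact ((Subgroup.nontrivial_iff_ne_bot _).1 this) e
      have hNp : IsPGroup p N := hQp.to_le (Subgroup.map_subtype_le _)
      have hNc : IsMulCommutative N := by
        constructor; constructor
        rintro ⟨_, a, ha, rfl⟩ ⟨_, b, -, rfl⟩
        exact Subtype.ext ((congrArg Subtype.val (Subgroup.mem_center_iff.1 ha b).symm : _) :)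
      have hstep : ∀ j : ℕ, (∀ x ∈ derivedSeries ↥(P : Subgroup G) j, (x : G) ∈ N) →
          derivedSeries ↥(P : Subgroup G) (j + 1) = ⊥ := by
        intro j hj
        rw [derivedSeries_succ, Subgroup.commutator_eq_bot_iff_le_centralizer]
        exact fun x hx => Subgroup.mem_centralizer_iff.2 fun y hy => Subtype.ext
          (congrArg Subtype.val (hNc.is_comm.comm ⟨_, hj y hy⟩ ⟨_, hj x hx⟩) : _)
      by_cases hex : ∃ χ : Cfsg.IrrCharacter G, p ∣ Cfsg.charDegree (χ : G → ℂ) ∧
          ∃ n ∈ N, (χ : G → ℂ) n ≠ (χ : G → ℂ) 1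
      · obtain ⟨χ, hd, hne⟩ := hex
        have hlt' := numDiv_quotient_lt N χ hd hne
        exact le_bot_iff.1 ((hstep _ (hmod N hN1)) ▸
          derivedSeries_antitone _ (by omega : numDiv p (G ⧸ N) + 1 + 1 ≤ numDiv p G + 1))
      · push Not at hex
        have h1 := commutator_le_of_degrees hs N hNp hNc hN1
          (fun χ ⟨m, hm, hm'⟩ hd => hm' (hex χ hd m hm)) P
        have h2 : ∀ x ∈ derivedSeries ↥(P : Subgroup G) 1, (x : G) ∈ N := by
          intro x hx
          rw [derivedSeries_one] at hx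
          have : commutator ↥(P : Subgroup G) ≤ N.comap (P : Subgroup G).subtype := by
            rw [commutator_def, Subgroup.commutator_le]
            intro a _ b _
            show ((⁅a, b⁆ : (P : Subgroup G)) : G) ∈ N
            have := h1 _ ((P : Subgroup G).inv_mem a.2) _ ((P : Subgroup G).inv_mem b.2)
            simpa [commutatorElement_def, mul_assoc] using N.inv_mem this
          exact this hx
        exact le_bot_iff.1 ((hstep 1 h2) ▸ derivedSeries_antitone _ (by omega : 1 + 1 ≤ numDiv p G + 1))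
    · set M := Cfsg.pPrimeCore p G with hMdef
      have hMn : M.Normal := CfsgLib.Solvable.pPrimeCore_normal p G
      have hMc : (Nat.card M).Coprime p := CfsgLib.Solvable.pPrimeCore_coprime p
      have h1 : derivedSeries ↥(P : Subgroup G) (numDiv p (G ⧸ M) + 1) = ⊥ := by
        rw [eq_bot_iff]
        intro x hx
        have hxM := hmod M hM x hx
        obtain ⟨k, hk⟩ := P.isPGroup' x
        have h1 : orderOf (x : G) ∣ p ^ k := orderOf_dvd_of_pow_eq_one (congrArg Subtype.val hk :)
        have h2 : orderOf (x : G) ∣ Nat.card M := by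
          rw [← Subgroup.orderOf_mk (x : G) hxM]; exact orderOf_dvd_natCard _
        exact Subgroup.mem_bot.2 (Subtype.ext (orderOf_eq_one_iff.1
          (Nat.eq_one_of_dvd_coprimes (hMc.pow_right k) h2 h1)))
      exact le_bot_iff.1 (h1 ▸ derivedSeries_antitone _
        (Nat.succ_le_succ (numDiv_quotient_le M)))

end CfsgLib.BlockB.DerivedLengthDegrees
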