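import Cfsg.Prelude.Def_Characters
import Cfsg.Prelude.Def_Blocks
import Cfsg.Agent.Lib.Char.Linear
import Cfsg.Agent.Lib.Char.CliffordApps
import Cfsg.Agent.Lib.Block.DefectOrder
import Cfsg.Agent.Lib.Transfer.Frobenius
import Cfsg.Agent.Lib.Invol.TransferPResidual

/-!
If every `p'`-degree irreducible character of a Sylow normaliser extends, the normaliser has a
normal complement.
-/

set_option autoImplicit false
set_option linter.unusedSectionVars false

namespace CfsgLib.BlockB.ExtendNormalizer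

open Subgroup
open scoped commutatorElement

universe u

variable {G : Type u} [Group G] [Finite G] {p : ℕ} [hp : Fact p.Prime]

/-- A normal `p`-subgroup pair `B ≤ S` with abelian quotient: separation by `p'`-degree
characters. -/
theorem exists_separating {N : Type u} [Group N] [Finite N] (S B : Subgroup N) [S.Normal]
    [B.Normal] (hidx : ¬ p ∣ S.index) (hcomm : ∀ a ∈ S, ∀ b ∈ S, a * b * a⁻¹ * b⁻¹ ∈ B)
    {x : N} (hx : x ∉ B) :
    ∃ θ : Cfsg.IrrCharacter N, (∀ b ∈ B, (θ : N → ℂ) b = (θ : N → ℂ) 1) ∧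
      ¬ p ∣ Cfsg.charDegree (θ : N → ℂ) ∧ (θ : N → ℂ) x ≠ (θ : N → ℂ) 1 := by
  classical
  obtain ⟨ψ, hψ⟩ := Char.exists_irr_apply_ne (g := (x : N ⧸ B))
    (fun h => hx ((QuotientGroup.eq_one_iff x).1 h))
  let θ : Cfsg.IrrCharacter N := ⟨(ψ : N ⧸ B → ℂ) ∘ QuotientGroup.mk' B,
    Char.isIrrCharacter_comp_surjective ψ.2 _ (QuotientGroup.mk'_surjective B)⟩
  refine ⟨θ, fun b hb => ?_, fun hd => ?_, by simpa [θ] using hψ⟩
  · show (ψ : N ⧸ B → ℂ) (b : N ⧸ B) = (ψ : N ⧸ B → ℂ) ((1 : N) : N ⧸ B)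
    rw [(QuotientGroup.eq_one_iff b).2 hb]
    rfl
  · obtain ⟨n, ρ, hρ, hρc⟩ := ψ.2
    have hnS : (S.map (QuotientGroup.mk' B)).Normal :=
      Subgroup.Normal.map inferInstance _ (QuotientGroup.mk'_surjective B)
    have h1 := Char.ito_degree_dvd_index ρ (S.map (QuotientGroup.mk' B)) (by
      rintro _ ⟨a, ha, rfl⟩ _ ⟨b, hb, rfl⟩
      rw [← commutatorElement_eq_one_iff_mul_comm, ← map_commutatorElement,
        QuotientGroup.mk'_apply, QuotientGroup.eq_one_iff, commutatorElement_def]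
      exact hcomm a ha b hb)
    have h2 : Cfsg.charDegree (θ : N → ℂ) = Module.finrank ℂ (Fin n → ℂ) := by
      have h3 := Block.charDegree_cast (Char.irr_isCharacter θ.2)
      have h4 : (θ : N → ℂ) 1 = (Module.finrank ℂ (Fin n → ℂ) : ℂ) := by
        show (ψ : N ⧸ B → ℂ) ((1 : N) : N ⧸ B) = _
        rw [QuotientGroup.mk_one, ← hρc, Representation.char_one]
      rw [h4] at h3
      exact_mod_cast h3
    rw [h2] at hd
    exact hidx ((hd.trans h1).trans (S.index_map_dvd (QuotientGroup.mk'_surjective B)))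

/-- The kernel of an irreducible character. -/
noncomputable def kerIrr (χ : Cfsg.IrrCharacter G) : Subgroup G :=
  MonoidHom.ker (χ.2.choose_spec.choose : Representation ℂ G (Fin χ.2.choose → ℂ))

theorem mem_kerIrr {χ : Cfsg.IrrCharacter G} {g : G} :
    g ∈ kerIrr χ ↔ (χ : G → ℂ) g = (χ : G → ℂ) 1 := by
  rw [kerIrr, Char.mem_ker_iff_char, χ.2.choose_spec.choose_spec.2]

theorem kerIrr_normal (χ : Cfsg.IrrCharacter G) : (kerIrr χ).Normal := by
  unfold kerIrr; infer_instance

/-- Intersection of the kernels of the extensions of characters trivial on `B`. -/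
noncomputable def interKer (N : Subgroup G) (B : Subgroup N) : Subgroup G :=
  ⨅ (χ : Cfsg.IrrCharacter G) (_ : ∀ b ∈ B, (χ : G → ℂ) (b : G) = (χ : G → ℂ) 1), kerIrr χ

theorem interKer_normal (N : Subgroup G) (B : Subgroup N) : (interKer N B).Normal :=
  Subgroup.normal_iInf_normal fun χ => Subgroup.normal_iInf_normal fun _ => kerIrr_normal χ

theorem interKer_mono (N : Subgroup G) {B B' : Subgroup N} (h : B ≤ B') :
    interKer N B ≤ interKer N B' := by
  intro g hg
  simp only [interKer, Subgroup.mem_iInf] at hg ⊢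
  exact fun χ hχ => hg χ fun b hb => hχ b (h hb)

theorem interKer_inf (N : Subgroup G) (S B : Subgroup N) [S.Normal] [B.Normal]
    (hidx : ¬ p ∣ S.index) (hcomm : ∀ a ∈ S, ∀ b ∈ S, a * b * a⁻¹ * b⁻¹ ∈ B)
    (hext : ∀ θ : Cfsg.IrrCharacter N, ¬ p ∣ Cfsg.charDegree (θ : N → ℂ) →
      ∃ χ : Cfsg.IrrCharacter G, ∀ x : N, (χ : G → ℂ) x = (θ : N → ℂ) x)
    (x : N) : (x : G) ∈ interKer N B ↔ x ∈ B := by
  constructor
  · intro hx
    by_contra hxB
    obtain ⟨θ, hθB, hθp, hθx⟩ := exists_separating (p := p) S B hidx hcomm hxB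
    obtain ⟨χ, hχ⟩ := hext θ hθp
    simp only [interKer, Subgroup.mem_iInf] at hx
    have h1 : (χ : G → ℂ) 1 = (θ : N → ℂ) 1 := hχ 1
    have h2 := hx χ fun b hb => by rw [hχ, h1, hθB b hb]
    rw [mem_kerIrr, hχ, h1] at h2
    exact hθx h2
  · intro hx
    simp only [interKer, Subgroup.mem_iInf]
    exact fun χ hχ => mem_kerIrr.2 (hχ x hx)

/-- The residual of a `p`-group is trivial. -/
theorem pResidualOf_eq_bot {H : Subgroup G} (hH : IsPGroup p H) : Cfsg.pResidualOf p H = ⊥ := by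
  rw [Cfsg.pResidualOf, Subgroup.map_eq_bot_iff_of_injective _ H.subtype_injective, Cfsg.pResidual,
    eq_bot_iff, closure_le]
  intro x hx
  rw [SetLike.mem_coe, mem_bot, ← orderOf_eq_one_iff]
  obtain ⟨k, hk⟩ := IsPGroup.iff_orderOf.1 hH x
  exact Nat.eq_one_of_dvd_coprimes (Nat.Coprime.pow_right k hx) dvd_rfl (hk ▸ dvd_rfl)

/-- The main theorem. -/
theorem exists_complement (P : Sylow p G)
    (hext : ∀ θ : Cfsg.IrrCharacter (normalizer ((P : Subgroup G) : Set G)),
      ¬ p ∣ Cfsg.charDegree (θ : normalizer ((P : Subgroup G) : Set G) → ℂ) →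
      ∃ χ : Cfsg.IrrCharacter G, ∀ x : normalizer ((P : Subgroup G) : Set G),
        (χ : G → ℂ) x = (θ : normalizer ((P : Subgroup G) : Set G) → ℂ) x) :
    ∃ K : Subgroup G, K.Normal ∧ K ⊔ normalizer ((P : Subgroup G) : Set G) = ⊤ ∧
      K ⊓ normalizer ((P : Subgroup G) : Set G) = ⊥ := by
  classical
  set N := normalizer ((P : Subgroup G) : Set G) with hNdef
  have hPN : (P : Subgroup G) ≤ N := le_normalizer
  let Q : Subgroup G := ⁅(P : Subgroup G), (P : Subgroup G)⁆
  have hQP : Q ≤ (P : Subgroup G) := commutator_le.2 fun a ha b hb => by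
    rw [commutatorElement_def]
    exact mul_mem (mul_mem (mul_mem ha hb) (inv_mem ha)) (inv_mem hb)
  let S : Subgroup N := (P : Subgroup G).subgroupOf N
  let B : Subgroup N := Q.subgroupOf N
  have hSn : S.Normal := normal_in_normalizer
  have hBn : B.Normal := by
    refine ⟨fun b hb n => ?_⟩
    have hmap : (P : Subgroup G).map (MulAut.conj (n : G)).toMonoidHom = (P : Subgroup G) :=
      mem_normalizer_iff_map_conj_eq.1 n.2
    have hQmap : Q.map (MulAut.conj (n : G)).toMonoidHom = Q := by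
      rw [Subgroup.map_commutator, hmap]
    rw [mem_subgroupOf] at hb ⊢
    rw [← hQmap]
    exact ⟨(b : G), hb, rfl⟩
  have hidx : ¬ p ∣ S.index := fun h =>
    P.not_dvd_index (h.trans (Subgroup.relIndex_dvd_index_of_le hPN))
  have hcomm : ∀ a ∈ S, ∀ b ∈ S, a * b * a⁻¹ * b⁻¹ ∈ B := fun a ha b hb =>
    commutator_mem_commutator ha hb
  let R : Subgroup G := interKer N S
  let M : Subgroup G := interKer N B
  have hRn : R.Normal := interKer_normal N S
  have hMn : M.Normal := interKer_normal N B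
  have hMR : M ≤ R := interKer_mono N fun x hx => hQP hx
  have hRN : ∀ x ∈ N, x ∈ R → x ∈ (P : Subgroup G) := fun x hx hxR =>
    (interKer_inf (p := p) N S S hidx (fun a ha b hb => mul_mem (mul_mem (mul_mem ha hb)
      (inv_mem ha)) (inv_mem hb)) hext ⟨x, hx⟩).1 hxR
  have hPR : (P : Subgroup G) ≤ R := fun x hx =>
    (interKer_inf (p := p) N S S hidx (fun a ha b hb => mul_mem (mul_mem (mul_mem ha hb)
      (inv_mem ha)) (inv_mem hb)) hext ⟨x, hPN hx⟩).2 hx
  have hMP : ∀ x ∈ (P : Subgroup G), x ∈ M → x ∈ Q := fun x hx hxM =>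
    (interKer_inf (p := p) N S B hidx hcomm hext ⟨x, hPN hx⟩).1 hxM
  have hQM : Q ≤ M := fun x hx =>
    (interKer_inf (p := p) N S B hidx hcomm hext ⟨x, hPN (hQP hx)⟩).2 hx
  -- Burnside in `R ⧸ M`
  let PR : Sylow p R := P.subtype hPR
  let M' : Subgroup R := M.subgroupOf R
  let π : R →* R ⧸ M' := QuotientGroup.mk' M'
  let Pb : Sylow p (R ⧸ M') := PR.mapSurjective (QuotientGroup.mk'_surjective M')
  have hPb : (Pb : Subgroup (R ⧸ M')) = ((P : Subgroup G).subgroupOf R).map π := rfl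
  have habP : ∀ a ∈ (Pb : Subgroup (R ⧸ M')), ∀ b ∈ (Pb : Subgroup (R ⧸ M')), a * b = b * a := by
    rw [hPb]
    rintro _ ⟨a, ha, rfl⟩ _ ⟨b, hb, rfl⟩
    rw [← commutatorElement_eq_one_iff_mul_comm, ← map_commutatorElement, QuotientGroup.mk'_apply,
      QuotientGroup.eq_one_iff, mem_subgroupOf]
    exact hQM (commutator_mem_commutator ha hb)
  have hnc : normalizer ((Pb : Subgroup (R ⧸ M')) : Set (R ⧸ M')) ≤
      centralizer ((Pb : Subgroup (R ⧸ M')) : Set (R ⧸ M')) := by
    intro ybar hy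
    obtain ⟨y, rfl⟩ := QuotientGroup.mk'_surjective M' ybar
    suffices h : π y ∈ (Pb : Subgroup (R ⧸ M')) from
      mem_centralizer_iff.2 fun z hz => habP z hz _ h
    let H : Subgroup G := (P : Subgroup G) ⊔ M
    have hHP : (P : Subgroup G) ≤ H := le_sup_left
    have hconj : ((MulAut.conj (y : G)) • P : Sylow p G).toSubgroup ≤ H := by
      rintro _ ⟨a, ha, rfl⟩
      have h1 : π y * π ⟨a, hPR ha⟩ * (π y)⁻¹ ∈ (Pb : Subgroup (R ⧸ M')) :=
        (mem_normalizer_iff.1 hy _).1 (by rw [hPb]; exact ⟨⟨a, hPR ha⟩, ha, rfl⟩)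
      rw [hPb] at h1
      obtain ⟨b, hb, hbe⟩ := h1
      rw [← map_inv, ← map_mul, ← map_mul, QuotientGroup.mk'_apply, QuotientGroup.mk'_apply,
        QuotientGroup.eq, mem_subgroupOf] at hbe
      have h2 := mul_mem (mem_sup_left (T := M) (show (b : G) ∈ (P : Subgroup G) from hb))
        (mem_sup_right (S := (P : Subgroup G)) hbe)
      simpa [H, MulAut.conj_apply] using h2
    obtain ⟨h, hh⟩ := MulAction.exists_smul_eq H
      (((MulAut.conj (y : G)) • P : Sylow p G).subtype hconj) (P.subtype hHP)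
    rw [Sylow.smul_subtype] at hh
    have h2 := Sylow.subtype_injective hh
    have hn : (h : G) * (y : G) ∈ N := by
      refine (Sylow.smul_eq_iff_mem_normalizer (P := P)).1 ?_
      change (MulAut.conj ((h : G) * (y : G))) • P = P
      rw [map_mul, mul_smul]
      exact h2
    have hhR : (h : G) ∈ R := (sup_le hPR hMR) h.2
    have h3 := hRN _ hn (mul_mem hhR y.2)
    have hhinv : ((h : G))⁻¹ * ((h : G) * (y : G)) ∈ H := mul_mem (inv_mem h.2) (hHP h3)
    rw [inv_mul_cancel_left] at hhinv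
    obtain ⟨a, ha, m, hm, ham⟩ := Subgroup.mem_sup_of_normal_right.1 hhinv
    rw [hPb]
    refine ⟨⟨a, hPR ha⟩, ha, ?_⟩
    rw [QuotientGroup.mk'_apply, QuotientGroup.mk'_apply, QuotientGroup.eq, mem_subgroupOf,
      coe_mul, coe_inv, ← ham, inv_mul_cancel_left]
    exact hm
  obtain ⟨Q0, K0, hK0n, hK0c⟩ :=
    Transfer.hasNormalPComplement_of_normalizer_le_centralizer Pb hnc
  have hK0cop : (Nat.card K0).Coprime p := by
    refine ((Fact.out : p.Prime).coprime_iff_not_dvd.2 fun hd => ?_).symm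
    rw [← hK0c.index_eq_card] at hd
    exact Q0.not_dvd_index hd
  have hcommK0 : _root_.commutator (R ⧸ M') ≤ K0 := by
    have hgen : K0 ⊔ (Pb : Subgroup (R ⧸ M')) = ⊤ := by
      refine (isComplement'_of_coprime ?_ ?_).sup_eq_top
      · rw [← hK0c.card_mul_card, Sylow.card_eq_multiplicity Pb, Sylow.card_eq_multiplicity Q0]
      · rw [Sylow.card_eq_multiplicity Pb]
        exact hK0cop.pow_right _
    rw [_root_.commutator_def, commutator_le]
    intro a _ b _
    rw [← QuotientGroup.eq_one_iff, ← QuotientGroup.mk'_apply, map_commutatorElement,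
      commutatorElement_eq_one_iff_mul_comm]
    have hsurj : ∀ z : R ⧸ M', ∃ c ∈ (Pb : Subgroup (R ⧸ M')),
        QuotientGroup.mk' K0 z = QuotientGroup.mk' K0 c := fun z => by
      obtain ⟨k, hk, c, hc, rfl⟩ := mem_sup_of_normal_left.1 (hgen ▸ mem_top z)
      exact ⟨c, hc, by rw [map_mul, QuotientGroup.mk'_apply K0 k,
        (QuotientGroup.eq_one_iff k).2 hk, one_mul]⟩
    obtain ⟨a', ha', hae⟩ := hsurj a
    obtain ⟨b', hb', hbe⟩ := hsurj b
    rw [hae, hbe, ← map_mul, ← map_mul, habP a' ha' b' hb']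
  have hfocal : (PR : Subgroup R) ⊓ _root_.commutator R =
      (PR : Subgroup R) ⊓ ⁅(PR : Subgroup R), (PR : Subgroup R)⁆ := by
    refine le_antisymm (fun x hx => ⟨hx.1, ?_⟩)
      (inf_le_inf_left _ (by rw [_root_.commutator_def]; exact commutator_mono le_top le_top))
    have h1 : π x ∈ K0 := hcommK0 (by
      have hmem : π x ∈ (_root_.commutator R).map π := ⟨x, hx.2, rfl⟩
      rw [_root_.commutator_def, Subgroup.map_commutator,
        Subgroup.map_top_of_surjective π (QuotientGroup.mk'_surjective M'),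
        ← _root_.commutator_def] at hmem
      exact hmem)
    have h2 : π x ∈ (Pb : Subgroup (R ⧸ M')) := ⟨x, hx.1, rfl⟩
    have h3 : π x = 1 := by
      obtain ⟨k, hk⟩ := IsPGroup.iff_orderOf.1 Pb.2 ⟨π x, h2⟩
      rw [← Subgroup.orderOf_coe] at hk
      have hdv : orderOf (π x) ∣ Nat.card K0 := K0.orderOf_dvd_natCard h1
      exact orderOf_eq_one_iff.1 (Nat.eq_one_of_dvd_coprimes (hK0cop.pow_right k) hdv
        (dvd_of_eq hk))
    have h4 : (x : G) ∈ Q := hMP _ hx.1 ((QuotientGroup.eq_one_iff x).1 h3)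
    have hmap : (⁅(PR : Subgroup R), (PR : Subgroup R)⁆).map R.subtype = Q := by
      rw [Subgroup.map_commutator, show (PR : Subgroup R) = (P : Subgroup G).subgroupOf R from rfl,
        subgroupOf_map_subtype, inf_eq_left.2 hPR]
    rw [← hmap] at h4
    obtain ⟨y, hy, hyx⟩ := h4
    rwa [← Subtype.ext hyx]
  have hres := Invol.pResidualOf_eq_of_commutator_inf_eq PR (PR : Subgroup R) le_rfl hfocal
  rw [pResidualOf_eq_bot PR.2] at hres
  have := Transfer.pResidual_normal (G := R) (p := p)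
  have hKc : (Nat.card (Cfsg.pResidual p R)).Coprime p :=
    Transfer.coprime_card_of_inf_sylow_eq_bot PR hres.symm
  have := Transfer.pResidual_characteristic (G := R) (p := p)
  refine ⟨(Cfsg.pResidual p R).map R.subtype, inferInstance, ?_, ?_⟩
  · have h1 := Transfer.pResidual_sup_sylow PR
    have h2 : (Cfsg.pResidual p R).map R.subtype ⊔ (P : Subgroup G) = R := by
      have h3 := congrArg (Subgroup.map R.subtype) h1
      rwa [Subgroup.map_sup, show (PR : Subgroup R) = (P : Subgroup G).subgroupOf R from rfl,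
        subgroupOf_map_subtype, inf_eq_left.2 hPR, ← MonoidHom.range_eq_map, range_subtype] at h3
    have hfr : N ⊔ R = ⊤ := by
      have h5 := Sylow.normalizer_sup_eq_top PR
      rw [show ((PR : Subgroup R).map R.subtype) = (P : Subgroup G) from by
        rw [show (PR : Subgroup R) = (P : Subgroup G).subgroupOf R from rfl,
          subgroupOf_map_subtype, inf_eq_left.2 hPR]] at h5
      exact h5
    rw [eq_top_iff, ← hfr]
    refine sup_le le_sup_right ?_
    conv_lhs => rw [← h2]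
    exact sup_le le_sup_left (hPN.trans le_sup_right)
  · rw [eq_bot_iff]
    rintro x ⟨⟨y, hy, rfl⟩, hxN⟩
    have hyP : y ∈ (PR : Subgroup R) := hRN _ hxN y.2
    have hy1 : y ∈ Cfsg.pResidual p R ⊓ (PR : Subgroup R) := ⟨hy, hyP⟩
    rw [← hres, mem_bot] at hy1
    rw [hy1, map_one]
    exact one_mem _

end CfsgLib.BlockB.ExtendNormalizer
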