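import Cfsg.Agent.Lib.BlockB.McKayBasic
import Cfsg.Agent.Lib.BlockB.ClassMul
import Cfsg.Agent.Lib.Clifford.Degrees
import Cfsg.Agent.Lib.BlockB.OverTheta
import Cfsg.Agent.Lib.Char.CliffordApps

/-!
Characters of degree prime to `p` over a character, counted through an intermediate normal
subgroup: the fibres are the orbits of a group controlling conjugation.
-/

set_option autoImplicit false
set_option linter.unusedSectionVars false
set_option linter.style.haveILetI false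

namespace CfsgLib.BlockB.McKay

open CfsgLib.Clifford

universe u

/-- The characters of degree prime to `p` whose pull-back along `f` involves `ν`. -/
abbrev PrimeOver (p : ℕ) {A B : Type u} [Group A] [Fintype A] [Group B] (f : A → B) (ν : A → ℂ) :
    Type u :=
  {χ : Cfsg.IrrCharacter B //
    ¬ p ∣ Cfsg.charDegree (χ : B → ℂ) ∧ Cfsg.classInner ((χ : B → ℂ) ∘ f) ν ≠ 0}

/-- A character of degree prime to `p` has a constituent of degree prime to `p` on a subgroup. -/
theorem exists_prime_constituent {G : Type u} [Group G] [Fintype G] {p : ℕ} (H : Subgroup G)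
    [Fintype H] {χ : G → ℂ} (hχ : Cfsg.IsCharacter G χ) (hd : ¬ p ∣ Cfsg.charDegree χ) :
    ∃ η : H → ℂ, Cfsg.IsIrrCharacter H η ∧ ¬ p ∣ Cfsg.charDegree η ∧
      Cfsg.classInner (fun h : H => χ h) η ≠ 0 := by
  haveI := Fintype.ofFinite (Cfsg.IrrCharacter H)
  have hc := CfsgLib.Char.isCharacter_restrict hχ H
  choose a ha using fun η : Cfsg.IrrCharacter H =>
    CfsgLib.Char.classInner_isCharacter_nat hc (CfsgLib.Char.irr_isCharacter η.2)
  by_contra hcon
  push Not at hcon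
  refine hd ?_
  have e : Cfsg.charDegree χ = ∑ η, a η * Cfsg.charDegree (η : H → ℂ) := by
    have h := CfsgLib.Char.classFunction_apply_eq_sum (CfsgLib.Char.isCharacter_isClassFunction hc) 1
    simp only [Subgroup.coe_one, ← charDegree_cast hχ, ha,
      ← irr_degree_cast] at h
    exact_mod_cast h
  rw [e]
  refine Finset.dvd_sum fun η _ => ?_
  by_cases h : p ∣ Cfsg.charDegree (η : H → ℂ)
  · exact h.mul_left _
  · have := hcon η η.2 h
    rw [ha, Nat.cast_eq_zero] at this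
    simp [this]

/-- An irreducible character of an abelian group is linear. -/
theorem apply_one_of_comm {A : Type u} [Group A] [Finite A] (hA : ∀ a b : A, a * b = b * a)
    {θ : A → ℂ} (hθ : Cfsg.IsIrrCharacter A θ) : θ 1 = 1 := by
  haveI := Fintype.ofFinite A
  obtain ⟨n, ρ, hρ, rfl⟩ := hθ
  haveI := hρ
  have h := CfsgLib.Char.ito_degree_dvd_index ρ (⊤ : Subgroup A) (fun a _ b _ => hA a b)
  rw [Subgroup.index_top, Nat.dvd_one, Module.finrank_fin_fun] at h
  rw [Representation.char_one, Module.finrank_fin_fun, h, Nat.cast_one]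

/-- Over a linear character of a central subgroup. -/
theorem over_central_iff {A B : Type u} [Group A] [Fintype A] [Group B] [Finite B] (f : A →* B)
    (hinj : Function.Injective f) (hf : ∀ a b, f a * b = b * f a) {lam : A → ℂ}
    (hlam : Cfsg.IsIrrCharacter A lam) (χ : Cfsg.IrrCharacter B) :
    Cfsg.classInner ((χ : B → ℂ) ∘ f) lam ≠ 0 ↔ ∀ a, (χ : B → ℂ) (f a) = (χ : B → ℂ) 1 * lam a := by
  haveI := Fintype.ofFinite B
  have hA : ∀ a b : A, a * b = b * a := fun a b => hinj (by rw [map_mul, map_mul, hf])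
  have h1 := apply_one_of_comm hA hlam
  constructor
  · intro h a
    haveI := Fintype.ofFinite f.range
    haveI : f.range.Normal := ⟨fun x ⟨a, ha⟩ g => ⟨a, by
      rw [← ha, ← hf, mul_inv_cancel_right]⟩⟩
    let e : A ≃* f.range := MonoidHom.ofInjective hinj
    have he : Cfsg.IsIrrCharacter f.range (lam ∘ e.symm) :=
      CfsgLib.Char.isIrrCharacter_comp_surjective hlam e.symm.toMonoidHom e.symm.surjective
    have hin : Cfsg.classInner (fun n : f.range => (χ : B → ℂ) n) (lam ∘ e.symm) ≠ 0 := by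
      rw [← OverTheta.classInner_comp_surjective e.toMonoidHom e.surjective,
        show ((fun n : f.range => (χ : B → ℂ) n) ∘ e.toMonoidHom) = (χ : B → ℂ) ∘ f from rfl,
        show (lam ∘ e.symm) ∘ e.toMonoidHom = lam from funext fun a =>
          congrArg lam (e.symm_apply_apply a)]
      exact h
    have hfix : ∀ (g : B) (n : f.range), conjN g n = n := fun g n => Subtype.ext (by
      obtain ⟨a, ha⟩ := n.2
      show g * (n : B) * g⁻¹ = n
      rw [← ha, ← hf, mul_inv_cancel_right])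
    have hr := restrict_eq_smul_of_invariant χ.2 he
      (fun g => funext fun n => congrArg _ (hfix g n)) hin
    have ha := congr_fun hr (e a)
    have h0 := congr_fun hr 1
    simp only [Pi.smul_apply, Function.comp_apply, e.symm_apply_apply, map_one, h1, smul_eq_mul,
      mul_one, OneMemClass.coe_one] at ha h0
    rw [h0]
    exact ha
  · intro h
    rw [show (χ : B → ℂ) ∘ f = (χ : B → ℂ) 1 • lam from funext fun a => h a,
      CfsgLib.Char.classInner_smul_left, CfsgLib.Char.irr_classInner_self hlam, mul_one]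
    exact CfsgLib.Char.irr_apply_one_ne_zero χ.2

section Fibre

variable {G : Type u} [Group G] [Fintype G] (K : Subgroup G) [K.Normal] [Fintype K]

open scoped Classical in
/-- Counting a set of characters through the orbits below them. -/
theorem fibre_count (R : Subgroup G) (𝒜 : Set (Cfsg.IrrCharacter G))
    (Ω : Set (Cfsg.IrrCharacter K)) [Fintype Ω]
    (hstab : ∀ μ ∈ Ω, ∀ r ∈ R, ∀ μ' : Cfsg.IrrCharacter K,
      (μ' : K → ℂ) = conjFn r (μ : K → ℂ) → μ' ∈ Ω)
    (hex : ∀ χ ∈ 𝒜, ∃ μ ∈ Ω,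
      Cfsg.classInner (fun k : K => (χ : G → ℂ) k) (μ : K → ℂ) ≠ 0)
    (horb : ∀ χ ∈ 𝒜, ∀ μ ∈ Ω, ∀ μ' ∈ Ω,
      Cfsg.classInner (fun k : K => (χ : G → ℂ) k) (μ : K → ℂ) ≠ 0 →
      Cfsg.classInner (fun k : K => (χ : G → ℂ) k) (μ' : K → ℂ) ≠ 0 →
      ∃ r ∈ R, conjFn r (μ : K → ℂ) = (μ' : K → ℂ)) :
    Nat.card R * Nat.card 𝒜 = ∑ μ : Ω,
      Nat.card {χ : 𝒜 // Cfsg.classInner (fun k : K => (χ.1 : G → ℂ) k) (μ.1 : K → ℂ) ≠ 0} *
        Nat.card {r : R // conjFn (r : G) (μ.1 : K → ℂ) = (μ.1 : K → ℂ)} := by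
  haveI := Fintype.ofFinite 𝒜
  have key : ∀ χ : 𝒜, ∑ μ : Ω,
      (if Cfsg.classInner (fun k : K => (χ.1 : G → ℂ) k) (μ.1 : K → ℂ) ≠ 0 then
        Nat.card {r : R // conjFn (r : G) (μ.1 : K → ℂ) = (μ.1 : K → ℂ)} else 0) = Nat.card R := by
    intro χ
    obtain ⟨μ₀, hμ₀, hne₀⟩ := hex χ.1 χ.2
    have hover : ∀ (r : G), Cfsg.classInner (fun k : K => (χ.1 : G → ℂ) k)
        (conjFn r (μ₀ : K → ℂ)) ≠ 0 := by
      intro r
      conv => arg 1; rw [show (fun k : K => (χ.1 : G → ℂ) k) =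
        conjFn r (fun k : K => (χ.1 : G → ℂ) k) from
        (isCharacter_restrict_conj (CfsgLib.Char.irr_isClassFunction χ.1.2) r).symm]
      let e : K ≃* K :=
        { toFun := conjN r
          invFun := conjN r⁻¹
          left_inv := fun n => by rw [← conjN_mul, inv_mul_cancel, conjN_one]
          right_inv := fun n => by rw [← conjN_mul, mul_inv_cancel, conjN_one]
          map_mul' := fun a b => Subtype.ext (by simp [mul_assoc]) }
      have := OverTheta.classInner_comp_surjective e.toMonoidHom e.surjective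
        (fun k : K => (χ.1 : G → ℂ) k) (μ₀ : K → ℂ)
      exact fun h => hne₀ (this.symm.trans h)
    let O := {μ : Ω // Cfsg.classInner (fun k : K => (χ.1 : G → ℂ) k) (μ.1 : K → ℂ) ≠ 0}
    let ψ : R → O := fun r => ⟨⟨⟨_, isIrrCharacter_conjFn μ₀.2 (r : G)⟩,
      hstab μ₀ hμ₀ r r.2 _ rfl⟩, hover r⟩
    have hfib : ∀ μ : O, Nat.card {r : R // ψ r = μ} =
        Nat.card {r : R // conjFn (r : G) (μ.1.1 : K → ℂ) = (μ.1.1 : K → ℂ)} := by
      intro μ
      obtain ⟨t, ht, hte⟩ := horb χ.1 χ.2 μ₀ hμ₀ μ.1.1 μ.1.2 hne₀ μ.2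
      have hψ : ∀ r : R, ψ r = μ ↔ conjFn (r : G) (μ₀ : K → ℂ) = (μ.1.1 : K → ℂ) := fun r =>
        ⟨fun h => congrArg (fun x : O => ((x.1.1 : Cfsg.IrrCharacter K) : K → ℂ)) h,
          fun h => Subtype.ext (Subtype.ext (Subtype.ext h))⟩
      refine Nat.card_congr ((Equiv.mulLeft (⟨t, ht⟩ : R)⁻¹).subtypeEquiv fun r => ?_)
      rw [hψ, Equiv.coe_mulLeft, ← hte, Subgroup.coe_mul, Subgroup.coe_inv]
      rw [conjFn_conjFn, mul_inv_cancel_left]
    rw [← Finset.sum_filter, Finset.sum_subtype (p := fun μ : Ω =>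
      Cfsg.classInner (fun k : K => (χ.1 : G → ℂ) k) (μ.1 : K → ℂ) ≠ 0) _ fun x => by simp]
    have h1 := Nat.card_congr (Equiv.sigmaFiberEquiv ψ)
    rw [Nat.card_sigma] at h1
    rw [← h1]
    exact Finset.sum_congr rfl fun μ _ => (hfib μ).symm
  calc Nat.card R * Nat.card 𝒜 = ∑ _χ : 𝒜, Nat.card R := by
        rw [Finset.sum_const, Finset.card_univ, smul_eq_mul, mul_comm, Nat.card_eq_fintype_card (α := 𝒜)]
    _ = _ := by
        rw [← Finset.sum_congr rfl fun χ _ => key χ, Finset.sum_comm]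
        refine Finset.sum_congr rfl fun μ _ => ?_
        rw [← Finset.sum_filter, Finset.sum_const, smul_eq_mul, ← Fintype.card_subtype,
          ← Nat.card_eq_fintype_card]

end Fibre

open scoped Classical in
/-- Two fibred sets with matching bases, fibres and stabilisers have the same size. -/
theorem card_eq_of_fibres {G G' : Type u} [Group G] [Fintype G] [Group G'] [Fintype G']
    (K : Subgroup G) [K.Normal] [Fintype K] (K' : Subgroup G') [K'.Normal] [Fintype K']
    (R : Subgroup G) (R' : Subgroup G') (𝒜 : Set (Cfsg.IrrCharacter G))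
    (𝒜' : Set (Cfsg.IrrCharacter G'))
    (Ω : Set (Cfsg.IrrCharacter K)) [Fintype Ω] (Ω' : Set (Cfsg.IrrCharacter K')) [Fintype Ω']
    (h1 : Nat.card R * Nat.card 𝒜 = ∑ μ : Ω,
      Nat.card {χ : 𝒜 // Cfsg.classInner (fun k : K => (χ.1 : G → ℂ) k) (μ.1 : K → ℂ) ≠ 0} *
        Nat.card {r : R // conjFn (r : G) (μ.1 : K → ℂ) = (μ.1 : K → ℂ)})
    (h2 : Nat.card R' * Nat.card 𝒜' = ∑ μ : Ω',
      Nat.card {χ : 𝒜' // Cfsg.classInner (fun k : K' => (χ.1 : G' → ℂ) k) (μ.1 : K' → ℂ) ≠ 0} *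
        Nat.card {r : R' // conjFn (r : G') (μ.1 : K' → ℂ) = (μ.1 : K' → ℂ)})
    (hR : Nat.card R = Nat.card R') (e : Ω ≃ Ω')
    (hst : ∀ μ : Ω, Nat.card {r : R // conjFn (r : G) (μ.1 : K → ℂ) = (μ.1 : K → ℂ)} =
      Nat.card {r : R' // conjFn (r : G') ((e μ).1 : K' → ℂ) = ((e μ).1 : K' → ℂ)})
    (hfib : ∀ μ : Ω,
      Nat.card {χ : 𝒜 // Cfsg.classInner (fun k : K => (χ.1 : G → ℂ) k) (μ.1 : K → ℂ) ≠ 0} =
      Nat.card {χ : 𝒜' // Cfsg.classInner (fun k : K' => (χ.1 : G' → ℂ) k)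
        ((e μ).1 : K' → ℂ) ≠ 0}) :
    Nat.card 𝒜 = Nat.card 𝒜' := by
  refine Nat.eq_of_mul_eq_mul_left (Nat.card_pos (α := R)) ?_
  rw [h1, hR, h2]
  exact Fintype.sum_equiv e _ _ fun μ => by rw [hst, hfib]

section Inertia

variable {G : Type u} [Group G] [Fintype G] (K : Subgroup G) [K.Normal] [Fintype K]

/-- Over a character of degree prime to `p` of a normal subgroup of index prime to `p`, every
character has degree prime to `p`. -/
theorem prime_degree_of_over {p : ℕ} [Fact p.Prime] (hidx : ¬ p ∣ K.index) {η : K → ℂ}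
    (hη : Cfsg.IsIrrCharacter K η) (hd : ¬ p ∣ Cfsg.charDegree η) {χ : G → ℂ}
    (hχ : Cfsg.IsIrrCharacter G χ) (h : Cfsg.classInner (fun k : K => χ k) η ≠ 0) :
    ¬ p ∣ Cfsg.charDegree χ := by
  obtain ⟨e, he, hdvd⟩ := degree_quot_dvd_index hχ hη h
  have h1 : Cfsg.charDegree χ = e * Cfsg.charDegree η := by
    have hc : ((Cfsg.charDegree χ : ℕ) : ℂ) = ((e * Cfsg.charDegree η : ℕ) : ℂ) := by
      rw [Nat.cast_mul, charDegree_cast (CfsgLib.Char.irr_isCharacter hχ),
        charDegree_cast (CfsgLib.Char.irr_isCharacter hη), he]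
    exact_mod_cast hc
  rw [h1, (Fact.out : p.Prime).dvd_mul]
  exact not_or.2 ⟨fun h => hidx (h.trans hdvd), hd⟩

/-- The Clifford correspondence as an equality of counts. -/
theorem card_over_inertia (T : Subgroup G) [Fintype T] (hKT : K ≤ T) {η : K → ℂ}
    (hη : Cfsg.IsIrrCharacter K η) (hT : ∀ g, g ∈ T ↔ conjFn g η = η) :
    Nat.card (Over (fun k : K => (k : G)) η) = Nat.card (Over (Subgroup.inclusion hKT) η) := by
  have hF : ∀ ψ : Over (Subgroup.inclusion hKT) η,
      Cfsg.classInner (fun k : K => Cfsg.indFun T (ψ.1 : T → ℂ) k) η ≠ 0 := fun ψ => by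
    rw [indFun_inertia_restrict T hKT hη hT ψ.1.2 ψ.2]
    exact ψ.2
  let F : Over (Subgroup.inclusion hKT) η → Over (fun k : K => (k : G)) η := fun ψ =>
    ⟨⟨Cfsg.indFun T (ψ.1 : T → ℂ), (indFun_inertia T hKT hη hT ψ.1.2 ψ.2).1⟩, hF ψ⟩
  refine (Nat.card_congr (Equiv.ofBijective F ⟨fun ψ ψ' h => ?_, fun χ => ?_⟩)).symm
  · refine Subtype.ext (Subtype.ext ((indFun_inertia T hKT hη hT ψ.1.2 ψ.2).2 _ ψ'.1.2 ψ'.2 ?_))
    have e : Cfsg.indFun T (ψ.1 : T → ℂ) = Cfsg.indFun T (ψ'.1 : T → ℂ) :=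
      congrArg (fun x : Over (fun k : K => (k : G)) η => ((x.1 : Cfsg.IrrCharacter G) : G → ℂ)) h
    rw [← e, CfsgLib.Char.irr_classInner_self (indFun_inertia T hKT hη hT ψ.1.2 ψ.2).1]
    exact one_ne_zero
  · obtain ⟨ψ, hψ, he, hm⟩ := exists_indFun_inertia T hKT hη hT χ.1.2 χ.2
    refine ⟨⟨⟨ψ, hψ⟩, ?_⟩, Subtype.ext (Subtype.ext he)⟩
    show Cfsg.classInner (fun n : K => ψ ⟨(n : G), hKT n.2⟩) η ≠ 0
    rw [hm]
    exact χ.2

end Inertia

end CfsgLib.BlockB.McKay
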