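import Cfsg.Agent.Lib.BlockB.RelMcKayCentral
import Cfsg.Agent.Lib.BlockA.PrincipalType
import Cfsg.Agent.Lib.PLength.Series

/-!
Group-theoretic and Clifford-theoretic steps for the relative McKay count.
-/

set_option autoImplicit false
set_option linter.unusedSectionVars false
set_option linter.style.haveILetI false

namespace CfsgLib.BlockB.McKay

open CfsgLib.Clifford
open scoped Pointwise

universe u

/-- A central extension of a `p`-solvable group is `p`-solvable. -/
theorem isPSolvable_of_central_ker {E G : Type u} [Group E] [Finite E] [Group G] [Finite G] {p : ℕ}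
    [Fact p.Prime] (π : E →* G) (hπ : Function.Surjective π)
    (hc : π.ker ≤ Subgroup.center E) (hG : Cfsg.IsPSolvable p G) : Cfsg.IsPSolvable p E := by
  set A := π.ker with hA
  obtain ⟨Q⟩ : Nonempty (Sylow p A) := inferInstance
  set Ap := (Q : Subgroup A).map A.subtype with hAp
  have hApA : Ap ≤ A := Subgroup.map_subtype_le _
  haveI : Ap.Normal := ⟨fun x hx g => by
    rw [Subgroup.mem_center_iff.1 (hc (hApA hx)) g, mul_inv_cancel_right]; exact hx⟩
  haveI : (A.map (QuotientGroup.mk' Ap)).Normal :=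
    (inferInstance : A.Normal).map _ (QuotientGroup.mk'_surjective _)
  have h1 : Cfsg.IsPSolvable p (E ⧸ A) :=
    CfsgLib.BlockA.isPSolvable_of_surjective (QuotientGroup.quotientKerEquivOfSurjective π hπ).symm.toMonoidHom
      (QuotientGroup.quotientKerEquivOfSurjective π hπ).symm.surjective hG
  have h2 : Cfsg.IsPSolvable p ((E ⧸ Ap) ⧸ A.map (QuotientGroup.mk' Ap)) :=
    CfsgLib.BlockA.isPSolvable_of_surjective
      (QuotientGroup.quotientQuotientEquivQuotient Ap A hApA).symm.toMonoidHom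
      (QuotientGroup.quotientQuotientEquivQuotient Ap A hApA).symm.surjective h1
  obtain ⟨k, hk⟩ := CfsgLib.PLength.exists_pSeriesLE_of_isPSolvable h2
  have hcop : (Nat.card (A.map (QuotientGroup.mk' Ap))).Coprime p := by
    rw [← Subgroup.relIndex_ker, QuotientGroup.ker_mk', hAp]
    have : ((Q : Subgroup A).map A.subtype).relIndex A = (Q : Subgroup A).index := by
      rw [Subgroup.relIndex, Subgroup.subgroupOf,
        Subgroup.comap_map_eq_self_of_injective A.subtype_injective]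
    rw [this]
    exact Nat.coprime_comm.1 ((Fact.out : p.Prime).coprime_iff_not_dvd.2 Q.not_dvd_index)
  exact ((hk.of_quotient_pPrime _ hcop).of_quotient_pgroup Ap (Q.2.map _)).isPSolvable

section Sylow

variable {G : Type u} [Group G] [Finite G] {p : ℕ} [Fact p.Prime]

/-- A Sylow subgroup joined with a central subgroup has the same normalizer. -/
theorem normalizer_sup_central (S : Sylow p G) {Z : Subgroup G}
    (hZ : ∀ z ∈ Z, ∀ g, z * g = g * z) :
    Subgroup.normalizer ((Z ⊔ S : Subgroup G) : Set G) = Subgroup.normalizer ((S : Subgroup G) : Set G) := by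
  have hZN : ∀ T : Subgroup G, Z ≤ Subgroup.normalizer (T : Set G) := fun T z hz =>
    Subgroup.mem_normalizer_iff.2 fun h => by rw [hZ z hz h, mul_inv_cancel_right]
  have hSN : Z ⊔ (S : Subgroup G) ≤ Subgroup.normalizer ((S : Subgroup G) : Set G) :=
    sup_le (hZN _) Subgroup.le_normalizer
  refine le_antisymm (fun n hn => ?_) fun n hn => ?_
  · refine Sylow.smul_eq_iff_mem_normalizer.1 ?_
    have hle : ((n • S : Sylow p G) : Subgroup G) ≤ Subgroup.normalizer ((S : Subgroup G) : Set G) := by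
      intro x hx
      rw [Sylow.coe_subgroup_smul] at hx
      obtain ⟨s, hs, rfl⟩ := hx
      exact hSN ((Subgroup.mem_normalizer_iff.1 hn s).1 (Subgroup.mem_sup_right hs))
    have hP := (n • S).2.to_sup_of_normal_right' S.2 hle
    have h1 := S.3 hP le_sup_right
    have h2 : ((n • S : Sylow p G) : Subgroup G) ≤ S := le_sup_left.trans h1.le
    exact Sylow.ext ((n • S).3 S.2 h2).symm
  · refine Subgroup.mem_normalizer_fintype fun y hy => ?_
    obtain ⟨z, hz, s, hs, rfl⟩ := mem_sup_norm (K := Z) (A := (S : Subgroup G))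
      (fun s _ => Subgroup.mem_normalizer_fintype fun h hh => by
        simpa only [SetLike.mem_coe, ← hZ h hh s, mul_inv_cancel_right] using hh) hy
    rw [show n * (z * s) * n⁻¹ = (n * z * n⁻¹) * (n * s * n⁻¹) by group, ← hZ z hz n,
      mul_inv_cancel_right]
    exact Subgroup.mul_mem_sup hz ((Subgroup.mem_normalizer_iff.1 hn s).1 hs)

/-- A subgroup of index prime to `p` in `X` contains a conjugate of `S` under `X`. -/
theorem exists_conj_mem (S : Sylow p G) {T X : Subgroup G} (hTX : T ≤ X)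
    (hSX : (S : Subgroup G) ≤ X) (hidx : ¬ p ∣ T.relIndex X) :
    ∃ x ∈ X, ∀ s ∈ (S : Subgroup G), x * s * x⁻¹ ∈ T := by
  let TX := T.subgroupOf X
  obtain ⟨Q⟩ : Nonempty (Sylow p TX) := inferInstance
  have hR : ¬ p ∣ ((Q : Subgroup TX).map TX.subtype).index := by
    rw [Subgroup.index_map_subtype, (Fact.out : p.Prime).dvd_mul]
    exact not_or.2 ⟨Q.not_dvd_index, hidx⟩
  obtain ⟨x, hx⟩ := MulAction.exists_smul_eq X (S.subtype hSX) ((Q.2.map TX.subtype).toSylow hR)
  refine ⟨x, x.2, fun s hs => ?_⟩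
  have : (MulAut.conj x) • (⟨s, hSX hs⟩ : X) ∈ ((x • S.subtype hSX : Sylow p X) : Subgroup X) := by
    rw [Sylow.coe_subgroup_smul]
    exact Subgroup.smul_mem_pointwise_smul _ _ _ hs
  rw [hx] at this
  obtain ⟨t, -, ht⟩ := this
  have h1 : ((t : X) : G) = x * s * (x : G)⁻¹ := congrArg Subtype.val ht
  rw [← h1]
  exact t.2

/-- Two conjugates of `S` in `T` are conjugate in `T`. -/
theorem exists_mul_mem_normalizer (S : Sylow p G) {T : Subgroup G} (hST : (S : Subgroup G) ≤ T)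
    {g : G} (hg : ∀ s ∈ (S : Subgroup G), g * s * g⁻¹ ∈ T) :
    ∃ t ∈ T, t * g ∈ Subgroup.normalizer ((S : Subgroup G) : Set G) := by
  have hgS : ((g • S : Sylow p G) : Subgroup G) ≤ T := by
    intro x hx
    rw [Sylow.coe_subgroup_smul] at hx
    obtain ⟨s, hs, rfl⟩ := hx
    exact hg s hs
  obtain ⟨t, ht⟩ := MulAction.exists_smul_eq T ((g • S).subtype hgS) (S.subtype hST)
  refine ⟨t, t.2, ?_⟩
  refine Sylow.smul_eq_iff_mem_normalizer.1 ?_
  rw [mul_smul]
  rw [Sylow.smul_subtype] at ht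
  exact Sylow.subtype_injective ht

end Sylow

section Clifford

variable {G : Type u} [Group G] [Finite G] {p : ℕ}

/-- Counts over `K` in `X` read inside the subgroup `K.subgroupOf X`. -/
theorem card_primeOver_subgroupOf (K X : Subgroup G) [Fintype X] [Fintype K]
    [Fintype (K.subgroupOf X)] (hKX : K ≤ X) (η : K → ℂ) :
    Nat.card (PrimeOver p (Subgroup.inclusion hKX) η) =
      Nat.card (PrimeOver p (fun m : K.subgroupOf X => (m : X))
        (η ∘ Subgroup.subgroupOfEquivOfLe hKX)) :=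
  (card_primeOver_congr p (Subgroup.subgroupOfEquivOfLe hKX) (MulEquiv.refl X)
    (fun _ => Subtype.ext rfl) (fun _ => rfl)).symm

/-- `InvBy` as fixing under conjugation inside `X`. -/
theorem conjFn_eq_iff {K X : Subgroup G} [(K.subgroupOf X).Normal] (hKX : K ≤ X) (x : X) (η : K → ℂ) :
    conjFn x (η ∘ Subgroup.subgroupOfEquivOfLe hKX) = η ∘ Subgroup.subgroupOfEquivOfLe hKX ↔
      InvBy K (x : G) η := by
  refine ⟨fun h k k' hk => ?_, fun h => funext fun m => h _ _ rfl⟩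
  obtain ⟨m, rfl⟩ := (Subgroup.subgroupOfEquivOfLe hKX).surjective k
  have h1 := congr_fun h m
  rw [conjFn_apply, Function.comp_apply, Function.comp_apply] at h1
  rw [← h1]
  exact congrArg η (Subtype.ext hk)

/-- Characters over a character of degree divisible by `p` have degree divisible by `p`. -/
theorem card_primeOver_eq_zero [Fintype G] (K X : Subgroup G) [K.Normal] [Fintype X] [Fintype K]
    (hKX : K ≤ X) {η : K → ℂ} (hη : Cfsg.IsIrrCharacter K η) (hd : p ∣ Cfsg.charDegree η) :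
    Nat.card (PrimeOver p (Subgroup.inclusion hKX) η) = 0 := by
  haveI := Fintype.ofFinite (K.subgroupOf X)
  rw [card_primeOver_subgroupOf K X hKX η]
  have hη' : Cfsg.IsIrrCharacter (K.subgroupOf X) (η ∘ Subgroup.subgroupOfEquivOfLe hKX) :=
    CfsgLib.Char.isIrrCharacter_comp_surjective hη
      (Subgroup.subgroupOfEquivOfLe hKX).toMonoidHom (Subgroup.subgroupOfEquivOfLe hKX).surjective
  haveI : IsEmpty (PrimeOver p (fun m : K.subgroupOf X => (m : X))
      (η ∘ Subgroup.subgroupOfEquivOfLe hKX)) := ⟨fun χ => by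
    obtain ⟨e, he, -⟩ := degree_quot_dvd_index χ.1.2 hη' χ.2.2
    rw [Function.comp_apply, map_one, ← charDegree_cast (CfsgLib.Char.irr_isCharacter hη),
      ← irr_degree_cast, ← Nat.cast_mul, Nat.cast_inj] at he
    exact χ.2.1 (he ▸ hd.mul_left e)⟩
  exact Nat.card_of_isEmpty

/-- The Clifford correspondence on characters of degree prime to `p`. -/
theorem card_primeOver_inertia_top [Fintype G] [Fact p.Prime] (K : Subgroup G) [K.Normal] [Fintype K]
    (T : Subgroup G) [Fintype T] (hKT : K ≤ T) {η : K → ℂ}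
    (hη : Cfsg.IsIrrCharacter K η) (hT : ∀ g, g ∈ T ↔ conjFn g η = η) (hidx : ¬ p ∣ T.index) :
    Nat.card (PrimeOver p (fun k : K => (k : G)) η) =
      Nat.card (PrimeOver p (Subgroup.inclusion hKT) η) := by
  have hdeg : ∀ ψ : Cfsg.IrrCharacter T, Cfsg.IsIrrCharacter G (Cfsg.indFun T (ψ : T → ℂ)) →
      Cfsg.charDegree (Cfsg.indFun T (ψ : T → ℂ)) = T.index * Cfsg.charDegree (ψ : T → ℂ) := by
    intro ψ hi
    have h : ((Cfsg.charDegree (Cfsg.indFun T (ψ : T → ℂ)) : ℕ) : ℂ) =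
        ((T.index * Cfsg.charDegree (ψ : T → ℂ) : ℕ) : ℂ) := by
      rw [Nat.cast_mul, charDegree_cast (CfsgLib.Char.irr_isCharacter hi), irr_degree_cast,
        CfsgLib.Char.indFun_apply_one]
    exact_mod_cast h
  have hF : ∀ ψ : PrimeOver p (Subgroup.inclusion hKT) η,
      ¬ p ∣ Cfsg.charDegree (Cfsg.indFun T (ψ.1 : T → ℂ)) ∧
      Cfsg.classInner (fun k : K => Cfsg.indFun T (ψ.1 : T → ℂ) k) η ≠ 0 := fun ψ => by
    refine ⟨?_, ?_⟩
    · rw [hdeg ψ.1 (indFun_inertia T hKT hη hT ψ.1.2 ψ.2.2).1, (Fact.out : p.Prime).dvd_mul]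
      exact not_or.2 ⟨hidx, ψ.2.1⟩
    · rw [indFun_inertia_restrict T hKT hη hT ψ.1.2 ψ.2.2]
      exact ψ.2.2
  let F : PrimeOver p (Subgroup.inclusion hKT) η → PrimeOver p (fun k : K => (k : G)) η := fun ψ =>
    ⟨⟨Cfsg.indFun T (ψ.1 : T → ℂ), (indFun_inertia T hKT hη hT ψ.1.2 ψ.2.2).1⟩, hF ψ⟩
  refine (Nat.card_congr (Equiv.ofBijective F ⟨fun ψ ψ' h => ?_, fun χ => ?_⟩)).symm
  · refine Subtype.ext (Subtype.ext ((indFun_inertia T hKT hη hT ψ.1.2 ψ.2.2).2 _ ψ'.1.2 ψ'.2.2 ?_))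
    have e : Cfsg.indFun T (ψ.1 : T → ℂ) = Cfsg.indFun T (ψ'.1 : T → ℂ) :=
      congrArg (fun x : PrimeOver p (fun k : K => (k : G)) η =>
        ((x.1 : Cfsg.IrrCharacter G) : G → ℂ)) h
    rw [← e, CfsgLib.Char.irr_classInner_self (indFun_inertia T hKT hη hT ψ.1.2 ψ.2.2).1]
    exact one_ne_zero
  · obtain ⟨ψ, hψ, he, hm⟩ := exists_indFun_inertia T hKT hη hT χ.1.2 χ.2.2
    refine ⟨⟨⟨ψ, hψ⟩, ?_, ?_⟩, Subtype.ext (Subtype.ext he)⟩
    · intro hd
      refine χ.2.1 ?_
      rw [show (χ.1 : G → ℂ) = Cfsg.indFun T ψ from he.symm,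
        hdeg ⟨ψ, hψ⟩ (he ▸ χ.1.2)]
      exact hd.mul_left _
    · show Cfsg.classInner (fun n : K => ψ ⟨(n : G), hKT n.2⟩) η ≠ 0
      rw [hm]
      exact χ.2.2

/-- The Clifford correspondence on characters of degree prime to `p`, inside a subgroup. -/
theorem card_primeOver_inertia [Fact p.Prime] (K T X : Subgroup G) [K.Normal] [Fintype K]
    [Fintype T] [Fintype X] (hKT : K ≤ T) (hTX : T ≤ X) {η : K → ℂ}
    (hη : Cfsg.IsIrrCharacter K η) (hT : ∀ x ∈ X, x ∈ T ↔ InvBy K x η)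
    (hidx : ¬ p ∣ T.relIndex X) :
    Nat.card (PrimeOver p (Subgroup.inclusion (hKT.trans hTX)) η) =
      Nat.card (PrimeOver p (Subgroup.inclusion hKT) η) := by
  haveI := Fintype.ofFinite (K.subgroupOf X)
  haveI := Fintype.ofFinite (T.subgroupOf X)
  rw [card_primeOver_subgroupOf K X (hKT.trans hTX) η,
    card_primeOver_inertia_top (K.subgroupOf X) (T.subgroupOf X) (fun m hm => hKT hm)
      (show Cfsg.IsIrrCharacter (K.subgroupOf X)
        (η ∘ Subgroup.subgroupOfEquivOfLe (hKT.trans hTX)) from CfsgLib.Char.isIrrCharacter_comp_surjective hη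
        (Subgroup.subgroupOfEquivOfLe (hKT.trans hTX)).toMonoidHom
        (Subgroup.subgroupOfEquivOfLe (hKT.trans hTX)).surjective)
      (fun x => by
        rw [Subgroup.mem_subgroupOf, hT x x.2]
        exact (conjFn_eq_iff (hKT.trans hTX) x η).symm) hidx]
  exact card_primeOver_congr p (Subgroup.subgroupOfEquivOfLe (hKT.trans hTX))
    (Subgroup.subgroupOfEquivOfLe hTX) (fun _ => Subtype.ext rfl) (fun _ => rfl)

/-- The parameters of the fibres over `K` for `λ`: invariant under `S`, degree prime to `p`,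
over `λ`. -/
abbrev fibreBase (p : ℕ) (S K : Subgroup G) (Z : Subgroup G) (lam : Z → ℂ) :
    Set (Cfsg.IrrCharacter K) :=
  {μ | (∀ s ∈ S, InvBy K s (μ : K → ℂ)) ∧ ¬ p ∣ Cfsg.charDegree (μ : K → ℂ) ∧
    ∀ (z : Z) (k : K), (k : G) = z → (μ : K → ℂ) k = (μ : K → ℂ) 1 * lam z}

open scoped Classical in
/-- Characters of degree prime to `p` over a central `λ`, fibred over a normal subgroup. -/
theorem card_primeOver_fibre [Fact p.Prime] (S : Sylow p G) (K X Z : Subgroup G) [K.Normal]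
    [Fintype K] [Fintype X] [Fintype Z]
    (hKX : K ≤ X) (hNX : Subgroup.normalizer ((S : Subgroup G) : Set G) ≤ X)
    (hZc : ∀ z ∈ Z, ∀ g, z * g = g * z) (hZK : Z ≤ K) (hZX : Z ≤ X) {lam : Z → ℂ}
    (hlam : Cfsg.IsIrrCharacter Z lam) [Fintype (fibreBase p (S : Subgroup G) K Z lam)] :
    Nat.card (Subgroup.normalizer ((S : Subgroup G) : Set G)) *
        Nat.card (PrimeOver p (Subgroup.inclusion hZX) lam) =
      ∑ μ : fibreBase p (S : Subgroup G) K Z lam,
        Nat.card (PrimeOver p (Subgroup.inclusion hKX) (μ.1 : K → ℂ)) *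
          Nat.card {r : Subgroup.normalizer ((S : Subgroup G) : Set G) //
            InvBy K (r : G) (μ.1 : K → ℂ)} := by
  set N := Subgroup.normalizer ((S : Subgroup G) : Set G) with hN
  have hSX : (S : Subgroup G) ≤ X := Subgroup.le_normalizer.trans hNX
  haveI := Fintype.ofFinite (K.subgroupOf X)
  let e : K.subgroupOf X ≃* K := Subgroup.subgroupOfEquivOfLe hKX
  let up : Cfsg.IrrCharacter K → Cfsg.IrrCharacter (K.subgroupOf X) := fun μ =>
    ⟨(μ : K → ℂ) ∘ e,
      CfsgLib.Char.isIrrCharacter_comp_surjective μ.2 e.toMonoidHom e.surjective⟩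
  have hupinj : Function.Injective up := fun a b h => Subtype.ext (funext fun x => by
    obtain ⟨y, rfl⟩ := e.surjective x
    exact congr_fun (congrArg Subtype.val h) y)
  have hupsurj : ∀ η : Cfsg.IrrCharacter (K.subgroupOf X), ∃ μ, up μ = η := fun η =>
    ⟨⟨(η : K.subgroupOf X → ℂ) ∘ e.symm,
      CfsgLib.Char.isIrrCharacter_comp_surjective η.2 e.symm.toMonoidHom e.symm.surjective⟩,
      Subtype.ext (funext fun m => congrArg (η : K.subgroupOf X → ℂ) (e.symm_apply_apply m))⟩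
  have hin : ∀ (χ : X → ℂ) (μ : Cfsg.IrrCharacter K),
      Cfsg.classInner (fun m : K.subgroupOf X => χ m) (up μ : K.subgroupOf X → ℂ) =
        mult hKX χ (μ : K → ℂ) := fun χ μ => by
    rw [mult_def, ← OverTheta.classInner_comp_surjective e.toMonoidHom e.surjective
      (χ ∘ Subgroup.inclusion hKX) (μ : K → ℂ)]
    rfl
  have hover : ∀ χ : Cfsg.IrrCharacter X,
      Cfsg.classInner ((χ : X → ℂ) ∘ Subgroup.inclusion hZX) lam ≠ 0 ↔
        ∀ z : Z, (χ : X → ℂ) (Subgroup.inclusion hZX z) = (χ : X → ℂ) 1 * lam z :=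
    fun χ => over_central_iff (Subgroup.inclusion hZX) (Subgroup.inclusion_injective _)
      (fun z b => Subtype.ext (hZc z z.2 b)) hlam χ
  have hcen : ∀ (χ : Cfsg.IrrCharacter X) (μ : Cfsg.IrrCharacter K),
      mult hKX (χ : X → ℂ) (μ : K → ℂ) ≠ 0 → ∀ (z : Z) (k : K), (k : G) = z →
        (χ : X → ℂ) (Subgroup.inclusion hZX z) * (μ : K → ℂ) 1 = (χ : X → ℂ) 1 * (μ : K → ℂ) k := by
    intro χ μ h z k hk
    rw [← central_ratio hKX χ.2 μ.2 h (c := k) (fun g => by rw [hk]; exact hZc z z.2 g)]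
    exact congrArg (fun x => (χ : X → ℂ) x * (μ : K → ℂ) 1) (Subtype.ext hk.symm)
  let 𝒜 : Set (Cfsg.IrrCharacter X) := {χ | ¬ p ∣ Cfsg.charDegree (χ : X → ℂ) ∧
    Cfsg.classInner ((χ : X → ℂ) ∘ Subgroup.inclusion hZX) lam ≠ 0}
  let Ω : Set (Cfsg.IrrCharacter (K.subgroupOf X)) := up '' fibreBase p (S : Subgroup G) K Z lam
  haveI : Fintype Ω := Fintype.ofFinite _
  let R := N.subgroupOf X
  have hSinert : ∀ μ ∈ fibreBase p (S : Subgroup G) K Z lam,
      (S : Subgroup G).subgroupOf X ≤ inertia (up μ : K.subgroupOf X → ℂ) := by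
    intro μ hμ x hx
    rw [mem_inertia_iff_conjFn]
    exact (conjFn_eq_iff hKX x _).2 (hμ.1 x hx)
  have hstab : ∀ μ ∈ Ω, ∀ r ∈ R, ∀ μ' : Cfsg.IrrCharacter (K.subgroupOf X),
      (μ' : K.subgroupOf X → ℂ) = conjFn r (μ : K.subgroupOf X → ℂ) → μ' ∈ Ω := by
    rintro _ ⟨μ, hμ, rfl⟩ r hr η hη
    obtain ⟨μ', rfl⟩ := hupsurj η
    have hval : ∀ k k' : K, (k' : G) = r * (k : G) * (r : G)⁻¹ → (μ' : K → ℂ) k = (μ : K → ℂ) k' := by
      intro k k' hk
      obtain ⟨m, rfl⟩ := e.surjective k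
      rw [show (μ' : K → ℂ) (e m) = _ from congr_fun hη m]
      exact congrArg (μ : K → ℂ) (Subtype.ext hk.symm)
    have h1 : (μ' : K → ℂ) 1 = (μ : K → ℂ) 1 := hval 1 1 (by simp)
    refine ⟨μ', ⟨fun s hs k k' hk => ?_, ?_, fun z k hk => ?_⟩, rfl⟩
    · have hc : ∀ k : K, (r : G) * k * (r : G)⁻¹ ∈ K := fun k =>
        (inferInstance : K.Normal).conj_mem _ k.2 _
      rw [hval k ⟨_, hc k⟩ rfl, hval k' ⟨_, hc k'⟩ rfl]
      exact hμ.1 _ ((Subgroup.mem_normalizer_iff.1 hr s).1 hs) _ _ (by simp [hk]; group)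
    · rw [Cfsg.charDegree, h1]; exact hμ.2.1
    · rw [h1, hval k k (by rw [hk, ← hZc z z.2, mul_inv_cancel_right])]
      exact hμ.2.2 z k hk
  have hex : ∀ χ ∈ 𝒜, ∃ μ ∈ Ω,
      Cfsg.classInner (fun m : K.subgroupOf X => (χ : X → ℂ) m)
        (μ : K.subgroupOf X → ℂ) ≠ 0 := by
    rintro χ ⟨hd, hl⟩
    obtain ⟨θ, hθ, hne⟩ := exists_irr_constituent_restrict (N := K.subgroupOf X) χ.2
    have hdvd := CfsgLib.Clifford.Degrees.index_inertia_mul_dvd (K.subgroupOf X) hθ χ.2 hne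
    have hidx : ¬ p ∣ (inertia θ).index := fun h =>
      hd (h.trans (Dvd.intro _ rfl) |>.trans hdvd)
    have hθd : ¬ p ∣ Cfsg.charDegree θ := fun h => hd ((h.mul_left _).trans hdvd)
    obtain ⟨x, -, hx⟩ := exists_conj_mem (S.subtype hSX) (T := inertia θ) (X := ⊤) le_top le_top
      (by rwa [Subgroup.relIndex_top_right])
    let η : Cfsg.IrrCharacter (K.subgroupOf X) := ⟨_, isIrrCharacter_conjFn hθ x⟩
    obtain ⟨μ, hμ⟩ := hupsurj η
    have hμ' : (up μ : K.subgroupOf X → ℂ) = conjFn x θ := congrArg Subtype.val hμ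
    have hnemu : Cfsg.classInner (fun m : K.subgroupOf X => (χ : X → ℂ) m)
        (up μ : K.subgroupOf X → ℂ) ≠ 0 := by
      let c : K.subgroupOf X ≃* K.subgroupOf X :=
        { toFun := conjN x
          invFun := conjN x⁻¹
          left_inv := fun n => by rw [← conjN_mul, inv_mul_cancel, conjN_one]
          right_inv := fun n => by rw [← conjN_mul, mul_inv_cancel, conjN_one]
          map_mul' := fun a b => Subtype.ext (by simp [mul_assoc]) }
      rw [hμ', show (fun k : K.subgroupOf X => (χ : X → ℂ) k) =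
        conjFn x (fun k : K.subgroupOf X => (χ : X → ℂ) k) from
        (isCharacter_restrict_conj (CfsgLib.Char.irr_isClassFunction χ.2) x).symm]
      have := OverTheta.classInner_comp_surjective c.toMonoidHom c.surjective
        (fun k : K.subgroupOf X => (χ : X → ℂ) k) θ
      exact fun h => hne (this.symm.trans h)
    have hμd : Cfsg.charDegree (μ : K → ℂ) = Cfsg.charDegree θ := by
      have h := congr_fun hμ' 1
      simp only [Function.comp_apply, conjFn_apply, up, map_one] at h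
      rw [Cfsg.charDegree, Cfsg.charDegree, h]
      congr 3
      exact Subtype.ext (by simp)
    refine ⟨up μ, ⟨μ, ⟨fun s hs => ?_, by rwa [hμd], fun z k hk => ?_⟩, rfl⟩, hnemu⟩
    · rw [← conjFn_eq_iff hKX ⟨s, hSX hs⟩]
      show conjFn _ (up μ : K.subgroupOf X → ℂ) = (up μ : K.subgroupOf X → ℂ)
      rw [hμ', conjFn_conjFn]
      have h := mem_inertia_iff_conjFn.1 (hx ⟨s, hSX hs⟩ hs)
      calc conjFn (x * ⟨s, hSX hs⟩) θ
          = conjFn x (conjFn (x * ⟨s, hSX hs⟩ * x⁻¹) θ) := by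
            rw [conjFn_conjFn, inv_mul_cancel_right]
        _ = conjFn x θ := by rw [h]
    · refine mul_left_cancel₀ (CfsgLib.Char.irr_apply_one_ne_zero χ.2) ?_
      rw [hin] at hnemu
      rw [← hcen χ μ hnemu z k hk, (hover χ).1 hl z]
      ring
  have horb : ∀ χ ∈ 𝒜, ∀ μ ∈ Ω, ∀ μ' ∈ Ω,
      Cfsg.classInner (fun m : K.subgroupOf X => (χ : X → ℂ) m) (μ : K.subgroupOf X → ℂ) ≠ 0 →
      Cfsg.classInner (fun m : K.subgroupOf X => (χ : X → ℂ) m) (μ' : K.subgroupOf X → ℂ) ≠ 0 →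
      ∃ r ∈ R, conjFn r (μ : K.subgroupOf X → ℂ) = (μ' : K.subgroupOf X → ℂ) := by
    rintro χ - _ ⟨μ, hμ, rfl⟩ _ ⟨μ', hμ', rfl⟩ h h'
    obtain ⟨g, hg⟩ := exists_conj_of_constituents χ.2 (up μ).2 (up μ').2 h h'
    obtain ⟨t, ht, htg⟩ := exists_mul_mem_normalizer (S.subtype hSX) (hSinert μ hμ) (g := g)
      (fun s hs => by
        rw [mem_inertia_iff_conjFn]
        have h1 := mem_inertia_iff_conjFn.1 (hSinert μ' hμ' hs)
        rw [← hg, conjFn_conjFn] at h1
        calc conjFn (g * s * g⁻¹) (up μ : K.subgroupOf X → ℂ)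
            = conjFn g⁻¹ (conjFn (g * s) (up μ : K.subgroupOf X → ℂ)) :=
              (conjFn_conjFn _ _ _).symm
          _ = (up μ : K.subgroupOf X → ℂ) := by
            rw [h1, conjFn_conjFn, mul_inv_cancel, conjFn_one])
    refine ⟨t * g, ?_, ?_⟩
    · show ((t * g : X) : G) ∈ N
      refine Subgroup.mem_normalizer_fintype fun y hy => ?_
      exact (Subgroup.mem_normalizer_iff.1 htg ⟨y, hSX hy⟩).1 hy
    · rw [← hg, ← conjFn_conjFn, mem_inertia_iff_conjFn.1 ht]
  have key := fibre_count (K.subgroupOf X) R 𝒜 Ω hstab hex horb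
  rw [Nat.card_congr (Subgroup.subgroupOfEquivOfLe hNX).toEquiv] at key
  refine key.trans ?_
  refine (Fintype.sum_equiv (Equiv.Set.image up _ hupinj) _ _ fun μ => ?_).symm
  have hRe : Nat.card {r : N // InvBy K (r : G) (μ.1 : K → ℂ)} =
      Nat.card {r : R // conjFn (r : X) (up μ.1 : K.subgroupOf X → ℂ) =
        (up μ.1 : K.subgroupOf X → ℂ)} :=
    Nat.card_congr (Equiv.subtypeEquiv (Subgroup.subgroupOfEquivOfLe hNX).symm.toEquiv
      fun r => (conjFn_eq_iff hKX (((Subgroup.subgroupOfEquivOfLe hNX).symm r : R) : X) (μ.1 : K → ℂ)).symm)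
  rw [hRe, card_primeOver_subgroupOf K X hKX]
  refine congrArg (· * _) (Nat.card_congr
    { toFun := fun χ => ⟨⟨χ.1, χ.2.1, (hover χ.1).2 fun z => ?_⟩, χ.2.2⟩
      invFun := fun χ => ⟨χ.1.1, χ.1.2.1, χ.2⟩
      left_inv := fun _ => rfl
      right_inv := fun _ => rfl })
  have hne := χ.2.2
  change Cfsg.classInner (fun m : K.subgroupOf X => (χ.1 : X → ℂ) m)
    (up μ.1 : K.subgroupOf X → ℂ) ≠ 0 at hne
  rw [hin] at hne
  have h1 := hcen χ.1 μ.1 hne z ⟨(z : G), hZK z.2⟩ rfl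
  rw [μ.2.2.2 z ⟨(z : G), hZK z.2⟩ rfl] at h1
  refine mul_right_cancel₀ (CfsgLib.Char.irr_apply_one_ne_zero μ.1.2) ?_
  rw [h1]
  ring

end Clifford

end CfsgLib.BlockB.McKay
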