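import Cfsg.Agent.Lib.BlockB.FongSwanBasic
import Cfsg.Agent.Lib.BlockB.PrimeFibre
import Cfsg.Agent.Lib.BlockB.RelGlauberman
import Cfsg.Agent.Lib.BlockB.HeisenbergPsi
import Cfsg.Agent.Lib.Clifford.Cover
import Cfsg.Agent.Lib.BlockB.RelMcKayTools

/-!
The cover step for Fong–Swan families.
-/

set_option autoImplicit false
set_option linter.unusedSectionVars false
set_option linter.style.haveILetI false

namespace CfsgLib.BlockB.FongSwan

open CfsgLib.Clifford Module

universe u

variable {G : Type u} [Group G]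

/-- An invariant irreducible character extends in a central cover whose kernel has exponent dividing
the square of the order of the subgroup. -/
theorem exists_bounded_cover [Finite G] (N : Subgroup G) [N.Normal] {θ : N → ℂ}
    (hθ : Cfsg.IsIrrCharacter N θ) (hinv : ∀ g : G, conjFn g θ = θ) :
    ∃ (E : Type u) (_ : Group E) (_ : Fintype E) (π : E →* G) (emb : N →* E) (σ : E → ℂ),
      Function.Surjective π ∧ (∀ k, π k = 1 → k ∈ Subgroup.center E) ∧ emb.range.Normal ∧
      (∀ m, π (emb m) = m) ∧ Cfsg.IsCharacter E σ ∧ (∀ m, σ (emb m) = θ m) ∧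
      (∀ k, π k = 1 → ∃ s : ℂ, ∀ x, σ (x * k) = s * σ x) ∧
      ∀ k, π k = 1 → k ^ (Nat.card N * Nat.card N) = 1 := by
  classical
  obtain ⟨n, ρ, hρ, rfl⟩ := hθ
  have hsurj := proj_surjective ρ fun g m => congr_fun (hinv g) m
  have := Char.nontrivial_of_isIrreducible ρ
  have hn : 0 < n := by
    have := finrank_pos (R := ℂ) (M := Fin n → ℂ)
    rwa [finrank_fin_fun] at this
  let D : intertwiners ρ →* ℂˣ := (powMonoidHom (Nat.card N)).comp
    ((Units.map LinearMap.det).comp (opUnits ρ))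
  let E := D.ker
  let π : E →* G := (proj ρ).comp E.subtype
  have hπ : Function.Surjective π := by
    intro g
    obtain ⟨e, rfl⟩ := hsurj g
    obtain ⟨z, hz⟩ := IsAlgClosed.exists_pow_nat_eq
      ((((Units.map LinearMap.det (opUnits ρ e))⁻¹ : ℂˣ)) : ℂ) hn
    have hz0 : z ≠ 0 := fun h => Units.ne_zero _ (by rw [← hz, h, zero_pow hn.ne'])
    have hs : Units.map LinearMap.det (scalarUnits (V := Fin n → ℂ) (Units.mk0 z hz0)) =
        (Units.map LinearMap.det (opUnits ρ e))⁻¹ := Units.ext (by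
      simp [Algebra.algebraMap_eq_smul_one, Module.End.one_eq_id, ← hz])
    refine ⟨⟨scalarEmb ρ (Units.mk0 z hz0) * e, ?_⟩, by simp [π]⟩
    simp only [E, D, MonoidHom.mem_ker, MonoidHom.comp_apply, map_mul, opUnits_scalarEmb, hs,
      ← mul_pow, powMonoidHom_apply]
    rw [inv_mul_cancel, one_pow]
  let emb : N →* E := (normalEmb ρ).codRestrict E fun m => by
    simp only [E, D, MonoidHom.mem_ker, MonoidHom.comp_apply, opUnits_normalEmb, powMonoidHom_apply,
      ← map_pow, pow_card_eq_one', map_one]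
  have hKscal : ∀ k : E, π k = 1 → ∃ z : ℂˣ, (k : intertwiners ρ) = scalarEmb ρ z :=
    fun k hk => (proj_eq_one_iff ρ _).mp hk
  choose zof hzof using hKscal
  let K : Subgroup E := π.ker
  have hKfin : Finite K := by
    have hne : NeZero (n * Nat.card N) := ⟨mul_ne_zero hn.ne' Nat.card_pos.ne'⟩
    refine Finite.of_injective (fun k : K =>
      (⟨zof k.1 k.2, ?_⟩ : rootsOfUnity (n * Nat.card N) ℂ)) fun a b h => ?_
    · rw [mem_rootsOfUnity]
      have h1 : D (k.1 : intertwiners ρ) = 1 := k.1.2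
      simp only [D, hzof k.1 k.2, MonoidHom.comp_apply, opUnits_scalarEmb, powMonoidHom_apply] at h1
      rw [pow_mul, ← h1]
      congr 1
      exact Units.ext (by simp [Algebra.algebraMap_eq_smul_one, Module.End.one_eq_id])
    · refine Subtype.ext (Subtype.ext ?_)
      rw [hzof a.1 a.2, hzof b.1 b.2]
      exact congr_arg (scalarEmb ρ) (congr_arg Subtype.val h)
  have hfin : Finite E := by
    have : Finite (E ⧸ K) := Finite.of_injective _ (QuotientGroup.kerLift_injective π)
    exact Finite.of_equiv _ (Subgroup.groupEquivQuotientProdSubgroup (s := K)).symm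
  let σ : Representation ℂ E (Fin n → ℂ) :=
    (Units.coeHom _).comp ((opUnits ρ).comp E.subtype)
  refine ⟨E, inferInstance, Fintype.ofFinite E, π, emb, σ.character, hπ, fun k hk => ?_, ⟨?_⟩,
    fun m => rfl, Char.isCharacter_of_rep σ, fun m => rfl, fun k hk => ⟨(zof k hk : ℂ), fun x => ?_⟩, fun k hk => ?_⟩
  · refine Subgroup.mem_center_iff.mpr fun x => Subtype.ext ?_
    rw [Subgroup.coe_mul, Subgroup.coe_mul, hzof k hk]
    exact (scalarEmb_comm ρ _ _).symm
  · rintro _ ⟨m, rfl⟩ e
    exact ⟨conjN (proj ρ e) m, Subtype.ext (conj_normalEmb ρ e m).symm⟩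
  · have hk' : σ k = (zof k hk : ℂ) • (1 : Module.End ℂ (Fin n → ℂ)) := by
      change ((opUnits ρ (k : intertwiners ρ) : (Module.End ℂ (Fin n → ℂ))ˣ) :
        Module.End ℂ (Fin n → ℂ)) = _
      rw [hzof k hk, opUnits_scalarEmb, coe_scalarUnits, Algebra.algebraMap_eq_smul_one]
    rw [Representation.character, Representation.character, map_mul, hk', mul_smul_comm,
      mul_one, map_smul, smul_eq_mul]
  · obtain ⟨a, ha⟩ := Char.degree_dvd_card ρ
    rw [finrank_fin_fun] at ha
    have hz : (zof k hk) ^ (n * Nat.card N) = 1 := by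
      have h1 : D (k : intertwiners ρ) = 1 := k.2
      simp only [D, hzof k hk, MonoidHom.comp_apply, opUnits_scalarEmb, powMonoidHom_apply] at h1
      rw [pow_mul, ← h1]
      congr 1
      exact Units.ext (by simp [Algebra.algebraMap_eq_smul_one, Module.End.one_eq_id])
    refine Subtype.ext ?_
    rw [Subgroup.coe_pow, hzof k hk, ← map_pow,
      show Nat.card N * Nat.card N = n * Nat.card N * a by
        conv_lhs => arg 1; rw [ha]
        ring,
      pow_mul, hz, one_pow, map_one, Subgroup.coe_one]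


open scoped Classical in
/-- The family over an invariant character, from a family in the quotient of a central cover. -/
theorem fsOn_cover {G : Type u} [Group G] [Fintype G] {p : ℕ} [Fact p.Prime]
    (hs : Cfsg.IsPSolvable p G) (K : Subgroup G) [K.Normal] [Fintype K] (hK : ¬ p ∣ Nat.card K)
    {θ : K → ℂ} (hθ : Cfsg.IsIrrCharacter K θ) (hinv : ∀ g : G, conjFn g θ = θ)
    {H : Subgroup G} (hH : Coprime.IsPCompl p H) (hKH : K ≤ H)
    (IH : ∀ (Q : Type u) [Group Q] [Fintype Q], Cfsg.IsPSolvable p Q → ∀ Z : Subgroup Q,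
      (∀ z ∈ Z, ∀ w, z * w = w * z) → ¬ p ∣ Nat.card Z → Z.index ≤ K.index →
      ∀ H' : Subgroup Q, Coprime.IsPCompl p H' →
        FSOn (fun _ : Cfsg.IrrCharacter Q => True) H') :
    FSOn (fun χ : Cfsg.IrrCharacter G => Lies (fun k : K => (k : G)) θ (χ : G → ℂ)) H := by
  obtain ⟨E, instE, finE, π, emb, σ, hπ, hker, hRn, hemb, hσ, hres, hscal, hexp⟩ :=
    exists_bounded_cover K hθ hinv
  haveI := hRn
  have hp := (Fact.out : p.Prime)
  let q : E →* E ⧸ emb.range := QuotientGroup.mk' emb.range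
  have hq : Function.Surjective q := QuotientGroup.mk'_surjective _
  have hkerq : q.ker = emb.range := QuotientGroup.ker_mk' _
  haveI := Fintype.ofFinite (E ⧸ emb.range)
  -- the kernel has order prime to `p`
  have hkp : ¬ p ∣ Nat.card π.ker := by
    intro hd
    obtain ⟨k, hk⟩ := exists_prime_orderOf_dvd_card' p hd
    have hk' : (k : E) ^ (Nat.card K * Nat.card K) = 1 := hexp k (MonoidHom.mem_ker.1 k.2)
    have := orderOf_dvd_of_pow_eq_one hk'
    rw [Subgroup.orderOf_coe, hk] at this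
    exact hK (or_self_iff.1 (hp.dvd_mul.1 this))
  let Z : Subgroup (E ⧸ emb.range) := π.ker.map q
  haveI := Fintype.ofFinite Z
  haveI : Z.Normal := (inferInstance : π.ker.Normal).map q hq
  have hZc : ∀ z ∈ Z, ∀ w : E ⧸ emb.range, z * w = w * z := by
    rintro _ ⟨k, hk, rfl⟩ w
    obtain ⟨x, rfl⟩ := hq w
    rw [← map_mul, ← map_mul, Subgroup.mem_center_iff.1 (hker k hk) x]
  have hemb1 : ∀ k : E, π k = 1 → q k = 1 → k = 1 := by
    intro k hk hqk
    obtain ⟨l, rfl⟩ := (hkerq.le (MonoidHom.mem_ker.2 hqk) : k ∈ emb.range)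
    rw [hemb] at hk
    rw [show l = 1 from Subtype.ext hk, map_one]
  have hinj : Function.Injective emb := fun a b h => Subtype.ext (by rw [← hemb, h, hemb])
  haveI := Fintype.ofFinite emb.range
  let e : K ≃* emb.range := MonoidHom.ofInjective hinj
  have hresirr : Cfsg.IsIrrCharacter emb.range (fun n : emb.range => σ n) := by
    rw [show (fun n : emb.range => σ n) = θ ∘ e.symm from funext fun n => by
      obtain ⟨l, rfl⟩ := e.surjective n
      rw [Function.comp_apply, e.symm_apply_apply]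
      exact hres l]
    exact CfsgLib.Char.isIrrCharacter_comp_surjective hθ e.symm.toMonoidHom e.symm.surjective
  have hin : ∀ f : G → ℂ, Cfsg.classInner (fun n : emb.range => f (π n)) (fun n : emb.range => σ n) =
      Cfsg.classInner (fun k : K => f k) θ := fun f => by
    rw [← OverTheta.classInner_comp_surjective e.toMonoidHom e.surjective]
    exact congrArg₂ Cfsg.classInner (funext fun l => congrArg f (hemb l)) (funext hres)
  -- the scalars
  have hσ1 : σ 1 = θ 1 := by rw [← hres 1, map_one]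
  have hσ1ne : σ 1 ≠ 0 := hσ1 ▸ CfsgLib.Char.irr_apply_one_ne_zero hθ
  choose sc hsc using hscal
  have hscval : ∀ k hk, σ k = sc k hk * σ 1 := fun k hk => by
    have := hsc k hk 1
    rwa [one_mul] at this
  have hscne : ∀ k hk, sc k hk ≠ 0 := fun k hk h0 => hσ1ne (by
    have := hsc k hk k⁻¹
    rwa [inv_mul_cancel, h0, zero_mul] at this)
  choose kz hkz' hqkz using fun z : Z => z.2
  have hkz : ∀ z, π (kz z) = 1 := fun z => MonoidHom.mem_ker.1 (hkz' z)
  have hkzu : ∀ (k : E) (z : Z), π k = 1 → q k = z → kz z = k := fun k z hk hqk => by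
    refine inv_mul_eq_one.1 (hemb1 _ ?_ ?_)
    · rw [map_mul, map_inv, hkz z, hk, inv_one, one_mul]
    · rw [map_mul, map_inv, hqkz, hqk, inv_mul_cancel]
  let lamHom : Z →* ℂˣ :=
    { toFun := fun z => (Units.mk0 (sc (kz z) (hkz z)) (hscne _ _))⁻¹
      map_one' := by
        rw [inv_eq_one]
        refine Units.ext ?_
        show sc (kz 1) _ = 1
        refine mul_right_cancel₀ hσ1ne ?_
        rw [← hscval, hkzu 1 1 (map_one π) (map_one q), one_mul]
      map_mul' := fun a b => by
        rw [← mul_inv]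
        refine congrArg Inv.inv (Units.ext ?_)
        show sc (kz (a * b)) _ = sc (kz a) _ * sc (kz b) _
        refine mul_right_cancel₀ hσ1ne ?_
        rw [← hscval, hkzu (kz a * kz b) (a * b)
          (by rw [map_mul, hkz a, hkz b, one_mul])
          (by rw [map_mul, hqkz, hqkz]; rfl), hsc (kz b) (hkz b), hscval (kz a) (hkz a)]
        ring }
  let lam : Z → ℂ := fun z => (lamHom z : ℂ)
  have hlam : Cfsg.IsIrrCharacter Z lam := CfsgLib.Char.isIrrCharacter_linear lamHom
  have hlam0 : ∀ (k : E) (hk : π k = 1), sc k hk * lam ⟨q k, k, hk, rfl⟩ = 1 := by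
    intro k hk
    have e := hkzu k ⟨q k, k, hk, rfl⟩ hk rfl
    show sc k hk * ((Units.mk0 (sc (kz _) (hkz _)) (hscne _ _))⁻¹ : ℂˣ) = 1
    rw [Units.val_inv_eq_inv_val, Units.val_mk0]
    refine mul_right_cancel₀ hσ1ne ?_
    rw [mul_right_comm, ← hscval k hk, one_mul]
    refine mul_right_cancel₀ (hscne _ (hkz ⟨q k, k, hk, rfl⟩)) ?_
    rw [mul_assoc, inv_mul_cancel₀ (hscne _ _), mul_one, mul_comm, ← hscval, e]
  have hover : ∀ γ : Cfsg.IrrCharacter (E ⧸ emb.range),
      Lies (fun z : Z => (z : E ⧸ emb.range)) lam (γ : E ⧸ emb.range → ℂ) ↔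
        ∀ z : Z, (γ : E ⧸ emb.range → ℂ) z = (γ : E ⧸ emb.range → ℂ) 1 * lam z :=
    fun γ => McKay.over_central_iff Z.subtype Z.subtype_injective (fun z w => hZc z z.2 w) hlam γ
  have hqconst : ∀ (f : E ⧸ emb.range → ℂ) (n : emb.range) (x : E),
      f (q ((n : E) * x)) = f (q x) := fun f n x => by
    rw [map_mul, MonoidHom.mem_ker.1 (hkerq.ge n.2 : (n : E) ∈ q.ker), one_mul]
  -- from the group to the quotient of the cover
  have hfwd : ∀ χ : Cfsg.IrrCharacter G, Lies (fun k : K => (k : G)) θ (χ : G → ℂ) →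
      ∃ γ : Cfsg.IrrCharacter (E ⧸ emb.range),
        Lies (fun z : Z => (z : E ⧸ emb.range)) lam (γ : E ⧸ emb.range → ℂ) ∧
        ∀ x, (χ : G → ℂ) (π x) = σ x * (γ : E ⧸ emb.range → ℂ) (q x) := by
    intro χ hχ
    obtain ⟨hγ, hfac⟩ := gallagher_factor emb.range
      (CfsgLib.Char.isIrrCharacter_comp_surjective χ.2 π hπ) hσ hresirr (by
      show Cfsg.classInner (fun n : emb.range => (χ : G → ℂ) (π n)) _ ≠ 0
      rw [hin]
      exact hχ)
    obtain ⟨γ, hγirr, hγe⟩ := RelGlauberman.exists_factor q hq hγ fun k t hk => by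
      obtain ⟨l, hl⟩ := (hkerq.le (MonoidHom.mem_ker.2 hk) : k ∈ emb.range)
      exact cosetAvg_mul_left emb.range _ ⟨k, l, hl⟩ t
    have hval : ∀ x, (χ : G → ℂ) (π x) = σ x * γ (q x) := fun x => by
      have := congr_fun hfac x
      rw [hγe, Pi.mul_apply] at this
      exact this
    refine ⟨⟨γ, hγirr⟩, (hover _).2 fun z => ?_, hval⟩
    have h1 := hval (kz z)
    have h0 := hval 1
    rw [hkz z] at h1
    rw [map_one, map_one] at h0
    rw [hqkz, h0, hscval (kz z) (hkz z)] at h1
    have hl : sc (kz z) (hkz z) * lam z = 1 := by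
      have := hlam0 (kz z) (hkz z)
      rwa [show (⟨q (kz z), kz z, hkz z, rfl⟩ : Z) = z from Subtype.ext (hqkz z)] at this
    refine mul_left_cancel₀ (mul_ne_zero (hscne _ (hkz z)) hσ1ne) ?_
    show sc (kz z) _ * σ 1 * γ z = sc (kz z) _ * σ 1 * (γ 1 * lam z)
    rw [← h1]
    linear_combination -(σ 1 * γ 1) * hl
  -- and back
  have hbwd : ∀ γ : Cfsg.IrrCharacter (E ⧸ emb.range),
      Lies (fun z : Z => (z : E ⧸ emb.range)) lam (γ : E ⧸ emb.range → ℂ) →
      ∃ χ : Cfsg.IrrCharacter G, Lies (fun k : K => (k : G)) θ (χ : G → ℂ) ∧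
        ∀ x, (χ : G → ℂ) (π x) = σ x * (γ : E ⧸ emb.range → ℂ) (q x) := by
    intro γ hγ
    have hirr : Cfsg.IsIrrCharacter E (σ * ((γ : E ⧸ emb.range → ℂ) ∘ q)) :=
      isIrrCharacter_mul_of_invariant emb.range hσ hresirr
        (CfsgLib.Char.isIrrCharacter_comp_surjective γ.2 q hq) (hqconst _)
    obtain ⟨χ, hχ, hχe⟩ := RelGlauberman.exists_factor π hπ hirr fun k t hk => by
      have hc : σ (k * t) = sc k hk * σ t := by
        rw [← hsc k hk t, CfsgLib.Char.isClassFunction_mul_comm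
          (CfsgLib.Char.isCharacter_isClassFunction hσ)]
      obtain ⟨ω, -, hω⟩ := HeisenbergPsi.central_scalar γ.2 (x := q k)
        (fun g => hZc (q k) ⟨k, hk, rfl⟩ g)
      have h2 := hω 1
      rw [mul_one, (hover γ).1 hγ ⟨q k, k, hk, rfl⟩, mul_comm] at h2
      have h3 := mul_right_cancel₀ (CfsgLib.Char.irr_apply_one_ne_zero γ.2) h2
      simp only [Pi.mul_apply, Function.comp_apply, map_mul, hc, hω, ← h3]
      linear_combination (σ t * (γ : E ⧸ emb.range → ℂ) (q t)) * hlam0 k hk
    refine ⟨⟨χ, hχ⟩, ?_, fun x => (congr_fun hχe x).symm⟩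
    show Cfsg.classInner (fun k : K => χ k) θ ≠ 0
    rw [← hin, show (fun n : emb.range => χ (π n)) =
      (γ : E ⧸ emb.range → ℂ) 1 • (fun n : emb.range => σ n) from funext fun n => by
        rw [← show σ n * (γ : E ⧸ emb.range → ℂ) (q n) = χ (π n) from congr_fun hχe n,
          Pi.smul_apply, smul_eq_mul, mul_comm]
        have := hqconst (γ : E ⧸ emb.range → ℂ) n 1
        rw [mul_one, map_one] at this
        rw [this],
      CfsgLib.Char.classInner_smul_left, CfsgLib.Char.irr_classInner_self hresirr, mul_one]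
    exact CfsgLib.Char.irr_apply_one_ne_zero γ.2
  -- complements
  let HE := H.comap π
  have hkerHE : π.ker ≤ HE := fun k hk => by
    show π k ∈ H
    rw [MonoidHom.mem_ker.1 hk]; exact H.one_mem
  have hRHE : emb.range ≤ HE := by
    rintro _ ⟨l, rfl⟩
    show π (emb l) ∈ H
    rw [hemb]; exact hKH l.2
  let HQ := HE.map q
  obtain ⟨hHc, m, hHi⟩ := hH
  have hHEcard : ¬ p ∣ Nat.card HE := by
    rw [← Subgroup.relIndex_bot_left HE,
      ← Subgroup.relIndex_mul_relIndex ⊥ π.ker HE bot_le hkerHE, Subgroup.relIndex_bot_left,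
      Subgroup.relIndex_ker, hp.dvd_mul]
    exact not_or.2 ⟨hkp, fun hd => hp.coprime_iff_not_dvd.1 hHc.symm
      (hd.trans (Subgroup.card_dvd_of_le (Subgroup.map_comap_le π H)))⟩
  have hHQ : Coprime.IsPCompl p HQ := by
    refine ⟨Nat.coprime_comm.1 (hp.coprime_iff_not_dvd.2 fun hd =>
      hHEcard (hd.trans (Subgroup.card_map_dvd HE q))), m, ?_⟩
    rw [Subgroup.index_map_eq _ hq (hkerq.le.trans hRHE),
      Subgroup.index_comap_of_surjective _ hπ, hHi]
  have hQs : Cfsg.IsPSolvable p (E ⧸ emb.range) := CfsgLib.StructC.isPSolvable_quotient _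
    (McKay.isPSolvable_of_central_ker π hπ (fun k hk => hker k hk) hs)
  have hZidx : Z.index = K.index := by
    rw [Subgroup.index_map, q.range_eq_top_of_surjective hq, Subgroup.index_top, mul_one, hkerq,
      ← Subgroup.index_comap_of_surjective K hπ]
    congr 1
    refine le_antisymm (sup_le (fun k hk => ?_) ?_) fun y hy => ?_
    · show π k ∈ K
      rw [MonoidHom.mem_ker.1 hk]; exact K.one_mem
    · rintro _ ⟨l, rfl⟩
      show π (emb l) ∈ K
      rw [hemb]; exact l.2
    · rw [sup_comm]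
      have h1 : (emb ⟨π y, hy⟩)⁻¹ * y ∈ π.ker := by
        rw [MonoidHom.mem_ker, map_mul, map_inv, hemb, inv_mul_cancel]
      exact mul_inv_cancel_left (emb ⟨π y, hy⟩) y ▸ Subgroup.mul_mem_sup ⟨_, rfl⟩ h1
  obtain ⟨ι, hι, γ, hPγ, hLI, hspan, hpos⟩ := fsOn_over Z (H := HQ) (Subgroup.map_mono hkerHE) hlam
    (fun w => funext fun z => congrArg lam (Subtype.ext (by
      show w * (z : E ⧸ emb.range) * w⁻¹ = z
      rw [← hZc z z.2 w, mul_inv_cancel_right])))
    (IH (E ⧸ emb.range) hQs Z hZc (fun hd => hkp (hd.trans (Subgroup.card_map_dvd _ q))) hZidx.le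
      HQ hHQ)
  choose φ hPφ hφ using fun i => hbwd (γ i) (hPγ i)
  have hcomb : ∀ (c : ι → ℂ) (x : E), comb φ c (π x) = σ x * comb γ c (q x) := by
    intro c x
    show ∑ i, _ = σ x * ∑ i, _
    rw [Finset.mul_sum]
    exact Finset.sum_congr rfl fun i _ => by rw [hφ]; ring
  -- inside the complement of the cover
  haveI := Fintype.ofFinite HE
  haveI := Fintype.ofFinite HQ
  let R := emb.range.subgroupOf HE
  haveI := Fintype.ofFinite R
  let σH : HE → ℂ := fun x => σ x
  have hσH : Cfsg.IsCharacter HE σH := CfsgLib.Char.isCharacter_restrict hσ HE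
  have hresH : Cfsg.IsIrrCharacter R (fun n : R => σH n) :=
    CfsgLib.Char.isIrrCharacter_comp_surjective hresirr
      (Subgroup.subgroupOfEquivOfLe hRHE).toMonoidHom (Subgroup.subgroupOfEquivOfLe hRHE).surjective
  let qH : HE →* HQ := q.subgroupMap HE
  have hqH : Function.Surjective qH := q.subgroupMap_surjective HE
  have hinvH : ∀ (f : HQ → ℂ) (n : R) (x : HE), f (qH ((n : HE) * x)) = f (qH x) := fun f n x =>
    congrArg f (Subtype.ext (by
      show q (((n : HE) : E) * (x : E)) = q x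
      rw [map_mul, MonoidHom.mem_ker.1 (hkerq.ge n.2 : ((n : HE) : E) ∈ q.ker), one_mul]))
  let πH : HE →* H := π.subgroupComap H
  have hmm : ∀ (c : ι → ℂ) (β : HQ → ℂ),
      Cfsg.classInner (fun y : HQ => comb γ c y) β =
        Cfsg.classInner (fun x : HE => comb φ c (π x)) (σH * (β ∘ qH)) := by
    intro c β
    rw [← OverTheta.classInner_comp_surjective qH hqH (fun y : HQ => comb γ c y) β,
      ← classInner_mul_mul R hσH hresH _ _ (fun n x => hinvH (fun y : HQ => comb γ c y) n x)
        (fun n x => hinvH β n x)]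
    exact congrArg (fun F => Cfsg.classInner F (σH * (β ∘ qH))) (funext fun x => (hcomb c x).symm)
  refine ⟨ι, hι, φ, hPφ, fun c hc => hLI c fun y => ?_, fun χ hχ => ?_, fun c hc => hpos c ?_⟩
  · have : (fun y : HQ => comb γ c y) = 0 := by
      refine CfsgLib.Char.classInner_self_eq_zero ?_
      rw [hmm c, show (fun x : HE => comb φ c (π x)) = 0 from funext fun x => hc (πH x),
        CfsgLib.Char.classInner_zero_left]
    exact congr_fun this y
  · obtain ⟨γ', hγ', hval⟩ := hfwd χ hχ
    obtain ⟨c, hc⟩ := hspan γ' hγ'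
    refine ⟨c, fun h => ?_⟩
    obtain ⟨x, hx⟩ := hπ h
    have hxHE : x ∈ HE := by show π x ∈ H; rw [hx]; exact h.2
    rw [← hx, hval, hcomb, hc ⟨q x, x, hxHE, rfl⟩]
  · refine CfsgLib.Char.isCharacter_of_nat (comb_isClassFunction_sub γ c HQ) fun β hβ => ?_
    rw [hmm c]
    exact CfsgLib.Char.classInner_isCharacter_nat (CfsgLib.Char.isCharacter_comp hc πH)
      (CfsgLib.Char.irr_isCharacter (isIrrCharacter_mul_of_invariant R hσH hresH
        (CfsgLib.Char.isIrrCharacter_comp_surjective hβ qH hqH) (hinvH _)))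

end CfsgLib.BlockB.FongSwan
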