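import Cfsg.Agent.Lib.BlockB.FongSwanInduce
import Cfsg.Agent.Lib.BlockB.FongSwanCover
import Cfsg.Agent.Lib.BlockB.PSolvableCentralizer
import Cfsg.Agent.Lib.Block.Linkage

/-!
The Fong–Swan theorem in the language of `p`-complements, and the theorem of Kiyota and Okuyama.
-/

set_option autoImplicit false
set_option linter.unusedSectionVars false
set_option linter.style.haveILetI false

namespace CfsgLib.BlockB.FongSwan

open CfsgLib.Clifford
open scoped ComplexConjugate

universe u

variable {p : ℕ} [Fact p.Prime]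

/-- A normal subgroup of order prime to `p` lies in every `p`-complement. -/
theorem le_of_pCompl {G : Type u} [Group G] [Finite G] {K H : Subgroup G} [K.Normal]
    (hK : ¬ p ∣ Nat.card K) (hH : Coprime.IsPCompl p H) : K ≤ H := by
  obtain ⟨hc, m, hm⟩ := hH
  have hp := (Fact.out : p.Prime)
  have hsup : ¬ p ∣ Nat.card (K ⊔ H : Subgroup G) := McKay.card_sup_not_dvd
    (fun x _ => by rw [K.normalizer_eq_top]; exact Subgroup.mem_top x) hK
    (hp.coprime_iff_not_dvd.1 hc.symm)
  have h1 : Nat.card (K ⊔ H : Subgroup G) ∣ p ^ m * Nat.card H := by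
    rw [← hm, Subgroup.index_mul_card]
    exact Subgroup.card_subgroup_dvd_card _
  have h2 : Nat.card (K ⊔ H : Subgroup G) ∣ Nat.card H :=
    Nat.Coprime.dvd_of_dvd_mul_left
      (Nat.Coprime.pow_right m (hp.coprime_iff_not_dvd.2 hsup).symm) h1
  exact le_sup_left.trans (Subgroup.eq_of_le_of_card_ge le_sup_right
    (Nat.le_of_dvd Nat.card_pos h2)).ge

/-- Fong–Swan families exist, by induction on the index of a central `p'`-subgroup. -/
theorem fsOn_aux : ∀ (n : ℕ) (G : Type u) [Group G] [Fintype G], Cfsg.IsPSolvable p G →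
    ∀ Z : Subgroup G, (∀ z ∈ Z, ∀ g, z * g = g * z) → ¬ p ∣ Nat.card Z → Z.index ≤ n →
    ∀ H : Subgroup G, Coprime.IsPCompl p H →
      FSOn (fun _ : Cfsg.IrrCharacter G => True) H := by
  intro n
  induction n with
  | zero =>
    intro G _ _ _ Z _ _ hn
    exact absurd hn (Nat.pos_of_ne_zero Subgroup.index_ne_zero_of_finite).not_ge
  | succ n ih =>
    intro G _ _ hs Z hZc hZp hn H hH
    classical
    have hp := (Fact.out : p.Prime)
    obtain ⟨hHc, m, hHm⟩ := hH
    have hH : Coprime.IsPCompl p H := ⟨hHc, m, hHm⟩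
    have hreg : ∀ x ∈ H, ¬ p ∣ orderOf x := fun x hx hd =>
      hp.coprime_iff_not_dvd.1 hHc.symm (hd.trans (Subgroup.orderOf_dvd_natCard H hx))
    haveI : Z.Normal := ⟨fun x hx g => by rw [← hZc x hx, mul_inv_cancel_right]; exact hx⟩
    by_cases hN : Cfsg.pCore p G = ⊥
    swap
    · -- pass to the quotient by the `p`-core
      haveI := CfsgLib.Solvable.pCore_normal p G
      set N := Cfsg.pCore p G with hNdef
      have hNp : IsPGroup p N := CfsgLib.Solvable.pCore_isPGroup p
      haveI := Fintype.ofFinite (G ⧸ N)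
      refine fsOn_lift hs N hNp hH (ih (G ⧸ N) (CfsgLib.StructC.isPSolvable_quotient N hs)
        (Z.map (QuotientGroup.mk' N)) ?_ ?_ ?_ _ ?_)
      · rintro _ ⟨z, hz, rfl⟩ w
        obtain ⟨g, rfl⟩ := QuotientGroup.mk'_surjective N w
        rw [← map_mul, ← map_mul, hZc z hz g]
      · exact fun hd => hZp (hd.trans (Subgroup.card_map_dvd _ _))
      · have h1 : (Z.map (QuotientGroup.mk' N)).index = (Z ⊔ N).index := by
          rw [Subgroup.index_map, QuotientGroup.ker_mk',
            (QuotientGroup.mk' N).range_eq_top_of_surjective (QuotientGroup.mk'_surjective N),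
            Subgroup.index_top, mul_one]
        have h2 : Z < Z ⊔ N := by
          refine lt_of_le_of_ne le_sup_left fun e => hN ?_
          obtain ⟨a, ha⟩ := IsPGroup.iff_card.1 hNp
          have h3 : Nat.card N ∣ Nat.card Z := Subgroup.card_dvd_of_le (e ▸ le_sup_right)
          refine Subgroup.eq_bot_of_card_eq N ?_
          rcases Nat.eq_zero_or_pos a with rfl | h0
          · rw [ha, pow_zero]
          · exact absurd ((dvd_pow_self p h0.ne').trans (ha ▸ h3)) hZp
        have := Subgroup.index_strictAnti h2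
        omega
      · refine ⟨Nat.coprime_comm.1 (hp.coprime_iff_not_dvd.2 fun hd =>
          hp.coprime_iff_not_dvd.1 hHc.symm (hd.trans (Subgroup.card_map_dvd H _))), ?_⟩
        have := H.index_map_dvd (QuotientGroup.mk'_surjective N)
        rw [hHm] at this
        obtain ⟨j, -, hj⟩ := (Nat.dvd_prime_pow hp).1 this
        exact ⟨j, hj⟩
    by_cases hG : p ∣ Nat.card G
    swap
    · -- a group of order prime to `p`
      have : H = ⊤ := by
        rw [← Subgroup.index_eq_one, hHm]
        rcases Nat.eq_zero_or_pos m with rfl | h0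
        · exact pow_zero p
        · exact absurd ((dvd_pow_self p h0.ne').trans (hHm ▸ Subgroup.index_dvd_card H)) hG
      subst this
      exact fsOn_top
    haveI := CfsgLib.Solvable.pPrimeCore_normal p G
    set K := Cfsg.pPrimeCore p G with hKdef
    haveI := Fintype.ofFinite K
    have hKp : ¬ p ∣ Nat.card K :=
      hp.coprime_iff_not_dvd.1 (CfsgLib.Solvable.pPrimeCore_coprime (G := G) p).symm
    have hZK : Z < K := by
      refine lt_of_le_of_ne (CfsgLib.Solvable.le_pPrimeCore inferInstance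
        (Nat.coprime_comm.1 (hp.coprime_iff_not_dvd.2 hZp))) fun e => ?_
      have h1 := CfsgLib.BlockB.centralizer_pPrimeCore_le_of_isPSolvable hs hN
      have h2 : K = ⊤ := top_le_iff.1 fun g _ => h1 (Subgroup.mem_centralizer_iff.2 fun k hk =>
        hZc k (e.symm ▸ hk) g)
      exact hKp (by rwa [h2, Subgroup.card_top])
    have hKH : K ≤ H := le_of_pCompl hKp hH
    have hKlt : K.index ≤ n := by
      have := Subgroup.index_strictAnti hZK
      omega
    refine fsOn_glue K hKH fun θ => ?_
    by_cases hinv : ∀ g : G, conjFn g (θ : K → ℂ) = (θ : K → ℂ)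
    · exact fsOn_cover hs K hKp θ.2 hinv hH hKH
        fun Q _ _ hQ Z' hc hd hi => ih Q hQ Z' hc hd (hi.trans hKlt)
    let T := inertia (θ : K → ℂ)
    haveI := Fintype.ofFinite T
    have hKT : K ≤ T := le_inertia (CfsgLib.Char.irr_isClassFunction θ.2)
    haveI := Fintype.ofFinite (K.subgroupOf T)
    have hT : ∀ g, g ∈ T ↔ conjFn g (θ : K → ℂ) = (θ : K → ℂ) := fun g => mem_inertia_iff_conjFn
    have hsT := CfsgLib.PLength.isPSolvable_subgroup hs T
    have hKTcard : Nat.card (K.subgroupOf T) = Nat.card K :=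
      Nat.card_congr (Subgroup.subgroupOfEquivOfLe hKT).toEquiv
    obtain ⟨HT, hHT, hKHT⟩ := Coprime.exists_pCompl_ge hsT (K.subgroupOf T) (by
      rw [hKTcard]
      exact Nat.coprime_comm.1 (hp.coprime_iff_not_dvd.2 hKp))
    obtain ⟨H', hH', hle⟩ := Coprime.exists_pCompl_ge hs (HT.map T.subtype) (by
      rw [Subgroup.card_map_of_injective T.subtype_injective]
      exact hHT.1)
    have hTtop : T ≠ ⊤ := fun e => hinv fun g => (hT g).1 (e ▸ Subgroup.mem_top g)
    have hidx : (Z.subgroupOf T).index ≤ n := by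
      have h1 := Subgroup.relIndex_mul_index (hZK.le.trans hKT)
      have h2 := Subgroup.one_lt_index_of_ne_top hTtop
      have h3 : 0 < Z.relIndex T := Nat.pos_of_ne_zero Subgroup.index_ne_zero_of_finite
      have h4 : Z.relIndex T < Z.relIndex T * T.index := lt_mul_of_one_lt_right h3 h2
      show Z.relIndex T ≤ n
      omega
    have hfs := ih T hsT (Z.subgroupOf T) (fun z hz g => Subtype.ext (hZc z hz g))
      (by rwa [Nat.card_congr (Subgroup.subgroupOfEquivOfLe (hZK.le.trans hKT)).toEquiv]) hidx HT hHT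
    have hover := fsOn_over (K.subgroupOf T) hKHT (θ := (θ : K → ℂ) ∘ Subgroup.subgroupOfEquivOfLe hKT)
      (CfsgLib.Char.isIrrCharacter_comp_surjective θ.2 (Subgroup.subgroupOfEquivOfLe hKT).toMonoidHom
        (Subgroup.subgroupOfEquivOfLe hKT).surjective)
      (fun x => funext fun k => by
        have h2 := congr_fun ((hT (x : G)).1 x.2) (Subgroup.subgroupOfEquivOfLe hKT k)
        rw [conjFn_apply] at h2
        show (θ : K → ℂ) _ = (θ : K → ℂ) _
        rw [← h2]
        exact congrArg (θ : K → ℂ) (Subtype.ext rfl)) hfs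
    refine fsOn_of_conj hs hH' hH (fsOn_induce K θ.2 T hsT hKT hT hHT hKHT hle (fun x hx hd => ?_)
      hover)
    exact hp.coprime_iff_not_dvd.1 hH'.1.symm (hd.trans (Subgroup.orderOf_dvd_natCard H' hx))

/-- **Fong–Swan**, restricted to a `p`-complement. -/
theorem exists_fsOn {G : Type u} [Group G] [Fintype G] (hs : Cfsg.IsPSolvable p G) {H : Subgroup G}
    (hH : Coprime.IsPCompl p H) : FSOn (fun _ : Cfsg.IrrCharacter G => True) H :=
  fsOn_aux _ G hs ⊥ (fun z hz g => by rw [Subgroup.mem_bot.1 hz, one_mul, mul_one])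
    (by rw [Subgroup.card_bot]; exact (Fact.out : p.Prime).not_dvd_one) le_rfl H hH

/-- Decomposition numbers: a family of irreducible characters, independent on `p`-regular
elements, expressing every character there with natural coefficients. -/
theorem exists_decomposition {G : Type u} [Group G] [Fintype G] (hs : Cfsg.IsPSolvable p G) :
    ∃ (ι : Type u) (_ : Fintype ι) (φ : ι → Cfsg.IrrCharacter G) (d : Cfsg.IrrCharacter G → ι → ℕ),
      (∀ c : ι → ℂ, (∀ x : G, ¬ p ∣ orderOf x → comb φ c x = 0) → c = 0) ∧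
      ∀ (χ : Cfsg.IrrCharacter G) (x : G), ¬ p ∣ orderOf x →
        (χ : G → ℂ) x = comb φ (fun i => (d χ i : ℂ)) x := by
  obtain ⟨H, hH, -⟩ := Coprime.exists_pCompl_ge hs (⊥ : Subgroup G) (by simp)
  obtain ⟨ι, hι, φ, -, hLI, hspan, hpos⟩ := exists_fsOn hs hH
  choose c hc using fun χ : Cfsg.IrrCharacter G => hspan χ trivial
  have hnat : ∀ χ i, ∃ k : ℕ, c χ i = (k : ℂ) := fun χ => hpos (c χ) (by
    rw [← funext (hc χ)]
    exact CfsgLib.Char.isCharacter_restrict (CfsgLib.Char.irr_isCharacter χ.2) H)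
  choose d hd using hnat
  refine ⟨ι, hι, φ, d, fun a ha => hLI a fun h => ha h ?_, fun χ x hx => ?_⟩
  · exact fun hd => (Fact.out : p.Prime).coprime_iff_not_dvd.1 hH.1.symm
      (hd.trans (Subgroup.orderOf_dvd_natCard H h.2))
  · rw [← funext (hd χ), ← sub_eq_zero]
    refine eq_zero_of_compl hs hH (f := fun x => (χ : G → ℂ) x - comb φ (c χ) x) (fun a b => ?_)
      (fun h => sub_eq_zero.2 (hc χ h)) hx
    show (χ : G → ℂ) _ - comb φ (c χ) _ = (χ : G → ℂ) a - comb φ (c χ) a
    rw [CfsgLib.Char.irr_isClassFunction χ.2 a b, comb_isClassFunction φ (c χ) a b]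

open scoped Classical in
/-- **Kiyota–Okuyama**: a set of characters whose weighted sum vanishes on `p`-singular elements is
a union of blocks. -/
theorem mem_of_vanishing {G : Type u} [Group G] [Fintype G] (hs : Cfsg.IsPSolvable p G)
    {M : Ideal Cfsg.AlgInt} [M.IsPrime] (hM : Cfsg.IsPModular p M) (U : Set (Cfsg.IrrCharacter G))
    (hU : ∀ x : G, p ∣ orderOf x → ∑ᶠ χ ∈ U, (χ : G → ℂ) 1 * (χ : G → ℂ) x = 0)
    {χ ψ : Cfsg.IrrCharacter G} (hχ : χ ∈ U)
    (hψ : Cfsg.SameBlock M (χ : G → ℂ) (ψ : G → ℂ)) : ψ ∈ U := by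
  obtain ⟨ι, hι, φ, d, hLI, hd⟩ := exists_decomposition hs
  haveI := Fintype.ofFinite (Cfsg.IrrCharacter G)
  -- inner products over the `p`-regular elements
  let S : (G → ℂ) → (G → ℂ) → ℂ := fun a b =>
    ∑ x : G, if p ∣ orderOf x then 0 else a x * conj (b x)
  have hexp : ∀ (a : G → ℂ) (ξ : Cfsg.IrrCharacter G),
      S a (ξ : G → ℂ) = ∑ i, (d ξ i : ℂ) * S a (φ i : G → ℂ) := by
    intro a ξ
    simp only [S, Finset.mul_sum]
    rw [Finset.sum_comm]
    refine Finset.sum_congr rfl fun x _ => ?_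
    split_ifs with hx
    · simp
    · rw [hd ξ x hx, show comb φ (fun i => (d ξ i : ℂ)) x =
        ∑ i, (d ξ i : ℂ) * (φ i : G → ℂ) x from rfl, map_sum, Finset.mul_sum]
      exact Finset.sum_congr rfl fun i _ => by
        rw [map_mul, Complex.conj_natCast]; ring
  -- the degree condition
  set f : G → ℂ := fun x => ∑ ξ : Cfsg.IrrCharacter G, if ξ ∈ U then (ξ : G → ℂ) 1 * (ξ : G → ℂ) x
    else 0 with hf
  have hfsing : ∀ x, p ∣ orderOf x → f x = 0 := fun x hx => by
    rw [← hU x hx, finsum_mem_def, finsum_eq_sum_of_fintype]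
    exact Finset.sum_congr rfl fun ξ _ => by rw [Set.indicator_apply]
  have hSf : ∀ ξ : Cfsg.IrrCharacter G,
      S f (ξ : G → ℂ) = (Nat.card G : ℂ) * if ξ ∈ U then (ξ : G → ℂ) 1 else 0 := by
    intro ξ
    have h1 : S f (ξ : G → ℂ) = (Nat.card G : ℂ) * Cfsg.classInner f (ξ : G → ℂ) := by
      rw [CfsgLib.Char.classInner_def, ← mul_assoc,
        mul_inv_cancel₀ (Nat.cast_ne_zero.2 Nat.card_pos.ne'), one_mul]
      refine Finset.sum_congr rfl fun x _ => ?_
      split_ifs with hx
      · rw [hfsing x hx, zero_mul]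
      · rfl
    rw [h1]
    congr 1
    rw [show f = fun x => ∑ η : Cfsg.IrrCharacter G,
      (if η ∈ U then (η : G → ℂ) 1 else 0) * (η : G → ℂ) x from funext fun x =>
        Finset.sum_congr rfl fun η _ => by rw [ite_mul, zero_mul],
      inner_sum Finset.univ (fun η : Cfsg.IrrCharacter G => if η ∈ U then (η : G → ℂ) 1 else 0)
        (fun η x => (η : G → ℂ) x) (ξ : G → ℂ), Finset.sum_eq_single ξ]
    · rw [CfsgLib.Char.irr_classInner_self ξ.2, mul_one]
    · intro η _ hη
      rw [CfsgLib.Char.irr_classInner_ne η.2 ξ.2 fun e => hη (Subtype.ext e), mul_zero]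
    · simp
  have hsep : ∀ (ξ : Cfsg.IrrCharacter G) (i : ι), d ξ i ≠ 0 → (ξ ∈ U ↔ φ i ∈ U) := by
    intro ξ i hdi
    choose e he using fun η : Cfsg.IrrCharacter G =>
      CfsgLib.Char.char_apply_one_eq_nat (CfsgLib.Char.irr_isCharacter η.2)
    have he0 : ∀ η, e η ≠ 0 := fun η h0 =>
      CfsgLib.Char.irr_apply_one_ne_zero η.2 (by rw [he, h0, Nat.cast_zero])
    have h1 : e ξ = ∑ j, d ξ j * e (φ j) := by
      have := hd ξ 1 (by rw [orderOf_one]; exact (Fact.out : p.Prime).not_dvd_one)
      simp only [comb, he] at this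
      exact_mod_cast this
    have h2 : (if ξ ∈ U then e ξ else 0) = ∑ j, d ξ j * if φ j ∈ U then e (φ j) else 0 := by
      have h3 := hexp f ξ
      simp only [hSf, he] at h3
      have h4 : ((Nat.card G * (if ξ ∈ U then e ξ else 0) : ℕ) : ℂ) =
          ((Nat.card G * ∑ j, d ξ j * if φ j ∈ U then e (φ j) else 0 : ℕ) : ℂ) := by
        push_cast
        rw [Finset.mul_sum, h3]
        exact Finset.sum_congr rfl fun j _ => by ring
      exact Nat.eq_of_mul_eq_mul_left Nat.card_pos (Nat.cast_injective h4)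
    constructor
    · intro hξ
      by_contra hi
      rw [if_pos hξ, h1] at h2
      have hlt : ∑ j, (d ξ j * if φ j ∈ U then e (φ j) else 0) < ∑ j, d ξ j * e (φ j) :=
        Finset.sum_lt_sum (fun j _ => by split_ifs <;> simp) ⟨i, Finset.mem_univ i, by
          rw [if_neg hi, mul_zero]
          exact Nat.pos_of_ne_zero (mul_ne_zero hdi (he0 _))⟩
      omega
    · intro hi
      by_contra hξ
      rw [if_neg hξ] at h2
      have h3 := (Finset.sum_eq_zero_iff.1 h2.symm) i (Finset.mem_univ i)
      rw [if_pos hi] at h3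
      exact mul_ne_zero hdi (he0 _) h3
  -- orthogonality on the regular elements
  have hkey : ∀ i, φ i ∈ U → ∀ ξ : Cfsg.IrrCharacter G, ξ ∉ U →
      S (φ i : G → ℂ) (ξ : G → ℂ) = 0 := by
    intro i hi
    set g : G → ℂ := fun x => if p ∣ orderOf x then 0 else (φ i : G → ℂ) x with hg
    have hgcl : Cfsg.IsClassFunction G g := fun a b => by
      have : orderOf (b * a * b⁻¹) = orderOf a := MulEquiv.orderOf_eq (MulAut.conj b) a
      simp only [hg, this, CfsgLib.Char.irr_isClassFunction (φ i).2 a b]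
    set a : Cfsg.IrrCharacter G → ℂ := fun ξ => Cfsg.classInner g (ξ : G → ℂ) with ha
    have haS : ∀ ξ : Cfsg.IrrCharacter G,
        a ξ = (Nat.card G : ℂ)⁻¹ * S (φ i : G → ℂ) (ξ : G → ℂ) := by
      intro ξ
      rw [ha]
      beta_reduce
      rw [CfsgLib.Char.classInner_def]
      congr 1
      refine Finset.sum_congr rfl fun x _ => ?_
      simp only [hg]
      split_ifs <;> simp
    have hcoef : ∀ j, ∑ ξ, a ξ * (d ξ j : ℂ) = if j = i then 1 else 0 := by
      intro j
      have h0 := hLI (fun j => ∑ ξ, a ξ * (d ξ j : ℂ) - if j = i then 1 else 0) (fun x hx => by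
        have h1 : (φ i : G → ℂ) x = ∑ ξ, a ξ * (ξ : G → ℂ) x := by
          rw [← CfsgLib.Char.classFunction_apply_eq_sum hgcl x, hg]
          exact (if_neg hx).symm
        simp only [comb, sub_mul, Finset.sum_sub_distrib, ite_mul, one_mul, zero_mul,
          Finset.sum_ite_eq', Finset.mem_univ, if_true, Finset.sum_mul]
        rw [Finset.sum_comm, h1, ← Finset.sum_sub_distrib]
        refine Finset.sum_eq_zero fun ξ _ => ?_
        rw [hd ξ x hx, comb, Finset.mul_sum, sub_eq_zero]
        exact Finset.sum_congr rfl fun j _ => by ring)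
      exact sub_eq_zero.1 (congr_fun h0 j)
    have hzero : ∑ ξ, (if ξ ∈ U then 0 else a ξ * conj (a ξ)) = 0 := by
      have h1 : ∀ ξ, conj (a ξ) = ∑ j, (d ξ j : ℂ) * conj (a (φ j)) := by
        intro ξ
        rw [haS, hexp, Finset.mul_sum, map_sum]
        exact Finset.sum_congr rfl fun j _ => by
          rw [haS, map_mul, map_mul, map_mul, map_inv₀, Complex.conj_natCast,
            Complex.conj_natCast]
          ring
      have h2 : ∀ ξ, (if ξ ∈ U then 0 else a ξ * conj (a ξ)) =
          ∑ j, (if φ j ∈ U then 0 else a ξ * (d ξ j : ℂ) * conj (a (φ j))) := by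
        intro ξ
        rw [h1, Finset.mul_sum]
        by_cases hξ : ξ ∈ U
        · rw [if_pos hξ]
          refine (Finset.sum_eq_zero fun j _ => ?_).symm
          split_ifs with hj
          · rfl
          · rw [show d ξ j = 0 from by_contra fun h => hj ((hsep ξ j h).1 hξ), Nat.cast_zero]; simp
        · rw [if_neg hξ]
          refine Finset.sum_congr rfl fun j _ => ?_
          split_ifs with hj
          · rw [show d ξ j = 0 from by_contra fun h => hξ ((hsep ξ j h).2 hj), Nat.cast_zero]; simp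
          · ring
      rw [Finset.sum_congr rfl fun ξ _ => h2 ξ, Finset.sum_comm]
      refine Finset.sum_eq_zero fun j _ => ?_
      by_cases hj : φ j ∈ U
      · simp [hj]
      · simp only [if_neg hj]
        rw [← Finset.sum_mul, hcoef, if_neg (fun e : j = i => hj (e.symm ▸ hi)), zero_mul]
    intro ξ hξ
    have hre : ∑ η, (if η ∈ U then (0 : ℝ) else Complex.normSq (a η)) = 0 := by
      have h2 : ((∑ η, (if η ∈ U then (0 : ℝ) else Complex.normSq (a η)) : ℝ) : ℂ) = 0 := by
        rw [← hzero]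
        push_cast
        exact Finset.sum_congr rfl fun η _ => by split_ifs <;> simp [Complex.mul_conj]
      exact_mod_cast h2
    have h3 := (Finset.sum_eq_zero_iff_of_nonneg (fun η _ => by
      split_ifs <;> simp [Complex.normSq_nonneg])).1 hre ξ (Finset.mem_univ ξ)
    rw [if_neg hξ, Complex.normSq_eq_zero, haS, mul_eq_zero] at h3
    exact h3.resolve_left (inv_ne_zero (Nat.cast_ne_zero.2 Nat.card_pos.ne'))
  refine CfsgLib.Block.mem_of_integral_blockSum
    (fun g => CfsgLib.Block.blockCoeff_memLocalRing_of_orth hM (fun ξ hξ η hη => ?_) g) hχ hψ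
  have hswap : ∀ a b : G → ℂ, conj (S a b) = S b a := fun a b => by
    simp only [S, map_sum]
    exact Finset.sum_congr rfl fun x _ => by split_ifs <;> simp [mul_comm]
  show S (ξ : G → ℂ) (η : G → ℂ) = 0
  rw [← hswap, hexp, map_sum]
  refine Finset.sum_eq_zero fun i _ => ?_
  by_cases hdi : d ξ i = 0
  · simp [hdi]
  · rw [map_mul, hswap, hkey i ((hsep ξ i hdi).1 hξ) η hη, mul_zero]

end CfsgLib.BlockB.FongSwan
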