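import Cfsg.Agent.Lib.BlockB.McKayBasic
import Cfsg.Agent.Lib.BlockA.Glauberman
import Mathlib.GroupTheory.Subgroup.Centralizer

/-!
The Glauberman correspondence for a `p`-subgroup of an ambient group: multiplicities along a chain
of subgroups and equivariance.
-/

set_option autoImplicit false
set_option linter.unusedSectionVars false
set_option linter.style.haveILetI false

namespace CfsgLib.BlockB.McKay

open CfsgLib.Clifford CfsgLib.BlockA
open scoped ComplexConjugate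

universe u

variable {G : Type u} [Group G] [Finite G]

/-- The multiplicity of `φ` in the restriction of `θ`. -/
noncomputable def mult {K C : Subgroup G} (hCK : C ≤ K) (θ : K → ℂ) (φ : C → ℂ) : ℂ :=
  haveI := Fintype.ofFinite C
  Cfsg.classInner (θ ∘ Subgroup.inclusion hCK) φ

theorem mult_def {K C : Subgroup G} [Fintype C] (hCK : C ≤ K) (θ : K → ℂ) (φ : C → ℂ) :
    mult hCK θ φ = Cfsg.classInner (θ ∘ Subgroup.inclusion hCK) φ := by
  simp only [mult]
  congr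
  exact Subsingleton.elim _ _

/-- `φ` occurs in the restriction of `θ` with multiplicity prime to `p`. -/
def Corr (p : ℕ) {K C : Subgroup G} (hCK : C ≤ K) (θ : K → ℂ) (φ : C → ℂ) : Prop :=
  ∃ m : ℕ, mult hCK θ φ = m ∧ ¬ p ∣ m

/-- `θ` is fixed by conjugation with `x`. -/
def InvBy (K : Subgroup G) (x : G) (θ : K → ℂ) : Prop :=
  ∀ k k' : K, (k' : G) = x * (k : G) * x⁻¹ → θ k' = θ k

/-- Conjugation by an element of the normalizer. -/
noncomputable def conjAut (K : Subgroup G) {x : G} (hx : x ∈ Subgroup.normalizer (K : Set G)) :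
    K ≃* K :=
  K.normalizerMonoidHom ⟨x, hx⟩

theorem coe_conjAut (K : Subgroup G) {x : G} (hx : x ∈ Subgroup.normalizer (K : Set G)) (k : K) :
    ((conjAut K hx k : K) : G) = x * (k : G) * x⁻¹ := rfl

theorem invBy_iff {K : Subgroup G} {x : G} (hx : x ∈ Subgroup.normalizer (K : Set G))
    (θ : K → ℂ) : InvBy K x θ ↔ θ ∘ conjAut K hx = θ := by
  refine ⟨fun h => funext fun k => h k _ rfl, fun h k k' hk => ?_⟩
  rw [show k' = conjAut K hx k from Subtype.ext hk]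
  exact congr_fun h k

theorem invBy_of_mem {K : Subgroup G} {x : G} (hx : x ∈ K) {θ : K → ℂ}
    (hθ : Cfsg.IsClassFunction K θ) : InvBy K x θ := fun k k' hk => by
  rw [show k' = ⟨x, hx⟩ * k * ⟨x, hx⟩⁻¹ from Subtype.ext hk]
  exact hθ k ⟨x, hx⟩

theorem invBy_mul {K : Subgroup G} {x y : G} (hy : y ∈ Subgroup.normalizer (K : Set G))
    {θ : K → ℂ} (hx' : InvBy K x θ) (hy' : InvBy K y θ) : InvBy K (x * y) θ := fun k k' hk => by
  rw [hx' (conjAut K hy k) k' (by rw [coe_conjAut, hk]; group)]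
  exact hy' k _ rfl

theorem mult_nat {K C : Subgroup G} (hCK : C ≤ K) {θ : K → ℂ} (hθ : Cfsg.IsCharacter K θ)
    {φ : C → ℂ} (hφ : Cfsg.IsCharacter C φ) : ∃ m : ℕ, mult hCK θ φ = m := by
  have := Fintype.ofFinite C
  rw [mult_def]
  exact CfsgLib.Char.classInner_isCharacter_nat (CfsgLib.Char.isCharacter_comp hθ _) hφ

/-- The expansion of a multiplicity through an intermediate subgroup. -/
theorem mult_trans {K K₁ C : Subgroup G} (h₁ : K₁ ≤ K) (h₂ : C ≤ K₁)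
    [Fintype (Cfsg.IrrCharacter K₁)] {θ : K → ℂ} (hθ : Cfsg.IsCharacter K θ) (φ : C → ℂ) :
    mult (h₂.trans h₁) θ φ =
      ∑ β : Cfsg.IrrCharacter K₁, mult h₁ θ (β : K₁ → ℂ) * mult h₂ (β : K₁ → ℂ) φ := by
  have := Fintype.ofFinite C
  have := Fintype.ofFinite K₁
  simp only [mult_def]
  exact inner_comp_expand (F := θ ∘ Subgroup.inclusion h₁)
    (CfsgLib.Char.isCharacter_isClassFunction (CfsgLib.Char.isCharacter_comp hθ _))
    (Subgroup.inclusion h₂) φ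

variable {p : ℕ} [Fact p.Prime]

/-- With a unique constituent of multiplicity prime to `p` in between, correspondence composes. -/
theorem corr_trans_iff {K K₁ C : Subgroup G} (h₁ : K₁ ≤ K) (h₂ : C ≤ K₁) {θ : K → ℂ}
    (hθ : Cfsg.IsCharacter K θ) {θ₁ : K₁ → ℂ} (hθ₁ : Cfsg.IsIrrCharacter K₁ θ₁)
    (hc : Corr p h₁ θ θ₁)
    (hu : ∀ β : K₁ → ℂ, Cfsg.IsIrrCharacter K₁ β → Corr p h₁ θ β → β = θ₁)
    {φ : C → ℂ} (hφ : Cfsg.IsCharacter C φ) :
    Corr p (h₂.trans h₁) θ φ ↔ Corr p h₂ θ₁ φ := by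
  classical
  have hp := (Fact.out : p.Prime)
  have := Fintype.ofFinite (Cfsg.IrrCharacter K₁)
  choose a ha using fun β : Cfsg.IrrCharacter K₁ =>
    mult_nat h₁ hθ (CfsgLib.Char.irr_isCharacter β.2)
  choose b hb using fun β : Cfsg.IrrCharacter K₁ =>
    mult_nat h₂ (CfsgLib.Char.irr_isCharacter β.2) hφ
  have e : mult (h₂.trans h₁) θ φ = ((∑ β, a β * b β : ℕ) : ℂ) := by
    rw [mult_trans h₁ h₂ hθ φ]
    push_cast
    exact Finset.sum_congr rfl fun β _ => by rw [ha, hb]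
  have hrest : p ∣ ∑ β ∈ Finset.univ.erase (⟨θ₁, hθ₁⟩ : Cfsg.IrrCharacter K₁), a β * b β := by
    refine Finset.dvd_sum fun β hβ => dvd_mul_of_dvd_left ?_ _
    by_contra h
    exact (Finset.mem_erase.1 hβ).1 (Subtype.ext (hu β β.2 ⟨a β, ha β, h⟩))
  have hsplit : p ∣ ∑ β, a β * b β ↔ p ∣ b ⟨θ₁, hθ₁⟩ := by
    rw [← Finset.add_sum_erase _ _ (Finset.mem_univ (⟨θ₁, hθ₁⟩ : Cfsg.IrrCharacter K₁)),
      Nat.dvd_add_left hrest, hp.dvd_mul]
    refine ⟨fun h => h.resolve_left fun h' => ?_, Or.inr⟩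
    obtain ⟨m, hm, hm'⟩ := hc
    rw [ha ⟨θ₁, hθ₁⟩, Nat.cast_inj] at hm
    exact hm' (hm ▸ h')
  constructor
  · rintro ⟨m, hm, hm'⟩
    rw [e, Nat.cast_inj] at hm
    exact ⟨b ⟨θ₁, hθ₁⟩, hb ⟨θ₁, hθ₁⟩, fun h => hm' (hm ▸ hsplit.2 h)⟩
  · rintro ⟨m, hm, hm'⟩
    rw [hb ⟨θ₁, hθ₁⟩, Nat.cast_inj] at hm
    exact ⟨_, e, fun h => hm' (hm ▸ hsplit.1 h)⟩

theorem corr_conj {K C : Subgroup G} (hCK : C ≤ K) {x : G}
    (hxK : x ∈ Subgroup.normalizer (K : Set G)) (hxC : x ∈ Subgroup.normalizer (C : Set G))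
    {θ : K → ℂ} {φ : C → ℂ} (h : Corr p hCK θ φ) :
    Corr p hCK (θ ∘ conjAut K hxK) (φ ∘ conjAut C hxC) := by
  have := Fintype.ofFinite C
  obtain ⟨m, hm, hm'⟩ := h
  refine ⟨m, ?_, hm'⟩
  rw [← hm, mult_def, mult_def, CfsgLib.Char.classInner_def, CfsgLib.Char.classInner_def]
  congr 1
  refine Fintype.sum_equiv (conjAut C hxC).toEquiv _ _ fun c => ?_
  simp only [Function.comp_apply, MulEquiv.toEquiv_eq_coe, MulEquiv.coe_toEquiv]
  congr 2

theorem corr_self {K : Subgroup G} {θ : K → ℂ} (hθ : Cfsg.IsIrrCharacter K θ)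
    {φ : K → ℂ} (hφ : Cfsg.IsIrrCharacter K φ) (h : Corr p (le_refl K) θ φ) : θ = φ := by
  have := Fintype.ofFinite K
  obtain ⟨m, hm, hm'⟩ := h
  by_contra hne
  rw [mult_def, show θ ∘ Subgroup.inclusion (le_refl K) = θ from rfl,
    CfsgLib.Char.irr_classInner_ne hθ hφ hne] at hm
  exact hm' ((Nat.cast_eq_zero.1 hm.symm) ▸ dvd_zero p)

section Glauberman

variable (S K : Subgroup G) (hS : IsPGroup p S) (hcop : ¬ p ∣ Nat.card K)
  (hSK : S ≤ Subgroup.normalizer (K : Set G))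

/-- The action of `S` on `K` by conjugation. -/
@[instance_reducible]
noncomputable def conjAct : MulDistribMulAction S K :=
  MulDistribMulAction.compHom K ((Subgroup.normalizerMonoidHom K).comp (Subgroup.inclusion hSK))

theorem coe_conjAct (s : S) (k : K) :
    letI := conjAct S K hSK
    ((s • k : K) : G) = (s : G) * (k : G) * (s : G)⁻¹ := rfl

theorem isInv_iff {θ : K → ℂ} :
    letI := conjAct S K hSK
    BlockA.IsInv S θ ↔ ∀ s ∈ S, InvBy K s θ := by
  letI := conjAct S K hSK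
  refine ⟨fun h s hs k k' hk => ?_, fun h s k => h s s.2 k _ rfl⟩
  rw [show k' = (⟨s, hs⟩ : S) • k from Subtype.ext hk]
  exact h _ _

include hS hcop hSK

theorem glauberman :
    ∀ C : Subgroup G, C = K ⊓ Subgroup.centralizer (S : Set G) → ∀ hCK : C ≤ K,
    (∀ θ : K → ℂ, Cfsg.IsIrrCharacter K θ → (∀ s ∈ S, InvBy K s θ) →
      ∃ φ : C → ℂ, Cfsg.IsIrrCharacter C φ ∧ Corr p hCK θ φ ∧
        ∀ φ' : C → ℂ, Cfsg.IsIrrCharacter C φ' → Corr p hCK θ φ' → φ' = φ) ∧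
    (∀ θ θ' : K → ℂ, Cfsg.IsIrrCharacter K θ → Cfsg.IsIrrCharacter K θ' →
      (∀ s ∈ S, InvBy K s θ) → (∀ s ∈ S, InvBy K s θ') → ∀ φ : C → ℂ, Cfsg.IsIrrCharacter C φ →
      Corr p hCK θ φ → Corr p hCK θ' φ → θ = θ') ∧
    (∀ φ : C → ℂ, Cfsg.IsIrrCharacter C φ →
      ∃ θ : K → ℂ, Cfsg.IsIrrCharacter K θ ∧ (∀ s ∈ S, InvBy K s θ) ∧ Corr p hCK θ φ) := by
  intro C hC hCK
  letI := conjAct S K hSK
  have := Fintype.ofFinite K
  have := Fintype.ofFinite C
  have hrange : ∀ k : K, k ∈ (Subgroup.inclusion hCK).range ↔ ∀ s : S, s • k = k := by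
    intro k
    rw [show k ∈ (Subgroup.inclusion hCK).range ↔ (k : G) ∈ C from
        ⟨fun ⟨c, hc⟩ => hc ▸ c.2, fun h => ⟨⟨k, h⟩, Subtype.ext rfl⟩⟩, hC, Subgroup.mem_inf,
      and_iff_right k.2, Subgroup.mem_centralizer_iff]
    refine ⟨fun h s => Subtype.ext ?_, fun h s hs => ?_⟩
    · rw [coe_conjAct, h s s.2, mul_inv_cancel_right]
    · have h1 := congrArg Subtype.val (h ⟨s, hs⟩)
      rw [coe_conjAct] at h1
      exact mul_inv_eq_iff_eq_mul.1 h1
  obtain ⟨h1, -, h3, h4⟩ := glauberman_pGroup (Subgroup.inclusion hCK)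
    (Subgroup.inclusion_injective hCK) hrange hS hcop
  refine ⟨fun θ hθ hi => ?_, fun θ θ' hθ hθ' hi hi' φ hφ hc hc' => ?_, fun φ hφ => ?_⟩
  · obtain ⟨β, ⟨m, hm, hm'⟩, hu⟩ := h1 ⟨θ, hθ⟩ ((isInv_iff S K hSK).2 hi)
    refine ⟨(β : C → ℂ), β.2, ⟨m, (mult_def hCK θ _).trans hm, hm'⟩, fun φ' hφ' ⟨m', e, h'⟩ => ?_⟩
    rw [mult_def] at e
    exact congrArg Subtype.val (hu ⟨φ', hφ'⟩ ⟨m', e, h'⟩)
  · obtain ⟨m, hm, hm'⟩ := hc
    obtain ⟨m', hm1, hm1'⟩ := hc'
    rw [mult_def] at hm hm1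
    exact congrArg Subtype.val (h3 ⟨θ, hθ⟩ ⟨θ', hθ'⟩ ((isInv_iff S K hSK).2 hi)
      ((isInv_iff S K hSK).2 hi') ⟨φ, hφ⟩ m m' hm hm' hm1 hm1')
  · obtain ⟨χ, hχ, m, hm, hm'⟩ := h4 ⟨φ, hφ⟩
    exact ⟨(χ : K → ℂ), χ.2, (isInv_iff S K hSK).1 hχ, m, (mult_def hCK _ φ).trans hm, hm'⟩

variable {C : Subgroup G} (hC : C = K ⊓ Subgroup.centralizer (S : Set G)) (hCK : C ≤ K)
include hC

theorem corr_unique {θ : K → ℂ} (hθ : Cfsg.IsIrrCharacter K θ) (hi : ∀ s ∈ S, InvBy K s θ)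
    {φ φ' : C → ℂ} (hφ : Cfsg.IsIrrCharacter C φ) (hφ' : Cfsg.IsIrrCharacter C φ')
    (hc : Corr p hCK θ φ) (hc' : Corr p hCK θ φ') : φ = φ' := by
  obtain ⟨φ₀, -, -, hu⟩ := (glauberman S K hS hcop hSK C hC hCK).1 θ hθ hi
  rw [hu φ hφ hc, hu φ' hφ' hc']

/-- An element normalising everything fixes the correspondent of a fixed character. -/
theorem invBy_of_corr {x : G} (hxK : x ∈ Subgroup.normalizer (K : Set G))
    (hxC : x ∈ Subgroup.normalizer (C : Set G)) {θ : K → ℂ} (hθ : Cfsg.IsIrrCharacter K θ)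
    (hi : ∀ s ∈ S, InvBy K s θ) {φ : C → ℂ} (hφ : Cfsg.IsIrrCharacter C φ)
    (hc : Corr p hCK θ φ) (hx : InvBy K x θ) : InvBy C x φ := by
  rw [invBy_iff hxC]
  have h := corr_conj hCK hxK hxC hc
  rw [(invBy_iff hxK θ).1 hx] at h
  exact (corr_unique S K hS hcop hSK hC hCK hθ hi hφ
    (CfsgLib.Char.isIrrCharacter_comp_surjective hφ (conjAut C hxC).toMonoidHom
      (conjAut C hxC).surjective) hc h).symm

/-- The preimage of a fixed correspondent is fixed. -/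
theorem invBy_of_corr' {x : G} (hxK : x ∈ Subgroup.normalizer (K : Set G))
    (hxC : x ∈ Subgroup.normalizer (C : Set G)) (hxS : x ∈ Subgroup.normalizer (S : Set G))
    {θ : K → ℂ} (hθ : Cfsg.IsIrrCharacter K θ)
    (hi : ∀ s ∈ S, InvBy K s θ) {φ : C → ℂ} (hφ : Cfsg.IsIrrCharacter C φ)
    (hc : Corr p hCK θ φ) (hx : InvBy C x φ) : InvBy K x θ := by
  rw [invBy_iff hxK]
  have h := corr_conj hCK hxK hxC hc
  rw [(invBy_iff hxC φ).1 hx] at h
  refine ((glauberman S K hS hcop hSK C hC hCK).2.1 θ _ hθ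
    (CfsgLib.Char.isIrrCharacter_comp_surjective hθ (conjAut K hxK).toMonoidHom
      (conjAut K hxK).surjective) hi (fun s hs k k' hk => ?_) φ hφ hc h).symm
  refine hi (x * s * x⁻¹) ((Subgroup.mem_normalizer_iff.1 hxS s).1 hs) (conjAut K hxK k) _ ?_
  simp only [MulEquiv.coe_toMonoidHom, coe_conjAut, hk]
  group

open scoped Classical in
/-- Between a subgroup and an invariant character above it there is an invariant correspondent. -/
theorem exists_inv_between {B : Subgroup G} (hSB : S ≤ Subgroup.normalizer (B : Set G))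
    (hKB : K ≤ B) {χ : B → ℂ} (hχ : Cfsg.IsCharacter B χ) (hi : ∀ s ∈ S, InvBy B s χ)
    {φ : C → ℂ} (hφ : Cfsg.IsIrrCharacter C φ) (hc : Corr p (hCK.trans hKB) χ φ) :
    ∃ μ : K → ℂ, Cfsg.IsIrrCharacter K μ ∧ (∀ s ∈ S, InvBy K s μ) ∧ Corr p hCK μ φ ∧
      mult hKB χ μ ≠ 0 := by
  have hp := (Fact.out : p.Prime)
  letI := conjAct S K hSK
  have := Fintype.ofFinite (Cfsg.IrrCharacter K)
  have := Fintype.ofFinite K
  have := Fintype.ofFinite C
  choose a ha using fun β : Cfsg.IrrCharacter K =>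
    mult_nat hKB hχ (CfsgLib.Char.irr_isCharacter β.2)
  choose b hb using fun β : Cfsg.IrrCharacter K =>
    mult_nat hCK (CfsgLib.Char.irr_isCharacter β.2) (CfsgLib.Char.irr_isCharacter hφ)
  let f : Cfsg.IrrCharacter K → ℂ := fun β => (a β : ℂ) * (b β : ℂ)
  have hf : ∀ (s : S) (β : Cfsg.IrrCharacter K), f (s • β) = f β := by
    intro s β
    have h1 : ∀ k : K, ((s • β : Cfsg.IrrCharacter K) : K → ℂ) (s • k) = (β : K → ℂ) k :=
      fun k => by rw [smul_irr_apply, inv_smul_smul]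
    simp only [f, ← ha, ← hb, mult_def]
    congr 1
    · rw [CfsgLib.Char.classInner_def, CfsgLib.Char.classInner_def]
      congr 1
      refine (Fintype.sum_equiv (MulAction.toPerm s) _ _ fun k => ?_).symm
      rw [MulAction.toPerm_apply, h1, Function.comp_apply, Function.comp_apply,
        hi s s.2 (Subgroup.inclusion hKB k) (Subgroup.inclusion hKB (s • k))
          (coe_conjAct S K hSK s k)]
    · rw [CfsgLib.Char.classInner_def, CfsgLib.Char.classInner_def]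
      congr 1
      refine Finset.sum_congr rfl fun c _ => ?_
      rw [Function.comp_apply, Function.comp_apply]
      congr 1
      have hfix : s • Subgroup.inclusion hCK c = Subgroup.inclusion hCK c := by
        have hc' : (c : G) ∈ Subgroup.centralizer (S : Set G) :=
          (hC ▸ c.2 : (c : G) ∈ K ⊓ Subgroup.centralizer (S : Set G)).2
        refine Subtype.ext ?_
        rw [coe_conjAct, Subgroup.coe_inclusion, Subgroup.mem_centralizer_iff.1 hc' s s.2,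
          mul_inv_cancel_right]
      conv_lhs => rw [← hfix]
      exact h1 _
  have hdiv := pDiv_sum_sub_sum_fixed (p := p) hS f
    (fun β => (isIntegral_natCast' _).mul (isIntegral_natCast' _)) hf
  obtain ⟨m, hm, hm'⟩ := hc
  rw [mult_trans hKB hCK hχ φ] at hm
  by_contra hcon
  push Not at hcon
  have hfix : p ∣ ∑ β : Cfsg.IrrCharacter K with ∀ s : S, s • β = β, a β * b β := by
    refine Finset.dvd_sum fun β hβ => ?_
    by_contra hnd
    rw [hp.dvd_mul, not_or] at hnd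
    refine hnd.1 ?_
    have := hcon β β.2 ((isInv_iff S K hSK).1
      ((isInv_iff_fixed β).2 (Finset.mem_filter.1 hβ).2)) ⟨b β, hb β, hnd.2⟩
    rw [ha, Nat.cast_eq_zero] at this
    exact this ▸ dvd_zero p
  refine hm' ((pDiv_natCast_iff m).1 ?_)
  have e : (m : ℂ) = (∑ β, f β - ∑ β with ∀ s : S, s • β = β, f β) +
      ((∑ β : Cfsg.IrrCharacter K with ∀ s : S, s • β = β, a β * b β : ℕ) : ℂ) := by
    push_cast
    rw [sub_add_cancel, ← hm]
    exact Finset.sum_congr rfl fun β _ => by rw [ha, hb]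
  rw [e]
  exact pDiv_add hdiv ((pDiv_natCast_iff _).2 hfix)

end Glauberman

end CfsgLib.BlockB.McKay
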