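import Cfsg.Agent.Lib.BlockB.OverTheta
import Cfsg.Agent.Lib.BlockB.GlaubermanChain
import Cfsg.Agent.Lib.Clifford.Correspondence
import Cfsg.Agent.Lib.Clifford.Constituents
import Cfsg.Agent.Lib.Coprime.PSolvableHall
import Cfsg.Agent.Lib.Char.Inner
import Cfsg.Agent.Lib.PLength.Series
import Cfsg.Agent.Lib.Solvable.Basic

/-!
Fong–Swan families: irreducible characters whose restrictions to a `p`-complement are independent
and express every other one with natural coefficients.
-/

set_option autoImplicit false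
set_option linter.unusedSectionVars false
set_option linter.style.haveILetI false

namespace CfsgLib.BlockB.FongSwan

open CfsgLib.Clifford

universe u

variable {G : Type u} [Group G]

/-- A linear combination of irreducible characters. -/
noncomputable def comb {ι : Type u} [Fintype ι] (φ : ι → Cfsg.IrrCharacter G) (c : ι → ℂ) : G → ℂ :=
  fun g => ∑ i, c i * (φ i : G → ℂ) g

/-- A family inside `P` is independent on `H`, spans `P` on `H`, and a combination that is a
character on `H` has natural coefficients. -/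
def FSOn (P : Cfsg.IrrCharacter G → Prop) (H : Subgroup G) : Prop :=
  ∃ (ι : Type u) (_ : Fintype ι) (φ : ι → Cfsg.IrrCharacter G), (∀ i, P (φ i)) ∧
    (∀ c : ι → ℂ, (∀ h : H, comb φ c h = 0) → c = 0) ∧
    (∀ χ : Cfsg.IrrCharacter G, P χ → ∃ c : ι → ℂ, ∀ h : H, (χ : G → ℂ) h = comb φ c h) ∧
    ∀ c : ι → ℂ, Cfsg.IsCharacter H (fun h : H => comb φ c h) → ∀ i, ∃ k : ℕ, c i = (k : ℂ)

/-- The character `χ` lies over `θ` along `f`. -/
abbrev Lies {A B : Type u} [Group A] [Fintype A] [Group B] (f : A → B) (θ : A → ℂ)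
    (χ : B → ℂ) : Prop :=
  Cfsg.classInner (χ ∘ f) θ ≠ 0

theorem inner_sum {A : Type u} [Group A] [Fintype A] {ι : Type*} (s : Finset ι) (c : ι → ℂ)
    (f : ι → A → ℂ) (β : A → ℂ) :
    Cfsg.classInner (fun a => ∑ i ∈ s, c i * f i a) β =
      ∑ i ∈ s, c i * Cfsg.classInner (f i) β := by
  classical
  induction s using Finset.induction_on with
  | empty =>
    rw [Finset.sum_empty, show (fun a : A => ∑ i ∈ (∅ : Finset ι), c i * f i a) = (0 : A → ℂ) from
      funext fun a => Finset.sum_empty, CfsgLib.Char.classInner_zero_left]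
  | insert i s hi ih =>
    rw [show (fun a => ∑ j ∈ insert i s, c j * f j a) = (c i • f i) +
        fun a => ∑ j ∈ s, c j * f j a from funext fun a => by
      rw [Finset.sum_insert hi, Pi.add_apply, Pi.smul_apply, smul_eq_mul],
      CfsgLib.Char.classInner_add_left, CfsgLib.Char.classInner_smul_left, ih,
      Finset.sum_insert hi]

theorem inner_comb {ι : Type u} [Fintype ι] (φ : ι → Cfsg.IrrCharacter G) (c : ι → ℂ)
    (H : Subgroup G) [Fintype H] (β : H → ℂ) :
    Cfsg.classInner (fun h : H => comb φ c h) β =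
      ∑ i, c i * Cfsg.classInner (fun h : H => (φ i : G → ℂ) h) β :=
  inner_sum _ c (fun i (h : H) => (φ i : G → ℂ) h) β

theorem comb_isClassFunction [Finite G] {ι : Type u} [Fintype ι] (φ : ι → Cfsg.IrrCharacter G)
    (c : ι → ℂ) : Cfsg.IsClassFunction G (comb φ c) := fun x y =>
  Finset.sum_congr rfl fun i _ => by rw [CfsgLib.Char.irr_isClassFunction (φ i).2 x y]

theorem comb_isClassFunction_sub [Finite G] {ι : Type u} [Fintype ι]
    (φ : ι → Cfsg.IrrCharacter G) (c : ι → ℂ) (H : Subgroup G) :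
    Cfsg.IsClassFunction H (fun h : H => comb φ c h) := fun x y => by
  simpa using comb_isClassFunction φ c (x : G) (y : G)

/-- A character with no component of `θ` below has no constituent with one. -/
theorem inner_eq_zero_of_below {A B : Type u} [Group A] [Fintype A] [Group B] [Fintype B]
    (f : A →* B) {θ : A → ℂ} (hθ : Cfsg.IsIrrCharacter A θ) {F : B → ℂ}
    (hF : Cfsg.IsCharacter B F) (h0 : Cfsg.classInner (F ∘ f) θ = 0) {β : B → ℂ}
    (hβ : Cfsg.IsIrrCharacter B β) (hne : Cfsg.classInner (β ∘ f) θ ≠ 0) :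
    Cfsg.classInner F β = 0 := by
  by_contra h
  obtain ⟨R, hR, hRe⟩ := exists_add_of_constituent hF hβ h
  refine hne (OverTheta.inner_add_eq_zero
    (CfsgLib.Char.isCharacter_comp (CfsgLib.Char.irr_isCharacter hβ) f)
    (CfsgLib.Char.isCharacter_comp hR f) (CfsgLib.Char.irr_isCharacter hθ) ?_)
  rw [← h0, hRe]
  rfl

section Transfer

variable [Finite G] {p : ℕ} [Fact p.Prime]

/-- A `p`-regular element has a conjugate in any `p`-complement. -/
theorem exists_conj_mem_compl (hs : Cfsg.IsPSolvable p G) {H : Subgroup G}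
    (hH : Coprime.IsPCompl p H) {x : G} (hx : ¬ p ∣ orderOf x) : ∃ g : G, g * x * g⁻¹ ∈ H := by
  obtain ⟨H', hH', hle⟩ := Coprime.exists_pCompl_ge hs (Subgroup.zpowers x) (by
    rw [Nat.card_zpowers]
    exact Nat.coprime_comm.1 ((Fact.out : p.Prime).coprime_iff_not_dvd.2 hx))
  obtain ⟨g, hg⟩ := Coprime.exists_conj_pCompl hs hH' hH
  exact ⟨g, hg ▸ ⟨x, hle (Subgroup.mem_zpowers x), by simp⟩⟩

/-- A class function vanishing on a `p`-complement vanishes on `p`-regular elements. -/
theorem eq_zero_of_compl (hs : Cfsg.IsPSolvable p G) {H : Subgroup G} (hH : Coprime.IsPCompl p H)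
    {f : G → ℂ} (hf : Cfsg.IsClassFunction G f) (h0 : ∀ h : H, f h = 0) {x : G}
    (hx : ¬ p ∣ orderOf x) : f x = 0 := by
  obtain ⟨g, hg⟩ := exists_conj_mem_compl hs hH hx
  rw [← hf x g]
  exact h0 ⟨_, hg⟩

/-- The property does not depend on the complement. -/
theorem fsOn_of_conj (hs : Cfsg.IsPSolvable p G) {H H' : Subgroup G} (hH : Coprime.IsPCompl p H)
    (hH' : Coprime.IsPCompl p H') {P : Cfsg.IrrCharacter G → Prop} (h : FSOn P H) : FSOn P H' := by
  obtain ⟨g, rfl⟩ := Coprime.exists_conj_pCompl hs hH hH'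
  obtain ⟨ι, hι, φ, hP, hLI, hspan, hpos⟩ := h
  let e : H ≃* H.map (MulAut.conj g).toMonoidHom :=
    H.equivMapOfInjective _ (MulAut.conj g).injective
  have he : ∀ (f : G → ℂ), Cfsg.IsClassFunction G f → ∀ h : H,
      f (e h : H.map (MulAut.conj g).toMonoidHom) = f h := fun f hf h => by
    show f ((MulAut.conj g).toMonoidHom h) = f h
    exact hf (h : G) g
  refine ⟨ι, hι, φ, hP, fun c hc => hLI c fun h => ?_, fun χ hχ => ?_, fun c hc => hpos c ?_⟩
  · rw [← he _ (comb_isClassFunction φ c) h]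
    exact hc (e h)
  · obtain ⟨c, hc⟩ := hspan χ hχ
    refine ⟨c, fun y => ?_⟩
    obtain ⟨h, rfl⟩ := e.surjective y
    rw [he _ (CfsgLib.Char.irr_isClassFunction χ.2), he _ (comb_isClassFunction φ c)]
    exact hc h
  · have := CfsgLib.Char.isCharacter_comp hc e.toMonoidHom
    rw [show (fun y : H.map (MulAut.conj g).toMonoidHom => comb φ c y) ∘ e.toMonoidHom =
      fun h : H => comb φ c h from funext fun h => he _ (comb_isClassFunction φ c) h] at this
    exact this

end Transfer

section Base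

variable [Fintype G]

/-- For the whole group as complement, all irreducible characters form a family. -/
theorem fsOn_top : FSOn (fun _ : Cfsg.IrrCharacter G => True) ⊤ := by
  classical
  haveI := Fintype.ofFinite (Cfsg.IrrCharacter G)
  have hin : ∀ (c : Cfsg.IrrCharacter G → ℂ) (i : Cfsg.IrrCharacter G),
      Cfsg.classInner (comb id c) (i : G → ℂ) = c i := by
    intro c i
    rw [show comb id c = fun g => ∑ j, c j * (j : G → ℂ) g from rfl,
      inner_sum Finset.univ c (fun j g => (j : G → ℂ) g) (i : G → ℂ), Finset.sum_eq_single i]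
    · rw [CfsgLib.Char.irr_classInner_self i.2, mul_one]
    · intro j _ hj
      rw [CfsgLib.Char.irr_classInner_ne j.2 i.2 fun e => hj (Subtype.ext e), mul_zero]
    · simp
  refine ⟨_, inferInstance, id, fun _ => trivial, fun c hc => funext fun i => ?_, fun χ _ => ?_,
    fun c hc i => ?_⟩
  · rw [← hin c i, show comb id c = (0 : G → ℂ) from funext fun g => hc ⟨g, trivial⟩,
      CfsgLib.Char.classInner_zero_left]
    rfl
  · refine ⟨Pi.single χ 1, fun h => ?_⟩
    show _ = ∑ j, _
    rw [Finset.sum_eq_single χ]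
    · simp
    · intro j _ hj
      simp [hj]
    · simp
  · have h1 := CfsgLib.Char.isCharacter_comp hc (Subgroup.topEquiv (G := G)).symm.toMonoidHom
    obtain ⟨k, hk⟩ := CfsgLib.Char.classInner_isCharacter_nat
      (show Cfsg.IsCharacter G (comb id c) from h1) (CfsgLib.Char.irr_isCharacter i.2)
    exact ⟨k, (hin c i).symm.trans hk⟩

end Base

section Below

variable [Fintype G] (K : Subgroup G) [K.Normal] [Fintype K]

/-- Lying over a character depends only on its orbit. -/
theorem lies_conjFn {θ : K → ℂ} {χ : G → ℂ} (hχ : Cfsg.IsClassFunction G χ) (g : G)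
    (h : Lies (fun k : K => (k : G)) θ χ) : Lies (fun k : K => (k : G)) (conjFn g θ) χ := by
  let e : K ≃* K :=
    { toFun := conjN g
      invFun := conjN g⁻¹
      left_inv := fun n => by rw [← conjN_mul, inv_mul_cancel, conjN_one]
      right_inv := fun n => by rw [← conjN_mul, mul_inv_cancel, conjN_one]
      map_mul' := fun a b => Subtype.ext (by simp [mul_assoc]) }
  have h1 := OverTheta.classInner_comp_surjective e.toMonoidHom e.surjective
    (fun k : K => χ k) θ
  intro h0
  refine h ?_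
  show Cfsg.classInner (fun k : K => χ k) θ = 0
  rw [← h1, ← h0]
  exact congrArg (fun F => Cfsg.classInner F (conjFn g θ)) (isCharacter_restrict_conj hχ g)

/-- A constituent on `H` lies only over constituents on `K`. -/
theorem exists_conj_of_below {H : Subgroup G} [Fintype H] (hKH : K ≤ H) {χ : G → ℂ}
    (hχ : Cfsg.IsIrrCharacter G χ) {θ θ₀ : K → ℂ} (hθ : Cfsg.IsIrrCharacter K θ)
    (hθ₀ : Cfsg.IsIrrCharacter K θ₀) (h : Lies (fun k : K => (k : G)) θ χ) {β : H → ℂ}
    (hβ : Cfsg.IsIrrCharacter H β) (hne : Cfsg.classInner (fun h : H => χ h) β ≠ 0)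
    (h₀ : Lies (Subgroup.inclusion hKH) θ₀ β) : ∃ g : G, conjFn g θ = θ₀ := by
  refine exists_conj_of_constituents hχ hθ hθ₀ h fun h0 => hne ?_
  exact inner_eq_zero_of_below (Subgroup.inclusion hKH) hθ₀
    (CfsgLib.Char.isCharacter_restrict (CfsgLib.Char.irr_isCharacter hχ) H) h0 hβ h₀

/-- The part of a family over an invariant character. -/
theorem fsOn_over {H : Subgroup G} (hKH : K ≤ H) {θ : K → ℂ} (hθ : Cfsg.IsIrrCharacter K θ)
    (hinv : ∀ g : G, conjFn g θ = θ) (h : FSOn (fun _ : Cfsg.IrrCharacter G => True) H) :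
    FSOn (fun χ => Lies (fun k : K => (k : G)) θ (χ : G → ℂ)) H := by
  classical
  obtain ⟨ι, hι, φ, -, hLI, hspan, hpos⟩ := h
  haveI := Fintype.ofFinite H
  let ι' := {i // Lies (fun k : K => (k : G)) θ (φ i : G → ℂ)}
  -- extension by zero
  let ext : (ι' → ℂ) → ι → ℂ := fun c i =>
    if hi : Lies (fun k : K => (k : G)) θ (φ i : G → ℂ) then c ⟨i, hi⟩ else 0
  have hext : ∀ c (g : G), comb φ (ext c) g = comb (fun i : ι' => φ i.1) c g := by
    intro c g
    show ∑ i, _ = ∑ i : ι', _
    rw [← Finset.sum_subset (Finset.filter_subset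
      (fun i => Lies (fun k : K => (k : G)) θ (φ i : G → ℂ)) Finset.univ) (fun i _ hi => by
        rw [show ext c i = 0 from dif_neg fun hh => hi (Finset.mem_filter.2 ⟨Finset.mem_univ _, hh⟩),
          zero_mul]),
      Finset.sum_subtype (p := fun i => Lies (fun k : K => (k : G)) θ (φ i : G → ℂ)) _
        fun x => by simp]
    exact Finset.sum_congr rfl fun i _ => by rw [show ext c i.1 = c i from dif_pos i.2]
  refine ⟨ι', Subtype.fintype _, fun i => φ i.1, fun i => i.2, fun c hc => ?_, fun χ hχ => ?_,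
    fun c hc i => ?_⟩
  · have h0 := hLI (ext c) fun h => (hext c h).trans (hc h)
    exact funext fun i => by
      have := congr_fun h0 i.1
      rwa [show ext c i.1 = c i from dif_pos i.2] at this
  · obtain ⟨c, hc⟩ := hspan χ trivial
    have key : c = ext (fun i => c i.1) := by
      refine sub_eq_zero.1 (hLI (c - ext fun i => c i.1) fun h => ?_)
      have hd : ∀ g : G, comb φ (c - ext fun i => c i.1) g =
          comb φ c g - comb φ (ext fun i => c i.1) g := fun g => by
        show ∑ i, _ = ∑ i, _ - ∑ i, _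
        rw [← Finset.sum_sub_distrib]
        exact Finset.sum_congr rfl fun i _ => by rw [Pi.sub_apply, sub_mul]
      have hzero : (fun h : H => comb φ (c - ext fun i => c i.1) h) = 0 := by
        refine CfsgLib.Char.classFunction_ext (comb_isClassFunction_sub φ _ H) (fun x y => rfl)
          fun β hβ => ?_
        rw [CfsgLib.Char.classInner_zero_left, inner_comb]
        by_cases hb : Lies (Subgroup.inclusion hKH) θ β
        · refine Finset.sum_eq_zero fun i _ => ?_
          by_cases hi : Lies (fun k : K => (k : G)) θ (φ i : G → ℂ)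
          · rw [Pi.sub_apply, show ext (fun i => c i.1) i = c i from dif_pos hi, sub_self, zero_mul]
          · refine mul_eq_zero_of_right _ (by_contra fun hne => hi ?_)
            exact fun h0 => hne (inner_eq_zero_of_below (Subgroup.inclusion hKH) hθ
              (CfsgLib.Char.isCharacter_restrict (CfsgLib.Char.irr_isCharacter (φ i).2) H) h0 hβ hb)
        · obtain ⟨θ₀, hθ₀, hne₀⟩ := exists_irr_constituent
            (CfsgLib.Char.isCharacter_comp (CfsgLib.Char.irr_isCharacter hβ) (Subgroup.inclusion hKH))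
            fun h0 => CfsgLib.Char.irr_apply_one_ne_zero hβ (by simpa using congr_fun h0 1)
          have hz : ∀ ψ : Cfsg.IrrCharacter G, Lies (fun k : K => (k : G)) θ (ψ : G → ℂ) →
              Cfsg.classInner (fun h : H => (ψ : G → ℂ) h) β = 0 := fun ψ hψ => by_contra fun hne =>
            hb (by
              obtain ⟨g, hg⟩ := exists_conj_of_below K hKH ψ.2 hθ hθ₀ hψ hβ hne hne₀
              rw [hinv g] at hg
              exact hg ▸ hne₀)
          have h1 := hz χ hχ
          rw [show (fun h : H => (χ : G → ℂ) h) = fun h : H => comb φ c h from funext hc,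
            inner_comb] at h1
          refine Eq.trans (Finset.sum_congr rfl fun i _ => ?_) h1
          rw [Pi.sub_apply, sub_mul]
          by_cases hi : Lies (fun k : K => (k : G)) θ (φ i : G → ℂ)
          · rw [hz _ hi]; simp
          · rw [show ext (fun i => c i.1) i = 0 from dif_neg hi]; simp
      exact congr_fun hzero h
    exact ⟨fun i => c i.1, fun h => by rw [← hext, ← key]; exact hc h⟩
  · obtain ⟨k, hk⟩ := hpos (ext c) (by
      rw [show (fun h : H => comb φ (ext c) h) = fun h : H => comb (fun i : ι' => φ i.1) c h from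
        funext fun h => hext c h]
      exact hc) i.1
    exact ⟨k, (show ext c i.1 = c i from dif_pos i.2).symm.trans hk⟩

/-- The families over the orbits on `K` together. -/
theorem fsOn_glue {H : Subgroup G} (hKH : K ≤ H)
    (h : ∀ θ : Cfsg.IrrCharacter K,
      FSOn (fun χ => Lies (fun k : K => (k : G)) (θ : K → ℂ) (χ : G → ℂ)) H) :
    FSOn (fun _ : Cfsg.IrrCharacter G => True) H := by
  classical
  haveI := Fintype.ofFinite H
  let s : Setoid (Cfsg.IrrCharacter K) :=
    { r := fun θ θ' => ∃ g : G, conjFn g (θ : K → ℂ) = (θ' : K → ℂ)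
      iseqv :=
        { refl := fun θ => ⟨1, conjFn_one _⟩
          symm := fun {a b} ⟨g, hg⟩ => ⟨g⁻¹, by
            rw [← hg, conjFn_conjFn, mul_inv_cancel, conjFn_one]⟩
          trans := fun {a b c} ⟨g, hg⟩ ⟨g', hg'⟩ => ⟨g * g', by
            rw [← conjFn_conjFn, hg, hg']⟩ } }
  let Θ := Quotient s
  haveI : Finite Θ := Quotient.finite s
  haveI := Fintype.ofFinite Θ
  choose ι hι φ hP hLI hspan hpos using fun o : Θ => h (Quotient.out o)
  let J := Σ o : Θ, ι o
  let ψ : J → Cfsg.IrrCharacter G := fun j => φ j.1 j.2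
  have hsplit : ∀ (c : J → ℂ) (g : G), comb ψ c g =
      ∑ o, comb (φ o) (fun i => c ⟨o, i⟩) g := fun c g => Fintype.sum_sigma _
  -- one component against a constituent on `H`
  have hcomp : ∀ (o : Θ) (c : J → ℂ) (β : H → ℂ), Cfsg.IsIrrCharacter H β →
      Cfsg.classInner (fun h : H => comb (φ o) (fun i => c ⟨o, i⟩) h) β = 0 ∨
        Cfsg.classInner (fun h : H => comb (φ o) (fun i => c ⟨o, i⟩) h) β =
          Cfsg.classInner (fun h : H => comb ψ c h) β := by
    intro o c β hβ
    obtain ⟨θ₀, hθ₀, hne₀⟩ := exists_irr_constituent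
      (CfsgLib.Char.isCharacter_comp (CfsgLib.Char.irr_isCharacter hβ) (Subgroup.inclusion hKH))
      fun h0 => CfsgLib.Char.irr_apply_one_ne_zero hβ (by simpa using congr_fun h0 1)
    have hz : ∀ o' : Θ, Quotient.mk s ⟨θ₀, hθ₀⟩ ≠ o' →
        Cfsg.classInner (fun h : H => comb (φ o') (fun i => c ⟨o', i⟩) h) β = 0 := by
      intro o' hne
      rw [inner_comb]
      refine Finset.sum_eq_zero fun i _ => mul_eq_zero_of_right _ (by_contra fun hn => hne ?_)
      obtain ⟨g, hg⟩ := exists_conj_of_below K hKH (φ o' i).2 (Quotient.out o').2 hθ₀ (hP o' i) hβ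
        hn hne₀
      rw [← Quotient.out_eq o']
      exact (Quotient.sound (s := s) ⟨g, hg⟩).symm
    by_cases ho : Quotient.mk s ⟨θ₀, hθ₀⟩ = o
    · refine Or.inr ?_
      rw [show (fun h : H => comb ψ c h) = fun h : H => ∑ o', (1 : ℂ) *
          comb (φ o') (fun i => c ⟨o', i⟩) h from funext fun h => by
            rw [hsplit]; exact Finset.sum_congr rfl fun o' _ => (one_mul _).symm,
        inner_sum Finset.univ (fun _ => 1) (fun o' (h : H) => comb (φ o') (fun i => c ⟨o', i⟩) h) β,
        Finset.sum_eq_single o]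
      · rw [one_mul]
      · intro o' _ hne
        rw [hz o' fun e => hne (e.symm.trans ho), mul_zero]
      · simp
    · exact Or.inl (hz o ho)
  refine ⟨J, inferInstance, ψ, fun _ => trivial, fun c hc => funext fun j => ?_, fun χ _ => ?_,
    fun c hc j => ?_⟩
  · have : (fun h : H => comb (φ j.1) (fun i => c ⟨j.1, i⟩) h) = 0 := by
      refine CfsgLib.Char.classFunction_ext (comb_isClassFunction_sub (φ j.1) _ H) (fun x y => rfl)
        fun β hβ => ?_
      rw [CfsgLib.Char.classInner_zero_left]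
      rcases hcomp j.1 c β hβ with h0 | h0
      · exact h0
      · rw [h0, show (fun h : H => comb ψ c h) = 0 from funext hc, CfsgLib.Char.classInner_zero_left]
    exact congr_fun (hLI j.1 (fun i => c ⟨j.1, i⟩) fun h => congr_fun this h) j.2
  · obtain ⟨θ, hθ, hne⟩ := exists_irr_constituent_restrict (N := K) χ.2
    let o : Θ := Quotient.mk s ⟨θ, hθ⟩
    obtain ⟨g, hg⟩ := Quotient.exact ((Quotient.out_eq o).symm : _ = Quotient.mk s (Quotient.out o))
    obtain ⟨c, hc⟩ := hspan o χ (hg ▸ lies_conjFn K (CfsgLib.Char.irr_isClassFunction χ.2) g hne)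
    refine ⟨fun j => if hj : j.1 = o then c (hj ▸ j.2) else 0, fun h => ?_⟩
    rw [hc h, hsplit, Finset.sum_eq_single o]
    · simp
    · intro o' _ ho'
      show ∑ i, _ = _
      exact Finset.sum_eq_zero fun i _ => by simp [ho']
    · simp
  · refine hpos j.1 (fun i => c ⟨j.1, i⟩)
      (CfsgLib.Char.isCharacter_of_nat (comb_isClassFunction_sub (φ j.1) _ H) fun β hβ => ?_) j.2
    rcases hcomp j.1 c β hβ with h0 | h0
    · exact ⟨0, by rw [h0, Nat.cast_zero]⟩
    · rw [h0]
      exact CfsgLib.Char.classInner_isCharacter_nat hc (CfsgLib.Char.irr_isCharacter hβ)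

end Below

section Lift

variable [Fintype G] {p : ℕ} [Fact p.Prime]

/-- Two `p`-regular elements congruent modulo a normal `p`-subgroup are conjugate. -/
theorem exists_conj_of_quotient_eq (hs : Cfsg.IsPSolvable p G) (N : Subgroup G) [N.Normal]
    (hN : IsPGroup p N) {a b : G} (ha : ¬ p ∣ orderOf a) (hb : ¬ p ∣ orderOf b)
    (hab : QuotientGroup.mk' N a = QuotientGroup.mk' N b) : ∃ g : G, g * a * g⁻¹ = b := by
  have hdisj : ∀ x y : G, ¬ p ∣ orderOf x → y ∈ Subgroup.zpowers x → y ∈ N → y = 1 := by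
    intro x y hx hy hyN
    obtain ⟨k, hk⟩ := IsPGroup.iff_orderOf.1 hN ⟨y, hyN⟩
    rw [Subgroup.orderOf_mk] at hk
    have h1 : orderOf y ∣ orderOf x := orderOf_dvd_of_mem_zpowers hy
    rw [← orderOf_eq_one_iff, hk]
    rcases Nat.eq_zero_or_pos k with rfl | h0
    · exact pow_zero p
    · exact absurd ((dvd_pow_self p h0.ne').trans (hk ▸ h1)) hx
  set U := (Subgroup.zpowers (QuotientGroup.mk' N b)).comap (QuotientGroup.mk' N) with hU
  have haU : a ∈ U := by show QuotientGroup.mk' N a ∈ Subgroup.zpowers (QuotientGroup.mk' N b); rw [hab]; exact Subgroup.mem_zpowers _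
  have hbU : b ∈ U := Subgroup.mem_zpowers _
  have hcompl : ∀ x : G, ∀ hxU : x ∈ U, ¬ p ∣ orderOf x →
      QuotientGroup.mk' N x = QuotientGroup.mk' N b →
      Coprime.IsPCompl p (Subgroup.zpowers (⟨x, hxU⟩ : U)) := by
    intro x hxU hx hxb
    refine ⟨by
      rw [Nat.card_zpowers, Subgroup.orderOf_mk]
      exact Nat.coprime_comm.1 ((Fact.out : p.Prime).coprime_iff_not_dvd.2 hx), ?_⟩
    have hcard : Nat.card U = Nat.card N * orderOf x := by
      rw [hU, CfsgLib.Solvable.card_comap_mk', Nat.card_zpowers, mul_comm]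
      congr 1
      rw [← hxb]
      refine Nat.dvd_antisymm (orderOf_map_dvd _ x) (orderOf_dvd_of_pow_eq_one ?_)
      refine hdisj x _ hx (Subgroup.npow_mem_zpowers x _) ?_
      rw [← QuotientGroup.eq_one_iff]
      show QuotientGroup.mk' N (x ^ orderOf (QuotientGroup.mk' N x)) = 1
      rw [map_pow, pow_orderOf_eq_one]
    obtain ⟨n, hn⟩ := IsPGroup.iff_card.1 hN
    refine ⟨n, Nat.eq_of_mul_eq_mul_right (Nat.card_pos (α := Subgroup.zpowers (⟨x, hxU⟩ : U))) ?_⟩
    rw [Subgroup.index_mul_card, hcard, Nat.card_zpowers, Subgroup.orderOf_mk, hn]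
  obtain ⟨g, hg⟩ := Coprime.exists_conj_pCompl (CfsgLib.PLength.isPSolvable_subgroup hs U)
    (hcompl b hbU hb rfl) (hcompl a haU ha hab)
  obtain ⟨j, hj⟩ := (hg ▸ Subgroup.mem_zpowers (⟨a, haU⟩ : U) :
    (⟨a, haU⟩ : U) ∈ (Subgroup.zpowers (⟨b, hbU⟩ : U)).map (MulAut.conj g).toMonoidHom)
  obtain ⟨hj, he⟩ := hj
  obtain ⟨m, rfl⟩ := Subgroup.mem_zpowers_iff.1 hj
  have he' : (g : G) * b ^ m * (g : G)⁻¹ = a := by simpa using congrArg Subtype.val he
  refine ⟨(g : G)⁻¹, ?_⟩
  obtain ⟨i, hi⟩ := Subgroup.mem_zpowers_iff.1 (show QuotientGroup.mk' N (g : G) ∈ Subgroup.zpowers (QuotientGroup.mk' N b) from g.2)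
  have h1 : QuotientGroup.mk' N (b ^ m) = QuotientGroup.mk' N b := by
    have := congrArg (QuotientGroup.mk' N) he'
    rw [map_mul, map_mul, map_inv, ← hi, hab, map_zpow] at this
    rw [map_zpow]
    conv_rhs => rw [← this]
    group
  have h2 : b ^ m * b⁻¹ = 1 := hdisj b _ hb
    (Subgroup.mul_mem _ (Subgroup.zpow_mem_zpowers b m) (Subgroup.inv_mem _ (Subgroup.mem_zpowers b)))
    (by
      rw [← QuotientGroup.eq_one_iff]
      show QuotientGroup.mk' N (b ^ m * b⁻¹) = 1
      rw [map_mul, h1, map_inv, mul_inv_cancel])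
  rw [mul_inv_eq_one.1 h2] at he'
  rw [← he']
  group

/-- Lifting through a normal `p`-subgroup. -/
theorem fsOn_lift (hs : Cfsg.IsPSolvable p G) (N : Subgroup G) [N.Normal] (hN : IsPGroup p N)
    {H : Subgroup G} (hH : Coprime.IsPCompl p H)
    (h : FSOn (fun _ : Cfsg.IrrCharacter (G ⧸ N) => True) (H.map (QuotientGroup.mk' N))) :
    FSOn (fun _ : Cfsg.IrrCharacter G => True) H := by
  classical
  obtain ⟨ι, hι, γ, -, hLI, hspan, hpos⟩ := h
  haveI := Fintype.ofFinite (G ⧸ N)
  haveI := Fintype.ofFinite (Cfsg.IrrCharacter (G ⧸ N))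
  set π := QuotientGroup.mk' N with hπ
  have hπs : Function.Surjective π := QuotientGroup.mk'_surjective N
  let φ : ι → Cfsg.IrrCharacter G := fun i => ⟨(γ i : G ⧸ N → ℂ) ∘ π,
    CfsgLib.Char.isIrrCharacter_comp_surjective (γ i).2 π hπs⟩
  have hreg : ∀ x ∈ H, ¬ p ∣ orderOf x := fun x hx hd =>
    (Fact.out : p.Prime).not_dvd_one
      ((Nat.dvd_gcd (hd.trans (Subgroup.orderOf_dvd_natCard H hx)) dvd_rfl).trans
        (hH.1 ▸ dvd_rfl))
  have hinj : Function.Injective (π.subgroupMap H) := by
    refine (injective_iff_map_eq_one _).2 fun x hx => Subtype.ext ?_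
    obtain ⟨g, hg⟩ := exists_conj_of_quotient_eq hs N hN (hreg x x.2)
      (b := 1) (by rw [orderOf_one]; exact (Fact.out : p.Prime).not_dvd_one)
      (by rw [map_one]; exact congrArg Subtype.val hx)
    simpa using hg
  let e : H ≃* H.map π := MulEquiv.ofBijective (π.subgroupMap H)
    ⟨hinj, π.subgroupMap_surjective H⟩
  refine ⟨ι, hι, φ, fun _ => trivial, fun c hc => hLI c fun y => ?_, fun χ _ => ?_,
    fun c hc => hpos c ?_⟩
  · obtain ⟨x, rfl⟩ := e.surjective y
    exact hc x
  · let f : G ⧸ N → ℂ := fun w =>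
      if hw : ∃ x : H, ∃ t, t * π x * t⁻¹ = w then (χ : G → ℂ) hw.choose else 0
    have hval : ∀ (x : H) (t w : G ⧸ N), t * π x * t⁻¹ = w → f w = (χ : G → ℂ) x := by
      intro x t w hw
      have hex : ∃ x : H, ∃ t, t * π x * t⁻¹ = w := ⟨x, t, hw⟩
      show (if hw : ∃ x : H, ∃ t, t * π x * t⁻¹ = w then (χ : G → ℂ) hw.choose else 0) = _
      rw [dif_pos hex]
      obtain ⟨t', ht'⟩ := hex.choose_spec
      obtain ⟨u, hu⟩ := hπs (t'⁻¹ * t)
      obtain ⟨g, hg⟩ := exists_conj_of_quotient_eq hs N hN (a := u * (x : G) * u⁻¹)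
        (b := (hex.choose : G)) (by
          rw [show u * (x : G) * u⁻¹ = MulAut.conj u (x : G) from rfl,
            MulEquiv.orderOf_eq]; exact hreg x x.2)
        (hreg _ hex.choose.2) (by
          show π (u * x * u⁻¹) = π hex.choose
          rw [map_mul, map_mul, map_inv, hu]
          calc t'⁻¹ * t * π x * (t'⁻¹ * t)⁻¹ = t'⁻¹ * (t * π x * t⁻¹) * t' := by group
            _ = t'⁻¹ * (t' * π hex.choose * t'⁻¹) * t' := by rw [hw, ht']
            _ = π hex.choose := by group)
      rw [← hg, CfsgLib.Char.irr_isClassFunction χ.2, CfsgLib.Char.irr_isClassFunction χ.2]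
    have hfcl : Cfsg.IsClassFunction (G ⧸ N) f := by
      intro w s
      by_cases hw : ∃ x : H, ∃ t, t * π x * t⁻¹ = w
      · obtain ⟨x, t, hxt⟩ := hw
        rw [hval x t w hxt, hval x (s * t) (s * w * s⁻¹) (by rw [← hxt]; group)]
      · show (if hw : _ then _ else _) = (if hw : _ then _ else _)
        rw [dif_neg hw, dif_neg]
        rintro ⟨x, t, hxt⟩
        exact hw ⟨x, s⁻¹ * t, by
          rw [show w = s⁻¹ * (s * w * s⁻¹) * s by group, ← hxt]; group⟩
    choose a ha using fun γ' : Cfsg.IrrCharacter (G ⧸ N) => hspan γ' trivial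
    refine ⟨fun i => ∑ γ' : Cfsg.IrrCharacter (G ⧸ N), Cfsg.classInner f (γ' : G ⧸ N → ℂ) * a γ' i, fun x => ?_⟩
    rw [← hval x 1 (π x) (by group), CfsgLib.Char.classFunction_apply_eq_sum hfcl (π x)]
    show _ = ∑ i, _
    simp only [Finset.sum_mul]
    rw [Finset.sum_comm]
    refine Finset.sum_congr rfl fun γ' _ => ?_
    rw [ha γ' ⟨π x, x, x.2, rfl⟩]
    show _ * ∑ i, _ = _
    rw [Finset.mul_sum]
    exact Finset.sum_congr rfl fun i _ => (mul_assoc _ _ _).symm
  · have := CfsgLib.Char.isCharacter_comp hc e.symm.toMonoidHom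
    rw [show (fun x : H => comb φ c x) ∘ e.symm.toMonoidHom = fun y : H.map π => comb γ c y from
      funext fun y => by
        obtain ⟨x, rfl⟩ := e.surjective y
        rw [Function.comp_apply, MulEquiv.coe_toMonoidHom, e.symm_apply_apply]
        rfl] at this
    exact this

end Lift

end CfsgLib.BlockB.FongSwan
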