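import Cfsg.Agent.Lib.BlockB.FongSwanBasic

/-!
The Clifford step for Fong–Swan families: inducing from an inertia group.
-/

set_option autoImplicit false
set_option linter.unusedSectionVars false
set_option linter.style.haveILetI false

namespace CfsgLib.BlockB.FongSwan

open CfsgLib.Clifford

universe u

open scoped Classical in
/-- A family over `θ` in the inertia group induces one in the group. -/
theorem fsOn_induce {G : Type u} [Group G] [Fintype G] {p : ℕ} [Fact p.Prime]
    (K : Subgroup G) [K.Normal] [Fintype K] {θ : K → ℂ} (hθ : Cfsg.IsIrrCharacter K θ)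
    (T : Subgroup G) [Fintype T] (hsT : Cfsg.IsPSolvable p T) (hKT : K ≤ T)
    [Fintype (K.subgroupOf T)] (hT : ∀ g, g ∈ T ↔ conjFn g θ = θ)
    {HT : Subgroup T} (hHT : Coprime.IsPCompl p HT) (hKH : K.subgroupOf T ≤ HT)
    {H : Subgroup G} (hle : HT.map T.subtype ≤ H) (hreg : ∀ x ∈ H, ¬ p ∣ orderOf x)
    (h : FSOn (fun ψ : Cfsg.IrrCharacter T => Lies (fun k : K.subgroupOf T => (k : T))
      (θ ∘ Subgroup.subgroupOfEquivOfLe hKT) (ψ : T → ℂ)) HT) :
    FSOn (fun χ : Cfsg.IrrCharacter G => Lies (fun k : K => (k : G)) θ (χ : G → ℂ)) H := by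
  obtain ⟨ι, hι, ψ, hP, hLI, hspan, hpos⟩ := h
  haveI := Fintype.ofFinite HT
  haveI := Fintype.ofFinite H
  set e := Subgroup.subgroupOfEquivOfLe hKT with he
  set θT : K.subgroupOf T → ℂ := θ ∘ e with hθTdef
  have hθT : Cfsg.IsIrrCharacter (K.subgroupOf T) θT :=
    CfsgLib.Char.isIrrCharacter_comp_surjective hθ e.toMonoidHom e.surjective
  have hinv : ∀ x : T, conjFn x θT = θT := fun x => funext fun m => by
    show θ (e (conjN x m)) = θ (e m)
    have h2 := congr_fun ((hT (x : G)).1 x.2) (e m)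
    rw [conjFn_apply] at h2
    rw [← h2]
    exact congrArg θ (Subtype.ext rfl)
  have hconv : ∀ f : T → ℂ, Cfsg.classInner (fun k : K.subgroupOf T => f k) θT =
      Cfsg.classInner (fun n : K => f ⟨(n : G), hKT n.2⟩) θ := fun f => by
    rw [← OverTheta.classInner_comp_surjective e.toMonoidHom e.surjective
      (fun n : K => f ⟨(n : G), hKT n.2⟩) θ]
    rfl
  have hψθ : ∀ i, Cfsg.classInner (fun n : K => (ψ i : T → ℂ) ⟨(n : G), hKT n.2⟩) θ ≠ 0 :=
    fun i => hconv (ψ i : T → ℂ) ▸ hP i
  let φ : ι → Cfsg.IrrCharacter G := fun i =>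
    ⟨Cfsg.indFun T (ψ i : T → ℂ), (indFun_inertia T hKT hθ hT (ψ i).2 (hψθ i)).1⟩
  have hφθ : ∀ i, Lies (fun k : K => (k : G)) θ (φ i : G → ℂ) := fun i => by
    show Cfsg.classInner (fun k : K => Cfsg.indFun T (ψ i : T → ℂ) k) θ ≠ 0
    rw [indFun_inertia_restrict T hKT hθ hT (ψ i).2 (hψθ i)]
    exact hψθ i
  -- restricted to the inertia group, the part over `θ` is the original character
  have hkey : ∀ (i : ι) (β : HT → ℂ), Cfsg.IsIrrCharacter HT β →
      Lies (Subgroup.inclusion hKH) θT β →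
      Cfsg.classInner (fun y : HT => (φ i : G → ℂ) ((y : T) : G)) β =
        Cfsg.classInner (fun y : HT => (ψ i : T → ℂ) y) β := by
    intro i β hβ hb
    have hc := CfsgLib.Char.isCharacter_restrict (CfsgLib.Char.irr_isCharacter (φ i).2) T
    have hm : Cfsg.classInner (fun t : T => (φ i : G → ℂ) t) (ψ i : T → ℂ) ≠ 0 := by
      rw [← CfsgLib.Char.classInner_conj_symm]
      intro h0
      have h1 := congrArg (starRingEnd ℂ) h0
      rw [map_zero, Complex.conj_conj, ← CfsgLib.Char.frobenius_reciprocity T _ _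
        (CfsgLib.Char.irr_isClassFunction (φ i).2)] at h1
      exact one_ne_zero ((CfsgLib.Char.irr_classInner_self (φ i).2).symm.trans h1)
    obtain ⟨R, hR, hRe⟩ := exists_add_of_constituent hc (ψ i).2 hm
    have hR0 : Cfsg.classInner (R ∘ (K.subgroupOf T).subtype) θT = 0 := by
      have h1 : Cfsg.classInner (fun k : K.subgroupOf T => (φ i : G → ℂ) ((k : T) : G)) θT =
          Cfsg.classInner (fun k : K.subgroupOf T => (ψ i : T → ℂ) k) θT := by
        rw [hconv (fun t : T => (φ i : G → ℂ) t), hconv]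
        exact indFun_inertia_restrict T hKT hθ hT (ψ i).2 (hψθ i)
      rw [show (fun k : K.subgroupOf T => (φ i : G → ℂ) ((k : T) : G)) =
        (fun k : K.subgroupOf T => (ψ i : T → ℂ) k) + R ∘ (K.subgroupOf T).subtype from
          funext fun k => congr_fun hRe (k : T), CfsgLib.Char.classInner_add_left] at h1
      exact add_eq_left.1 h1
    have hR1 : Cfsg.classInner (fun y : HT => R y) β = 0 :=
      inner_eq_zero_of_below (Subgroup.inclusion hKH) hθT
        (CfsgLib.Char.isCharacter_restrict hR HT) hR0 hβ hb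
    rw [show (fun y : HT => (φ i : G → ℂ) ((y : T) : G)) =
      (fun y : HT => (ψ i : T → ℂ) y) + fun y : HT => R y from
        funext fun y => congr_fun hRe (y : T), CfsgLib.Char.classInner_add_left, hR1, add_zero]
  have hzero : ∀ (i : ι) (β : HT → ℂ), Cfsg.IsIrrCharacter HT β →
      ¬ Lies (Subgroup.inclusion hKH) θT β →
      Cfsg.classInner (fun y : HT => (ψ i : T → ℂ) y) β = 0 := by
    intro i β hβ hb
    obtain ⟨θ₀, hθ₀, hne₀⟩ := exists_irr_constituent
      (CfsgLib.Char.isCharacter_comp (CfsgLib.Char.irr_isCharacter hβ) (Subgroup.inclusion hKH))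
      fun h0 => CfsgLib.Char.irr_apply_one_ne_zero hβ (by simpa using congr_fun h0 1)
    by_contra hne
    obtain ⟨g, hg⟩ := exists_conj_of_below (K.subgroupOf T) hKH (ψ i).2 hθT hθ₀ (hP i) hβ hne hne₀
    rw [hinv g] at hg
    exact hb (hg ▸ hne₀)
  have hin : ∀ (c : ι → ℂ) (β : HT → ℂ), Cfsg.IsIrrCharacter HT β →
      Cfsg.classInner (fun y : HT => comb ψ c y) β =
        if Lies (Subgroup.inclusion hKH) θT β then
          Cfsg.classInner (fun y : HT => comb φ c ((y : T) : G)) β else 0 := by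
    intro c β hβ
    rw [inner_comb]
    split_ifs with hb
    · rw [show (fun y : HT => comb φ c ((y : T) : G)) =
        fun y : HT => ∑ i, c i * (φ i : G → ℂ) ((y : T) : G) from rfl,
        inner_sum Finset.univ c (fun i (y : HT) => (φ i : G → ℂ) ((y : T) : G)) β]
      exact Finset.sum_congr rfl fun i _ => by rw [hkey i β hβ hb]
    · exact Finset.sum_eq_zero fun i _ => by rw [hzero i β hβ hb, mul_zero]
  let j : HT →* H :=
    { toFun := fun y => ⟨((y : T) : G), hle ⟨y, y.2, rfl⟩⟩
      map_one' := rfl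
      map_mul' := fun _ _ => rfl }
  refine ⟨ι, hι, φ, hφθ, fun c hc => hLI c fun y => ?_, fun χ hχ => ?_, fun c hc => hpos c ?_⟩
  · have : (fun y : HT => comb ψ c y) = 0 := by
      refine CfsgLib.Char.classFunction_ext (comb_isClassFunction_sub ψ c HT) (fun x y => rfl)
        fun β hβ => ?_
      rw [CfsgLib.Char.classInner_zero_left, hin c β hβ]
      split_ifs
      · rw [show (fun y : HT => comb φ c ((y : T) : G)) = 0 from funext fun y => hc (j y),
          CfsgLib.Char.classInner_zero_left]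
      · rfl
    exact congr_fun this y
  · obtain ⟨ψ₀, hψ₀, hind, hmul⟩ := exists_indFun_inertia T hKT hθ hT χ.2 hχ
    obtain ⟨c, hc⟩ := hspan ⟨ψ₀, hψ₀⟩ (by
      show Cfsg.classInner (fun k : K.subgroupOf T => ψ₀ k) θT ≠ 0
      rw [hconv, hmul]
      exact hχ)
    refine ⟨c, fun x => ?_⟩
    have hd : ∀ t : T, ¬ p ∣ orderOf t → ψ₀ t = comb ψ c t := by
      intro t ht
      rw [← sub_eq_zero]
      exact eq_zero_of_compl hsT hHT (f := fun t => ψ₀ t - comb ψ c t)
        (fun a b => by
          show ψ₀ _ - comb ψ c _ = ψ₀ a - comb ψ c a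
          rw [CfsgLib.Char.irr_isClassFunction hψ₀ a b, comb_isClassFunction ψ c a b])
        (fun y => sub_eq_zero.2 (hc y)) ht
    rw [← hind]
    show Cfsg.indFun T ψ₀ (x : G) = ∑ i, c i * Cfsg.indFun T (ψ i : T → ℂ) (x : G)
    simp only [CfsgLib.Char.indFun_def, mul_left_comm (c _), ← Finset.mul_sum]
    congr 1
    simp only [Finset.mul_sum]
    rw [Finset.sum_comm]
    refine Finset.sum_congr rfl fun z _ => ?_
    by_cases hz : z⁻¹ * (x : G) * z ∈ T
    · simp only [CfsgLib.Char.extendByZero_of_mem _ hz]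
      refine hd ⟨_, hz⟩ ?_
      rw [Subgroup.orderOf_mk, show z⁻¹ * (x : G) * z = MulAut.conj z⁻¹ (x : G) by
        simp [MulAut.conj_apply], MulEquiv.orderOf_eq]
      exact hreg x x.2
    · simp [CfsgLib.Char.extendByZero_of_not_mem, hz]
  · refine CfsgLib.Char.isCharacter_of_nat (comb_isClassFunction_sub ψ c HT) fun β hβ => ?_
    rw [hin c β hβ]
    split_ifs
    · exact CfsgLib.Char.classInner_isCharacter_nat (CfsgLib.Char.isCharacter_comp hc j)
        (CfsgLib.Char.irr_isCharacter hβ)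
    · exact ⟨0, Nat.cast_zero.symm⟩

end CfsgLib.BlockB.FongSwan
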