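import Mathlib.RepresentationTheory.Basic
import Mathlib.LinearAlgebra.BilinearForm.Properties
import Mathlib.LinearAlgebra.Matrix.BilinearForm
import Mathlib.LinearAlgebra.Dual.Lemmas
import Mathlib.RingTheory.Artinian.Module
import Mathlib.Algebra.CharP.Two
import Mathlib.Tactic.Abel
import Mathlib.Tactic.LinearCombination

/-!
A coprime self-dual module splits as (nondegenerate alternating) ⊕ (nondegenerate symmetric).
-/

set_option autoImplicit false
set_option linter.unusedSectionVars false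

namespace CfsgLib.BlockB.FormSplit

universe u v w

variable {F : Type u} [Field F] {G : Type v} [Group G] [Fintype G] {V : Type w} [AddCommGroup V]
  [Module F V] [FiniteDimensional F V] (ρ : Representation F G V)

/-- An invariant subspace. -/
def Inv (S : Submodule F V) : Prop := ∀ g, ∀ x ∈ S, ρ g x ∈ S

theorem inv_sup {S T : Submodule F V} (hS : Inv ρ S) (hT : Inv ρ T) : Inv ρ (S ⊔ T) :=
  fun g x hx => by
    obtain ⟨a, ha, b, hb, rfl⟩ := Submodule.mem_sup.1 hx
    rw [map_add]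
    exact Submodule.add_mem_sup (hS g a ha) (hT g b hb)

theorem inv_inf {S T : Submodule F V} (hS : Inv ρ S) (hT : Inv ρ T) : Inv ρ (S ⊓ T) :=
  fun g x hx => ⟨hS g x hx.1, hT g x hx.2⟩

/-- An equivariant projection onto an invariant subspace. -/
theorem exists_proj (hG : (Fintype.card G : F) ≠ 0) {S : Submodule F V} (hS : Inv ρ S) :
    ∃ π : V →ₗ[F] V, (∀ x, π x ∈ S) ∧ (∀ x ∈ S, π x = x) ∧ ∀ g x, π (ρ g x) = ρ g (π x) := by
  obtain ⟨T, hT⟩ := S.exists_isCompl
  let q : V →ₗ[F] V := S.subtype.comp (S.linearProjOfIsCompl T hT)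
  refine ⟨(Fintype.card G : F)⁻¹ • ∑ d : G, ρ d ∘ₗ q ∘ₗ ρ d⁻¹, fun x => ?_, fun x hx => ?_,
    fun g x => ?_⟩
  · rw [LinearMap.smul_apply, LinearMap.sum_apply]
    exact S.smul_mem _ (S.sum_mem fun d _ => hS d _ (Submodule.coe_mem _))
  · rw [LinearMap.smul_apply, LinearMap.sum_apply,
      Finset.sum_congr rfl fun d _ => show (ρ d ∘ₗ q ∘ₗ ρ d⁻¹) x = x from ?_]
    · rw [Finset.sum_const, Finset.card_univ, ← Nat.cast_smul_eq_nsmul F, smul_smul,
        inv_mul_cancel₀ hG, one_smul]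
    · simp only [LinearMap.comp_apply, q, Submodule.subtype_apply]
      rw [show S.linearProjOfIsCompl T hT (ρ d⁻¹ x) = ⟨ρ d⁻¹ x, hS d⁻¹ x hx⟩ from
        Submodule.projectionOnto_apply_left hT ⟨ρ d⁻¹ x, hS d⁻¹ x hx⟩]
      simp
  · simp only [LinearMap.smul_apply, LinearMap.sum_apply, map_smul, map_sum]
    refine congrArg ((Fintype.card G : F)⁻¹ • ·) ?_
    refine (Fintype.sum_equiv (Equiv.mulLeft g) _ _ fun d => ?_).symm
    simp [mul_inv_rev]

variable (B : LinearMap.BilinForm F V) (hB : ∀ g x y, B (ρ g x) (ρ g y) = B x y)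

include hB in
theorem left_apply (g : G) (x y : V) : B (ρ g x) y = B x (ρ g⁻¹ y) := by
  conv_lhs => rw [show y = ρ g (ρ g⁻¹ y) by simp, hB]

include hB in
theorem right_apply (g : G) (x y : V) : B x (ρ g y) = B (ρ g⁻¹ x) y := by
  conv_lhs => rw [show x = ρ g (ρ g⁻¹ x) by simp, hB]

/-- The left orthogonal of `T` inside `S`. -/
def perp (S T : Submodule F V) : Submodule F V where
  carrier := {x | x ∈ S ∧ ∀ t ∈ T, B x t = 0}
  zero_mem' := ⟨S.zero_mem, fun t _ => by simp⟩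
  add_mem' := fun ha hb => ⟨S.add_mem ha.1 hb.1, fun t ht => by simp [ha.2 t ht, hb.2 t ht]⟩
  smul_mem' := fun a x hx => ⟨S.smul_mem a hx.1, fun t ht => by simp [hx.2 t ht]⟩

include hB in
theorem inv_perp {S T : Submodule F V} (hS : Inv ρ S) (hT : Inv ρ T) : Inv ρ (perp B S T) :=
  fun g x hx => ⟨hS g x hx.1, fun t ht => by
    rw [left_apply ρ B hB]; exact hx.2 _ (hT g⁻¹ t ht)⟩

/-- A pairing that is nondegenerate on both sides represents every functional. -/
theorem exists_repr (L M : Submodule F V) (hl : ∀ l ∈ L, (∀ m ∈ M, B l m = 0) → l = 0)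
    (hr : ∀ m ∈ M, (∀ l ∈ L, B l m = 0) → m = 0) (f : Module.Dual F L) :
    ∃ m ∈ M, ∀ l : L, B l m = f l := by
  let α : M →ₗ[F] Module.Dual F L := B.flip.compl₁₂ M.subtype L.subtype
  let β : L →ₗ[F] Module.Dual F M := B.compl₁₂ L.subtype M.subtype
  have hα : Function.Injective α := (injective_iff_map_eq_zero _).2 fun m hm =>
    Subtype.ext (hr m m.2 fun l hl' => LinearMap.congr_fun hm ⟨l, hl'⟩)
  have hβ : Function.Injective β := (injective_iff_map_eq_zero _).2 fun l hl' =>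
    Subtype.ext (hl l l.2 fun m hm => LinearMap.congr_fun hl' ⟨m, hm⟩)
  have h1 := LinearMap.finrank_le_finrank_of_injective hα
  have h2 := LinearMap.finrank_le_finrank_of_injective hβ
  rw [Subspace.dual_finrank_eq] at h1 h2
  have hd : Module.finrank F M = Module.finrank F (Module.Dual F L) := by
    rw [Subspace.dual_finrank_eq]; exact le_antisymm h1 h2
  obtain ⟨m, hm⟩ := (LinearMap.injective_iff_surjective_of_finrank_eq_finrank hd).1 hα f
  exact ⟨m, m.2, fun l => LinearMap.congr_fun hm l⟩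

/-- The output of the splitting. -/
def Split (S : Submodule F V) : Prop :=
  ∃ (U W : Submodule F V) (A : LinearMap.BilinForm F V),
    U ⊔ W = S ∧ Disjoint U W ∧ Inv ρ U ∧ Inv ρ W ∧ (∀ x, A x x = 0) ∧
    (∀ g, ∀ x ∈ U, ∀ y ∈ U, A (ρ g x) (ρ g y) = A x y) ∧
    (∀ x ∈ U, (∀ y ∈ U, A x y = 0) → x = 0) ∧
    (∀ x ∈ W, ∀ y ∈ W, B x y = B y x) ∧ (∀ x ∈ W, (∀ y ∈ W, B x y = 0) → x = 0)

include hB in
theorem split (hG : (Fintype.card G : F) ≠ 0) : ∀ S : Submodule F V, Inv ρ S →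
    (∀ x ∈ S, (∀ y ∈ S, B x y = 0) → x = 0) → Split ρ B S := by
  intro S
  induction S using WellFoundedLT.induction with
  | ind S ih =>
  intro hS hnd
  let a : LinearMap.BilinForm F V := B - B.flip
  have ha : ∀ x y, a x y = B x y - B y x := fun x y => rfl
  let K : Submodule F V :=
    { carrier := {x | x ∈ S ∧ ∀ y ∈ S, B x y = B y x}
      zero_mem' := ⟨S.zero_mem, fun y _ => by simp⟩
      add_mem' := fun hx hy => ⟨S.add_mem hx.1 hy.1, fun z hz => by
        simp [hx.2 z hz, hy.2 z hz]⟩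
      smul_mem' := fun c x hx => ⟨S.smul_mem c hx.1, fun y hy => by simp [hx.2 y hy]⟩ }
  have hK : Inv ρ K := fun g x hx => ⟨hS g x hx.1, fun y hy => by
    rw [left_apply ρ B hB, hx.2 _ (hS g⁻¹ y hy), right_apply ρ B hB]⟩
  let I := perp B K K
  have hI : Inv ρ I := inv_perp ρ B hB hK hK
  have hKS : K ≤ S := fun x hx => hx.1
  by_cases hI0 : I = ⊥
  · -- `B` is nondegenerate on the radical of `B - Bᵗ`
    have hndK : ∀ x ∈ K, (∀ y ∈ K, B x y = 0) → x = 0 := fun x hx h =>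
      (Submodule.mem_bot _).1 (hI0.le ⟨hx, h⟩)
    refine ⟨perp B S K, K, a, le_antisymm (sup_le (fun x hx => hx.1) hKS) fun x hx => ?_, ?_,
      inv_perp ρ B hB hS hK, hK, fun x => by rw [ha, sub_self],
      fun g x _ y _ => by rw [ha, ha, hB, hB], fun x hx h => ?_,
      fun x hx y hy => hx.2 y (hKS hy), hndK⟩
    · have hr : ∀ m ∈ K, (∀ l ∈ K, B l m = 0) → m = 0 := fun m hm h =>
        hndK m hm fun y hy => by rw [hm.2 y (hKS hy)]; exact h y hy
      obtain ⟨k, hk, hkx⟩ := exists_repr B K K hndK hr ((B x).comp K.subtype)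
      rw [show x = (x - k) + k by rw [sub_add_cancel]]
      refine Submodule.add_mem_sup ⟨S.sub_mem hx (hKS hk), fun t ht => ?_⟩ hk
      rw [map_sub, LinearMap.sub_apply, hk.2 t (hKS ht), hkx ⟨t, ht⟩]
      exact sub_self _
    · rw [Submodule.disjoint_def]
      exact fun x hx hxK => hndK x hxK hx.2
    · refine (Submodule.mem_bot _).1 (hI0.le ⟨?_, fun y hy => hx.2 y hy⟩)
      refine ⟨hx.1, fun y hy => ?_⟩
      -- decompose `y` along `perp ⊕ K`
      have hr : ∀ m ∈ K, (∀ l ∈ K, B l m = 0) → m = 0 := fun m hm h' =>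
        hndK m hm fun z hz => by rw [hm.2 z (hKS hz)]; exact h' z hz
      obtain ⟨k, hk, hky⟩ := exists_repr B K K hndK hr ((B y).comp K.subtype)
      have hyk : y - k ∈ perp B S K := ⟨S.sub_mem hy (hKS hk), fun t ht => by
        rw [map_sub, LinearMap.sub_apply, hk.2 t (hKS ht), hky ⟨t, ht⟩]
        exact sub_self _⟩
      have h1 := h _ hyk
      rw [ha, map_sub, map_sub, LinearMap.sub_apply, hk.2 x hx.1] at h1
      linear_combination h1
  · -- a hyperbolic piece
    have hIK : I ≤ K := fun x hx => hx.1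
    have hIS : I ≤ S := hIK.trans hKS
    let J := perp B S I
    have hJ : Inv ρ J := inv_perp ρ B hB hS hI
    have hJS : J ≤ S := fun x hx => hx.1
    have hIJ : I ≤ J := fun x hx => ⟨hIS hx, fun t ht => hx.2 t (hIK ht)⟩
    obtain ⟨π₁, hπ₁J, hπ₁id, hπ₁eq⟩ := exists_proj ρ hG hJ
    obtain ⟨π₂, hπ₂I, hπ₂id, hπ₂eq⟩ := exists_proj ρ hG hI
    let L : Submodule F V := S ⊓ LinearMap.ker π₁
    let R : Submodule F V := J ⊓ LinearMap.ker π₂
    have hker : ∀ (π : V →ₗ[F] V), (∀ g x, π (ρ g x) = ρ g (π x)) → Inv ρ (LinearMap.ker π) :=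
      fun π h g x hx => by
      show π (ρ g x) = 0
      rw [h, show π x = 0 from hx, map_zero]
    have hL : Inv ρ L := inv_inf ρ hS (hker π₁ hπ₁eq)
    have hR : Inv ρ R := inv_inf ρ hJ (hker π₂ hπ₂eq)
    have hdecJ : ∀ x ∈ S, x - π₁ x ∈ L := fun x hx => ⟨S.sub_mem hx (hJS (hπ₁J x)), by
      show π₁ (x - π₁ x) = 0
      rw [map_sub, hπ₁id _ (hπ₁J x), sub_self]⟩
    have hdecI : ∀ x ∈ J, x - π₂ x ∈ R := fun x hx => ⟨J.sub_mem hx (hIJ (hπ₂I x)), by
      show π₂ (x - π₂ x) = 0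
      rw [map_sub, hπ₂id _ (hπ₂I x), sub_self]⟩
    have hLJ : ∀ x ∈ L, x ∈ J → x = 0 := fun x hx hxJ => by
      rw [← hπ₁id x hxJ]; exact hx.2
    have hleft : ∀ l ∈ L, (∀ i ∈ I, B l i = 0) → l = 0 := fun l hl h => hLJ l hl ⟨hl.1, h⟩
    have hright : ∀ i ∈ I, (∀ l ∈ L, B l i = 0) → i = 0 := fun i hi h =>
      hnd i (hIS hi) fun y hy => by
        rw [(hIK hi).2 y hy, show y = (y - π₁ y) + π₁ y by rw [sub_add_cancel], map_add,
          LinearMap.add_apply, h _ (hdecJ y hy), zero_add]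
        exact (hπ₁J y).2 i hi
    have hndR : ∀ x ∈ R, (∀ y ∈ R, B x y = 0) → x = 0 := by
      intro x hx h
      obtain ⟨i, hi, hix⟩ := exists_repr B L I hleft hright
        ((B x).comp L.subtype)
      have hxi : x - i = 0 := hnd _ (S.sub_mem (hJS hx.1) (hIS hi)) fun y hy => by
        have e1 : B x (π₁ y) = 0 := by
          rw [show π₁ y = (π₁ y - π₂ (π₁ y)) + π₂ (π₁ y) by rw [sub_add_cancel], map_add (B x),
            h _ (hdecI _ (hπ₁J y)), hx.1.2 _ (hπ₂I _), add_zero]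
        have e2 : B (y - π₁ y) i = B x (y - π₁ y) := hix ⟨_, hdecJ y hy⟩
        have e3 : B (π₁ y) i = 0 := (hπ₁J y).2 i hi
        rw [map_sub, LinearMap.sub_apply, (hIK hi).2 y hy]
        simp only [map_sub, LinearMap.sub_apply] at e2
        linear_combination e1 - e2 - e3
      rw [sub_eq_zero.1 hxi] at hx ⊢
      rw [← hπ₂id i hi]; exact hx.2
    have hRlt : R < S := by
      refine lt_of_le_not_ge (inf_le_left.trans hJS) fun hge => hI0 ?_
      refine (Submodule.eq_bot_iff _).2 fun i hi => ?_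
      rw [← hπ₂id i hi]
      exact (hge (hIS hi)).2
    obtain ⟨U, W, A, hUW, hd, hU, hW, hAalt, hAinv, hAnd, hsym, hndW⟩ := ih R hRlt hR hndR
    let πL : V →ₗ[F] V := LinearMap.id - π₁
    let πI : V →ₗ[F] V := π₂ ∘ₗ π₁
    let πR : V →ₗ[F] V := π₁ - π₂ ∘ₗ π₁
    let A' : LinearMap.BilinForm F V :=
      A.compl₁₂ πR πR + (B.compl₁₂ πL πI - (B.compl₁₂ πL πI).flip)
    have hA' : ∀ x y, A' x y = A (π₁ x - π₂ (π₁ x)) (π₁ y - π₂ (π₁ y)) +
        (B (x - π₁ x) (π₂ (π₁ y)) - B (y - π₁ y) (π₂ (π₁ x))) := fun x y => rfl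
    have hUR : U ≤ R := hUW ▸ le_sup_left
    have hWR : W ≤ R := hUW ▸ le_sup_right
    have hpR : ∀ x ∈ R, π₁ x = x ∧ π₂ (π₁ x) = 0 := fun x hx => by
      rw [hπ₁id x hx.1]; exact ⟨rfl, hx.2⟩
    have hpL : ∀ x ∈ L, π₁ x = 0 := fun x hx => hx.2
    have hpI : ∀ x ∈ I, π₁ x = x ∧ π₂ (π₁ x) = x := fun x hx => by
      rw [hπ₁id x (hIJ hx)]; exact ⟨rfl, hπ₂id x hx⟩
    refine ⟨U ⊔ (L ⊔ I), W, A', ?_, ?_, inv_sup ρ hU (inv_sup ρ hL hI), hW,
      fun x => by rw [hA', hAalt, sub_self, add_zero], fun g x hx y hy => ?_, fun x hx h => ?_,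
      hsym, hndW⟩
    · refine le_antisymm (sup_le (sup_le (hUR.trans (inf_le_left.trans hJS))
        (sup_le inf_le_left hIS)) (hWR.trans (inf_le_left.trans hJS))) fun x hx => ?_
      have h1 : π₁ x - π₂ (π₁ x) ∈ U ⊔ W := hUW.ge (hdecI _ (hπ₁J x))
      rw [show x = (π₁ x - π₂ (π₁ x)) + ((x - π₁ x) + π₂ (π₁ x)) by abel]
      refine Submodule.add_mem _ ((sup_le_sup_right le_sup_left W) h1) ?_
      exact le_sup_left (α := Submodule F V)
        (Submodule.mem_sup_right (Submodule.add_mem_sup (hdecJ x hx) (hπ₂I _)))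
    · rw [Submodule.disjoint_def]
      intro x hx hxW
      obtain ⟨u, hu, r, hr, rfl⟩ := Submodule.mem_sup.1 hx
      obtain ⟨l, hl, i, hi, rfl⟩ := Submodule.mem_sup.1 hr
      obtain ⟨hw1, hw2⟩ := hpR _ (hWR hxW)
      simp only [map_add, (hpR u (hUR hu)).1, hpL l hl, (hpI i hi).1, zero_add] at hw1 hw2
      rw [show π₂ u = 0 from (hUR hu).2, hπ₂id i hi, zero_add] at hw2
      rw [hw2, add_zero] at hw1 hxW ⊢
      have hl0 : l = 0 := by simpa using hw1
      rw [hl0, add_zero] at hxW ⊢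
      exact Submodule.disjoint_def.1 hd u hu hxW
    · obtain ⟨u, hu, r, hr, rfl⟩ := Submodule.mem_sup.1 hx
      obtain ⟨l, hl, i, hi, rfl⟩ := Submodule.mem_sup.1 hr
      obtain ⟨u', hu', r', hr', rfl⟩ := Submodule.mem_sup.1 hy
      obtain ⟨l', hl', i', hi', rfl⟩ := Submodule.mem_sup.1 hr'
      rw [hA', hA']
      simp only [map_add, hπ₁eq, hπ₂eq, ← map_sub, ← map_add, hB]
      simp only [map_add, map_sub, (hpR u (hUR hu)).1, hpL l hl, (hpI i hi).1,
        (hpR u' (hUR hu')).1, hpL l' hl', (hpI i' hi').1, show π₂ u = 0 from (hUR hu).2,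
        show π₂ u' = 0 from (hUR hu').2, hπ₂id i hi, hπ₂id i' hi', zero_add, sub_zero,
        map_zero, add_sub_cancel_right, LinearMap.add_apply, LinearMap.sub_apply, hB,
        hAinv g u hu u' hu', LinearMap.zero_apply]
    · obtain ⟨u, hu, r, hr, rfl⟩ := Submodule.mem_sup.1 hx
      obtain ⟨l, hl, i, hi, rfl⟩ := Submodule.mem_sup.1 hr
      have e1 : π₁ (u + (l + i)) = u + i := by
        simp [map_add, (hpR u (hUR hu)).1, hpL l hl, (hpI i hi).1]
      have e2 : π₂ (π₁ (u + (l + i))) = i := by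
        rw [e1, map_add, show π₂ u = 0 from (hUR hu).2, hπ₂id i hi, zero_add]
      have hu0 : u = 0 := hAnd u hu fun y hy => by
        have := h y (Submodule.mem_sup_left hy)
        rw [hA', e2, e1, (hpR y (hUR hy)).2, (hpR y (hUR hy)).1] at this
        simpa using this
      have hl0 : l = 0 := hleft l hl fun j hj => by
        have := h j (Submodule.mem_sup_right (Submodule.mem_sup_right hj))
        rw [hA', e2, e1, (hpI j hj).2, (hpI j hj).1] at this
        simpa [hu0] using this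
      have hi0 : i = 0 := hright i hi fun m hm => by
        have := h m (Submodule.mem_sup_right (Submodule.mem_sup_left hm))
        rw [hA', e2, e1, hpL m hm, map_zero] at this
        simpa [hu0] using this
      rw [hu0, hl0, hi0, add_zero, add_zero]

end CfsgLib.BlockB.FormSplit
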