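import Mathlib

/-!
Order bound for a finite group with given 2-part having two commuting involutions `u`, `v` with
small centralisers of `u`, `v`, `u * v`.
-/

set_option autoImplicit false
universe u

namespace CfsgLib.BlockB

variable {G : Type u} [Group G] [Finite G]

/-- A subgroup of odd order normalised by a four group is covered by the centralisers. -/
theorem card_odd_le_fourGroup (R : Subgroup G) [R.Normal] (hR : Odd (Nat.card R)) {u v : G}
    (hu : u * u = 1) (hv : v * v = 1) (huv : Commute u v) :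
    Nat.card R ≤ Nat.card (Subgroup.centralizer ({v} : Set G)) *
      (Nat.card (Subgroup.centralizer ({u * v} : Set G)) *
        Nat.card (Subgroup.centralizer ({u} : Set G))) := by
  obtain ⟨t, ht⟩ := hR
  set m := t + 1 with hm
  have hsq : ∀ x ∈ R, (x ^ m) * (x ^ m) = x := fun x hx => by
    have h1 : x ^ Nat.card R = 1 := by
      have := pow_card_eq_one' (x := (⟨x, hx⟩ : R))
      exact congrArg Subtype.val this
    rw [← pow_add, hm, show t + 1 + (t + 1) = Nat.card R + 1 by omega, pow_succ, h1, one_mul]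
  set α := MulAut.conj u with hα
  set β := MulAut.conj v with hβ
  have hαα : ∀ x, α (α x) = x := fun x => by
    rw [← MulAut.mul_apply, hα, ← map_mul, hu, map_one, MulAut.one_apply]
  have hββ : ∀ x, β (β x) = x := fun x => by
    rw [← MulAut.mul_apply, hβ, ← map_mul, hv, map_one, MulAut.one_apply]
  have hαβ : ∀ x, α (β x) = β (α x) := fun x => by
    rw [← MulAut.mul_apply, ← MulAut.mul_apply, hα, hβ, ← map_mul, ← map_mul, huv.eq]
  have hαR : ∀ x ∈ R, α x ∈ R := fun x hx => Subgroup.Normal.conj_mem inferInstance x hx u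
  have hβR : ∀ x ∈ R, β x ∈ R := fun x hx => Subgroup.Normal.conj_mem inferInstance x hx v
  have hfix : ∀ (w x : G), MulAut.conj w x = x → x ∈ Subgroup.centralizer ({w} : Set G) := by
    intro w x hx
    rw [Subgroup.mem_centralizer_singleton_iff]
    simp only [MulAut.conj_apply] at hx
    exact (mul_inv_eq_iff_eq_mul.1 hx).symm
  have key : ∀ r : R, ∃ q : Subgroup.centralizer ({v} : Set G) ×
      (Subgroup.centralizer ({u * v} : Set G) × Subgroup.centralizer ({u} : Set G)),
      (r : G) = q.1 * (q.2.1 * q.2.2 * q.2.1) := by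
    rintro ⟨r, hr⟩
    set w := (β r)⁻¹ * r with hw
    have hwR : w ∈ R := mul_mem (inv_mem (hβR r hr)) hr
    set i := w ^ m with hi
    have hiR : i ∈ R := pow_mem hwR m
    have hβw : β w = w⁻¹ := by
      rw [hw, map_mul, map_inv, hββ, mul_inv_rev, inv_inv]
    have hβi : β i = i⁻¹ := by rw [hi, map_pow, hβw, inv_pow]
    have hc : β (r * i⁻¹) = r * i⁻¹ := by
      rw [map_mul, map_inv, hβi, inv_inv, eq_mul_inv_iff_mul_eq, mul_assoc, hi, hsq w hwR, hw,
        mul_inv_cancel_left]
    set s := (i * α i) ^ m with hs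
    have hxR : i * α i ∈ R := mul_mem hiR (hαR i hiR)
    have hss : s * s = i * α i := hsq _ hxR
    have hαs : α s = α i * s * (α i)⁻¹ := by
      rw [hs, map_pow, map_mul, hαα, ← conj_pow]
      congr 1
      group
    have hβs : β s = α i * s⁻¹ * (α i)⁻¹ := by
      have h1 : β (i * α i) = (α (i * α i))⁻¹ := by
        rw [map_mul, map_mul, hαα, hβi, ← hαβ, hβi, map_inv, mul_inv_rev]
      rw [hs, map_pow, h1, inv_pow, ← map_pow, ← hs, hαs]
      group
    set y := s * (α i)⁻¹ with hy
    have hyR : y ∈ R := mul_mem (pow_mem hxR m) (inv_mem (hαR i hiR))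
    have hαy : α y = y⁻¹ := by
      rw [hy, map_mul, map_inv, hαα, hαs, mul_inv_rev, inv_inv]
      have h2 : s * (α i)⁻¹ * i⁻¹ = s⁻¹ := by
        rw [eq_inv_iff_mul_eq_one]
        calc s * (α i)⁻¹ * i⁻¹ * s = s * (i * α i)⁻¹ * s := by group
          _ = s * (s * s)⁻¹ * s := by rw [hss]
          _ = 1 := by group
      rw [← h2]
      group
    have hβy : β y = y⁻¹ := by
      rw [hy, map_mul, map_inv, hβs, ← hαβ, hβi, map_inv, inv_inv, mul_inv_rev, inv_inv]
      group
    set j := y ^ m with hj
    have hαj : α j = j⁻¹ := by rw [hj, map_pow, hαy, inv_pow]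
    have hβj : β j = j⁻¹ := by rw [hj, map_pow, hβy, inv_pow]
    have hjj : j * j = y := hsq y hyR
    have hd : α (j⁻¹ * i * j⁻¹) = j⁻¹ * i * j⁻¹ := by
      rw [map_mul, map_mul, map_inv, hαj, inv_inv]
      have h3 : y * α i * y = i := by
        calc y * α i * y = s * s * (α i)⁻¹ := by rw [hy]; group
          _ = i := by rw [hss]; group
      calc j * α i * j = j⁻¹ * (j * j * α i * (j * j)) * j⁻¹ := by group
        _ = j⁻¹ * i * j⁻¹ := by rw [hjj, h3]
    have hjuv : MulAut.conj (u * v) j = j := by
      rw [map_mul, MulAut.mul_apply, ← hα, ← hβ, hβj, map_inv, hαj, inv_inv]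
    refine ⟨(⟨r * i⁻¹, hfix v _ hc⟩, (⟨j, hfix _ _ hjuv⟩, ⟨j⁻¹ * i * j⁻¹, hfix u _ hd⟩)), ?_⟩
    simp only
    group
  choose f hf using key
  have hinj : Function.Injective f := fun a b hab => Subtype.ext (by rw [hf a, hf b, hab])
  calc Nat.card R ≤ Nat.card (Subgroup.centralizer ({v} : Set G) ×
        (Subgroup.centralizer ({u * v} : Set G) × Subgroup.centralizer ({u} : Set G))) :=
        Nat.card_le_card_of_injective f hinj
    _ = _ := by rw [Nat.card_prod, Nat.card_prod]

/-- Brauer–Fowler counting: an involution with small centraliser gives a nontrivial element whose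
centraliser has small index. -/
theorem exists_index_centralizer_le {v : G} (hv : v * v = 1) (hv1 : v ≠ 1) {n : ℕ}
    (hn : Nat.card (Subgroup.centralizer ({v} : Set G)) ≤ n) :
    ∃ x : G, x ≠ 1 ∧ (Subgroup.centralizer ({x} : Set G)).index ≤ 2 * n ^ 2 := by
  classical
  have := Fintype.ofFinite G
  by_contra hcon
  push Not at hcon
  set I : Finset G := Finset.univ.image fun g => g * v * g⁻¹ with hI
  have hfib : Nat.card G ≤ n * I.card := by
    rw [Nat.card_eq_fintype_card, ← Finset.card_univ]
    refine Finset.card_le_mul_card_image _ n fun a ha => ?_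
    obtain ⟨g0, -, rfl⟩ := Finset.mem_image.1 ha
    refine le_trans ?_ hn
    rw [Nat.card_eq_fintype_card, ← Finset.card_univ]
    refine Finset.card_le_card_of_injOn (fun g => if h : g0⁻¹ * g ∈
      Subgroup.centralizer ({v} : Set G) then ⟨_, h⟩ else 1) (fun _ _ => by simp) ?_
    intro g hg g' hg' he
    simp only [Finset.coe_filter, Finset.mem_univ, true_and, Set.mem_ofPred_eq] at hg hg'
    have hmem : ∀ {x : G}, x * v * x⁻¹ = g0 * v * g0⁻¹ →
        g0⁻¹ * x ∈ Subgroup.centralizer ({v} : Set G) := by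
      intro x hx
      rw [Subgroup.mem_centralizer_singleton_iff]
      calc g0⁻¹ * x * v = g0⁻¹ * (x * v * x⁻¹) * x := by group
        _ = v * (g0⁻¹ * x) := by rw [hx]; group
    simp only [dif_pos (hmem hg), dif_pos (hmem hg'), Subtype.mk.injEq, mul_right_inj] at he
    exact he
  have hinv : ∀ a ∈ I, a * a = 1 := by
    intro a ha
    obtain ⟨g, -, rfl⟩ := Finset.mem_image.1 ha
    calc g * v * g⁻¹ * (g * v * g⁻¹) = g * (v * v) * g⁻¹ := by group
      _ = 1 := by rw [hv]; group
  set J : Finset (G × G) := I ×ˢ I with hJ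
  have hJc : J.card = ∑ x : G, (J.filter fun q => q.1 * q.2 = x).card :=
    Finset.card_eq_sum_card_fiberwise fun _ _ => Finset.mem_univ _
  have hone : (J.filter fun q => q.1 * q.2 = 1).card ≤ I.card := by
    refine Finset.card_le_card_of_injOn Prod.fst (fun q hq => ?_) ?_
    · exact (Finset.mem_product.1 (Finset.mem_filter.1 hq).1).1
    · intro q hq q' hq' he
      simp only [Finset.coe_filter, Set.mem_ofPred_eq] at hq hq'
      refine Prod.ext he ?_
      rw [eq_inv_of_mul_eq_one_right hq.2, eq_inv_of_mul_eq_one_right hq'.2, he]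
  have hne : ∀ x : G, x ≠ 1 →
      2 * n ^ 2 * (J.filter fun q => q.1 * q.2 = x).card ≤ Nat.card G := by
    intro x hx
    rcases (J.filter fun q => q.1 * q.2 = x).eq_empty_or_nonempty with he | ⟨q0, hq0⟩
    · simp [he]
    have hle : (J.filter fun q => q.1 * q.2 = x).card ≤
        Nat.card (Subgroup.centralizer ({x} : Set G)) := by
      rw [Nat.card_eq_fintype_card, ← Finset.card_univ]
      refine Finset.card_le_card_of_injOn (fun q => if h : q0.1 * q.1 ∈
        Subgroup.centralizer ({x} : Set G) then ⟨_, h⟩ else 1) (fun _ _ => by simp) ?_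
      have hrev : ∀ {q : G × G}, q ∈ J.filter (fun q => q.1 * q.2 = x) →
          q.1 * x * q.1 = x⁻¹ := by
        intro q hq
        obtain ⟨hq1, hq2⟩ := Finset.mem_filter.1 hq
        obtain ⟨h1, h2⟩ := Finset.mem_product.1 hq1
        rw [← hq2, mul_inv_rev, inv_eq_of_mul_eq_one_right (hinv _ h2),
          inv_eq_of_mul_eq_one_right (hinv _ h1), ← mul_assoc, hinv _ h1, one_mul]
      have hsymm : ∀ {a : G}, a ∈ I → a⁻¹ = a := fun ha =>
        inv_eq_of_mul_eq_one_right (hinv _ ha)
      have hI1 : ∀ {q : G × G}, q ∈ J.filter (fun q => q.1 * q.2 = x) → q.1 ∈ I := fun hq =>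
        (Finset.mem_product.1 (Finset.mem_filter.1 hq).1).1
      have hmem : ∀ {q : G × G}, q ∈ J.filter (fun q => q.1 * q.2 = x) →
          q0.1 * q.1 ∈ Subgroup.centralizer ({x} : Set G) := by
        intro q hq
        rw [Subgroup.mem_centralizer_singleton_iff]
        calc q0.1 * q.1 * x = q0.1 * (q.1 * x * q.1) * q.1⁻¹ := by group
          _ = q0.1 * x⁻¹ * q.1 := by rw [hrev hq, hsymm (hI1 hq)]
          _ = q0.1 * (q0.1 * x * q0.1) * q.1 := by rw [hrev hq0]
          _ = q0.1 * q0.1 * x * (q0.1 * q.1) := by group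
          _ = x * (q0.1 * q.1) := by rw [hinv _ (hI1 hq0), one_mul]
      intro q hq q' hq' he
      rw [Finset.mem_coe] at hq hq'
      simp only [dif_pos (hmem hq), dif_pos (hmem hq'), Subtype.mk.injEq, mul_right_inj] at he
      refine Prod.ext he ?_
      have := ((Finset.mem_filter.1 hq).2).trans ((Finset.mem_filter.1 hq').2).symm
      rw [he, mul_right_inj] at this
      exact this
    calc 2 * n ^ 2 * (J.filter fun q => q.1 * q.2 = x).card
        ≤ (Subgroup.centralizer ({x} : Set G)).index *
            Nat.card (Subgroup.centralizer ({x} : Set G)) :=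
          Nat.mul_le_mul (hcon x hx).le hle
      _ = Nat.card G := Subgroup.index_mul_card _
  have hIG : I.card ≤ Nat.card G := by
    rw [Nat.card_eq_fintype_card]; exact Finset.card_le_univ _
  have hmain : 2 * n ^ 2 * (I.card * I.card) ≤
      2 * n ^ 2 * Nat.card G + Nat.card G * Nat.card G := by
    rw [← Finset.card_product, ← hJ, hJc, ← Finset.add_sum_erase _ _ (Finset.mem_univ (1 : G)),
      Nat.mul_add, Finset.mul_sum]
    refine Nat.add_le_add (Nat.mul_le_mul_left _ (hone.trans hIG)) ?_
    refine (Finset.sum_le_card_nsmul _ _ _ fun x hx => hne x (Finset.ne_of_mem_erase hx)).trans ?_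
    rw [smul_eq_mul, Nat.card_eq_fintype_card]
    exact Nat.mul_le_mul_right _ (Finset.card_le_univ _)
  have h2 : 2 * (Nat.card G * Nat.card G) ≤ 2 * n ^ 2 * (I.card * I.card) := by
    have := Nat.mul_le_mul hfib hfib
    nlinarith
  have hG : Nat.card G ≤ 2 * n ^ 2 := by
    have hp : 0 < Nat.card G := Nat.card_pos
    nlinarith
  have h3 := hcon v hv1
  have h4 := Nat.le_of_dvd Nat.card_pos (Subgroup.centralizer ({v} : Set G)).index_dvd_card
  omega

/-- The order of a group is bounded by that of a normal subgroup times the centraliser of one of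
its elements. -/
theorem card_le_centralizer_mul_normal {N : Subgroup G} [N.Normal] {x : G} (hx : x ∈ N) :
    Nat.card G ≤ Nat.card (Subgroup.centralizer ({x} : Set G)) * Nat.card N := by
  classical
  choose c hc using fun g : G => (⟨⟨g * x * g⁻¹, Subgroup.Normal.conj_mem inferInstance x hx g⟩,
    rfl⟩ : ∃ m : N, (m : G) = g * x * g⁻¹)
  let rep : N → G := fun m => if h : ∃ g, c g = m then h.choose else 1
  have hrep : ∀ g, c (rep (c g)) = c g := fun g => by
    have h : ∃ g', c g' = c g := ⟨g, rfl⟩
    simp only [rep, dif_pos h]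
    exact h.choose_spec
  rw [← Nat.card_prod]
  refine Nat.card_le_card_of_injective (fun g => (⟨(rep (c g))⁻¹ * g, ?_⟩, c g)) ?_
  · rw [Subgroup.mem_centralizer_singleton_iff]
    have h := congrArg Subtype.val (hrep g)
    rw [hc, hc] at h
    calc (rep (c g))⁻¹ * g * x = (rep (c g))⁻¹ * (g * x * g⁻¹) * g := by group
      _ = x * ((rep (c g))⁻¹ * g) := by rw [← h]; group
  · intro g g' he
    simp only [Prod.mk.injEq, Subtype.mk.injEq] at he
    rw [he.2] at he
    exact mul_left_cancel he.1

/-- Centralisers in a quotient. -/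
theorem card_centralizer_quotient_le {N : Subgroup G} [N.Normal] (x : G) :
    Nat.card (Subgroup.centralizer ({(x : G ⧸ N)} : Set (G ⧸ N))) ≤
      Nat.card (Subgroup.centralizer ({x} : Set G)) * Nat.card N := by
  classical
  set C := Subgroup.centralizer ({(x : G ⧸ N)} : Set (G ⧸ N))
  have hmem : ∀ g : C, (g.1.out * x * g.1.out⁻¹ * x⁻¹) ∈ N := by
    intro g
    rw [← QuotientGroup.eq_one_iff]
    simp only [QuotientGroup.mk_mul, QuotientGroup.mk_inv, QuotientGroup.out_eq']
    rw [Subgroup.mem_centralizer_singleton_iff.1 g.2]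
    group
  choose c hc using fun g : C => (⟨⟨_, hmem g⟩, rfl⟩ :
    ∃ m : N, (m : G) = g.1.out * x * g.1.out⁻¹ * x⁻¹)
  let rep : N → G := fun m => if h : ∃ g, c g = m then h.choose.1.out else 1
  have hrep : ∀ g : C, (rep (c g)) * x * (rep (c g))⁻¹ * x⁻¹ = g.1.out * x * g.1.out⁻¹ * x⁻¹ := by
    intro g
    have h : ∃ g', c g' = c g := ⟨g, rfl⟩
    simp only [rep, dif_pos h]
    rw [← hc, ← hc, h.choose_spec]
  rw [← Nat.card_prod]
  refine Nat.card_le_card_of_injective
    (fun g : C => (⟨(rep (c g))⁻¹ * g.1.out, ?_⟩, c g)) ?_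
  · rw [Subgroup.mem_centralizer_singleton_iff]
    have h := mul_right_cancel (hrep g)
    calc (rep (c g))⁻¹ * g.1.out * x = (rep (c g))⁻¹ * (g.1.out * x * g.1.out⁻¹) * g.1.out := by
          group
      _ = x * ((rep (c g))⁻¹ * g.1.out) := by rw [← h]; group
  · intro g g' he
    simp only [Prod.mk.injEq, Subtype.mk.injEq] at he
    rw [he.2] at he
    exact Subtype.ext (Quotient.out_inj.1 (mul_left_cancel he.1))

/-- Without nontrivial odd normal subgroups a small-index centraliser of a nontrivial element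
gives a small nontrivial normal subgroup of even order. -/
theorem exists_small_normal (hO : ∀ S : Subgroup G, S.Normal → Odd (Nat.card S) → S = ⊥)
    {a m : ℕ} (ha : (Nat.card G).factorization 2 ≤ a) {x : G} (hx : x ≠ 1)
    (hm : (Subgroup.centralizer ({x} : Set G)).index ≤ m) :
    ∃ N : Subgroup G, N.Normal ∧ Even (Nat.card N) ∧ Nat.card N ≤ 2 ^ a * m.factorial := by
  classical
  set K := (Subgroup.centralizer ({x} : Set G)).normalCore with hK
  have hKn : K.Normal := Subgroup.normalCore_normal _
  set N := Subgroup.normalClosure ({x} : Set G) with hN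
  have hNK : N ≤ Subgroup.centralizer (K : Set G) := by
    refine Subgroup.normalClosure_le_normal ?_
    rintro _ rfl
    exact Subgroup.mem_centralizer_iff.2 fun k hk =>
      Subgroup.mem_centralizer_singleton_iff.1 ((Subgroup.normalCore_le _) hk)
  refine ⟨N, inferInstance, ?_, ?_⟩
  · rcases Nat.even_or_odd (Nat.card N) with h | h
    · exact h
    · exact absurd (hO N inferInstance h) fun e => hx (by
        have : x ∈ N := Subgroup.subset_normalClosure rfl
        rwa [e, Subgroup.mem_bot] at this)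
  set A := N ⊓ K with hA
  have hcomm : ∀ s ∈ A, ∀ t ∈ A, Commute s t := fun s hs t ht =>
    (Subgroup.mem_centralizer_iff.1 (hNK hs.1) t ht.2).symm
  let O : Subgroup G :=
    { carrier := {y | y ∈ A ∧ Odd (orderOf y)}
      one_mem' := ⟨one_mem A, by simp⟩
      mul_mem' := fun {s t} hs ht => ⟨mul_mem hs.1 ht.1,
        (hs.2.mul ht.2).of_dvd_nat
          ((hcomm s hs.1 t ht.1).orderOf_mul_dvd_mul_orderOf)⟩
      inv_mem' := fun {s} hs => ⟨inv_mem hs.1, by rw [orderOf_inv]; exact hs.2⟩ }
  have hOn : O.Normal := ⟨fun y hy g => ⟨(inferInstance : A.Normal).conj_mem y hy.1 g, by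
    rw [← MulAut.conj_apply, MulEquiv.orderOf_eq]; exact hy.2⟩⟩
  have hOodd : Odd (Nat.card O) := by
    rw [← Nat.not_even_iff_odd, even_iff_two_dvd]
    intro h
    obtain ⟨z, hz⟩ := exists_prime_orderOf_dvd_card' (G := O) 2 h
    rw [← Subgroup.orderOf_coe] at hz
    exact absurd z.2.2 (by rw [hz]; decide)
  have hObot := hO O hOn hOodd
  have hA2 : IsPGroup 2 A := by
    intro y
    obtain ⟨e, q, hq, he⟩ := Nat.exists_eq_two_pow_mul_odd (orderOf_pos (y : G)).ne'
    refine ⟨e, ?_⟩
    have hmem : (y : G) ^ 2 ^ e ∈ O := by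
      refine ⟨pow_mem y.2 _, ?_⟩
      rw [orderOf_pow_of_dvd (by positivity) (by rw [he]; exact dvd_mul_right _ _), he,
        Nat.mul_div_cancel_left _ (by positivity)]
      exact hq
    rw [hObot, Subgroup.mem_bot] at hmem
    exact Subtype.ext hmem
  obtain ⟨e, he⟩ := IsPGroup.iff_card.1 hA2
  have hea : e ≤ a := by
    refine le_trans ?_ ha
    rw [← Nat.Prime.pow_dvd_iff_le_factorization Nat.prime_two Nat.card_pos.ne', ← he]
    exact Subgroup.card_subgroup_dvd_card A
  have hKi : K.index ≤ m.factorial := by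
    refine le_trans ?_ (Nat.factorial_le hm)
    rw [hK, Subgroup.normalCore_eq_ker, Subgroup.index_ker]
    refine le_trans (Nat.card_le_card_of_injective _ Subtype.val_injective) ?_
    rw [Nat.card_perm, Subgroup.index]
  calc Nat.card N = Nat.card A * A.relIndex N := by
        rw [← Subgroup.relIndex_bot_left, ← Subgroup.relIndex_bot_left,
          Subgroup.relIndex_mul_relIndex ⊥ A N bot_le inf_le_left]
    _ ≤ 2 ^ a * m.factorial := by
        refine Nat.mul_le_mul (he ▸ Nat.pow_le_pow_right two_pos hea) ?_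
        rw [hA, Subgroup.inf_relIndex_left]
        exact (Nat.le_of_dvd (Nat.pos_of_ne_zero Subgroup.index_ne_zero_of_finite)
          (Subgroup.relIndex_dvd_index_of_normal _ _)).trans hKi

/-- Finite groups of bounded 2-part with a four group whose three involutions have bounded
centralisers have bounded order. -/
theorem exists_fourGroup_bound (a : ℕ) : ∀ n : ℕ, ∃ g : ℕ, ∀ (H : Type u) [Group H] [Finite H]
    (u v : H), (Nat.card H).factorization 2 ≤ a → u * u = 1 → v * v = 1 → Commute u v →
    u ≠ 1 → v ≠ 1 → u ≠ v →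
    Nat.card (Subgroup.centralizer ({u} : Set H)) ≤ n →
    Nat.card (Subgroup.centralizer ({v} : Set H)) ≤ n →
    Nat.card (Subgroup.centralizer ({u * v} : Set H)) ≤ n →
    Nat.card H ≤ g := by
  induction a with
  | zero =>
    refine fun n => ⟨0, fun H _ _ u v ha hu _ _ hu1 _ _ _ _ _ => ?_⟩
    have h2 : orderOf u = 2 := orderOf_eq_prime (by rw [pow_two, hu]) hu1
    have h3 : 2 ∣ Nat.card H := h2 ▸ orderOf_dvd_natCard u
    have := Nat.Prime.factorization_pos_of_dvd Nat.prime_two Nat.card_pos.ne' h3
    omega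
  | succ a ih =>
    intro n
    set n' := n * (n * (n * n)) with hn'
    set b := 2 ^ (a + 1) * (2 * n' ^ 2).factorial with hb
    obtain ⟨g, hg⟩ := ih (n' * b)
    refine ⟨(g * b + n' * b) * (n * (n * n)),
      fun H _ _ u v ha hu hv huv hu1 hv1 hne hnu hnv hnw => ?_⟩
    classical
    have : Nonempty {S : Subgroup H // S.Normal ∧ Odd (Nat.card S)} :=
      ⟨⟨⊥, inferInstance, by rw [Subgroup.card_bot]; exact odd_one⟩⟩
    obtain ⟨⟨R, hRn, hRo⟩, hRmax⟩ := Finite.exists_max
      (fun S : {S : Subgroup H // S.Normal ∧ Odd (Nat.card S)} => Nat.card S.1)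
    · have hR : Nat.card R ≤ n * (n * n) :=
        (card_odd_le_fourGroup R hRo hu hv huv).trans
          (Nat.mul_le_mul hnv (Nat.mul_le_mul hnw hnu))
      have hmul : Nat.card H = Nat.card (H ⧸ R) * Nat.card R :=
        Subgroup.card_eq_card_quotient_mul_card_subgroup R
      have hw : (u * v) * (u * v) = 1 := by
        calc (u * v) * (u * v) = u * (v * u) * v := by group
          _ = (u * u) * (v * v) := by rw [← huv.eq]; group
          _ = 1 := by rw [hu, hv, one_mul]
      have hw1 : u * v ≠ 1 := fun e => hne (by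
        rw [eq_inv_of_mul_eq_one_left e]; exact inv_eq_of_mul_eq_one_right hv)
      have hout : ∀ z : H, z * z = 1 → z ≠ 1 → (z : H ⧸ R) ≠ 1 := by
        intro z hz hz1 he
        rw [QuotientGroup.eq_one_iff] at he
        have h2 : orderOf z = 2 := orderOf_eq_prime (by rw [pow_two, hz]) hz1
        have h3 := Subgroup.orderOf_dvd_natCard R he
        rw [h2, ← even_iff_two_dvd] at h3
        exact Nat.not_even_iff_odd.2 hRo h3
      have hO : ∀ S : Subgroup (H ⧸ R), S.Normal → Odd (Nat.card S) → S = ⊥ := by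
        intro S hS hSo
        have hc : Nat.card (S.comap (QuotientGroup.mk' R)) = Nat.card S * Nat.card R := by
          have h1 := Subgroup.index_mul_card (S.comap (QuotientGroup.mk' R))
          rw [Subgroup.index_comap_of_surjective _ (QuotientGroup.mk'_surjective R), hmul,
            ← Subgroup.index_mul_card S, mul_assoc] at h1
          exact Nat.eq_of_mul_eq_mul_left (Nat.pos_of_ne_zero Subgroup.index_ne_zero_of_finite) h1
        have h2 := hRmax ⟨S.comap (QuotientGroup.mk' R), hS.comap _, hc ▸ hSo.mul hRo⟩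
        simp only [hc] at h2
        rw [← Subgroup.card_eq_one]
        have h3 : Nat.card S ≤ 1 := Nat.le_of_mul_le_mul_right (by rwa [one_mul]) Nat.card_pos
        have h4 : 0 < Nat.card S := Nat.card_pos
        omega
      have hcen : ∀ z : H, Nat.card (Subgroup.centralizer ({z} : Set H)) ≤ n →
          Nat.card (Subgroup.centralizer ({(z : H ⧸ R)} : Set (H ⧸ R))) ≤ n' := fun z hz =>
        (card_centralizer_quotient_le z).trans (Nat.mul_le_mul hz hR)
      set Q := H ⧸ R
      set u' : Q := (u : H ⧸ R) with hu'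
      set v' : Q := (v : H ⧸ R) with hv'
      have haQ : (Nat.card Q).factorization 2 ≤ a + 1 := by
        refine le_trans ?_ ha
        exact (Nat.factorization_le_iff_dvd Nat.card_pos.ne' Nat.card_pos.ne').2
          (Subgroup.card_quotient_dvd_card R) 2
      suffices hQ : Nat.card Q ≤ g * b + n' * b by
        rw [hmul]; exact Nat.mul_le_mul hQ hR
      have hu'2 : u' * u' = 1 := by rw [hu', ← QuotientGroup.mk_mul, hu]; rfl
      have hv'2 : v' * v' = 1 := by rw [hv', ← QuotientGroup.mk_mul, hv]; rfl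
      have hw' : ((u * v : H) : Q) = u' * v' := rfl
      obtain ⟨x, hx, hxi⟩ := exists_index_centralizer_le hv'2 (hout v hv hv1) (hcen v hnv)
      obtain ⟨N, hNn, hNe, hNc⟩ := exists_small_normal hO haQ hx hxi
      have hcase : ∀ z : Q, Nat.card (Subgroup.centralizer ({z} : Set Q)) ≤ n' → z ∈ N →
          Nat.card Q ≤ g * b + n' * b := fun z hz hzN =>
        ((card_le_centralizer_mul_normal hzN).trans (Nat.mul_le_mul hz hNc)).trans
          (Nat.le_add_left _ _)
      by_cases huN : u' ∈ N
      · exact hcase _ (hcen u hnu) huN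
      by_cases hvN : v' ∈ N
      · exact hcase _ (hcen v hnv) hvN
      by_cases hwN : u' * v' ∈ N
      · exact hcase _ (hcen (u * v) hnw) hwN
      have hmulQ : Nat.card Q = Nat.card (Q ⧸ N) * Nat.card N :=
        Subgroup.card_eq_card_quotient_mul_card_subgroup N
      have haN : (Nat.card (Q ⧸ N)).factorization 2 ≤ a := by
        have h1 := congrArg (fun k : ℕ => k.factorization 2) hmulQ
        simp only [Nat.factorization_mul Nat.card_pos.ne' Nat.card_pos.ne', Finsupp.coe_add,
          Pi.add_apply] at h1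
        have h2 := Nat.Prime.factorization_pos_of_dvd Nat.prime_two Nat.card_pos.ne'
          (even_iff_two_dvd.1 hNe)
        omega
      have hcenN : ∀ z : Q, Nat.card (Subgroup.centralizer ({z} : Set Q)) ≤ n' →
          Nat.card (Subgroup.centralizer ({(z : Q ⧸ N)} : Set (Q ⧸ N))) ≤ n' * b := fun z hz =>
        (card_centralizer_quotient_le z).trans (Nat.mul_le_mul hz hNc)
      have hQN : Nat.card (Q ⧸ N) ≤ g := by
        refine hg (Q ⧸ N) (u' : Q ⧸ N) (v' : Q ⧸ N) haN ?_ ?_ ?_ ?_ ?_ ?_
          (hcenN _ (hcen u hnu)) (hcenN _ (hcen v hnv)) ?_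
        · rw [← QuotientGroup.mk_mul, hu'2]; rfl
        · rw [← QuotientGroup.mk_mul, hv'2]; rfl
        · exact (huv.map (QuotientGroup.mk' R)).map (QuotientGroup.mk' N)
        · rwa [Ne, QuotientGroup.eq_one_iff]
        · rwa [Ne, QuotientGroup.eq_one_iff]
        · intro e
          apply hwN
          rw [QuotientGroup.eq, inv_eq_of_mul_eq_one_right hu'2] at e
          exact e
        · exact hcenN _ (hcen (u * v) hnw)
      exact (hmulQ ▸ Nat.mul_le_mul hQN hNc).trans (Nat.le_add_right _ _)

end CfsgLib.BlockB
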