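import Cfsg.Prelude.Def_Blocks
import Cfsg.Agent.Lib.Char.Monomial
import Cfsg.Agent.Lib.Char.Linear
import Cfsg.Agent.Lib.Char.Inner

/-!
Automorphisms acting fixed-point-freely modulo a central subgroup containing the commutators,
fixing an irreducible character: there are fewer of them than the squared degree.
-/

set_option autoImplicit false

namespace CfsgLib.BlockB

open scoped ComplexConjugate
open CfsgLib.Char

universe u

variable {R : Type u} [Group R] [Finite R]

/-- Surjectivity of `r ↦ r⁻¹ α(r)` modulo `C`, from injectivity. -/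
theorem exists_eq_inv_mul_mul (C : Subgroup R) (hC : C ≤ Subgroup.center R)
    (hcomm : ∀ a b : R, a * b * a⁻¹ * b⁻¹ ∈ C) (α : R ≃* R) (hαC : ∀ c ∈ C, α c ∈ C)
    (hfpf : ∀ r : R, r⁻¹ * α r ∈ C → r ∈ C) (r : R) : ∃ s, ∃ c ∈ C, r = s⁻¹ * α s * c := by
  classical
  have hn : C.Normal := ⟨fun c hc g => by
    rwa [Subgroup.mem_center_iff.1 (hC hc) g, mul_inv_cancel_right]⟩
  let q : R →* R ⧸ C := QuotientGroup.mk' C
  have hqc : ∀ a b : R, q a * q b = q b * q a := fun a b => by
    rw [← map_mul, ← map_mul, ← mul_inv_eq_one, ← map_inv, ← map_mul]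
    refine (QuotientGroup.eq_one_iff _).2 ?_
    rw [mul_inv_rev, ← mul_assoc]
    exact hcomm a b
  let f : R →* R ⧸ C :=
    { toFun := fun s => q (s⁻¹ * α s)
      map_one' := by simp
      map_mul' := fun a b => by
        simp only [map_mul, mul_inv_rev, map_inv]
        calc (q b)⁻¹ * (q a)⁻¹ * (q (α a) * q (α b))
            = (q b)⁻¹ * ((q a)⁻¹ * q (α a)) * q (α b) := by group
          _ = ((q a)⁻¹ * q (α a)) * (q b)⁻¹ * q (α b) := by
              rw [← map_inv, ← map_inv, ← map_mul, hqc]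
          _ = (q a)⁻¹ * q (α a) * ((q b)⁻¹ * q (α b)) := by group }
  have hker : f.ker = C := by
    ext s
    rw [MonoidHom.mem_ker]
    change q (s⁻¹ * α s) = 1 ↔ s ∈ C
    rw [show q (s⁻¹ * α s) = 1 ↔ s⁻¹ * α s ∈ C from QuotientGroup.eq_one_iff _]
    exact ⟨hfpf s, fun h => mul_mem (inv_mem h) (hαC s h)⟩
  have hsurj : f.range = ⊤ := by
    apply Subgroup.eq_top_of_card_eq
    rw [← Subgroup.index_ker, hker]
    rfl
  obtain ⟨s, hs⟩ : q r ∈ f.range := hsurj ▸ Subgroup.mem_top _
  refine ⟨s, (s⁻¹ * α s)⁻¹ * r, ?_, by group⟩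
  exact QuotientGroup.eq.1 hs

/-- A group of automorphisms acting fixed-point-freely modulo a central `C ⊇ R'` and fixing the
nonlinear irreducible `ψ` has fewer than `ψ(1)²` elements. -/
theorem card_lt_degree_sq (C : Subgroup R) (hC : C ≤ Subgroup.center R)
    (hcomm : ∀ a b : R, a * b * a⁻¹ * b⁻¹ ∈ C) {S : Type*} [Group S] [Finite S]
    (β : S →* MulAut R) (hβC : ∀ x : S, ∀ c ∈ C, β x c ∈ C)
    (hfpf : ∀ x : S, x ≠ 1 → ∀ r : R, r⁻¹ * β x r ∈ C → r ∈ C)
    (ψ : Cfsg.IrrCharacter R) (hfix : ∀ x r, (ψ : R → ℂ) (β x r) = (ψ : R → ℂ) r)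
    (hdeg : 1 < Cfsg.charDegree (ψ : R → ℂ)) :
    Nat.card S < Cfsg.charDegree (ψ : R → ℂ) ^ 2 := by
  classical
  have := Fintype.ofFinite R
  obtain ⟨ψf, n, ρ, hρ, rfl⟩ := ψ
  simp only at hfix hdeg ⊢
  have hm : ρ.character 1 = (n : ℂ) := by simp [Representation.char_one]
  have hdn : Cfsg.charDegree ρ.character = n := by simp [Cfsg.charDegree, hm]
  rw [hdn] at hdeg ⊢
  have hker : ∀ g : R, ρ g = 1 ↔ ρ.character g = ρ.character 1 := fun g => by
    rw [← mem_ker_iff_char]; exact MonoidHom.mem_ker.symm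
  let Z : Subgroup R :=
    { carrier := {z | ∀ r, Commute (ρ z) (ρ r)}
      one_mem' := fun r => by rw [map_one]; exact Commute.one_left _
      mul_mem' := fun {a b} ha hb r => by rw [map_mul]; exact (ha r).mul_left (hb r)
      inv_mem' := fun {a} ha r => by
        have h1 : ρ a * ρ a⁻¹ = 1 := by rw [← map_mul, mul_inv_cancel, map_one]
        have h2 : ρ a⁻¹ * ρ a = 1 := by rw [← map_mul, inv_mul_cancel, map_one]
        calc ρ a⁻¹ * ρ r = ρ a⁻¹ * ρ r * (ρ a * ρ a⁻¹) := by rw [h1, mul_one]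
          _ = ρ a⁻¹ * (ρ r * ρ a) * ρ a⁻¹ := by simp only [mul_assoc]
          _ = ρ a⁻¹ * (ρ a * ρ r) * ρ a⁻¹ := by rw [(ha r).eq]
          _ = (ρ a⁻¹ * ρ a) * (ρ r * ρ a⁻¹) := by simp only [mul_assoc]
          _ = ρ r * ρ a⁻¹ := by rw [h2, one_mul] }
  have hZmem : ∀ z, z ∈ Z ↔ ∀ r, ρ (z * r * z⁻¹ * r⁻¹) = 1 := by
    intro z
    refine forall_congr' fun r => ⟨fun h => ?_, fun h => ?_⟩
    · rw [map_mul, map_mul, map_mul, h.eq, mul_assoc (ρ r), ← map_mul, mul_inv_cancel, map_one,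
        mul_one, ← map_mul, mul_inv_cancel, map_one]
    · show ρ z * ρ r = ρ r * ρ z
      rw [← map_mul, show z * r = (z * r * z⁻¹ * r⁻¹) * (r * z) by group, map_mul ρ _ (r * z), h,
        one_mul, map_mul]
  have hCZ : C ≤ Z := fun c hc r => by
    show ρ c * ρ r = ρ r * ρ c
    rw [← map_mul, ← map_mul, Subgroup.mem_center_iff.1 (hC hc) r]
  have hZn : Z.Normal := ⟨fun z hz g => by
    have : g * z * g⁻¹ = (g * z * g⁻¹ * z⁻¹) * z := by group
    rw [this]
    exact mul_mem (hCZ (hcomm g z)) hz⟩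
  -- values on and off `Z`
  have hsc : ∀ z ∈ Z, ∀ r, ∃ ω : ℂ, ‖ω‖ = 1 ∧ ρ.character (z * r) = ω * ρ.character r := by
    intro z hz r
    obtain ⟨ω, hω⟩ := exists_scalar_of_commute ρ (ρ z) (fun g => (hz g).eq)
    have hone : ω ^ orderOf z • (LinearMap.id : (Fin n → ℂ) →ₗ[ℂ] (Fin n → ℂ)) = LinearMap.id := by
      have h1 : ρ z ^ orderOf z = 1 := by rw [← map_pow, pow_orderOf_eq_one, map_one]
      rw [hω] at h1
      rw [smul_pow] at h1
      simpa [Module.End.one_eq_id, ← Module.End.one_eq_id] using h1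
    have hpow : ω ^ orderOf z = 1 := by
      have h2 := congrArg (fun T => LinearMap.trace ℂ (Fin n → ℂ) T) hone
      simp only [map_smul, smul_eq_mul, LinearMap.trace_id, Module.finrank_fin_fun] at h2
      exact (mul_eq_right₀ (Nat.cast_ne_zero.2 (by omega))).1 h2
    refine ⟨ω, norm_eigen_eq_one (orderOf_pos z) hpow, ?_⟩
    simp only [Representation.character, map_mul, hω, smul_mul_assoc, ← Module.End.one_eq_id,
      one_mul, map_smul, smul_eq_mul]
  have hoff : ∀ g, g ∉ Z → ρ.character g = 0 := by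
    intro g hg
    rw [hZmem] at hg
    push Not at hg
    obtain ⟨r, hr⟩ := hg
    set c := r * g * r⁻¹ * g⁻¹ with hc
    have hcZ : c ∈ Z := hCZ (hcomm r g)
    obtain ⟨ω, hω, h1⟩ := hsc c hcZ g
    obtain ⟨ω', -, h2⟩ := hsc c hcZ 1
    have hcg : ρ.character (c * g) = ρ.character g := by
      rw [hc, inv_mul_cancel_right, Representation.char_conj]
    by_contra hne
    have hω1 : ω = 1 := by
      rw [hcg] at h1
      exact (mul_eq_right₀ hne).1 h1.symm
    apply hr
    obtain ⟨a, ha⟩ := exists_scalar_of_commute ρ (ρ c) (fun x => (hcZ x).eq)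
    have ha1 : a = 1 := by
      have h3 : ρ.character (c * g) = a * ρ.character g := by
        simp only [Representation.character, map_mul, ha, smul_mul_assoc, ← Module.End.one_eq_id,
          one_mul, map_smul, smul_eq_mul]
      rw [hcg] at h3
      exact (mul_eq_right₀ hne).1 h3.symm
    have hc1 : ρ c = 1 := by rw [ha, ha1, one_smul, Module.End.one_eq_id]
    rw [show g * r * g⁻¹ * r⁻¹ = c⁻¹ by rw [hc]; group]
    calc ρ c⁻¹ = ρ c⁻¹ * ρ c := by rw [hc1, mul_one]
      _ = 1 := by rw [← map_mul, inv_mul_cancel, map_one]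
  have hcardR : Nat.card R = Nat.card Z * n ^ 2 := by
    have h := irr_classInner_self (G := R) (χ := ρ.character) ⟨n, ρ, hρ, rfl⟩
    rw [classInner_def, inv_mul_eq_one₀ natCard_ne_zero] at h
    have hval : ∀ g : R, ρ.character g * conj (ρ.character g) =
        if g ∈ Z then ((n : ℂ) ^ 2) else 0 := by
      intro g
      split_ifs with hg
      · obtain ⟨ω, hω, h1⟩ := hsc g hg 1
        rw [mul_one] at h1
        rw [Complex.mul_conj', h1, hm, norm_mul, hω, one_mul, Complex.norm_natCast]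
        norm_cast
      · rw [hoff g hg, zero_mul]
    rw [Finset.sum_congr rfl fun g _ => hval g, ← Finset.sum_filter, Finset.sum_const,
      nsmul_eq_mul, ← Fintype.card_subtype, ← Nat.card_eq_fintype_card] at h
    exact_mod_cast h
  have hidx : Z.index = n ^ 2 := Nat.eq_of_mul_eq_mul_left Nat.card_pos
    ((Subgroup.card_mul_index Z).trans hcardR)
  -- a point outside `Z` has a regular orbit
  obtain ⟨a, ha⟩ : ∃ a, a ∉ Z := by
    by_contra hall
    push Not at hall
    rw [show Z = ⊤ from eq_top_iff.2 fun x _ => hall x, Subgroup.index_top] at hidx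
    have : n ≤ 1 := by nlinarith
    omega
  have hZinv : ∀ x : S, ∀ z ∈ Z, β x z ∈ Z := by
    intro x z hz
    rw [hZmem]
    intro r
    obtain ⟨r', rfl⟩ := (β x).surjective r
    rw [hker, ← map_mul, ← map_inv, ← map_mul, ← map_inv, ← map_mul, hfix]
    exact (hker _).1 ((hZmem z).1 hz r')
  have hfree : ∀ x : S, x ≠ 1 → a⁻¹ * β x a ∉ Z := by
    intro x hx hmem
    apply ha
    let q : R →* R ⧸ Z := QuotientGroup.mk' Z
    have hqc : ∀ b c : R, q b * q c = q c * q b := fun b c => by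
      rw [← map_mul, ← map_mul, ← mul_inv_eq_one, ← map_inv, ← map_mul]
      refine (QuotientGroup.eq_one_iff _).2 ?_
      rw [mul_inv_rev, ← mul_assoc]
      exact hCZ (hcomm b c)
    let f : R →* R ⧸ Z :=
      { toFun := fun s => q (s⁻¹ * β x s)
        map_one' := by simp
        map_mul' := fun b c => by
          simp only [map_mul, mul_inv_rev, map_inv]
          calc (q c)⁻¹ * (q b)⁻¹ * (q (β x b) * q (β x c))
              = (q c)⁻¹ * ((q b)⁻¹ * q (β x b)) * q (β x c) := by group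
            _ = ((q b)⁻¹ * q (β x b)) * (q c)⁻¹ * q (β x c) := by
                rw [← map_inv, ← map_inv, ← map_mul, hqc]
            _ = (q b)⁻¹ * q (β x b) * ((q c)⁻¹ * q (β x c)) := by group }
    have hsurj : Function.Surjective f := by
      intro y
      obtain ⟨r, rfl⟩ := QuotientGroup.mk'_surjective Z y
      obtain ⟨s, c, hc, rfl⟩ := exists_eq_inv_mul_mul C hC hcomm (β x) (hβC x) (hfpf x hx) r
      refine ⟨s, ?_⟩
      change q (s⁻¹ * β x s) = q (s⁻¹ * β x s * c)
      rw [map_mul q _ c, show q c = 1 from (QuotientGroup.eq_one_iff _).2 (hCZ hc), mul_one]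
    have hle : Z ≤ f.ker := fun z hz => (QuotientGroup.eq_one_iff _).2
      (mul_mem (inv_mem hz) (hZinv x z hz))
    have hk : f.ker = Z := by
      refine (Subgroup.eq_of_le_of_card_ge hle ?_).symm
      have h1 : f.ker.index = Z.index := by
        rw [Subgroup.index_ker, MonoidHom.range_eq_top.2 hsurj, Subgroup.card_top]
        rfl
      have h2 := Subgroup.card_mul_index f.ker
      rw [h1, ← Subgroup.card_mul_index Z] at h2
      exact le_of_eq (Nat.eq_of_mul_eq_mul_right
        (Nat.pos_of_ne_zero Subgroup.index_ne_zero_of_finite) h2)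
    rw [← hk, MonoidHom.mem_ker]
    exact (QuotientGroup.eq_one_iff _).2 hmem
  rw [← hidx, Subgroup.index]
  have hinj : Function.Injective (fun x : S => ((β x a : R) : R ⧸ Z)) := by
    intro x y hxy
    by_contra hne
    apply hfree (x⁻¹ * y) (fun e => hne (inv_mul_eq_one.1 e))
    rw [QuotientGroup.eq] at hxy
    have := hZinv x⁻¹ _ hxy
    rwa [map_mul, map_inv (β x⁻¹), ← MulAut.mul_apply, ← MulAut.mul_apply, ← map_mul, ← map_mul,
      inv_mul_cancel, map_one, MulAut.one_apply] at this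
  have := Fintype.ofFinite S
  rw [Nat.card_eq_fintype_card, Nat.card_eq_fintype_card]
  refine Fintype.card_lt_of_injective_of_notMem _ hinj (b := ((1 : R) : R ⧸ Z)) ?_
  rintro ⟨x, hx⟩
  rw [QuotientGroup.eq, mul_one] at hx
  apply ha
  have := hZinv x⁻¹ _ (Z.inv_mem_iff.1 hx)
  rwa [← MulAut.mul_apply, ← map_mul, inv_mul_cancel, map_one, MulAut.one_apply] at this

end CfsgLib.BlockB
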