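import Cfsg.Agent.Lib.Block.PrincipalSection
import Cfsg.Agent.Lib.Block.Knorr
import Cfsg.Agent.Lib.Block.DefectOrder
import Cfsg.Agent.Lib.BlockA.BrauerMax
import Cfsg.Agent.Lib.Char.Linear
import Cfsg.Agent.Lib.Char.TI

/-!
The principal block for an abelian Sylow `p`-subgroup `P` whose normalizer acts semiregularly on
`P` modulo the centralizer: exceptional characters and the remaining members of the block.
-/

set_option autoImplicit false
set_option linter.unusedSectionVars false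
set_option maxHeartbeats 1000000

namespace CfsgLib.BlockB.FrobP

open Cfsg CfsgLib.Block CfsgLib.Char
open scoped ComplexConjugate

universe u

variable {G : Type u} [Group G] [Finite G] {p : ℕ} [Fact p.Prime]

/-- The normalizer of a Sylow subgroup. -/
abbrev nP (P : Sylow p G) : Subgroup G := Subgroup.normalizer ((P : Subgroup G) : Set G)

/-- Conjugation by an element of the normalizer. -/
def cj (P : Sylow p G) (n : nP P) : (P : Subgroup G) ≃* (P : Subgroup G) :=
  (P : Subgroup G).normalizerMonoidHom n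

theorem coe_cj (P : Sylow p G) (n : nP P) (w : (P : Subgroup G)) :
    ((cj P n w : (P : Subgroup G)) : G) = (n : G) * (w : G) * (n : G)⁻¹ := rfl

/-- The linear characters of the Sylow subgroup. -/
abbrev Lam (P : Sylow p G) := (P : Subgroup G) →* ℂˣ

/-- The action of the normalizer on linear characters. -/
def cl (P : Sylow p G) (n : nP P) (ψ : Lam P) : Lam P := ψ.comp (cj P n).toMonoidHom

theorem cl_apply (P : Sylow p G) (n : nP P) (ψ : Lam P) (w : (P : Subgroup G)) :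
    cl P n ψ w = ψ (cj P n w) := rfl

theorem cl_cl (P : Sylow p G) (n n' : nP P) (ψ : Lam P) :
    cl P n (cl P n' ψ) = cl P (n' * n) ψ := by
  refine MonoidHom.ext fun w => ?_
  rw [cl_apply, cl_apply, cl_apply]
  refine congrArg ψ (Subtype.ext ?_)
  simp [coe_cj, mul_assoc]

theorem cl_one (P : Sylow p G) (ψ : Lam P) : cl P 1 ψ = ψ := by
  refine MonoidHom.ext fun w => ?_
  rw [cl_apply]
  exact congrArg ψ (Subtype.ext (by simp [coe_cj]))

/-- The orbit condition as it is written with conjugates. -/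
theorem exists_cl_iff (P : Sylow p G) (ψ ψ' : Lam P) :
    (∃ n : G, n ∈ nP P ∧ ∀ w w' : (P : Subgroup G), (w' : G) = n * w * n⁻¹ → ψ' w' = ψ w) ↔
      ∃ n : nP P, ψ' = cl P n ψ := by
  constructor
  · rintro ⟨n, hn, h⟩
    refine ⟨(⟨n, hn⟩ : nP P)⁻¹, MonoidHom.ext fun w => ?_⟩
    rw [cl_apply]
    exact h _ w (by simp [coe_cj, mul_assoc])
  · rintro ⟨n, rfl⟩
    refine ⟨(n⁻¹ : nP P), (n⁻¹ : nP P).2, fun w w' h => ?_⟩
    rw [cl_apply]
    exact congrArg ψ (Subtype.ext (by rw [coe_cj, h]; simp [mul_assoc]))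

theorem linear_conj (P : Sylow p G) (ψ : Lam P) (y : (P : Subgroup G)) :
    conj ((ψ y : ℂˣ) : ℂ) = ((ψ y⁻¹ : ℂˣ) : ℂ) :=
  irr_conj_eq (isIrrCharacter_linear ψ) y

theorem finite_lam (P : Sylow p G) : Finite (Lam P) := by
  refine Nat.finite_of_card_ne_zero ?_
  rw [natCard_linear]
  exact Subgroup.index_ne_zero_of_finite

variable {M : Ideal AlgInt} (hM : IsPModular p M) {P : Sylow p G}
  (hab : IsMulCommutative P) (hP1 : Nat.card P ≠ 1)
  (hfrob : ∀ y : G, y ∈ (P : Subgroup G) → y ≠ 1 →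
    Subgroup.centralizer ({y} : Set G) ⊓ nP P = Subgroup.centralizer ((P : Subgroup G) : Set G))
  {m : ℕ} (hCN : (Subgroup.centralizer ((P : Subgroup G) : Set G)).relIndex (nP P) = m)

include hab in
theorem comm (a b : (P : Subgroup G)) : a * b = b * a := hab.is_comm.comm a b

include hab in
theorem natCard_lam : Nat.card (Lam P) = Nat.card (P : Subgroup G) := by
  rw [natCard_linear, show commutator (P : Subgroup G) = ⊥ from ?_, Subgroup.index_bot]
  refine (Subgroup.commutator_eq_bot_iff_le_centralizer).2 fun a _ => ?_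
  exact Subgroup.mem_centralizer_iff.2 fun b _ => comm hab b a

include hab in
open scoped Classical in
theorem sum_apply [Fintype (P : Subgroup G)] (ψ : Lam P) :
    ∑ y, ((ψ y : ℂˣ) : ℂ) = if ψ = 1 then (Nat.card (P : Subgroup G) : ℂ) else 0 := by
  split_ifs with h
  · subst h; simp [Nat.card_eq_fintype_card]
  · obtain ⟨a, ha⟩ : ∃ a, ψ a ≠ 1 := by
      by_contra hc
      push Not at hc
      exact h (MonoidHom.ext hc)
    have e : ∑ y, ((ψ y : ℂˣ) : ℂ) = ((ψ a : ℂˣ) : ℂ) * ∑ y, ((ψ y : ℂˣ) : ℂ) := by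
      rw [Finset.mul_sum]
      refine (Fintype.sum_equiv (Equiv.mulLeft a) _ _ fun y => ?_).symm
      simp
    by_contra hs
    exact ha (Units.ext (mul_right_cancel₀ hs ((e.symm).trans (one_mul _).symm)))

include hab in
open scoped Classical in
theorem sum_lam [Fintype (Lam P)] (y : (P : Subgroup G)) :
    ∑ ψ : Lam P, ((ψ y : ℂˣ) : ℂ) = if y = 1 then (Nat.card (P : Subgroup G) : ℂ) else 0 := by
  split_ifs with h
  · subst h
    simp [← natCard_lam hab, Nat.card_eq_fintype_card]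
  · obtain ⟨a, ha⟩ := exists_linear_ne_one (comm hab) h
    have e : ∑ ψ : Lam P, ((ψ y : ℂˣ) : ℂ) = ((a y : ℂˣ) : ℂ) * ∑ ψ : Lam P, ((ψ y : ℂˣ) : ℂ) := by
      rw [Finset.mul_sum]
      refine (Fintype.sum_equiv (Equiv.mulLeft a) _ _ fun ψ => ?_).symm
      simp
    by_contra hs
    exact ha (Units.ext (mul_right_cancel₀ hs ((e.symm).trans (one_mul _).symm)))

theorem isPPow (y : (P : Subgroup G)) : ∃ k : ℕ, orderOf (y : G) = p ^ k := by
  obtain ⟨k, hk⟩ := IsPGroup.iff_orderOf.1 P.2 y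
  exact ⟨k, by rw [Subgroup.orderOf_coe, hk]⟩

theorem dvd_orderOf {y : (P : Subgroup G)} (hy : y ≠ 1) : p ∣ orderOf (y : G) := by
  obtain ⟨k, hk⟩ := isPPow y
  rcases Nat.eq_zero_or_pos k with rfl | hk0
  · exact absurd (orderOf_eq_one_iff.1 (by simpa using hk)) hy
  · rw [hk]; exact dvd_pow_self p hk0.ne'

include hab in
theorem le_cen (y : (P : Subgroup G)) :
    (P : Subgroup G) ≤ Subgroup.centralizer ({(y : G)} : Set G) := fun w hw =>
  Subgroup.mem_centralizer_singleton_iff.2 (congrArg Subtype.val (comm hab ⟨w, hw⟩ y))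

include hab in
theorem card_cen_part (y : (P : Subgroup G)) :
    p ^ (Nat.card (Subgroup.centralizer ({(y : G)} : Set G))).factorization p =
      Nat.card (P : Subgroup G) := by
  rw [← (P.subtype (le_cen hab y)).card_eq_multiplicity, Sylow.coe_subtype]
  exact Nat.card_congr (Subgroup.subgroupOfEquivOfLe (le_cen hab y)).toEquiv

include hab hfrob in
theorem hasNormalPComplement_cen {y : (P : Subgroup G)} (hy : y ≠ 1) :
    HasNormalPComplement p (Subgroup.centralizer ({(y : G)} : Set G)) := by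
  refine CfsgLib.Transfer.hasNormalPComplement_of_normalizer_le_centralizer
    (P.subtype (le_cen hab y)) fun n hn => ?_
  rw [Sylow.coe_subtype] at hn ⊢
  have hnN : (n : G) ∈ nP P := by
    rw [Subgroup.mem_normalizer_iff]
    intro h
    constructor
    · intro hh
      have h1 : (⟨h, le_cen hab y hh⟩ : Subgroup.centralizer ({(y : G)} : Set G)) ∈
          (P : Subgroup G).subgroupOf _ := hh
      exact (Subgroup.mem_normalizer_iff.1 hn _).1 h1
    · intro hh
      have hc : h ∈ Subgroup.centralizer ({(y : G)} : Set G) := by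
        have := Subgroup.mul_mem _ (Subgroup.mul_mem _ (Subgroup.inv_mem _ n.2) (le_cen hab y hh)) n.2
        simpa [mul_assoc] using this
      exact ((Subgroup.mem_normalizer_iff.1 hn ⟨h, hc⟩).2 hh : _)
  have hC : (n : G) ∈ Subgroup.centralizer ((P : Subgroup G) : Set G) := by
    rw [← hfrob y y.2 (fun h => hy (Subtype.ext h))]
    exact ⟨n.2, hnN⟩
  rw [Subgroup.mem_centralizer_iff]
  intro w hw
  exact Subtype.ext (Subgroup.mem_centralizer_iff.1 hC w hw)

include hM hab hfrob in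
/-- Members of the principal block are constant on sections of `P`. -/
theorem apply_section {χ : IrrCharacter G} (hχ : χ ∈ principalBlock M G) {z : G}
    {y : (P : Subgroup G)} (hy : y ≠ 1) (hz : IsPPart p z (y : G)) :
    (χ : G → ℂ) z = (χ : G → ℂ) y := by
  obtain ⟨v, rfl, hc, -, hv⟩ := hz
  exact (principal_section hM (isPPow y) (hasNormalPComplement_cen hab hfrob hy)).1 χ hχ v hc hv

include hM hab hfrob in
theorem column {y : (P : Subgroup G)} (hy : y ≠ 1) (y' : G) (hy' : ∃ k : ℕ, orderOf y' = p ^ k)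
    [Decidable (IsConj (y : G) y')] :
    ∑ᶠ χ ∈ principalBlock M G, (χ : G → ℂ) y * conj ((χ : G → ℂ) y') =
      if IsConj (y : G) y' then (Nat.card (P : Subgroup G) : ℂ) else 0 := by
  have := isPrime_of_pmodular hM
  split_ifs with h
  · rw [← card_cen_part hab y, ← (principal_section hM (isPPow y)
      (hasNormalPComplement_cen hab hfrob hy)).2]
    refine finsum_congr fun χ => finsum_congr fun _ => ?_
    rw [isClassFunction_isConj (irr_isClassFunction χ.2) h]
  · exact sum_block_eq_zero hM isPBlock_principalBlock (isPPart_self (isPPow y) hM.1)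
      (isPPart_self hy' hM.1) h

include hab in
theorem exists_cj_of_isConj {y y' : (P : Subgroup G)} (h : IsConj (y : G) (y' : G)) :
    ∃ n : nP P, cj P n y = y' := by
  obtain ⟨g, hg⟩ := isConj_iff.1 h
  have := hab
  obtain ⟨n, hn, he⟩ := P.conj_eq_normalizer_conj_of_mem (y : G) g⁻¹ y.2
    (by rw [inv_inv, hg]; exact y'.2)
  rw [inv_inv, hg] at he
  exact ⟨(⟨n, hn⟩ : nP P)⁻¹, Subtype.ext (by rw [coe_cj, he]; simp)⟩

theorem cj_isConj (n : nP P) (y : (P : Subgroup G)) : IsConj (y : G) ((cj P n y : _) : G) :=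
  isConj_iff.2 ⟨n, (coe_cj P n y).symm⟩

include hfrob in
theorem cj_eq_iff {y : (P : Subgroup G)} (hy : y ≠ 1) (n n' : nP P) :
    cj P n y = cj P n' y ↔ (n'⁻¹ * n : nP P) ∈
      (Subgroup.centralizer ((P : Subgroup G) : Set G)).subgroupOf (nP P) := by
  rw [Subgroup.mem_subgroupOf, ← hfrob y y.2 (fun h => hy (Subtype.ext h)), Subgroup.mem_inf,
    and_iff_left (n'⁻¹ * n).2, Subgroup.mem_centralizer_singleton_iff, ← Subtype.coe_inj, coe_cj,
    coe_cj]
  simp only [Subgroup.coe_mul, InvMemClass.coe_inv]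
  constructor
  · intro h
    calc (n' : G)⁻¹ * n * y = (n' : G)⁻¹ * ((n : G) * y * (n : G)⁻¹) * n := by group
      _ = (n' : G)⁻¹ * ((n' : G) * y * (n' : G)⁻¹) * n := by rw [h]
      _ = _ := by group
  · intro h
    calc (n : G) * y * (n : G)⁻¹ = n' * ((n' : G)⁻¹ * n * y) * (n : G)⁻¹ := by group
      _ = n' * ((y : G) * ((n' : G)⁻¹ * n)) * (n : G)⁻¹ := by rw [h]
      _ = _ := by group

include hab hfrob in
theorem cl_eq_iff {ψ : Lam P} (hψ : ψ ≠ 1) (n n' : nP P) :
    cl P n ψ = cl P n' ψ ↔ (n * n'⁻¹ : nP P) ∈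
      (Subgroup.centralizer ((P : Subgroup G) : Set G)).subgroupOf (nP P) := by
  have key : ∀ k : nP P, cl P k ψ = ψ ↔
      k ∈ (Subgroup.centralizer ((P : Subgroup G) : Set G)).subgroupOf (nP P) := by
    intro k
    constructor
    · intro hk
      by_contra hkC
      apply hψ
      let f : (P : Subgroup G) →* (P : Subgroup G) :=
        { toFun := fun w => cj P k w * w⁻¹
          map_one' := by simp
          map_mul' := fun a b => by
            rw [map_mul, mul_inv_rev, mul_assoc, mul_assoc, ← mul_assoc (cj P k b),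
              comm hab (cj P k b * b⁻¹) a⁻¹] }
      have hinj : Function.Injective f := by
        rw [← MonoidHom.ker_eq_bot_iff, Subgroup.eq_bot_iff_forall]
        intro w hw
        by_contra hw1
        apply hkC
        have h1 : cj P k w = cj P 1 w := by
          have : cj P k w * w⁻¹ = 1 := hw
          rw [mul_inv_eq_one.1 this]
          exact Subtype.ext (by simp [coe_cj])
        simpa using (cj_eq_iff hfrob hw1 k 1).1 h1
      refine MonoidHom.ext fun w => ?_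
      obtain ⟨v, rfl⟩ := (Finite.injective_iff_surjective.1 hinj) w
      show ψ (cj P k v * v⁻¹) = 1
      rw [map_mul, ← cl_apply, hk, ← map_mul, mul_inv_cancel, map_one]
    · intro hk
      refine MonoidHom.ext fun w => ?_
      rw [cl_apply]
      refine congrArg ψ (Subtype.ext ?_)
      have hkw : (w : G) * (k : G) = (k : G) * (w : G) :=
        Subgroup.mem_centralizer_iff.1 (Subgroup.mem_subgroupOf.1 hk) w w.2
      rw [coe_cj, ← hkw, mul_inv_cancel_right]
  rw [← key]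
  constructor
  · intro h
    have := congrArg (cl P n'⁻¹) h
    rw [cl_cl, cl_cl, mul_inv_cancel, cl_one] at this
    exact this
  · intro h
    have := congrArg (cl P n') h
    rwa [cl_cl, mul_assoc, inv_mul_cancel, mul_one] at this

/-- The centralizer of the Sylow subgroup inside its normalizer. -/
abbrev cP (P : Sylow p G) : Subgroup (nP P) :=
  (Subgroup.centralizer ((P : Subgroup G) : Set G)).subgroupOf (nP P)

include hCN in
theorem card_nP : Nat.card (nP P) = m * Nat.card (cP P) := by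
  rw [← hCN, Subgroup.relIndex, Subgroup.index_mul_card]

include hab hfrob in
theorem fibre_cl [Fintype (nP P)] [DecidableEq (Lam P)] {ψ : Lam P} (hψ : ψ ≠ 1) (n₀ : nP P) :
    (Finset.univ.filter fun n => cl P n ψ = cl P n₀ ψ).card = Nat.card (cP P) := by
  classical
  rw [Nat.card_eq_fintype_card, ← Finset.card_univ]
  refine Finset.card_bij' (fun n hn => ⟨n * n₀⁻¹,
    (cl_eq_iff hab hfrob hψ n n₀).1 (Finset.mem_filter.1 hn).2⟩) (fun c _ => (c : nP P) * n₀)
    (fun _ _ => Finset.mem_univ _) (fun c _ => ?_) (fun n _ => by simp)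
    (fun c _ => Subtype.ext (by simp))
  rw [Finset.mem_filter]
  refine ⟨Finset.mem_univ _, (cl_eq_iff hab hfrob hψ _ _).2 ?_⟩
  simp

include hfrob in
theorem fibre_cj [Fintype (nP P)] [DecidableEq (P : Subgroup G)] {y : (P : Subgroup G)}
    (hy : y ≠ 1) (n₀ : nP P) :
    (Finset.univ.filter fun n => cj P n y = cj P n₀ y).card = Nat.card (cP P) := by
  classical
  rw [Nat.card_eq_fintype_card, ← Finset.card_univ]
  refine Finset.card_bij' (fun n hn => ⟨n₀⁻¹ * n,
    (cj_eq_iff hfrob hy n n₀).1 (Finset.mem_filter.1 hn).2⟩) (fun c _ => n₀ * (c : nP P))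
    (fun _ _ => Finset.mem_univ _) (fun c _ => ?_) (fun n _ => by simp)
    (fun c _ => Subtype.ext (by simp))
  rw [Finset.mem_filter]
  refine ⟨Finset.mem_univ _, (cj_eq_iff hfrob hy _ _).2 ?_⟩
  simp

include hab hfrob in
open scoped Classical in
/-- A sum over the conjugates in `P` of a nonidentity element is an average over the normalizer. -/
theorem sum_isConj [Fintype (nP P)] [Fintype (P : Subgroup G)] {y : (P : Subgroup G)} (hy : y ≠ 1)
    (f : ↥(P : Subgroup G) → ℂ) :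
    (Nat.card (cP P) : ℂ) * (∑ y' : (P : Subgroup G), if IsConj (y : G) (y' : G) then f y' else 0) =
      ∑ n : nP P, f (cj P n y) := by
  rw [← Finset.sum_fiberwise Finset.univ (fun n => cj P n y) (fun n => f (cj P n y)), Finset.mul_sum]
  refine Finset.sum_congr rfl fun y' _ => ?_
  split_ifs with h
  · obtain ⟨n₀, rfl⟩ := exists_cj_of_isConj hab h
    rw [Finset.sum_congr rfl (g := fun _ => f (cj P n₀ y))
      (fun n hn => by rw [(Finset.mem_filter.1 hn).2]), Finset.sum_const, nsmul_eq_mul,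
      fibre_cj hfrob hy]
  · rw [mul_zero, Finset.sum_eq_zero]
    intro n hn
    exact absurd ((Finset.mem_filter.1 hn).2 ▸ cj_isConj n y) h

/-- The multiplicity of a linear character of `P` in a restricted character. -/
noncomputable def coef (P : Sylow p G) [Fintype (P : Subgroup G)] (χ : IrrCharacter G) (ψ : Lam P) :
    ℂ :=
  (Nat.card (P : Subgroup G) : ℂ)⁻¹ *
    ∑ y : (P : Subgroup G), (χ : G → ℂ) y * ((ψ y⁻¹ : ℂˣ) : ℂ)

theorem exists_nat_coef [Fintype (P : Subgroup G)] (χ : IrrCharacter G) (ψ : Lam P) :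
    ∃ k : ℕ, coef P χ ψ = k := by
  obtain ⟨k, hk⟩ := classInner_isCharacter_nat
    (isCharacter_restrict (irr_isCharacter χ.2) (P : Subgroup G))
    (irr_isCharacter (isIrrCharacter_linear ψ))
  refine ⟨k, ?_⟩
  rw [classInner_def] at hk
  rw [← hk, coef]
  refine congrArg _ (Finset.sum_congr rfl fun y _ => ?_)
  rw [linear_conj]

theorem coef_cl [Fintype (P : Subgroup G)] (χ : IrrCharacter G) (ψ : Lam P) (n : nP P) :
    coef P χ (cl P n ψ) = coef P χ ψ := by
  unfold coef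
  congr 1
  refine Fintype.sum_equiv (cj P n).toEquiv _ _ fun y => ?_
  show (χ : G → ℂ) y * ((cl P n ψ y⁻¹ : ℂˣ) : ℂ) =
    (χ : G → ℂ) ((cj P n y : _) : G) * ((ψ (cj P n y)⁻¹ : ℂˣ) : ℂ)
  rw [cl_apply, map_inv, coe_cj, irr_isClassFunction χ.2]

include hab in
theorem expand [Fintype (P : Subgroup G)] [Fintype (Lam P)] (χ : IrrCharacter G)
    (y : (P : Subgroup G)) :
    (χ : G → ℂ) y = ∑ ψ : Lam P, coef P χ ψ * ((ψ y : ℂˣ) : ℂ) := by
  classical
  simp only [coef, mul_assoc, Finset.sum_mul, Finset.mul_sum]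
  rw [Finset.sum_comm, Finset.sum_eq_single y]
  · have h : ∀ ψ : Lam P, ((ψ y⁻¹ : ℂˣ) : ℂ) * ((ψ y : ℂˣ) : ℂ) = 1 := fun ψ => by
      rw [← Units.val_mul, ← map_mul, inv_mul_cancel, map_one, Units.val_one]
    simp only [h, mul_one, Finset.sum_const, Finset.card_univ, nsmul_eq_mul,
      ← Nat.card_eq_fintype_card, natCard_lam hab]
    field_simp [natCard_ne_zero (G := (P : Subgroup G))]
  · intro x _ hx
    have h : ∀ ψ : Lam P, ((ψ x⁻¹ : ℂˣ) : ℂ) * ((ψ y : ℂˣ) : ℂ) = ((ψ (x⁻¹ * y) : ℂˣ) : ℂ) :=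
      fun ψ => by rw [map_mul, Units.val_mul]
    simp only [h, ← Finset.mul_sum]
    rw [sum_lam hab, if_neg (fun e => hx (inv_mul_eq_one.1 e)), mul_zero, mul_zero]
  · simp

include hM hab hfrob hCN in
open scoped Classical in
/-- The Gram matrix of the multiplicities over the principal block. -/
theorem gram [Fintype (P : Subgroup G)] [Fintype (nP P)] :
    ∃ c₀ : ℂ, ∀ ψ ψ' : Lam P, ∑ᶠ χ ∈ principalBlock M G, coef P χ ψ * coef P χ ψ' =
      c₀ + ((Finset.univ.filter fun n : nP P => cl P n ψ' = ψ).card : ℂ) / Nat.card (cP P) := by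
  have := isPrime_of_pmodular hM
  set S := (Set.toFinite (principalBlock M G)).toFinset with hS
  set q : ℂ := (Nat.card (P : Subgroup G) : ℂ) with hq
  have hq0 : q ≠ 0 := natCard_ne_zero
  set c : ℂ := (Nat.card (cP P) : ℂ) with hc
  have hc0 : c ≠ 0 := natCard_ne_zero
  set s₀ := ∑ᶠ χ ∈ principalBlock M G, (χ : G → ℂ) 1 * conj ((χ : G → ℂ) 1)
  refine ⟨s₀ / q ^ 2 - (Nat.card (nP P) : ℂ) / (q * c), fun ψ ψ' => ?_⟩
  let K : ↥(P : Subgroup G) → ↥(P : Subgroup G) → ℂ := fun y y' =>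
    ∑ χ ∈ S, (χ : G → ℂ) y * conj ((χ : G → ℂ) y')
  have hK : ∀ y y', K y y' = ∑ᶠ χ ∈ principalBlock M G, (χ : G → ℂ) y * conj ((χ : G → ℂ) y') :=
    fun y y' => (finsum_mem_eq_finite_toFinset_sum _ (Set.toFinite _)).symm
  have hne : ∀ y : (P : Subgroup G), y ≠ 1 → ∀ y', K y y' =
      if IsConj (y : G) (y' : G) then q else 0 := fun y hy y' => by
    rw [hK, column hM hab hfrob hy _ (isPPow y')]
  have hK11 : K 1 1 = s₀ := hK 1 1
  have hK1 : ∀ y' : (P : Subgroup G), y' ≠ 1 → K 1 y' = 0 := fun y' hy' => by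
    rw [hK]
    exact sum_block_eq_zero_of_regular_singular hM isPBlock_principalBlock
      (by simpa using hM.1.one_lt.ne') (dvd_orderOf hy')
  have hinner : ∀ y : (P : Subgroup G), ∑ y', K y y' * ((ψ' y' : ℂˣ) : ℂ) =
      q / c * (∑ n : nP P, ((ψ' (cj P n y) : ℂˣ) : ℂ)) +
        if y = 1 then s₀ - q / c * Nat.card (nP P) else 0 := by
    intro y
    by_cases hy : y = 1
    · subst hy
      rw [if_pos rfl, Finset.sum_eq_single (1 : (P : Subgroup G))
        (fun y' _ h => by rw [hK1 y' h, zero_mul]) (by simp), hK11]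
      simp [Nat.card_eq_fintype_card]
    · rw [if_neg hy, add_zero, ← sum_isConj hab hfrob hy (fun z => ((ψ' z : ℂˣ) : ℂ)), ← hc, ← mul_assoc, div_mul_cancel₀ _ hc0,
        Finset.mul_sum]
      refine Finset.sum_congr rfl fun y' _ => ?_
      rw [hne y hy]
      split_ifs <;> ring
  have hconj : ∀ χ : IrrCharacter G, coef P χ ψ' =
      q⁻¹ * ∑ y' : (P : Subgroup G), conj ((χ : G → ℂ) y') * ((ψ' y' : ℂˣ) : ℂ) := by
    intro χ
    obtain ⟨k, hk⟩ := exists_nat_coef χ ψ'
    rw [hk, ← Complex.conj_natCast, ← hk, coef, map_mul, map_inv₀, Complex.conj_natCast, map_sum]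
    refine congrArg _ (Finset.sum_congr rfl fun y' _ => ?_)
    rw [map_mul, linear_conj, inv_inv]
  have hstab : ∀ n : nP P, ∑ y : (P : Subgroup G), ((ψ y⁻¹ : ℂˣ) : ℂ) *
      ((ψ' (cj P n y) : ℂˣ) : ℂ) = if cl P n ψ' = ψ then q else 0 := by
    intro n
    have e : ∀ y : (P : Subgroup G), ((ψ y⁻¹ : ℂˣ) : ℂ) * ((ψ' (cj P n y) : ℂˣ) : ℂ) =
        (((cl P n ψ' * ψ⁻¹ : Lam P) y : ℂˣ) : ℂ) := fun y => by
      rw [MonoidHom.mul_apply, MonoidHom.inv_apply, map_inv, cl_apply, mul_comm, Units.val_mul]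
    rw [Finset.sum_congr rfl fun y _ => e y, sum_apply hab, ← hq]
    refine if_congr ?_ rfl rfl
    simp [MonoidHom.ext_iff, mul_inv_eq_one]
  rw [finsum_mem_eq_finite_toFinset_sum _ (Set.toFinite _), ← hS]
  calc ∑ χ ∈ S, coef P χ ψ * coef P χ ψ'
      = q⁻¹ * q⁻¹ * ∑ y : (P : Subgroup G), ((ψ y⁻¹ : ℂˣ) : ℂ) *
          ∑ y', K y y' * ((ψ' y' : ℂˣ) : ℂ) := by
        rw [Finset.sum_congr rfl fun χ _ => by rw [hconj χ]]
        simp only [coef, K, Finset.mul_sum, Finset.sum_mul]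
        conv_rhs => enter [2, x]; rw [Finset.sum_comm]
        conv_rhs => rw [Finset.sum_comm]
        refine Finset.sum_congr rfl fun χ _ => ?_
        rw [Finset.sum_comm]
        refine Finset.sum_congr rfl fun y _ => ?_
        refine Finset.sum_congr rfl fun y' _ => ?_
        ring
    _ = q⁻¹ * q⁻¹ * (q / c * (∑ n : nP P, if cl P n ψ' = ψ then q else 0) +
          (s₀ - q / c * Nat.card (nP P))) := by
        congr 1
        simp only [hinner, mul_add, Finset.sum_add_distrib, mul_ite, mul_zero,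
          Finset.sum_ite_eq', Finset.mem_univ, if_true, inv_one, map_one, Units.val_one, one_mul]
        congr 1
        rw [← Finset.sum_congr rfl fun n _ => hstab n, Finset.mul_sum]
        simp only [Finset.mul_sum]
        rw [Finset.sum_comm]
        exact Finset.sum_congr rfl fun n _ => Finset.sum_congr rfl fun y _ => by ring
    _ = _ := by
        rw [← Finset.sum_filter, Finset.sum_const, nsmul_eq_mul]
        field_simp
        ring

include hab hfrob hCN in
theorem stab_card [Fintype (nP P)] [DecidableEq (Lam P)] (ψ ψ' : Lam P) :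
    ((Finset.univ.filter fun n : nP P => cl P n ψ' = ψ).card : ℂ) / Nat.card (cP P) =
      if ψ' = 1 then (if ψ = 1 then (m : ℂ) else 0) else
        (if ∃ n : nP P, cl P n ψ' = ψ then 1 else 0) := by
  classical
  by_cases h' : ψ' = 1
  · subst h'
    have h1 : ∀ n : nP P, cl P n (1 : Lam P) = 1 := fun n => rfl
    simp only [h1, if_true]
    by_cases h : ψ = 1
    · subst h
      rw [if_pos rfl, Finset.filter_true_of_mem (fun _ _ => rfl), Finset.card_univ,
        ← Nat.card_eq_fintype_card, card_nP hCN, Nat.cast_mul, mul_div_assoc,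
        div_self natCard_ne_zero, mul_one]
    · rw [if_neg h, Finset.filter_false_of_mem (fun _ _ => Ne.symm h)]
      simp
  · rw [if_neg h']
    split_ifs with h
    · obtain ⟨n₀, rfl⟩ := h
      rw [fibre_cl hab hfrob h', div_self natCard_ne_zero]
    · rw [Finset.filter_false_of_mem (fun n _ hn => h ⟨n, hn⟩)]
      simp

include hab hfrob hCN in
open scoped Classical in
theorem orbit_card [Fintype (nP P)] {ψ : Lam P} (hψ : ψ ≠ 1) :
    (Finset.univ.image fun n : nP P => cl P n ψ).card = m := by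
  have h := Finset.card_eq_sum_card_image (fun n : nP P => cl P n ψ) Finset.univ
  rw [Finset.sum_congr rfl (g := fun _ => Nat.card (cP P)), Finset.sum_const, smul_eq_mul,
    Finset.card_univ, ← Nat.card_eq_fintype_card, card_nP hCN] at h
  · exact (Nat.eq_of_mul_eq_mul_right Nat.card_pos h).symm
  · intro φ hφ
    obtain ⟨n₀, -, rfl⟩ := Finset.mem_image.1 hφ
    exact fibre_cl hab hfrob hψ n₀

theorem cl_eq_one_iff (n : nP P) (ψ : Lam P) : cl P n ψ = 1 ↔ ψ = 1 := by
  refine ⟨fun h => ?_, fun h => by subst h; rfl⟩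
  have := congrArg (cl P n⁻¹) h
  rwa [cl_cl, mul_inv_cancel, cl_one] at this

/-- The exceptional characters and the other members of the principal block. -/
structure Data (P : Sylow p G) (B : Set (IrrCharacter G)) (m r : ℕ) (ε d : ℤ)
    (a : IrrCharacter G → ℤ) (ζ : Lam P → IrrCharacter G) (X Y : Set (IrrCharacter G)) : Prop where
  sign : ε = 1 ∨ ε = -1
  two_le : 2 ≤ r
  card_eq : r * m + 1 = Nat.card (P : Subgroup G)
  union : B = X ∪ Y
  disj : Disjoint X Y
  one_mem : trivIrr ∈ X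
  one_a : a trivIrr = 1
  card_Y : Nat.card Y = r
  mem_Y : ∀ η, η ∈ Y ↔ ∃ ψ : Lam P, ψ ≠ 1 ∧ ζ ψ = η
  zeta_eq : ∀ ψ ψ' : Lam P, ψ ≠ 1 → ψ' ≠ 1 → (ζ ψ = ζ ψ' ↔ ∃ n : nP P, ψ' = cl P n ψ)
  a_ne : ∀ χ ∈ X, a χ ≠ 0
  val_X : ∀ χ ∈ X, ∀ (z : G) (y : (P : Subgroup G)), IsPPart p z (y : G) → y ≠ 1 →
    (χ : G → ℂ) z = (a χ : ℂ)
  val_Y : ∀ ψ : Lam P, ψ ≠ 1 → ∀ (z : G) (y : (P : Subgroup G)), IsPPart p z (y : G) → y ≠ 1 →
    (ζ ψ : G → ℂ) z = (d : ℂ) + (ε : ℂ) *
      ∑ᶠ ψ' ∈ {ψ' : Lam P | ∃ n : nP P, ψ' = cl P n ψ}, ((ψ' y : ℂˣ) : ℂ)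
  norm : (d - ε) ^ 2 + ((r : ℤ) - 1) * d ^ 2 + ∑ᶠ χ ∈ X, a χ ^ 2 = (m : ℤ) + 1
  regular : ∀ η ∈ Y, ∀ η' ∈ Y, ∀ g : G, ¬ p ∣ orderOf g → (η : G → ℂ) g = (η' : G → ℂ) g
  relation : ∀ η ∈ Y, ∀ g : G, ¬ p ∣ orderOf g →
    ((r : ℂ) * d - ε) * (η : G → ℂ) g + ∑ᶠ χ ∈ X, (a χ : ℂ) * (χ : G → ℂ) g = 0

include hM hP1 hab in
theorem exists_singular_ne_zero (χ : IrrCharacter G) (hχ : χ ∈ principalBlock M G) :
    ∃ y : (P : Subgroup G), y ≠ 1 ∧ (χ : G → ℂ) y ≠ 0 := by
  have := isPrime_of_pmodular hM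
  by_contra hcon
  push Not at hcon
  have hB : IsPBlock M (principalBlock M G) := isPBlock_principalBlock
  have h0 : blockDefect p (principalBlock M G) = 0 := by
    refine blockDefect_eq_zero_of_vanish hM hB hχ fun g hg => ?_
    obtain ⟨Q, hQ⟩ := (IsPGroup.of_card (p := p) (n := 1) (G := Subgroup.zpowers g)
      (by rw [Nat.card_zpowers, hg, pow_one])).exists_le_sylow
    obtain ⟨x, hx⟩ := MulAction.exists_smul_eq G Q P
    have hxP : x * g * x⁻¹ ∈ (P : Subgroup G) := by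
      rw [← hx, Sylow.coe_subgroup_smul]
      exact Subgroup.smul_mem_pointwise_smul g (MulAut.conj x) (Q : Subgroup G)
        (hQ (Subgroup.mem_zpowers g))
    rw [← irr_isClassFunction χ.2 g x]
    refine hcon ⟨_, hxP⟩ fun h => ?_
    have hg1 : g = 1 := by
      have := congrArg Subtype.val h
      simpa using this
    rw [hg1, orderOf_one] at hg
    exact hM.1.one_lt.ne hg
  have hD := (CfsgLib.BlockA.isDefectGroup_principal_iff hM (P : Subgroup G)).2 ⟨P, rfl⟩
  have h1 := natCard_defectGroup hM hB hD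
  rw [h0, pow_zero] at h1
  exact hP1 h1

include hM hab hP1 hfrob hCN in
/-- **Exceptional characters of the principal block.** -/
theorem exists_data (hm1 : 1 < m) (hm2 : m + 1 < Nat.card (P : Subgroup G)) :
    ∃ (r : ℕ) (ε d : ℤ) (a : IrrCharacter G → ℤ) (ζ : Lam P → IrrCharacter G)
      (X Y : Set (IrrCharacter G)), Data P (principalBlock M G) m r ε d a ζ X Y := by
  classical
  have := isPrime_of_pmodular hM
  have := Fintype.ofFinite G
  have := Fintype.ofFinite (P : Subgroup G)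
  have := Fintype.ofFinite (nP P)
  have := finite_lam P
  have := Fintype.ofFinite (Lam P)
  have := Fintype.ofFinite (IrrCharacter G)
  set B := principalBlock M G with hB
  set S := (Set.toFinite B).toFinset with hS
  have hmemS : ∀ χ, χ ∈ S ↔ χ ∈ B := fun χ => Set.Finite.mem_toFinset _
  obtain ⟨c₀, hgram'⟩ := gram hM hab hfrob hCN
  have hgram : ∀ ψ ψ' : Lam P, ∑ χ ∈ S, coef P χ ψ * coef P χ ψ' =
      c₀ + if ψ' = 1 then (if ψ = 1 then (m : ℂ) else 0) else
        (if ∃ n : nP P, cl P n ψ' = ψ then 1 else 0) := fun ψ ψ' => by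
    rw [← stab_card hab hfrob hCN, ← hgram', finsum_mem_eq_finite_toFinset_sum _ (Set.toFinite B)]
  choose cN hcN using fun χ ψ => exists_nat_coef (P := P) χ ψ
  -- the orbits
  let orb : Lam P → Finset (Lam P) := fun ψ => Finset.univ.image fun n : nP P => cl P n ψ
  have horb : ∀ ψ ψ', orb ψ = orb ψ' ↔ ∃ n : nP P, ψ' = cl P n ψ := by
    intro ψ ψ'
    constructor
    · intro h
      have : ψ' ∈ orb ψ := h ▸ Finset.mem_image.2 ⟨1, Finset.mem_univ _, cl_one P ψ'⟩
      obtain ⟨n, -, hn⟩ := Finset.mem_image.1 this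
      exact ⟨n, hn.symm⟩
    · rintro ⟨n, rfl⟩
      ext φ
      simp only [orb, Finset.mem_image, Finset.mem_univ, true_and, cl_cl]
      exact ⟨fun ⟨k, hk⟩ => ⟨n⁻¹ * k, by rw [mul_inv_cancel_left, hk]⟩, fun ⟨k, hk⟩ => ⟨_, hk⟩⟩
  set L := (Finset.univ : Finset (Lam P)).erase 1 with hL
  have hLmem : ∀ {ψ : Lam P}, ψ ∈ L ↔ ψ ≠ 1 := fun {ψ} => by simp [hL]
  set Ω := L.image orb with hΩ
  have hcard : Ω.card * m + 1 = Nat.card (P : Subgroup G) := by
    have hL' : L.card = Ω.card * m := by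
      rw [Finset.card_eq_sum_card_image orb L, Finset.sum_congr rfl (g := fun _ => m),
        Finset.sum_const, smul_eq_mul]
      intro O hO
      obtain ⟨ψ, hψ, rfl⟩ := Finset.mem_image.1 hO
      rw [← orbit_card hab hfrob hCN (hLmem.1 hψ)]
      congr 1
      ext φ
      simp only [Finset.mem_filter, Finset.mem_image, Finset.mem_univ, true_and, hLmem]
      constructor
      · rintro ⟨-, h⟩
        obtain ⟨n, hn⟩ := (horb ψ φ).1 h.symm
        exact ⟨n, hn.symm⟩
      · rintro ⟨n, rfl⟩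
        exact ⟨fun h => hLmem.1 hψ ((cl_eq_one_iff n ψ).1 h), ((horb _ _).2 ⟨n, rfl⟩).symm⟩
    rw [← hL', hL, Finset.card_erase_add_one (Finset.mem_univ _), Finset.card_univ,
      ← Nat.card_eq_fintype_card, natCard_lam hab]
  set r := Ω.card with hr
  have hr2 : 2 ≤ r := by
    by_contra h
    have : r * m ≤ 1 * m := Nat.mul_le_mul_right m (by omega)
    omega
  let en : Fin r ≃ Ω := Ω.equivFin.symm
  have hrep : ∀ i, ∃ ψ : Lam P, ψ ≠ 1 ∧ orb ψ = (en i : Finset (Lam P)) := fun i => by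
    obtain ⟨ψ, hψ, he⟩ := Finset.mem_image.1 (en i).2
    exact ⟨ψ, hLmem.1 hψ, he⟩
  choose rep hrep1 hrepo using hrep
  have hrepinj : ∀ i j, (∃ n : nP P, cl P n (rep j) = rep i) ↔ i = j := by
    intro i j
    refine ⟨fun ⟨n, hn⟩ => en.injective (Subtype.ext ?_), fun h => ⟨1, by rw [h, cl_one]⟩⟩
    rw [← hrepo, ← hrepo, (horb (rep j) (rep i)).2 ⟨n, hn.symm⟩]
  let i₀ : Fin r := ⟨0, by omega⟩
  -- the coherent family
  let k : Fin r → IrrCharacter G → ℤ := fun i χ =>
    if χ ∈ B then (cN χ (rep i) : ℤ) - cN χ (rep i₀) else 0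
  let τ : Fin r → G → ℂ := fun i => ∑ χ : IrrCharacter G, ((k i χ : ℤ) : ℂ) • (χ : G → ℂ)
  have hτi : ∀ i (χ : IrrCharacter G), classInner (τ i) (χ : G → ℂ) = (k i χ : ℂ) := fun i χ => by
    rw [classInner_sum_left, Finset.sum_eq_single χ]
    · rw [classInner_smul_left, irr_classInner_self χ.2, mul_one]
    · intro φ _ hne
      rw [classInner_smul_left, irr_classInner_ne φ.2 χ.2 (fun e => hne (Subtype.ext e)), mul_zero]
    · simp
  have hkeq : ∀ i χ, χ ∈ B → (k i χ : ℂ) = coef P χ (rep i) - coef P χ (rep i₀) := fun i χ hχ => by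
    simp only [k, if_pos hχ]; push_cast; rw [← hcN, ← hcN]
  have hstar : ∀ g : G, ¬ p ∣ orderOf g → ∀ ψ ψ' : Lam P,
      ∑ χ ∈ S, coef P χ ψ * (χ : G → ℂ) g = ∑ χ ∈ S, coef P χ ψ' * (χ : G → ℂ) g := by
    intro g hg
    have h : ∀ ψ : Lam P, ∑ χ ∈ S, coef P χ ψ * (χ : G → ℂ) g =
        (Nat.card (P : Subgroup G) : ℂ)⁻¹ * ∑ χ ∈ S, (χ : G → ℂ) 1 * (χ : G → ℂ) g := by
      intro ψ
      simp only [coef, mul_assoc, Finset.sum_mul, ← Finset.mul_sum]
      congr 1
      rw [Finset.sum_comm, Finset.sum_eq_single (1 : (P : Subgroup G))]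
      · simp
      · intro y _ hy
        have h0 : ∑ χ ∈ S, (χ : G → ℂ) g * (χ : G → ℂ) y = 0 := by
          have := sum_block_eq_zero_of_regular_singular hM (B := B) isPBlock_principalBlock hg
            (h := (y : G)⁻¹) (by rw [orderOf_inv]; exact dvd_orderOf hy)
          rw [finsum_mem_eq_finite_toFinset_sum _ (Set.toFinite B)] at this
          simp only [irr_conj_eq (Subtype.prop _), inv_inv] at this
          exact this
        calc _ = ((ψ y⁻¹ : ℂˣ) : ℂ) * ∑ χ ∈ S, (χ : G → ℂ) g * (χ : G → ℂ) y := by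
              rw [Finset.mul_sum]; exact Finset.sum_congr rfl fun χ _ => by ring
          _ = 0 := by rw [h0, mul_zero]
      · simp
    intro ψ ψ'
    rw [h, h]
  have hτ1 : ∀ i, τ i 1 = 0 := by
    intro i
    have h := hstar 1 (by simpa using hM.1.one_lt.ne') (rep i) (rep i₀)
    rw [← sub_eq_zero, ← Finset.sum_sub_distrib] at h
    show (∑ χ : IrrCharacter G, ((k i χ : ℤ) : ℂ) • (χ : G → ℂ)) 1 = 0
    rw [Finset.sum_apply, ← Finset.sum_subset (Finset.subset_univ S) (fun χ _ hχ => ?_)]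
    · rw [← h]
      exact Finset.sum_congr rfl fun χ hχ => by
        rw [Pi.smul_apply, smul_eq_mul, hkeq i χ ((hmemS χ).1 hχ), sub_mul]
    · simp [k, if_neg fun hh => hχ ((hmemS χ).2 hh)]
  obtain ⟨εc, hεc, μ, hμirr, hμinj, hμ⟩ := coherent_family r i₀ τ
    (by
      refine funext fun g => ?_
      show (∑ χ : IrrCharacter G, ((k i₀ χ : ℤ) : ℂ) • (χ : G → ℂ)) g = 0
      simp [k])
    (fun i => isGeneralized_sum _ fun χ _ => by
      have := isGeneralized_zsmul (isGeneralized_of_isCharacter (irr_isCharacter χ.2)) (k i χ)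
      convert this using 1)
    hτ1 (fun i j hi hj => by
      have h : classInner (τ i) (τ j) = ∑ χ ∈ S, (k i χ : ℂ) * (k j χ : ℂ) := by
        rw [classInner_sum_left, ← Finset.sum_subset (Finset.subset_univ S) (fun χ _ hχ => ?_)]
        · refine Finset.sum_congr rfl fun χ _ => ?_
          rw [classInner_smul_left, ← classInner_conj_symm (τ j), hτi, map_intCast]
        · simp [k, if_neg fun hh => hχ ((hmemS χ).2 hh), classInner_def]
      rw [h, Finset.sum_congr rfl fun χ hχ => by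
        rw [hkeq i χ ((hmemS χ).1 hχ), hkeq j χ ((hmemS χ).1 hχ)]]
      simp only [sub_mul, mul_sub, Finset.sum_sub_distrib, hgram, if_neg (hrep1 _), hrepinj,
        if_neg hi, if_neg (Ne.symm hj)]
      split_ifs <;> ring)
  obtain ⟨εz, hεz, hεz1⟩ : ∃ z : ℤ, (z : ℂ) = εc ∧ (z = 1 ∨ z = -1) := by
    rcases hεc with h | h
    · exact ⟨1, by simp [h], Or.inl rfl⟩
    · exact ⟨-1, by simp [h], Or.inr rfl⟩
  let Θ : Fin r → IrrCharacter G := fun i => ⟨μ i, hμirr i⟩
  have hΘinj : Function.Injective Θ := fun i j h => hμinj (congrArg Subtype.val h)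
  have hkΘ : ∀ i χ, k i χ = εz * ((if Θ i = χ then 1 else 0) - (if Θ i₀ = χ then 1 else 0)) := by
    intro i χ
    have h := hτi i χ
    rw [hμ i, classInner_smul_left, classInner_sub_left, irr_classInner (hμirr i) χ.2,
      irr_classInner (hμirr i₀) χ.2, ← hεz] at h
    have e : ∀ j, (μ j = (χ : G → ℂ)) ↔ Θ j = χ := fun j =>
      ⟨fun h => Subtype.ext h, fun h => congrArg Subtype.val h⟩
    simp only [e] at h
    rw [← Int.cast_inj (α := ℂ), ← h]
    push_cast
    ring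
  have hΘB : ∀ i, Θ i ∈ B := by
    intro i
    obtain ⟨j, hij, hj⟩ : ∃ j, k j (Θ i) ≠ 0 ∧ True := by
      by_cases hi : i = i₀
      · refine ⟨⟨1, by omega⟩, ?_, trivial⟩
        rw [hkΘ, if_neg (fun h => by
          have := congrArg Fin.val ((hΘinj h).trans hi)
          simp [i₀] at this), if_pos (by rw [hi])]
        rcases hεz1 with h | h <;> omega
      · refine ⟨i, ?_, trivial⟩
        rw [hkΘ, if_pos rfl, if_neg (fun h => hi (hΘinj h).symm)]
        rcases hεz1 with h | h <;> omega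
    by_contra hB'
    exact hij (if_neg hB')
  have hidx : ∀ ψ : Lam P, ∃ i, ψ ≠ 1 → orb ψ = (en i : Finset (Lam P)) := fun ψ => by
    by_cases hψ : ψ = 1
    · exact ⟨i₀, fun h => absurd hψ h⟩
    · exact ⟨en.symm ⟨orb ψ, Finset.mem_image_of_mem _ (hLmem.2 hψ)⟩, fun _ => by simp⟩
  choose idx hidx using hidx
  let ζ : Lam P → IrrCharacter G := fun ψ => Θ (idx ψ)
  have hidx_rep : ∀ i, idx (rep i) = i := fun i =>
    en.injective (Subtype.ext ((hidx _ (hrep1 i)).symm.trans (hrepo i)))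
  let dd : IrrCharacter G → ℤ := fun χ => (cN χ (rep i₀) : ℤ) - εz * (if Θ i₀ = χ then 1 else 0)
  let a : IrrCharacter G → ℤ := fun χ => (cN χ 1 : ℤ) - dd χ
  have hcψ : ∀ χ ∈ B, ∀ ψ : Lam P, ψ ≠ 1 →
      coef P χ ψ = ((dd χ + εz * (if ζ ψ = χ then 1 else 0) : ℤ) : ℂ) := by
    intro χ hχ ψ hψ
    obtain ⟨n, hn⟩ := (horb ψ (rep (idx ψ))).1 ((hidx ψ hψ).trans (hrepo _).symm)
    rw [← coef_cl χ ψ n, ← hn, hcN]
    have h := hkΘ (idx ψ) χ
    simp only [k, if_pos hχ] at h
    have h2 : (cN χ (rep (idx ψ)) : ℤ) = dd χ + εz * (if ζ ψ = χ then 1 else 0) := by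
      simp only [dd, ζ]
      rw [mul_sub] at h
      linarith
    rw [← h2]
    simp
  have hc1 : ∀ χ, coef P χ 1 = ((a χ + dd χ : ℤ) : ℂ) := fun χ => by
    rw [hcN]; simp [a]
  let Y : Set (IrrCharacter G) := Set.range Θ
  let X : Set (IrrCharacter G) := {χ | χ ∈ B ∧ χ ∉ Y}
  have hval : ∀ χ ∈ B, ∀ (z : G) (y : (P : Subgroup G)), IsPPart p z (y : G) → y ≠ 1 →
      (χ : G → ℂ) z = (a χ : ℂ) + (εz : ℂ) *
        ∑ ψ ∈ L.filter (fun ψ => ζ ψ = χ), ((ψ y : ℂˣ) : ℂ) := by
    intro χ hχ z y hz hy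
    rw [apply_section hM hab hfrob hχ hy hz, expand hab, ← Finset.add_sum_erase _ _
      (Finset.mem_univ (1 : Lam P)), ← hL, Finset.sum_congr rfl fun ψ hψ => by
        rw [hcψ χ hχ ψ (hLmem.1 hψ)], hc1]
    have h0 : ∑ ψ ∈ L, ((ψ y : ℂˣ) : ℂ) = -1 := by
      have h := sum_lam hab y
      rw [if_neg hy, ← Finset.add_sum_erase _ _ (Finset.mem_univ (1 : Lam P)), ← hL] at h
      simp only [MonoidHom.one_apply, Units.val_one] at h
      linear_combination h
    rw [Finset.sum_filter]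
    push_cast
    simp only [add_mul, Finset.sum_add_distrib, ← Finset.mul_sum, h0, mul_assoc, ite_mul, one_mul,
      zero_mul, MonoidHom.one_apply, Units.val_one, mul_one]
    ring
  have hζY : ∀ η, η ∈ Y ↔ ∃ ψ : Lam P, ψ ≠ 1 ∧ ζ ψ = η := fun η =>
    ⟨fun ⟨i, hi⟩ => ⟨rep i, hrep1 i, by simp [ζ, hidx_rep, hi]⟩,
      fun ⟨ψ, _, h⟩ => ⟨idx ψ, h⟩⟩
  have hζeq : ∀ ψ ψ' : Lam P, ψ ≠ 1 → ψ' ≠ 1 → (ζ ψ = ζ ψ' ↔ ∃ n : nP P, ψ' = cl P n ψ) := by
    intro ψ ψ' h h'
    rw [← horb, hidx ψ h, hidx ψ' h']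
    exact ⟨fun e => by rw [hΘinj e], fun e => congrArg Θ (en.injective (Subtype.ext e))⟩
  have hnorm : ∀ i, ∑ χ ∈ S, a χ ^ 2 - 2 * εz * a (Θ i) + 1 = (m : ℤ) + 1 := by
    intro i
    have h : ∑ χ ∈ S, (coef P χ 1 - coef P χ (rep i)) * (coef P χ 1 - coef P χ (rep i)) =
        (m : ℂ) + 1 := by
      have e1 : ∀ n : nP P, cl P n (1 : Lam P) = 1 := fun n => rfl
      simp only [sub_mul, mul_sub, Finset.sum_sub_distrib, hgram, e1, if_true,
        if_neg (hrep1 i), hrepinj, exists_const, if_neg (Ne.symm (hrep1 i))]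
      rw [if_neg (fun ⟨n, hn⟩ => hrep1 i ((cl_eq_one_iff n _).1 hn))]
      ring
    rw [Finset.sum_congr rfl fun χ hχ => by
      rw [hc1, hcψ χ ((hmemS χ).1 hχ) _ (hrep1 i)]] at h
    have h' : ∑ χ ∈ S, (a χ - εz * (if Θ i = χ then 1 else 0)) ^ 2 = (m : ℤ) + 1 := by
      rw [← Int.cast_inj (α := ℂ), Int.cast_sum]
      push_cast at h ⊢
      rw [← h]
      refine Finset.sum_congr rfl fun χ _ => ?_
      simp only [ζ, hidx_rep]
      ring
    rw [← h']
    have e : ∀ χ, (a χ - εz * (if Θ i = χ then 1 else 0)) ^ 2 =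
        a χ ^ 2 + (if Θ i = χ then 1 - 2 * εz * a χ else 0) := fun χ => by
      split_ifs <;> rcases hεz1 with h | h <;> subst h <;> ring
    simp only [e, Finset.sum_add_distrib, Finset.sum_ite_eq, (hmemS _).2 (hΘB i), if_true]
    ring
  set d := a (Θ i₀) with hd
  have haΘ : ∀ i, a (Θ i) = d := fun i => by
    have h1 := hnorm i
    have h2 := hnorm i₀
    rcases hεz1 with h | h <;> subst h <;> omega
  have hYS : Finset.univ.image Θ ⊆ S := fun χ hχ => by
    obtain ⟨i, -, rfl⟩ := Finset.mem_image.1 hχ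
    exact (hmemS _).2 (hΘB i)
  have hXfin : ∀ {R : Type} [AddCommMonoid R] (f : IrrCharacter G → R),
      ∑ᶠ χ ∈ X, f χ + ∑ i, f (Θ i) = ∑ χ ∈ S, f χ := by
    intro R _ f
    rw [← Finset.sum_sdiff hYS, Finset.sum_image (fun a _ b _ h => hΘinj h),
      finsum_mem_eq_finite_toFinset_sum _ (Set.toFinite X)]
    congr 2
    ext χ
    simp [X, Y, hmemS]
  have hrel : ∀ g : G, ¬ p ∣ orderOf g → ∀ i,
      ((r : ℂ) * d * (Θ i₀ : G → ℂ) g - εz * (Θ i : G → ℂ) g) +
        ∑ᶠ χ ∈ X, (a χ : ℂ) * (χ : G → ℂ) g +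
      (d : ℂ) * ∑ j, ((Θ j : G → ℂ) g - (Θ i₀ : G → ℂ) g) = 0 := by
    intro g hg i
    have h := hstar g hg 1 (rep i)
    rw [← sub_eq_zero, ← Finset.sum_sub_distrib] at h
    rw [Finset.sum_congr rfl (g := fun χ : IrrCharacter G => (a χ : ℂ) * (χ : G → ℂ) g -
      (εz : ℂ) * (if Θ i = χ then (χ : G → ℂ) g else 0)) (fun χ hχ => by
        rw [hc1, hcψ χ ((hmemS χ).1 hχ) _ (hrep1 i)]
        simp only [ζ, hidx_rep]
        push_cast
        split_ifs <;> ring)] at h
    rw [Finset.sum_sub_distrib, ← Finset.mul_sum, Finset.sum_ite_eq,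
      if_pos ((hmemS _).2 (hΘB i)), ← hXfin, Finset.sum_congr rfl fun j _ => by rw [haΘ j],
      ← Finset.mul_sum] at h
    rw [Finset.sum_sub_distrib, Finset.sum_const, Finset.card_univ, Fintype.card_fin,
      nsmul_eq_mul]
    linear_combination h
  have hregΘ : ∀ g : G, ¬ p ∣ orderOf g → ∀ i j, (Θ i : G → ℂ) g = (Θ j : G → ℂ) g := by
    intro g hg i j
    have h1 := hrel g hg i
    have h2 := hrel g hg j
    have h3 : (εz : ℂ) * ((Θ i : G → ℂ) g - (Θ j : G → ℂ) g) = 0 := by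
      linear_combination h2 - h1
    rcases mul_eq_zero.1 h3 with h | h
    · rcases hεz1 with e | e <;> rw [e] at h <;> norm_num at h
    · exact sub_eq_zero.1 h
  have htrivY : trivIrr ∉ Y := by
    rintro ⟨i, hi⟩
    have h0 : ∀ ψ : Lam P, ψ ≠ 1 → coef P (trivIrr : IrrCharacter G) ψ = 0 := fun ψ hψ => by
      simp only [coef, trivIrr, one_mul]
      have : ∑ y : (P : Subgroup G), ((ψ y⁻¹ : ℂˣ) : ℂ) = 0 := by
        rw [Fintype.sum_equiv (Equiv.inv _) (fun y => ((ψ y⁻¹ : ℂˣ) : ℂ))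
          (fun y => ((ψ y : ℂˣ) : ℂ)) (fun y => rfl), sum_apply hab, if_neg hψ]
      rw [this, mul_zero]
    obtain ⟨j, hji⟩ : ∃ j : Fin r, j ≠ i := Fintype.exists_ne_of_one_lt_card (by simp; omega) i
    have hB1 : (trivIrr : IrrCharacter G) ∈ B := one_mem_principalBlock
    have e1 := (hcψ _ hB1 _ (hrep1 i)).symm.trans (h0 _ (hrep1 i))
    have e2 := (hcψ _ hB1 _ (hrep1 j)).symm.trans (h0 _ (hrep1 j))
    simp only [ζ, hidx_rep] at e1 e2
    rw [if_pos hi, Int.cast_eq_zero] at e1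
    rw [if_neg (fun h => hji (hΘinj (h.trans hi.symm))), Int.cast_eq_zero] at e2
    rcases hεz1 with h | h <;> omega
  have hXval : ∀ χ ∈ X, ∀ (z : G) (y : (P : Subgroup G)), IsPPart p z (y : G) → y ≠ 1 →
      (χ : G → ℂ) z = (a χ : ℂ) := by
    intro χ hχ z y hz hy
    rw [hval χ hχ.1 z y hz hy, Finset.filter_false_of_mem (fun ψ _ h => hχ.2 ⟨idx ψ, h⟩),
      Finset.sum_empty, mul_zero, add_zero]
  refine ⟨r, εz, d, a, ζ, X, Y, ⟨hεz1, hr2, hcard, ?_, ?_, ⟨one_mem_principalBlock, htrivY⟩, ?_, ?_,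
    hζY, hζeq, ?_, hXval, ?_, ?_, ?_, ?_⟩⟩
  · ext χ
    exact ⟨fun h => by by_cases hY : χ ∈ Y; exacts [Or.inr hY, Or.inl ⟨h, hY⟩],
      fun h => h.elim (fun h => h.1) (fun ⟨i, hi⟩ => hi ▸ hΘB i)⟩
  · exact Set.disjoint_left.2 fun χ hχ hY => hχ.2 hY
  · obtain ⟨y, hy⟩ : ∃ y : (P : Subgroup G), y ≠ 1 := by
      obtain ⟨y, hy, -⟩ := exists_singular_ne_zero hM hab hP1 trivIrr one_mem_principalBlock
      exact ⟨y, hy⟩
    have h := hXval _ ⟨one_mem_principalBlock, htrivY⟩ (y : G) y (isPPart_self (isPPow y) hM.1) hy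
    simp only [trivIrr] at h
    exact_mod_cast h.symm
  · rw [Nat.card_range_of_injective hΘinj, Nat.card_eq_fintype_card, Fintype.card_fin]
  · intro χ hχ h0
    obtain ⟨y, hy, hy0⟩ := exists_singular_ne_zero hM hab hP1 χ hχ.1
    exact hy0 (by rw [hXval χ hχ (y : G) y (isPPart_self (isPPow y) hM.1) hy, h0, Int.cast_zero])
  · intro ψ hψ z y hz hy
    rw [hval _ (hΘB _) z y hz hy, haΘ, ← finsum_mem_finset_eq_sum]
    refine congrArg _ (congrArg _ (finsum_mem_congr ?_ fun _ _ => rfl))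
    ext φ
    simp only [Finset.coe_filter, Set.mem_setOf_eq, hLmem]
    constructor
    · rintro ⟨hφ, h⟩
      exact (hζeq ψ φ hψ hφ).1 h.symm
    · rintro ⟨n, rfl⟩
      have hφ : cl P n ψ ≠ 1 := fun h => hψ ((cl_eq_one_iff n ψ).1 h)
      exact ⟨hφ, ((hζeq ψ _ hψ hφ).2 ⟨n, rfl⟩).symm⟩
  · have h := hnorm i₀
    rw [← hXfin, Finset.sum_congr rfl fun j _ => by rw [haΘ j], Finset.sum_const, Finset.card_univ,
      Fintype.card_fin, nsmul_eq_mul, haΘ] at h
    rcases hεz1 with e | e <;> subst e <;> linear_combination h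
  · rintro η ⟨i, rfl⟩ η' ⟨j, rfl⟩ g hg
    exact hregΘ g hg i j
  · rintro η ⟨i, rfl⟩ g hg
    have h := hrel g hg i₀
    simp only [hregΘ g hg _ i₀, sub_self, Finset.sum_const_zero, mul_zero, add_zero] at h ⊢
    linear_combination h

end CfsgLib.BlockB.FrobP
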