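import Cfsg.Prelude.Def_Characters
import Cfsg.Agent.Lib.Char.Column
import Cfsg.Agent.Lib.Char.Linear
import Cfsg.Agent.Lib.Char.Integral
import Cfsg.Agent.Lib.Block.DefectOrder
import Cfsg.Agent.Lib.Clifford.Correspondence
import Cfsg.Agent.Lib.BlockB.PEltValue
import Mathlib.GroupTheory.Sylow
import Mathlib.GroupTheory.Nilpotent

/-!
Gagola characters: an irreducible character which is nonzero on exactly two classes.
-/

set_option autoImplicit false
set_option linter.unusedSectionVars false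

namespace CfsgLib.BlockB.Gagola

open Subgroup
open scoped ComplexConjugate

universe u

variable {G : Type u} [Group G] [Finite G] {χ : Cfsg.IrrCharacter G}

/-- `c` represents the second class on which `χ` is nonzero. -/
def IsTwoClass (χ : Cfsg.IrrCharacter G) (c : G) : Prop :=
  c ≠ 1 ∧ 2 < Nat.card G ∧ ∀ g : G, (χ : G → ℂ) g ≠ 0 ↔ g = 1 ∨ IsConj c g

theorem exists_twoClass (hG : 2 < Nat.card G)
    (h : Nat.card {C : ConjClasses G // ∃ g ∈ C.carrier, (χ : G → ℂ) g ≠ 0} = 2) :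
    ∃ c, IsTwoClass χ c := by
  have h1 := Char.irr_apply_one_ne_zero χ.2
  let one' : {C : ConjClasses G // ∃ g ∈ C.carrier, (χ : G → ℂ) g ≠ 0} :=
    ⟨ConjClasses.mk 1, 1, ConjClasses.mem_carrier_mk, h1⟩
  obtain ⟨⟨C, c, hcC, hc⟩, hne, huniq⟩ := (Nat.card_eq_two_iff' one').1 h
  have hC : ConjClasses.mk c = C := ConjClasses.mem_carrier_iff_mk_eq.1 hcC
  refine ⟨c, fun hc1 => hne (Subtype.ext ?_), hG, fun g => ⟨fun hg => ?_, ?_⟩⟩
  · show C = ConjClasses.mk 1
    rw [← hC, hc1]
  · refine or_iff_not_imp_left.2 fun hg1 => ?_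
    have := huniq ⟨ConjClasses.mk g, g, ConjClasses.mem_carrier_mk, hg⟩ (fun e => hg1 ?_)
    · exact ConjClasses.mk_eq_mk_iff_isConj.1 ((congrArg Subtype.val this).trans hC.symm).symm
    · exact isConj_one_left.1 (ConjClasses.mk_eq_mk_iff_isConj.1
        (congrArg Subtype.val e : ConjClasses.mk g = ConjClasses.mk 1))
  · rintro (rfl | hg)
    · exact h1
    · rwa [← Char.isClassFunction_isConj (Char.irr_isClassFunction χ.2) hg]

variable {c : G} (hc : IsTwoClass χ c)

section Basic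

include hc

theorem apply_c_ne_zero : (χ : G → ℂ) c ≠ 0 := (hc.2.2 c).2 (Or.inr (IsConj.refl c))

/-- The size of the class of `c`. -/
theorem carrier_pos : 0 < Nat.card (ConjClasses.mk c).carrier :=
  have : Nonempty (ConjClasses.mk c).carrier := ⟨⟨c, ConjClasses.mem_carrier_mk⟩⟩
  Nat.card_pos

open scoped Classical in
theorem sum_chi_mul [Fintype G] {f : G → ℂ} (hf : Cfsg.IsClassFunction G f) :
    ∑ g : G, (χ : G → ℂ) g * f g = (χ : G → ℂ) 1 * f 1 +
      (Nat.card (ConjClasses.mk c).carrier : ℂ) * ((χ : G → ℂ) c * f c) := by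
  have hfilter : ∀ g : G, g ∈ (Finset.univ.filter fun g : G => IsConj c g) ↔ IsConj c g :=
    fun g => by simp
  have h1 : (1 : G) ∉ Finset.univ.filter fun g : G => IsConj c g := fun h =>
    hc.1 (isConj_one_left.1 ((hfilter 1).1 h))
  rw [← Finset.sum_subset (Finset.subset_univ (insert 1 (Finset.univ.filter fun g => IsConj c g)))
    (fun g _ hg => by
      have : ¬ (g = 1 ∨ IsConj c g) := by
        rintro (rfl | h)
        · exact hg (Finset.mem_insert_self _ _)
        · exact hg (Finset.mem_insert_of_mem ((hfilter g).2 h))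
      rw [not_not.1 (mt (hc.2.2 g).1 this), zero_mul]),
    Finset.sum_insert h1, Finset.sum_congr rfl (g := fun _ => (χ : G → ℂ) c * f c)
      (fun g hg => by
        rw [Char.isClassFunction_isConj (Char.irr_isClassFunction χ.2) ((hfilter g).1 hg),
          Char.isClassFunction_isConj hf ((hfilter g).1 hg)]),
    Finset.sum_const, nsmul_eq_mul]
  congr 3
  rw [Nat.card_eq_fintype_card]
  symm
  exact Fintype.card_of_subtype _ fun g => by
    rw [hfilter, ConjClasses.mem_carrier_iff_mk_eq, ConjClasses.mk_eq_mk_iff_isConj, isConj_comm]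

theorem ne_one : (χ : G → ℂ) ≠ fun _ => 1 := by
  intro h
  have := Fintype.ofFinite G
  have hall : ∀ g : G, g ≠ 1 → IsConj c g := fun g hg =>
    ((hc.2.2 g).1 (by rw [h]; exact one_ne_zero)).resolve_left hg
  have hset : (ConjClasses.mk c).carrier = {(1 : G)}ᶜ := by
    ext g
    rw [ConjClasses.mem_carrier_iff_mk_eq, ConjClasses.mk_eq_mk_iff_isConj, isConj_comm]
    exact ⟨fun hcg (h1 : g = 1) => hc.1 (isConj_one_left.1 (h1 ▸ hcg)), hall g⟩
  have hm : Nat.card (ConjClasses.mk c).carrier = Nat.card G - 1 := by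
    rw [hset, Nat.card_coe_set_eq, Set.ncard_compl, Set.ncard_singleton]
  have hd := Dvd.intro _ (Char.natCard_carrier_mul_centralizer c)
  rw [hm] at hd
  have h3 := Nat.dvd_sub hd (dvd_refl (Nat.card G - 1))
  rw [show Nat.card G - (Nat.card G - 1) = 1 by have := hc.2.1; omega, Nat.dvd_one] at h3
  have := hc.2.1
  omega

theorem carrier_mul_apply : (Nat.card (ConjClasses.mk c).carrier : ℂ) * (χ : G → ℂ) c =
    -(χ : G → ℂ) 1 := by
  have := Fintype.ofFinite G
  have h := Char.irr_classInner_ne χ.2 Char.isIrrCharacter_one (ne_one hc)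
  rw [Char.classInner_def] at h
  have h2 := (mul_eq_zero.1 h).resolve_left (inv_ne_zero Char.natCard_ne_zero)
  rw [Finset.sum_congr rfl (g := fun g => (χ : G → ℂ) g * 1) (fun g _ => by simp),
    sum_chi_mul hc (f := fun _ => 1) (fun _ _ => rfl)] at h2
  linear_combination h2

/-- Every other irreducible character has `c` in its kernel. -/
theorem apply_c_eq {ψ : Cfsg.IrrCharacter G} (h : ψ ≠ χ) :
    (ψ : G → ℂ) c = (ψ : G → ℂ) 1 := by
  have := Fintype.ofFinite G
  have h' := Char.irr_classInner_ne χ.2 ψ.2 (fun e => h (Subtype.ext e.symm))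
  rw [Char.classInner_def] at h'
  have h2 := (mul_eq_zero.1 h').resolve_left (inv_ne_zero Char.natCard_ne_zero)
  rw [sum_chi_mul hc (f := fun g => conj ((ψ : G → ℂ) g))
    (fun g k => congrArg conj (Char.irr_isClassFunction ψ.2 g k)), ← mul_assoc,
    carrier_mul_apply hc] at h2
  have h3 : conj ((ψ : G → ℂ) 1) = conj ((ψ : G → ℂ) c) := by
    refine mul_left_cancel₀ (Char.irr_apply_one_ne_zero χ.2) ?_
    linear_combination h2
  exact ((starRingEnd ℂ).injective h3).symm

theorem apply_c_ne_one : (χ : G → ℂ) c ≠ (χ : G → ℂ) 1 := by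
  intro h
  have h1 := carrier_mul_apply hc
  rw [h] at h1
  have h2 : ((Nat.card (ConjClasses.mk c).carrier : ℂ) + 1) * (χ : G → ℂ) 1 = 0 := by
    linear_combination h1
  refine Char.irr_apply_one_ne_zero χ.2 ((mul_eq_zero.1 h2).resolve_left ?_)
  exact Nat.cast_add_one_ne_zero _

theorem faithful {g : G} (hg : (χ : G → ℂ) g = (χ : G → ℂ) 1) : g = 1 := by
  refine ((hc.2.2 g).1 (by rw [hg]; exact Char.irr_apply_one_ne_zero χ.2)).resolve_right fun h => ?_
  refine apply_c_ne_one hc ?_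
  rw [Char.isClassFunction_isConj (Char.irr_isClassFunction χ.2) h, hg]

theorem apply_eq_one_of_mem {g : G} (hg : g ∈ normalClosure ({c} : Set G))
    {ψ : Cfsg.IrrCharacter G} (h : ψ ≠ χ) : (ψ : G → ℂ) g = (ψ : G → ℂ) 1 := by
  obtain ⟨n, ρ, hρ, hψ⟩ := ψ.2
  rw [← hψ, ← Char.mem_ker_iff_char ρ]
  refine normalClosure_le_normal (Set.singleton_subset_iff.2 ?_) hg
  show c ∈ MonoidHom.ker ρ
  rw [Char.mem_ker_iff_char ρ, hψ]
  exact apply_c_eq hc h

theorem mem_normalClosure_iff {g : G} :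
    g ∈ normalClosure ({c} : Set G) ↔ (χ : G → ℂ) g ≠ 0 := by
  classical
  constructor
  · intro hg h0
    have hg1 : g ≠ 1 := by rintro rfl; exact Char.irr_apply_one_ne_zero χ.2 h0
    have := Fintype.ofFinite G
    have := Fintype.ofFinite (Cfsg.IrrCharacter G)
    have h1 := Char.sum_irr_mul_degree g
    rw [if_neg hg1, ← Finset.add_sum_erase _ _ (Finset.mem_univ χ), h0, mul_zero, zero_add,
      Finset.sum_congr rfl (g := fun ψ : Cfsg.IrrCharacter G =>
        (((Cfsg.charDegree (ψ : G → ℂ) ^ 2 : ℕ)) : ℂ)) (fun ψ hψ => by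
          rw [apply_eq_one_of_mem hc hg (Finset.mem_erase.1 hψ).1, Nat.cast_pow,
            Block.charDegree_cast (Char.irr_isCharacter ψ.2), sq]), ← Nat.cast_sum,
      Nat.cast_eq_zero, Finset.sum_eq_zero_iff] at h1
    have h2 := h1 ⟨fun _ => 1, Char.isIrrCharacter_one⟩
      (Finset.mem_erase.2 ⟨fun e => ne_one hc (congrArg Subtype.val e).symm, Finset.mem_univ _⟩)
    simp [Cfsg.charDegree] at h2
  · intro h
    rcases (hc.2.2 g).1 h with rfl | hg
    · exact one_mem _
    · obtain ⟨k, rfl⟩ := isConj_iff.1 hg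
      exact normalClosure_normal.conj_mem _ (subset_normalClosure (Set.mem_singleton c)) k

end Basic

variable {N : Subgroup G} (hN : ∀ g : G, g ∈ N ↔ (χ : G → ℂ) g ≠ 0)

include hc hN

theorem mem_iff {g : G} : g ∈ N ↔ g = 1 ∨ IsConj c g := by rw [hN, hc.2.2]

theorem eq_normalClosure : N = normalClosure ({c} : Set G) :=
  Subgroup.ext fun g => by rw [hN, mem_normalClosure_iff hc]

theorem normal : N.Normal := by
  rw [eq_normalClosure hc hN]
  infer_instance

theorem c_mem : c ∈ N := (mem_iff hc hN).2 (Or.inr (IsConj.refl c))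

theorem isConj_of_mem {x y : G} (hx : x ∈ N) (hy : y ∈ N) (hx1 : x ≠ 1) (hy1 : y ≠ 1) :
    IsConj x y :=
  (((mem_iff hc hN).1 hx).resolve_left hx1).symm.trans
    (((mem_iff hc hN).1 hy).resolve_left hy1)

theorem le_of_normal {K : Subgroup G} [hK : K.Normal] (hK1 : K ≠ ⊥) : N ≤ K := by
  have hcK : c ∈ K := by
    by_contra hcK
    refine hK1 (eq_bot_iff.2 fun g hg => mem_bot.2 ?_)
    by_contra hg1
    classical
    have := Fintype.ofFinite G
    have hz : (χ : G → ℂ) g = 0 := by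
      by_contra h
      rcases (hc.2.2 g).1 h with h1 | h1
      · exact hg1 h1
      · obtain ⟨k, hk⟩ := isConj_iff.1 h1.symm
        exact hcK (hk ▸ hK.conj_mem _ hg k)
    have := Fintype.ofFinite (Cfsg.IrrCharacter (G ⧸ K))
    have := Fintype.ofFinite (Cfsg.IrrCharacter G)
    have hχK : ∃ n ∈ K, (χ : G → ℂ) n ≠ (χ : G → ℂ) 1 :=
      ⟨g, hg, by rw [hz]; exact (Char.irr_apply_one_ne_zero χ.2).symm⟩
    -- all characters trivial on `K` have `c` in the kernel, so `c ∈ K`
    refine hcK ((QuotientGroup.eq_one_iff c).1 ?_)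
    have h1 := Char.sum_irr_mul_degree (c : G ⧸ K)
    rw [Finset.sum_congr rfl (g := fun ψ : Cfsg.IrrCharacter (G ⧸ K) =>
      (ψ : G ⧸ K → ℂ) 1 * (ψ : G ⧸ K → ℂ) 1) (fun ψ _ => by
        have h2 := apply_c_eq hc (ψ := (quotIrrEquiv K ψ).1) (fun e => by
          obtain ⟨n, hn, hne⟩ := hχK
          exact hne (e ▸ (quotIrrEquiv K ψ).2 n hn))
        rw [quotIrrEquiv_apply, quotIrrEquiv_apply] at h2
        rw [h2]; rfl)] at h1
    by_contra hne
    have h3 := Char.sum_irr_mul_degree (1 : G ⧸ K)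
    rw [if_neg hne] at h1
    rw [if_pos rfl, h1] at h3
    exact Char.natCard_ne_zero h3.symm
  intro g hg
  rcases (mem_iff hc hN).1 hg with rfl | h
  · exact one_mem _
  · obtain ⟨k, rfl⟩ := isConj_iff.1 h
    exact hK.conj_mem _ hcK k

theorem card_eq : Nat.card N = Nat.card (ConjClasses.mk c).carrier + 1 := by
  have hset : (N : Set G) = insert 1 (ConjClasses.mk c).carrier := by
    ext g
    rw [SetLike.mem_coe, mem_iff hc hN, Set.mem_insert_iff, ConjClasses.mem_carrier_iff_mk_eq,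
      ConjClasses.mk_eq_mk_iff_isConj, isConj_comm]
  show Nat.card (N : Set G) = _
  rw [hset, Nat.card_coe_set_eq, Nat.card_coe_set_eq, Set.ncard_insert_of_notMem]
  rw [ConjClasses.mem_carrier_iff_mk_eq, ConjClasses.mk_eq_mk_iff_isConj]
  exact fun h => hc.1 (isConj_one_left.1 h.symm)

theorem exists_elementary :
    ∃ p : ℕ, p.Prime ∧ IsPGroup p N ∧ IsMulCommutative N ∧ ∀ a ∈ N, a ^ p = 1 := by
  have ho1 : orderOf c ≠ 1 := fun h => hc.1 (orderOf_eq_one_iff.1 h)
  obtain ⟨r, hr, hdvd⟩ := Nat.exists_prime_and_dvd ho1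
  have hord : orderOf (c ^ (orderOf c / r)) = r := by
    rw [orderOf_pow_orderOf_div (orderOf_pos c).ne' hdvd]
  have hne : c ^ (orderOf c / r) ≠ 1 := fun h => by
    rw [h, orderOf_one] at hord
    exact hr.one_lt.ne hord
  have hall : ∀ a ∈ N, a ^ r = 1 := by
    intro a ha
    rcases eq_or_ne a 1 with rfl | ha1
    · exact one_pow r
    obtain ⟨k, hk⟩ := isConj_iff.1
      (isConj_of_mem hc hN (pow_mem (c_mem hc hN) _) ha hne ha1)
    have h0 : (c ^ (orderOf c / r)) ^ r = 1 := orderOf_dvd_iff_pow_eq_one.1 (dvd_of_eq hord)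
    rw [← hk, conj_pow, h0, mul_one, mul_inv_cancel]
  have := Fact.mk hr
  have hp : IsPGroup r N := fun a => ⟨1, Subtype.ext (by simpa using hall a a.2)⟩
  have : Nontrivial N := ⟨⟨⟨c, c_mem hc hN⟩, 1, fun e => hc.1 (congrArg Subtype.val e)⟩⟩
  have := hp.center_nontrivial
  obtain ⟨⟨⟨z, hz⟩, hzc⟩, hz1⟩ := exists_ne (1 : Subgroup.center N)
  refine ⟨r, hr, hp, ⟨⟨fun a b => ?_⟩⟩, hall⟩
  rcases eq_or_ne a 1 with rfl | ha1
  · simp
  obtain ⟨k, hk⟩ := isConj_iff.1 (isConj_of_mem hc hN hz a.2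
    (fun e => hz1 (Subtype.ext (Subtype.ext e))) (fun e => ha1 (Subtype.ext e)))
  apply Subtype.ext
  show (a : G) * b = b * a
  have hb : k⁻¹ * (b : G) * k ∈ N := by
    simpa using (normal hc hN).conj_mem _ b.2 k⁻¹
  have h1 : k⁻¹ * (b : G) * k * z = z * (k⁻¹ * (b : G) * k) :=
    congrArg Subtype.val (Subgroup.mem_center_iff.1 hzc ⟨_, hb⟩)
  rw [← hk]
  calc k * z * k⁻¹ * b = k * (z * (k⁻¹ * b * k)) * k⁻¹ := by group
    _ = k * (k⁻¹ * b * k * z) * k⁻¹ := by rw [h1]
    _ = b * (k * z * k⁻¹) := by group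

/-- `χ 1 = e (#N - 1)` and `#G = e² (#N - 1) #N`. -/
theorem exists_e : ∃ e : ℕ, (χ : G → ℂ) 1 = (e * (Nat.card N - 1) : ℕ) ∧ (χ : G → ℂ) c = -(e : ℂ) ∧
    Nat.card G = e ^ 2 * (Nat.card N - 1) * Nat.card N := by
  have := Fintype.ofFinite G
  set m := Nat.card (ConjClasses.mk c).carrier with hm
  have hmN : Nat.card N - 1 = m := by rw [card_eq hc hN, Nat.add_sub_cancel]
  have hm0 : (m : ℂ) ≠ 0 := by exact_mod_cast (carrier_pos hc).ne'
  have h1 : (χ : G → ℂ) c = -((χ : G → ℂ) 1 / m) := by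
    rw [← neg_div, eq_div_iff hm0, mul_comm]
    exact carrier_mul_apply hc
  obtain ⟨d, hd⟩ := Char.char_apply_one_eq_nat (Char.irr_isCharacter χ.2)
  have hint : IsIntegral ℤ ((d : ℂ) / (m : ℂ)) := by
    have h2 := (Block.irr_apply_isIntegral (Char.irr_isCharacter χ.2) c).neg
    rwa [h1, neg_neg, hd] at h2
  obtain ⟨e, he⟩ := Char.dvd_of_isIntegral_div (carrier_pos hc) hint
  have hd' : (χ : G → ℂ) 1 = ((e * m : ℕ) : ℂ) := by rw [hd, he, mul_comm]
  have hcv : (χ : G → ℂ) c = -(e : ℂ) := by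
    rw [h1, hd', Nat.cast_mul, mul_div_cancel_right₀ _ hm0]
  refine ⟨e, by rw [hmN, hd'], hcv, ?_⟩
  have h3 := Char.irr_classInner_self χ.2
  rw [Char.classInner_def, sum_chi_mul hc (f := fun g => conj ((χ : G → ℂ) g))
    (fun g k => congrArg conj (Char.irr_isClassFunction χ.2 g k)), hcv, hd', ← hm,
    inv_mul_eq_one₀ Char.natCard_ne_zero] at h3
  rw [hmN, card_eq hc hN, ← hm]
  have h4 : (Nat.card G : ℂ) = ((e ^ 2 * m * (m + 1) : ℕ) : ℂ) := by
    rw [h3]
    push_cast
    simp only [map_neg, map_mul, map_natCast]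
    ring
  exact_mod_cast h4

section Prime

variable {p : ℕ} [hp : Fact p.Prime] (hNp : IsPGroup p N)

include hNp

/-- `#N = p ^ n`, and `#G = p ^ (2k) (p ^ n - 1) p ^ n`. -/
theorem exists_k : ∃ n k : ℕ, 0 < n ∧ Nat.card N = p ^ n ∧
    (χ : G → ℂ) c = -(p ^ k : ℕ) ∧
    Nat.card G = p ^ (2 * k) * (Nat.card N - 1) * Nat.card N := by
  obtain ⟨e, he1, hec, heG⟩ := exists_e hc hN
  obtain ⟨n, hn⟩ := IsPGroup.iff_card.1 hNp
  have hmpos : 0 < Nat.card N - 1 := by
    rw [card_eq hc hN, Nat.add_sub_cancel]; exact carrier_pos hc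
  have hn0 : 0 < n := Nat.pos_of_ne_zero fun h => by
    rw [h, pow_zero] at hn; omega
  have he0 : e ≠ 0 := by
    rintro rfl
    exact apply_c_ne_zero hc (by rw [hec]; simp)
  have hpr : ∀ r : ℕ, r.Prime → r ∣ e → r = p := by
    intro r hr hre
    by_contra hrp
    have := Fact.mk hr
    have := Fintype.ofFinite G
    let R : Sylow r G := default
    have := Fintype.ofFinite (R : Subgroup G)
    obtain ⟨j, hj⟩ := Char.classInner_isCharacter_nat
      (Char.isCharacter_restrict (Char.irr_isCharacter χ.2) (R : Subgroup G)) Char.isCharacter_one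
    have hsum : ∑ x : (R : Subgroup G), (χ : G → ℂ) x = (χ : G → ℂ) 1 := by
      rw [Finset.sum_eq_single (1 : (R : Subgroup G))]
      · rfl
      · intro x _ hx
        by_contra h
        have hd := IsPGroup.disjoint_of_ne r p hrp _ _ R.isPGroup' hNp
        exact hx (Subtype.ext (Subgroup.mem_bot.1
          (hd.le_bot (Subgroup.mem_inf.2 ⟨x.2, (hN _).2 h⟩))))
      · simp
    rw [Char.classInner_def] at hj
    simp only [map_one, mul_one] at hj
    rw [hsum, he1, inv_mul_eq_iff_eq_mul₀ Char.natCard_ne_zero, R.card_eq_multiplicity] at hj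
    have hj' : e * (Nat.card N - 1) = r ^ (Nat.card G).factorization r * j := by exact_mod_cast hj
    have hle := (hr.pow_dvd_iff_le_factorization (Nat.mul_ne_zero he0 hmpos.ne')).1
      (Dvd.intro j hj'.symm)
    have hG : (Nat.card G).factorization r = 2 * e.factorization r +
        (Nat.card N - 1).factorization r + (Nat.card N).factorization r := by
      rw [heG, Nat.factorization_mul (mul_ne_zero (pow_ne_zero _ he0) hmpos.ne') Nat.card_pos.ne',
        Nat.factorization_mul (pow_ne_zero _ he0) hmpos.ne', Nat.factorization_pow]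
      simp
    rw [Nat.factorization_mul he0 hmpos.ne', Finsupp.coe_add, Pi.add_apply, hG] at hle
    have := hr.factorization_pos_of_dvd he0 hre
    omega
  refine ⟨n, e.primeFactorsList.length, hn0, hn, ?_, ?_⟩
  · rw [hec, ← Nat.eq_prime_pow_of_unique_prime_dvd he0 (fun {d} hd hde => hpr d hd hde)]
  · rw [heG, mul_comm 2, pow_mul,
      ← Nat.eq_prime_pow_of_unique_prime_dvd he0 (fun {d} hd hde => hpr d hd hde)]

theorem factorization_card {n k : ℕ} (hn0 : 0 < n) (hn : Nat.card N = p ^ n)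
    (hG : Nat.card G = p ^ (2 * k) * (Nat.card N - 1) * Nat.card N) :
    (Nat.card G).factorization p = 2 * k + n := by
  have h1 : 1 < Nat.card N := hn ▸ Nat.one_lt_pow hn0.ne' hp.out.one_lt
  have h2 : (Nat.card N - 1).factorization p = 0 := by
    refine Nat.factorization_eq_zero_of_not_dvd fun h => ?_
    have h3 : p ∣ Nat.card N := hn ▸ dvd_pow_self p hn0.ne'
    have h4 := Nat.dvd_sub h3 h
    rw [show Nat.card N - (Nat.card N - 1) = 1 by omega, Nat.dvd_one] at h4
    exact hp.out.ne_one h4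
  rw [hG, Nat.factorization_mul (mul_ne_zero (pow_ne_zero _ hp.out.ne_zero) (by omega)) (by omega),
    Nat.factorization_mul (pow_ne_zero _ hp.out.ne_zero) (by omega), hn, hp.out.factorization_pow,
    hp.out.factorization_pow]
  simp only [Finsupp.coe_add, Pi.add_apply, Finsupp.single_eq_same]
  rw [hn] at h2
  omega

/-- The centralizer of a nonidentity element of `N` is a Sylow `p`-subgroup. -/
theorem exists_sylow_centralizer {x : G} (hx : x ∈ N) (hx1 : x ≠ 1) :
    ∃ P : Sylow p G, centralizer ({x} : Set G) = P := by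
  obtain ⟨n, k, hn0, hn, -, hG⟩ := exists_k hc hN hNp
  have hcx : ConjClasses.mk x = ConjClasses.mk c :=
    ConjClasses.mk_eq_mk_iff_isConj.2 (((mem_iff hc hN).1 hx).resolve_left hx1).symm
  have := Fintype.ofFinite G
  have h := Char.natCard_carrier_mul_centralizer x
  rw [hcx, hG, mul_comm (p ^ (2 * k)), mul_assoc,
    show Nat.card N - 1 = Nat.card (ConjClasses.mk c).carrier by
      rw [card_eq hc hN, Nat.add_sub_cancel]] at h
  have hcard := Nat.eq_of_mul_eq_mul_left (carrier_pos hc) h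
  rw [hn, ← pow_add, ← factorization_card hc hN hNp hn0 hn hG] at hcard
  exact ⟨Sylow.ofCard _ hcard, (Sylow.coe_ofCard _ _).symm⟩

theorem isPGroup_centralizer {x : G} (hx : x ∈ N) (hx1 : x ≠ 1) :
    IsPGroup p (centralizer ({x} : Set G)) := by
  obtain ⟨P, hP⟩ := exists_sylow_centralizer hc hN hNp hx hx1
  exact hP ▸ P.isPGroup'

/-- The inertia group of a nonprincipal irreducible character of `N` is a Sylow `p`-subgroup. -/
theorem exists_sylow_inertia [N.Normal] (μ : Cfsg.IrrCharacter N)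
    (hμ : (μ : N → ℂ) ≠ fun _ => 1) :
    ∃ P : Sylow p G, Clifford.inertia (μ : N → ℂ) = P := by
  classical
  have := Fintype.ofFinite G
  have := Fintype.ofFinite N
  obtain ⟨n, k, hn0, hn, hcv, hG⟩ := exists_k hc hN hNp
  have hres : ∀ ν : Cfsg.IrrCharacter N, (ν : N → ℂ) ≠ (fun _ => 1) →
      Cfsg.classInner (fun a : N => (χ : G → ℂ) a) (ν : N → ℂ) ≠ 0 := by
    intro ν hν h0
    have h1 := Char.irr_classInner_ne ν.2 Char.isIrrCharacter_one hν
    rw [Char.classInner_def] at h0 h1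
    simp only [map_one, mul_one] at h1
    have h2 := (mul_eq_zero.1 h0).resolve_left (inv_ne_zero Char.natCard_ne_zero)
    have h3 := (mul_eq_zero.1 h1).resolve_left (inv_ne_zero Char.natCard_ne_zero)
    rw [← Finset.add_sum_erase _ _ (Finset.mem_univ (1 : N))] at h2 h3
    rw [Finset.sum_congr rfl (g := fun a : N => (χ : G → ℂ) c * conj ((ν : N → ℂ) a)) (fun a ha => by
        have ha1 : (a : G) ≠ 1 := fun e => (Finset.mem_erase.1 ha).1 (Subtype.ext e)
        rw [Char.isClassFunction_isConj (Char.irr_isClassFunction χ.2)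
          (isConj_of_mem hc hN a.2 (c_mem hc hN) ha1 hc.1)]), ← Finset.mul_sum, ← map_sum,
      eq_neg_of_add_eq_zero_right h3, map_neg] at h2
    have h4 : ((χ : G → ℂ) 1 - (χ : G → ℂ) c) * conj ((ν : N → ℂ) 1) = 0 := by
      have : ((1 : N) : G) = 1 := rfl
      rw [this] at h2
      linear_combination h2
    rcases mul_eq_zero.1 h4 with h5 | h5
    · exact apply_c_ne_one hc (sub_eq_zero.1 h5).symm
    · rw [map_eq_zero] at h5
      exact Char.irr_apply_one_ne_zero ν.2 h5
  obtain ⟨-, -, -, hcomm, -⟩ := exists_elementary hc hN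
  have hnum : Nat.card (Cfsg.IrrCharacter N) = Nat.card N := by
    rw [Char.irr_card_eq]
    refine (Nat.card_congr (Equiv.ofBijective ConjClasses.mk ⟨fun a b h => ?_,
      ConjClasses.mk_surjective⟩)).symm
    obtain ⟨d, hd⟩ := isConj_iff.1 (ConjClasses.mk_eq_mk_iff_isConj.1 h)
    rw [← hd, mul_comm' d a, mul_inv_cancel_right]
  let f : G → Cfsg.IrrCharacter N := fun g =>
    ⟨Clifford.conjFn g⁻¹ (μ : N → ℂ), Clifford.isIrrCharacter_conjFn μ.2 _⟩
  have hf : ∀ g h, f g = f h ↔ g⁻¹ * h ∈ Clifford.inertia (μ : N → ℂ) := by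
    intro g h
    rw [Clifford.mem_inertia_iff_conjFn]
    constructor
    · intro e
      have e' : Clifford.conjFn g⁻¹ (μ : N → ℂ) = Clifford.conjFn h⁻¹ (μ : N → ℂ) :=
        congrArg Subtype.val e
      rw [← Clifford.conjFn_conjFn h g⁻¹ (μ : N → ℂ), e', Clifford.conjFn_conjFn, inv_mul_cancel,
        Clifford.conjFn_one]
    · intro e
      refine Subtype.ext ?_
      show Clifford.conjFn g⁻¹ (μ : N → ℂ) = Clifford.conjFn h⁻¹ (μ : N → ℂ)
      conv_rhs => rw [← e, Clifford.conjFn_conjFn, mul_assoc, mul_inv_cancel, mul_one]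
  have hrange : Set.range f = {ν : Cfsg.IrrCharacter N | (ν : N → ℂ) ≠ fun _ => 1} := by
    ext ν
    constructor
    · rintro ⟨g, rfl⟩ (h : Clifford.conjFn g⁻¹ (μ : N → ℂ) = fun _ => 1)
      refine hμ ?_
      rw [← Clifford.conjFn_one (μ : N → ℂ), ← inv_mul_cancel g, ← Clifford.conjFn_conjFn, h]
      rfl
    · intro hν
      obtain ⟨g, hg⟩ := Clifford.exists_conj_of_constituents χ.2 μ.2 ν.2 (hres μ hμ) (hres ν hν)
      exact ⟨g⁻¹, Subtype.ext (by simpa [f] using hg)⟩
  have hidx : (Clifford.inertia (μ : N → ℂ)).index = Nat.card N - 1 := by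
    have h1 : Nat.card (Quotient (Setoid.ker f)) = (Clifford.inertia (μ : N → ℂ)).index :=
      Nat.card_congr (Quotient.congrRight fun g h => by
        rw [QuotientGroup.leftRel_apply]
        exact hf g h)
    rw [← h1, Nat.card_congr (Setoid.quotientKerEquivRange f), hrange, Nat.card_coe_set_eq]
    have h2 : {ν : Cfsg.IrrCharacter N | (ν : N → ℂ) ≠ fun _ => 1} =
        {(⟨fun _ => 1, Char.isIrrCharacter_one⟩ : Cfsg.IrrCharacter N)}ᶜ := by
      ext ν
      simp [Subtype.ext_iff]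
    rw [h2, Set.ncard_compl, Set.ncard_singleton, hnum]
  have h := Subgroup.index_mul_card (Clifford.inertia (μ : N → ℂ))
  have hm : 0 < Nat.card N - 1 := by
    rw [card_eq hc hN, Nat.add_sub_cancel]; exact carrier_pos hc
  rw [hidx, hG, mul_comm (p ^ (2 * k)), mul_assoc] at h
  have hcard := Nat.eq_of_mul_eq_mul_left hm h
  rw [hn, ← pow_add, ← factorization_card hc hN hNp hn0 hn hG] at hcard
  exact ⟨Sylow.ofCard _ hcard, (Sylow.coe_ofCard _ _).symm⟩

end Prime

/-- Outside `N`, centralizers have the same order in `G` and in `G ⧸ N`. -/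
theorem card_centralizer_eq [N.Normal] {x : G} (hx : x ∉ N) :
    Nat.card (centralizer ({x} : Set G)) = Nat.card (centralizer ({(x : G ⧸ N)} : Set (G ⧸ N))) := by
  classical
  have := Fintype.ofFinite G
  have := Fintype.ofFinite (Cfsg.IrrCharacter G)
  have := Fintype.ofFinite (G ⧸ N)
  have := Fintype.ofFinite (Cfsg.IrrCharacter (G ⧸ N))
  have h1 := Char.column_orthogonality x x
  have h2 := Char.column_orthogonality (x : G ⧸ N) (x : G ⧸ N)
  rw [if_pos (IsConj.refl _)] at h1 h2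
  have hx0 : (χ : G → ℂ) x = 0 := not_not.1 (mt (hN x).2 hx)
  have key : ∀ φ : Cfsg.IrrCharacter G,
      (∀ n ∈ N, (φ : G → ℂ) n = (φ : G → ℂ) 1) ↔ φ ≠ χ :=
    fun φ => ⟨fun h e => apply_c_ne_one hc (e ▸ h c (c_mem hc hN)),
      fun h n hn => apply_eq_one_of_mem hc (eq_normalClosure hc hN ▸ hn) h⟩
  rw [← Finset.add_sum_erase _ _ (Finset.mem_univ χ), hx0, zero_mul, zero_add,
    Finset.sum_subtype (p := fun φ : Cfsg.IrrCharacter G =>
      ∀ n ∈ N, (φ : G → ℂ) n = (φ : G → ℂ) 1) _ (fun φ => by simp [key φ])] at h1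
  rw [← (quotIrrEquiv N).sum_comp] at h1
  simp only [quotIrrEquiv_apply] at h1
  exact_mod_cast h1.symm.trans h2

/-- A nonidentity element of `G ⧸ N` has all its preimages conjugate. -/
theorem isConj_mul_of_not_mem [N.Normal] {x n : G} (hx : x ∉ N) (hn : n ∈ N) :
    IsConj x (x * n) := by
  classical
  let C := (ConjClasses.mk (x : G ⧸ N)).carrier
  have hsub : (ConjClasses.mk x).carrier ⊆ (QuotientGroup.mk : G → G ⧸ N) ⁻¹' C := by
    intro y hy
    rw [ConjClasses.mem_carrier_iff_mk_eq, ConjClasses.mk_eq_mk_iff_isConj] at hy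
    show ((y : G ⧸ N)) ∈ (ConjClasses.mk (x : G ⧸ N)).carrier
    rw [ConjClasses.mem_carrier_iff_mk_eq, ConjClasses.mk_eq_mk_iff_isConj]
    exact MonoidHom.map_isConj (QuotientGroup.mk' N) hy
  have hpre : Nat.card ((QuotientGroup.mk : G → G ⧸ N) ⁻¹' C) = Nat.card N * Nat.card C := by
    rw [Nat.card_congr (QuotientGroup.preimageMkEquivSubgroupProdSet N C), Nat.card_prod]
  have := Fintype.ofFinite G
  have := Fintype.ofFinite (G ⧸ N)
  have h1 := Char.natCard_carrier_mul_centralizer x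
  have h2 := Char.natCard_carrier_mul_centralizer (x : G ⧸ N)
  rw [← card_centralizer_eq hc hN hx] at h2
  have h3 := Subgroup.card_eq_card_quotient_mul_card_subgroup N
  rw [← h2, mul_right_comm] at h3
  have hcard := Nat.eq_of_mul_eq_mul_right Nat.card_pos (h1.trans h3)
  have heq := Set.eq_of_subset_of_ncard_le hsub (by
    rw [← Nat.card_coe_set_eq, ← Nat.card_coe_set_eq, hpre, hcard, mul_comm])
  have hmem : x * n ∈ (ConjClasses.mk x).carrier := by
    rw [heq]
    show ((x * n : G) : G ⧸ N) ∈ (ConjClasses.mk (x : G ⧸ N)).carrier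
    rw [QuotientGroup.mk_mul, (QuotientGroup.eq_one_iff n).2 hn, mul_one]
    exact ConjClasses.mem_carrier_mk
  rw [ConjClasses.mem_carrier_iff_mk_eq, ConjClasses.mk_eq_mk_iff_isConj] at hmem
  exact hmem.symm

/-- A `p`-subgroup centralizing an element outside `N` has order at most `p ^ (2 k)`. -/
theorem card_le_of_centralizes [N.Normal] {p : ℕ} [hp : Fact p.Prime] {n k : ℕ} (hn0 : 0 < n) (hn : Nat.card N = p ^ n)
    (hG : Nat.card G = p ^ (2 * k) * (Nat.card N - 1) * Nat.card N) {x : G} (hx : x ∉ N)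
    {K : Subgroup G} (hK : IsPGroup p K) (hKx : K ≤ centralizer ({x} : Set G)) :
    Nat.card K ≤ p ^ (2 * k) := by
  obtain ⟨j, hj⟩ := IsPGroup.iff_card.1 hK
  rw [hj]
  refine Nat.pow_le_pow_right hp.out.pos ?_
  have hq : Nat.card (G ⧸ N) = p ^ (2 * k) * (Nat.card N - 1) := by
    have h := Subgroup.card_eq_card_quotient_mul_card_subgroup N
    rw [hG] at h
    exact (Nat.eq_of_mul_eq_mul_right Nat.card_pos h).symm
  have hdvd : p ^ j ∣ p ^ (2 * k) * (Nat.card N - 1) := by
    rw [← hj, ← hq]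
    refine (Subgroup.card_dvd_of_le hKx).trans ?_
    rw [card_centralizer_eq hc hN hx]
    exact Subgroup.card_subgroup_dvd_card _
  have hcop : Nat.Coprime (p ^ j) (Nat.card N - 1) := by
    refine Nat.Coprime.pow_left _ (hp.out.coprime_iff_not_dvd.2 fun h => ?_)
    have h3 : p ∣ Nat.card N := hn ▸ dvd_pow_self p hn0.ne'
    have h4 := Nat.dvd_sub h3 h
    rw [show Nat.card N - (Nat.card N - 1) = 1 by
      have := Nat.card_pos (α := N); omega, Nat.dvd_one] at h4
    exact hp.out.ne_one h4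
  exact (Nat.pow_dvd_pow_iff_le_right hp.out.one_lt).1 (hcop.dvd_of_dvd_mul_right hdvd)

end CfsgLib.BlockB.Gagola
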