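import Cfsg.Agent.Lib.BlockB.GaloisAvg
import Cfsg.Agent.Lib.Char.Monomial
import Cfsg.Agent.Lib.Clifford.Extension
import Mathlib.GroupTheory.Nilpotent
import Mathlib.LinearAlgebra.Trace

/-!
A faithful irreducible character whose product with a Galois conjugate is irreducible: normal
subgroups with central commutators are central.
-/

set_option autoImplicit false
set_option linter.unusedSectionVars false

namespace CfsgLib.BlockB.GaloisProduct

open scoped TensorProduct ComplexConjugate
open TensorProduct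

universe u

variable {G : Type u} [Group G] [Finite G]

/-- Main criterion. -/
theorem le_center_of_commutator_le (χ : Cfsg.IrrCharacter G)
    (hfaith : ∀ g : G, (χ : G → ℂ) g = (χ : G → ℂ) 1 → g = 1) {k : ℕ}
    (hk : k.Coprime (Nat.card G))
    (hirr : Cfsg.IsIrrCharacter G (fun g => (χ : G → ℂ) g * (χ : G → ℂ) (g ^ k)))
    (W : Subgroup G) [hW : W.Normal]
    (hcomm : ∀ x ∈ W, ∀ y ∈ W, x * y * x⁻¹ * y⁻¹ ∈ Subgroup.center G) :
    W ≤ Subgroup.center G := by
  classical
  have := Fintype.ofFinite G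
  obtain ⟨n, ρ, hρ, hρc⟩ := χ.2
  obtain ⟨n', σ, -, hσc⟩ := (galIrr hk χ).2
  have hσv : ∀ g, σ.character g = ρ.character (g ^ k) := fun g => by
    rw [hσc, hρc]; rfl
  have hn : n' = n := by
    have h := hσv 1
    rw [one_pow, Representation.char_one, Representation.char_one] at h
    simpa using h
  subst hn
  rename' n' => n
  have hn0 : (n : ℂ) ≠ 0 := by
    have h := Char.irr_apply_one_ne_zero χ.2
    rw [← hρc, Representation.char_one] at h
    simpa using h
  let π := Representation.tprod ρ σ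
  have hπc : ∀ g, π.character g = ρ.character g * ρ.character (g ^ k) := fun g => by
    rw [Representation.char_tensor, Pi.mul_apply, hσv]
  have hπ : π.IsIrreducible := Clifford.isIrreducible_of_classInner_self π (by
    have h : π.character = fun g => (χ : G → ℂ) g * (χ : G → ℂ) (g ^ k) := by
      funext g; rw [hπc, hρc]
    rw [h]; exact Char.irr_classInner_self hirr)
  -- the exponent `m`
  obtain ⟨m, hm⟩ : ∃ m : ℕ, Nat.card G ∣ k * m + 1 := by
    rcases Nat.lt_or_ge 1 (Nat.card G) with h1 | h1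
    · obtain ⟨r, -, hr⟩ := Nat.exists_mul_mod_eq_one_of_coprime hk h1
      refine ⟨r * (Nat.card G - 1), Nat.dvd_of_mod_eq_zero ?_⟩
      have e : k * (r * (Nat.card G - 1)) = (k * r) * (Nat.card G - 1) := by ring
      rw [e, Nat.add_mod, Nat.mul_mod, hr, one_mul, Nat.mod_mod,
        Nat.mod_eq_of_lt (Nat.sub_lt Nat.card_pos one_pos), Nat.mod_eq_of_lt h1,
        Nat.sub_add_cancel h1.le, Nat.mod_self]
    · exact ⟨0, by rw [show Nat.card G = 1 by have := Nat.card_pos (α := G); omega]; exact one_dvd _⟩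
  have hinv : ∀ g : G, g ^ (k * m) = g⁻¹ := fun g => by
    refine eq_inv_of_mul_eq_one_left ?_
    rw [← pow_succ]
    exact orderOf_dvd_iff_pow_eq_one.1 ((orderOf_dvd_natCard g).trans hm)
  let T : G → G → (Fin n → ℂ) ⊗[ℂ] (Fin n → ℂ) →ₗ[ℂ] (Fin n → ℂ) ⊗[ℂ] (Fin n → ℂ) :=
    fun a b => TensorProduct.map (ρ a) (σ b)
  have hTmul : ∀ a b a' b', T a b * T a' b' = T (a * a') (b * b') := fun a b a' b' => by
    show TensorProduct.map (ρ a) (σ b) * TensorProduct.map (ρ a') (σ b') = _
    rw [← TensorProduct.map_mul, ← map_mul, ← map_mul]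
  have hT1 : T 1 1 = 1 := by
    show TensorProduct.map (ρ 1) (σ 1) = 1
    rw [map_one, map_one, TensorProduct.map_one]
  have htr : ∀ a b, LinearMap.trace ℂ _ (T a b) = ρ.character a * ρ.character (b ^ k) :=
    fun a b => by
      show LinearMap.trace ℂ _ (TensorProduct.map (ρ a) (σ b)) = _
      rw [LinearMap.trace_tensorProduct', ← hσv]
      rfl
  have hconj : ∀ z : G, ρ.character z⁻¹ = conj (ρ.character z) := fun z =>
    Char.char_inv (Char.isCharacter_of_rep ρ) z
  -- central elements act trivially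
  have hZ : ∀ z ∈ Subgroup.center G, T z (z ^ m) = 1 := by
    intro z hz
    have := hρ
    obtain ⟨c, hc⟩ := Char.exists_scalar_of_commute ρ (ρ z) (fun g => by
      rw [← Module.End.mul_eq_comp, ← Module.End.mul_eq_comp, ← map_mul, ← map_mul,
        Subgroup.mem_center_iff.1 hz g])
    obtain ⟨n'', σ', hσ', hσc'⟩ := (galIrr hk χ).2
    have hσirr : σ.IsIrreducible := Clifford.isIrreducible_of_classInner_self σ (by
      rw [hσc]; exact Char.irr_classInner_self (galIrr hk χ).2)
    obtain ⟨d, hd⟩ := Char.exists_scalar_of_commute σ (σ (z ^ m)) (fun g => by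
      rw [← Module.End.mul_eq_comp, ← Module.End.mul_eq_comp, ← map_mul, ← map_mul,
        Subgroup.mem_center_iff.1 (pow_mem hz m) g])
    have htc : ρ.character z = c * n := by
      show LinearMap.trace ℂ _ (ρ z) = _
      rw [hc, map_smul, LinearMap.trace_id, Module.finrank_fin_fun, smul_eq_mul]
    have htd : σ.character (z ^ m) = d * n := by
      show LinearMap.trace ℂ _ (σ (z ^ m)) = _
      rw [hd, map_smul, LinearMap.trace_id, Module.finrank_fin_fun, smul_eq_mul]
    rw [hσv, ← pow_mul, mul_comm m k, hinv, hconj, htc] at htd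
    have hcd : conj c = d := mul_right_cancel₀ hn0 (by
      rw [← htd, map_mul, Complex.conj_natCast])
    have hcc : c * conj c = 1 := by
      have hnc : ρ (z⁻¹) * ρ z = 1 := by rw [← map_mul, inv_mul_cancel, map_one]
      have ht := congrArg (LinearMap.trace ℂ _) hnc
      rw [hc, Module.End.mul_eq_comp, LinearMap.comp_smul, LinearMap.comp_id, map_smul,
        LinearMap.trace_one, Module.finrank_fin_fun, smul_eq_mul] at ht
      change c * ρ.character z⁻¹ = _ at ht
      rw [hconj, htc, map_mul, Complex.conj_natCast, ← mul_assoc] at ht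
      exact mul_right_cancel₀ hn0 (by rw [ht, one_mul])
    show TensorProduct.map (ρ z) (σ (z ^ m)) = 1
    rw [hc, hd, ← hcd, TensorProduct.map_smul_left, TensorProduct.map_smul_right, smul_smul, hcc,
      one_smul, TensorProduct.map_id]
    rfl
  -- scalar sums
  have hPhi : ∀ A : Subgroup G, A.Normal → ∀ [Fintype A],
      ∃ c : ℂ, ∑ a : A, T (a : G) ((a : G) ^ m) = c • 1 := by
    intro A hA _
    have := hπ
    obtain ⟨c, hc⟩ := Char.exists_scalar_of_commute π (∑ a : A, T (a : G) ((a : G) ^ m))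
      (fun g => by
        rw [← Module.End.mul_eq_comp, ← Module.End.mul_eq_comp, Finset.sum_mul, Finset.mul_sum]
        refine (Fintype.sum_equiv (MulAut.conjNormal g).toEquiv _ _ fun a => ?_).symm
        show T g g * T (a : G) ((a : G) ^ m) = T _ _ * T g g
        rw [hTmul, hTmul]
        simp only [MulEquiv.toEquiv_eq_coe, EquivLike.coe_coe, MulAut.conjNormal_apply, conj_pow,
          inv_mul_cancel_right])
    exact ⟨c, hc⟩
  -- normal abelian subgroups are central
  have habel : ∀ A : Subgroup G, A.Normal → (∀ x ∈ A, ∀ y ∈ A, x * y = y * x) →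
      A ≤ Subgroup.center G := by
    intro A hA hAc b hb
    have := Fintype.ofFinite A
    obtain ⟨c, hc⟩ := hPhi A hA
    have hfix : T b (b ^ m) * (∑ a : A, T (a : G) ((a : G) ^ m)) =
        ∑ a : A, T (a : G) ((a : G) ^ m) := by
      rw [Finset.mul_sum]
      refine Fintype.sum_equiv (Equiv.mulLeft (⟨b, hb⟩ : A)) _ _ fun a => ?_
      rw [hTmul]
      show T (b * (a : G)) (b ^ m * (a : G) ^ m) = T (b * (a : G)) ((b * (a : G)) ^ m)
      rw [Commute.mul_pow (hAc b hb a a.2)]
    have hc0 : c ≠ 0 := by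
      intro h
      have h1 := congrArg (LinearMap.trace ℂ _) hc
      rw [h, zero_smul, map_zero, map_sum] at h1
      have h2 : ∀ a : A, LinearMap.trace ℂ _ (T (a : G) ((a : G) ^ m)) =
          ((Complex.normSq (ρ.character (a : G)) : ℝ) : ℂ) := fun a => by
        rw [htr, ← pow_mul, mul_comm m k, hinv, hconj, Complex.mul_conj]
      rw [Finset.sum_congr rfl fun a _ => h2 a, ← Complex.ofReal_sum, Complex.ofReal_eq_zero,
        Finset.sum_eq_zero_iff_of_nonneg fun a _ => Complex.normSq_nonneg _] at h1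
      have h3 := h1 1 (Finset.mem_univ _)
      rw [Complex.normSq_eq_zero, OneMemClass.coe_one, Representation.char_one,
        Module.finrank_fin_fun] at h3
      exact hn0 h3
    rw [hc] at hfix
    have hTb : T b (b ^ m) = 1 := by
      rw [mul_smul_comm, mul_one] at hfix
      exact smul_right_injective _ hc0 hfix
    rw [Subgroup.mem_center_iff]
    intro g
    have h1 : T g 1 * T b (b ^ m) = T b (b ^ m) * T g 1 := by rw [hTb, one_mul, mul_one]
    rw [hTmul, hTmul, one_mul, mul_one] at h1
    have h2 : T (g * b * (b * g)⁻¹) 1 = 1 := by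
      have h3 := congrArg (· * T (b * g)⁻¹ (b ^ m)⁻¹) h1
      simp only [hTmul, mul_inv_cancel, hT1] at h3
      exact h3
    have h4 := congrArg (LinearMap.trace ℂ _) h2
    rw [htr, ← hT1, htr, one_pow] at h4
    have h5 : (χ : G → ℂ) (g * b * (b * g)⁻¹) = (χ : G → ℂ) 1 := by
      rw [← hρc]
      refine mul_right_cancel₀ ?_ h4
      rw [Representation.char_one, Module.finrank_fin_fun]
      exact hn0
    exact mul_inv_eq_one.1 (hfaith _ h5)
  -- outside the centre the character vanishes on `W`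
  intro x0 hx0
  by_contra hx0Z
  let ZW : Subgroup G := (Subgroup.center W).map W.subtype
  have hZW : ZW ≤ Subgroup.center G := by
    refine habel ZW inferInstance ?_
    rintro _ ⟨a, ha, rfl⟩ _ ⟨b, -, rfl⟩
    exact congrArg Subtype.val (Subgroup.mem_center_iff.1 ha b).symm
  have hvan : ∀ x ∈ W, x ∉ Subgroup.center G → ρ.character x = 0 := by
    intro x hx hxZ
    obtain ⟨y, hy, hxy⟩ : ∃ y ∈ W, x * y ≠ y * x := by
      by_contra hno
      refine hxZ (hZW ⟨⟨x, hx⟩, ?_, rfl⟩)
      rw [SetLike.mem_coe, Subgroup.mem_center_iff]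
      intro y
      refine Subtype.ext (Eq.symm ?_)
      by_contra hne
      exact hno ⟨(y : G), y.2, hne⟩
    have hz := hcomm y hy x hx
    set z := y * x * y⁻¹ * x⁻¹ with hzdef
    have hzx : z * x = y * x * y⁻¹ := by rw [hzdef, inv_mul_cancel_right]
    have := hρ
    obtain ⟨c, hc⟩ := Char.exists_scalar_of_commute ρ (ρ z) (fun g => by
      rw [← Module.End.mul_eq_comp, ← Module.End.mul_eq_comp, ← map_mul, ← map_mul,
        Subgroup.mem_center_iff.1 hz g])
    have h1 : ρ.character (z * x) = c * ρ.character x := by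
      show LinearMap.trace ℂ _ (ρ (z * x)) = _
      rw [map_mul, hc, Module.End.mul_eq_comp, LinearMap.smul_comp, LinearMap.id_comp, map_smul,
        smul_eq_mul]
      rfl
    rw [hzx, Representation.char_conj] at h1
    by_contra h0
    have hc1 : c = 1 := mul_right_cancel₀ h0 (by rw [one_mul, ← h1])
    have h2 : (χ : G → ℂ) z = (χ : G → ℂ) 1 := by
      rw [← hρc]
      show LinearMap.trace ℂ _ (ρ z) = LinearMap.trace ℂ _ (ρ 1)
      rw [hc, hc1, one_smul, map_one]
      rfl
    refine hxy ?_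
    have h3 := hfaith z h2
    rw [hzdef, mul_inv_eq_one, mul_inv_eq_iff_eq_mul] at h3
    exact h3.symm
  have := Fintype.ofFinite W
  obtain ⟨c, hc⟩ := hPhi W hW
  have h1 := congrArg (fun F => LinearMap.trace ℂ _ (T x0⁻¹ (x0 ^ m)⁻¹ * F)) hc
  simp only [Finset.mul_sum, hTmul, map_sum, mul_smul_comm, mul_one, map_smul, htr] at h1
  have hx0inv : x0⁻¹ ∉ Subgroup.center G := fun h => hx0Z (inv_mem_iff.1 h)
  rw [hvan x0⁻¹ (inv_mem hx0) hx0inv, zero_mul, smul_zero] at h1
  have h2 : ∀ a : W, ρ.character (x0⁻¹ * (a : G)) * ρ.character (((x0 ^ m)⁻¹ * (a : G) ^ m) ^ k) =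
      if x0⁻¹ * (a : G) ∈ Subgroup.center G then (n : ℂ) * n else 0 := by
    intro a
    by_cases hz : x0⁻¹ * (a : G) ∈ Subgroup.center G
    · rw [if_pos hz]
      have ha : (a : G) = x0 * (x0⁻¹ * (a : G)) := by rw [mul_inv_cancel_left]
      have hpow : (x0 ^ m)⁻¹ * (a : G) ^ m = (x0⁻¹ * (a : G)) ^ m := by
        conv_lhs => rw [ha, Commute.mul_pow (Subgroup.mem_center_iff.1 hz x0), inv_mul_cancel_left]
      rw [hpow, ← htr, hZ _ hz, ← hT1, htr, one_pow, Representation.char_one,
        Module.finrank_fin_fun]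
    · rw [if_neg hz, hvan _ (W.mul_mem (inv_mem hx0) a.2) hz, zero_mul]
  rw [Finset.sum_congr rfl fun a _ => h2 a, Finset.sum_ite, Finset.sum_const_zero, add_zero,
    Finset.sum_const, nsmul_eq_mul] at h1
  have h3 : 0 < (Finset.univ.filter fun a : W => x0⁻¹ * (a : G) ∈ Subgroup.center G).card :=
    Finset.card_pos.2 ⟨⟨x0, hx0⟩, by simp⟩
  exact mul_ne_zero (Nat.cast_ne_zero.2 h3.ne') (mul_ne_zero hn0 hn0) h1

/-- The Fitting subgroup is central: upper central series induction. -/
theorem le_center_of_isNilpotent (χ : Cfsg.IrrCharacter G)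
    (hfaith : ∀ g : G, (χ : G → ℂ) g = (χ : G → ℂ) 1 → g = 1) {k : ℕ}
    (hk : k.Coprime (Nat.card G))
    (hirr : Cfsg.IsIrrCharacter G (fun g => (χ : G → ℂ) g * (χ : G → ℂ) (g ^ k)))
    (F : Subgroup G) [F.Normal] (hF : Group.IsNilpotent F) : F ≤ Subgroup.center G := by
  have hstep : ∀ i, (Subgroup.upperCentralSeries F i).map F.subtype ≤ Subgroup.center G := by
    intro i
    induction i with
    | zero => simp
    | succ i ih =>
      have : (Subgroup.upperCentralSeries F (i + 1)).Characteristic := inferInstance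
      refine le_center_of_commutator_le χ hfaith hk hirr _ ?_
      rintro _ ⟨a, ha, rfl⟩ _ ⟨b, -, rfl⟩
      exact ih ⟨_, (Subgroup.mem_upperCentralSeries_succ_iff.1 ha b), rfl⟩
  obtain ⟨i, hi⟩ := hF.nilpotent
  intro x hx
  exact hstep i ⟨⟨x, hx⟩, by rw [hi]; exact Subgroup.mem_top _, rfl⟩

end CfsgLib.BlockB.GaloisProduct
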