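import Cfsg.Agent.Lib.BlockB.GaloisAvg
import Cfsg.Agent.Lib.Char.Galois
import Cfsg.Agent.Lib.Char.Diag
import Mathlib.LinearAlgebra.Lagrange
import Mathlib.LinearAlgebra.Determinant
import Mathlib.FieldTheory.Galois.Basic

/-!
Character values under Galois conjugation: determinants, and membership in cyclotomic fields.
-/

set_option autoImplicit false
set_option linter.unusedSectionVars false
set_option linter.style.haveILetI false

namespace CfsgLib.BlockB.GaloisValues

open Polynomial
open scoped ComplexConjugate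

universe u

/-- Families with equal power sums have equal products. -/
theorem prod_eq_of_power_sums {ι κ : Type*} [Fintype ι] [Fintype κ] (μ : ι → ℂ) (ν : κ → ℂ)
    (h : ∀ j : ℕ, ∑ i, μ i ^ j = ∑ i, ν i ^ j) : ∏ i, μ i = ∏ i, ν i := by
  classical
  set S := Finset.univ.image μ ∪ Finset.univ.image ν with hS
  have hμ : ∀ i ∈ (Finset.univ : Finset ι), μ i ∈ S := fun i _ =>
    Finset.mem_union_left _ (Finset.mem_image_of_mem _ (Finset.mem_univ i))
  have hν : ∀ i ∈ (Finset.univ : Finset κ), ν i ∈ S := fun i _ =>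
    Finset.mem_union_right _ (Finset.mem_image_of_mem _ (Finset.mem_univ i))
  have hcount : ∀ x ∈ S, (Finset.univ.filter fun i => μ i = x).card =
      (Finset.univ.filter fun i => ν i = x).card := by
    intro x _
    let P : ℂ[X] := Lagrange.interpolate S id fun y => if y = x then 1 else 0
    have hev : ∀ y ∈ S, P.eval y = if y = x then 1 else 0 := fun y hy =>
      Lagrange.eval_interpolate_at_node _ Function.injective_id.injOn hy
    have hsum : ∑ i, P.eval (μ i) = ∑ i, P.eval (ν i) := by
      simp only [Polynomial.eval_eq_sum_range]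
      rw [Finset.sum_comm]
      conv_rhs => rw [Finset.sum_comm]
      simp only [← Finset.mul_sum, h]
    rw [Finset.sum_congr rfl fun i hi => hev _ (hμ i hi),
      Finset.sum_congr rfl fun i hi => hev _ (hν i hi), Finset.sum_boole, Finset.sum_boole] at hsum
    exact_mod_cast hsum
  rw [← Finset.prod_fiberwise_of_maps_to hμ, ← Finset.prod_fiberwise_of_maps_to hν]
  refine Finset.prod_congr rfl fun x hx => ?_
  rw [Finset.prod_congr rfl (g := fun _ => x) fun i hi => (Finset.mem_filter.1 hi).2,
    Finset.prod_congr rfl (g := fun _ => x) fun i hi => (Finset.mem_filter.1 hi).2,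
    Finset.prod_const, Finset.prod_const, hcount x hx]

variable {G : Type u} [Group G] [Finite G]

/-- A character whose values at the `k`-th powers are twists by powers of a scalar: the
determinants are twisted accordingly. -/
theorem det_pow_of_galois {n : ℕ} (σ : Representation ℂ G (Fin n → ℂ)) (g : G) (k : ℕ) (ν : ℂ)
    (h : ∀ j : ℕ, σ.character ((g ^ j) ^ k) = ν ^ j * σ.character (g ^ j)) :
    LinearMap.det (σ g) ^ k = ν ^ n * LinearMap.det (σ g) := by
  classical
  obtain ⟨ι, hι, b, μ, h1, h2, h3, -⟩ := Char.exists_char_eigen σ g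
  have hdet : LinearMap.det (σ g) = ∏ i, μ i := by
    rw [← LinearMap.det_toMatrix b]
    have e : LinearMap.toMatrix b b (σ g) = Matrix.diagonal μ := by
      ext i j
      rw [LinearMap.toMatrix_apply, h1, map_smul, Module.Basis.repr_self, Finsupp.smul_single,
        smul_eq_mul, mul_one, Finsupp.single_apply, Matrix.diagonal_apply]
      by_cases hij : i = j
      · subst hij; simp
      · rw [if_neg (Ne.symm hij), if_neg hij]
    rw [e, Matrix.det_diagonal]
  have hn : Fintype.card ι = n := by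
    rw [← Module.finrank_eq_card_basis b, Module.finrank_fin_fun]
  have hs : ∀ j : ℕ, ∑ i, (μ i ^ k) ^ j = ∑ i, (ν * μ i) ^ j := fun j => by
    simp only [mul_pow, ← Finset.mul_sum, ← h3, ← h j, ← pow_mul]
    rw [mul_comm k j]
  have := prod_eq_of_power_sums _ _ hs
  rw [Finset.prod_pow, ← hdet, Finset.prod_mul_distrib, Finset.prod_const, Finset.card_univ, hn,
    ← hdet] at this
  exact this

/-- A value in a cyclotomic field is fixed by the power maps fixing that field. -/
theorem fixed_of_mem_adjoin {χ : G → ℂ} (hχ : Cfsg.IsCharacter G χ) {g : G} {m : ℕ} (hm : m ≠ 0)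
    (hmem : χ g ∈ IntermediateField.adjoin ℚ
      ({Complex.exp (2 * Real.pi * Complex.I / m)} : Set ℂ))
    {k : ℕ} (hk : k.Coprime (Nat.card G)) (hk1 : k ≡ 1 [MOD Nat.gcd (Nat.card G) m]) :
    χ (g ^ k) = χ g := by
  obtain ⟨k', hk'1, hk'2⟩ := Nat.chineseRemainder' hk1
  have hcop : k'.Coprime (Nat.card G * m) := by
    refine Nat.Coprime.mul_right ?_ ?_
    · rw [Nat.coprime_iff_gcd_eq_one, hk'1.gcd_eq]; exact hk
    · rw [Nat.coprime_iff_gcd_eq_one, hk'2.gcd_eq, Nat.gcd_one_left]
  have hN : 0 < Nat.card G * m := Nat.mul_pos Nat.card_pos (Nat.pos_of_ne_zero hm)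
  obtain ⟨ψ, hψ⟩ := Char.exists_emb_pow hN hcop
  have h1 := Char.emb_charVal hχ ψ (m := k') (fun μ hμ => hψ μ (by rw [pow_mul, hμ, one_pow])) g
  have hgk : g ^ k' = g ^ k := pow_eq_pow_iff_modEq.2 (hk'1.of_dvd (orderOf_dvd_natCard g))
  rw [hgk] at h1
  rw [← h1]
  have hfix : ∀ y ∈ IntermediateField.adjoin ℚ
      ({Complex.exp (2 * Real.pi * Complex.I / m)} : Set ℂ),
      ∃ hy : y ∈ Char.algNum, ψ ⟨y, hy⟩ = y := by
    intro y hy
    induction hy using IntermediateField.adjoin_induction with
    | mem x hx =>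
      rw [Set.mem_singleton_iff] at hx
      have h0 : x ^ m = 1 := by rw [hx]; exact (Complex.isPrimitiveRoot_exp m hm).pow_eq_one
      refine ⟨Char.mem_algNum_of_pow_eq_one (Nat.pos_of_ne_zero hm) h0, ?_⟩
      rw [hψ _ (Subtype.ext (by simp [pow_mul', h0]))]
      show x ^ k' = x
      rw [pow_eq_pow_mod k' h0, show k' % m = 1 % m from hk'2, ← pow_eq_pow_mod 1 h0, pow_one]
    | algebraMap x =>
      refine ⟨(algebraMap ℚ Char.algNum x).2, ?_⟩
      exact ψ.commutes x
    | add x y _ _ hx hy =>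
      obtain ⟨hx, ex⟩ := hx; obtain ⟨hy, ey⟩ := hy
      refine ⟨add_mem hx hy, ?_⟩
      show ψ (⟨x, hx⟩ + ⟨y, hy⟩) = x + y
      rw [map_add, ex, ey]
    | inv x _ hx =>
      obtain ⟨hx, ex⟩ := hx
      refine ⟨inv_mem hx, ?_⟩
      show ψ (⟨x, hx⟩⁻¹) = x⁻¹
      rw [map_inv₀, ex]
    | mul x y _ _ hx hy =>
      obtain ⟨hx, ex⟩ := hx; obtain ⟨hy, ey⟩ := hy
      refine ⟨mul_mem hx hy, ?_⟩
      show ψ (⟨x, hx⟩ * ⟨y, hy⟩) = x * y
      rw [map_mul, ex, ey]
  exact (hfix _ hmem).2

/-- A value fixed by the power maps congruent to one modulo `m` lies in the `m`-th field. -/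
theorem mem_adjoin_of_fixed {χ : G → ℂ} (hχ : Cfsg.IsCharacter G χ) (g : G) {m q : ℕ}
    (hmq : Nat.card G = m * q)
    (hfix : ∀ k : ℕ, k.Coprime (Nat.card G) → k ≡ 1 [MOD m] → χ (g ^ k) = χ g) :
    χ g ∈ IntermediateField.adjoin ℚ ({Complex.exp (2 * Real.pi * Complex.I / m)} : Set ℂ) := by
  set n := Nat.card G with hn
  have hn0 : n ≠ 0 := Nat.card_pos.ne'
  have hm : m ≠ 0 := fun h => hn0 (by rw [hmq, h, zero_mul])
  have hq : q ≠ 0 := fun h => hn0 (by rw [hmq, h, mul_zero])
  have : NeZero n := ⟨hn0⟩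
  have hζ := zetaN_isPrimitiveRoot hn0
  have hexp : zetaN n ^ q = Complex.exp (2 * Real.pi * Complex.I / m) := by
    rw [zetaN, ← Complex.exp_nat_mul, hmq]
    congr 1
    have : (q : ℂ) ≠ 0 := by exact_mod_cast hq
    push_cast
    field_simp
  set F : IntermediateField ℚ ℂ := IntermediateField.adjoin ℚ {zetaN n}
  have : IsCyclotomicExtension {n} ℚ F := by
    change IsCyclotomicExtension {n} ℚ (IntermediateField.adjoin ℚ {zetaN n}).toSubalgebra
    rw [IntermediateField.adjoin_simple_toSubalgebra_of_isAlgebraic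
      ((hζ.isIntegral (Nat.pos_of_ne_zero hn0)).tower_top (A := ℚ)).isAlgebraic]
    exact hζ.adjoin_isCyclotomicExtension ℚ
  have : FiniteDimensional ℚ F := IsCyclotomicExtension.finiteDimensional {n} ℚ F
  have : IsGalois ℚ F := IsCyclotomicExtension.isGalois {n} ℚ F
  obtain ⟨P, hP⟩ := isCyclo_char hχ g
  let z : F := ⟨zetaN n, IntermediateField.mem_adjoin_simple_self ℚ _⟩
  have hz : IsPrimitiveRoot z n := IsPrimitiveRoot.of_map_of_injective
    (f := F.val) (show IsPrimitiveRoot (F.val z) n from hζ) F.val.injective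
  have hval : ∀ k : ℕ, ((aeval (z ^ k) P : F) : ℂ) = χ (g ^ k) := fun k => by
    refine Eq.trans ?_ (hP k).symm
    exact (Polynomial.aeval_algHom_apply (F.val.restrictScalars ℤ) (z ^ k) P).symm
  set x : F := aeval (z ^ 1) P with hx
  let L : IntermediateField ℚ F := IntermediateField.adjoin ℚ {z ^ q}
  have hmem : x ∈ L := by
    rw [← IsGalois.fixedField_fixingSubgroup L]
    intro σ
    obtain ⟨σ, hσ⟩ := σ
    show σ x = x
    have hσz : IsPrimitiveRoot (σ z) n := hz.map_of_injective σ.injective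
    obtain ⟨i, -, hi⟩ := hz.eq_pow_of_pow_eq_one hσz.pow_eq_one
    have hcop : i.Coprime n :=
      (hz.pow_iff_coprime (Nat.pos_of_ne_zero hn0) i).1 (by rw [hi]; exact hσz)
    have hfx : σ (z ^ q) = z ^ q :=
      (IntermediateField.mem_fixingSubgroup_iff _ σ).1 hσ _
        (IntermediateField.mem_adjoin_simple_self ℚ _)
    rw [map_pow, ← hi, ← pow_mul] at hfx
    have h0 : zetaN n ^ (i * q) = zetaN n ^ q := by
      have := congrArg F.val hfx
      simpa [z] using this
    have hmod : i ≡ 1 [MOD m] := by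
      have h2 := (pow_eq_pow_iff_modEq (x := (hζ.isUnit hn0).unit)).1 (Units.ext
        (by simpa using h0) : (hζ.isUnit hn0).unit ^ (i * q) = (hζ.isUnit hn0).unit ^ q)
      rw [← (hζ.isUnit_unit hn0).eq_orderOf, hmq] at h2
      exact Nat.ModEq.mul_right_cancel' hq (by simpa using h2)
    apply Subtype.ext
    rw [hx, hval 1, pow_one g, ← hfix i hcop hmod, ← hval i, hi, pow_one]
    exact congrArg Subtype.val
      (Polynomial.aeval_algHom_apply (σ.toAlgHom.restrictScalars ℤ) z P).symm
  have h2 : ∀ y ∈ L, ((y : F) : ℂ) ∈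
      IntermediateField.adjoin ℚ ({Complex.exp (2 * Real.pi * Complex.I / m)} : Set ℂ) := by
    intro y hy
    induction hy using IntermediateField.adjoin_induction with
    | mem y hy =>
      rw [Set.mem_singleton_iff] at hy
      subst hy
      rw [← hexp]
      exact IntermediateField.subset_adjoin ℚ _ (by simp [z, hexp])
    | algebraMap y =>
      have : (((algebraMap ℚ F y : F)) : ℂ) = algebraMap ℚ ℂ y := by simp
      rw [this]
      exact IntermediateField.algebraMap_mem _ y
    | add a b _ _ ha hb => simpa using add_mem ha hb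
    | inv a _ ha => simpa using inv_mem ha
    | mul a b _ _ ha hb => simpa using mul_mem ha hb
  have h3 := h2 x hmem
  rw [hx, hval 1, pow_one] at h3
  exact h3

end CfsgLib.BlockB.GaloisValues
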