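import Cfsg.Agent.Lib.BlockB.Psi
import Mathlib.LinearAlgebra.BilinearForm.Properties
import Mathlib.Analysis.SpecialFunctions.Complex.CircleAddChar

/-!
The square root `ψ` for a coprime group preserving a nondegenerate symmetric form in odd
characteristic, by Gauss sums.
-/

set_option autoImplicit false
set_option linter.unusedSectionVars false

open scoped ComplexConjugate

namespace CfsgLib.BlockB.GaussPsi

open CfsgLib.BlockB CfsgLib.BlockB.CycInt CfsgLib.BlockB.Psi

universe u v

variable {H : Type u} [Group H] [Fintype H] {p : ℕ} [Fact p.Prime] {N : ℕ} [NeZero N]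
  {U : Type v} [AddCommGroup U] [Module (ZMod p) U] [Finite U]
  (ρ : Representation (ZMod p) H U) (B : LinearMap.BilinForm (ZMod p) U)

/-- The summand of a Gauss sum. -/
noncomputable def e (u : U) : ℂ := ZMod.stdAddChar (B u u)

/-- The Gauss sum over a subspace. -/
noncomputable def gauss (S : Submodule (ZMod p) U) : ℂ :=
  haveI := Fintype.ofFinite S
  ∑ u : S, e B (u : U)

theorem gauss_eq (S : Submodule (ZMod p) U) [Fintype S] : gauss B S = ∑ u : S, e B (u : U) := by
  unfold gauss
  convert rfl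

variable {B}

theorem gauss_mul_conj (hsymm : ∀ x y, B x y = B y x) (hp2 : p ≠ 2) (S : Submodule (ZMod p) U)
    (hnd : ∀ x ∈ S, (∀ y ∈ S, B x y = 0) → x = 0) :
    gauss B S * conj (gauss B S) = (Nat.card S : ℂ) := by
  classical
  have := Fintype.ofFinite S
  have h2 : (2 : ZMod p) ≠ 0 := fun h => hp2 <| by
    have h' : ((2 : ℕ) : ZMod p) = 0 := by exact_mod_cast h
    exact (Nat.prime_dvd_prime_iff_eq Fact.out Nat.prime_two).1
      ((ZMod.natCast_eq_zero_iff _ _).1 h')
  rw [gauss_eq, map_sum, Finset.mul_sum]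
  have key : ∀ y : S, (∑ x : S, e B (x : U)) * conj (e B (y : U)) =
      ∑ d : S, e B (d : U) * ZMod.stdAddChar (2 * B (d : U) y) := fun y => by
    rw [Finset.sum_mul]
    refine (Fintype.sum_equiv (Equiv.addRight y) _ _ fun d => ?_).symm
    simp only [e, Equiv.coe_addRight, Submodule.coe_add, ← AddChar.map_neg_eq_conj,
      ← AddChar.map_add_eq_mul, map_add, LinearMap.add_apply, hsymm (y : U) (d : U)]
    congr 1
    ring
  simp only [key]
  rw [Finset.sum_comm]
  simp only [← Finset.mul_sum]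
  rw [Finset.sum_eq_single (0 : S)]
  · simp [e, AddChar.map_zero_eq_one, Nat.card_eq_fintype_card]
  · intro d _ hd
    refine mul_eq_zero_of_right _ ?_
    let φ : AddChar S ℂ := ZMod.stdAddChar.compAddMonoidHom
      (AddMonoidHom.mk' (fun y : S => 2 * B (d : U) y) fun a b => by
        simp only [Submodule.coe_add, map_add, mul_add])
    have hφ : φ ≠ 0 := by
      obtain ⟨y, hy⟩ : ∃ y : S, B (d : U) y ≠ 0 := not_forall.1 fun h =>
        hd (Subtype.ext (hnd d d.2 fun y hy => h ⟨y, hy⟩))
      refine AddChar.ne_zero_iff.2 ⟨y, fun h => hy ?_⟩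
      have h' : ZMod.stdAddChar (2 * B (d : U) y) = (1 : ℂ) := by
        simpa only [φ, AddChar.compAddMonoidHom_apply, AddMonoidHom.mk'_apply] using h
      rw [← AddChar.map_zero_eq_one (ZMod.stdAddChar (N := p))] at h'
      exact (mul_eq_zero.1 (ZMod.injective_stdAddChar h')).resolve_left h2
    calc ∑ y : S, ZMod.stdAddChar (2 * B (d : U) y) = ∑ y : S, φ y := by
          simp only [φ, AddChar.compAddMonoidHom_apply, AddMonoidHom.mk'_apply]
      _ = 0 := AddChar.sum_eq_zero_iff_ne_zero.2 hφ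
  · intro h; exact absurd (Finset.mem_univ _) h

theorem orth (hBinv : ∀ c x y, B (ρ c x) (ρ c y) = B x y) (c : H) {x : U} (hx : x ∈ fix ρ c)
    {y : U} (hy : y ∈ LinearMap.range (ρ c - 1)) : B x y = 0 := by
  obtain ⟨u, rfl⟩ := hy
  rw [mem_fix] at hx
  rw [LinearMap.sub_apply, Module.End.one_apply, map_sub, sub_eq_zero]
  conv_lhs => rw [← hx]
  rw [hBinv]

/-- The square root for a symmetric form. -/
theorem hasPsi (hcop : ¬ p ∣ Nat.card H) (hHN : Nat.card H ∣ N) (hpN : p ∣ N) (hp2 : p ≠ 2)
    (hsymm : ∀ x y, B x y = B y x) (hnd : ∀ x, (∀ y, B x y = 0) → x = 0)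
    (hBinv : ∀ c x y, B (ρ c x) (ρ c y) = B x y) : HasPsi ρ N (⊤ : Submodule (ZMod p) U) := by
  classical
  have hp : p.Prime := Fact.out
  have := Fintype.ofFinite U
  let ψ : H → ℂ := fun c => gauss B (LinearMap.range (ρ c - 1))
  have hcompl := isCompl_fix_range ρ hcop
  have hndR : ∀ c, ∀ x ∈ LinearMap.range (ρ c - 1),
      (∀ y ∈ LinearMap.range (ρ c - 1), B x y = 0) → x = 0 := fun c x hx h => hnd x fun y => by
    obtain ⟨a, ha, b, hb, rfl⟩ := Submodule.mem_sup.1
      (show y ∈ fix ρ c ⊔ LinearMap.range (ρ c - 1) by rw [(hcompl c).sup_eq_top]; trivial)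
    rw [map_add, h b hb, add_zero, hsymm, orth ρ hBinv c ha hx]
  have hndF : ∀ c, ∀ x ∈ fix ρ c, (∀ y ∈ fix ρ c, B x y = 0) → x = 0 := fun c x hx h =>
    hnd x fun y => by
    obtain ⟨a, ha, b, hb, rfl⟩ := Submodule.mem_sup.1
      (show y ∈ fix ρ c ⊔ LinearMap.range (ρ c - 1) by rw [(hcompl c).sup_eq_top]; trivial)
    rw [map_add, h a ha, zero_add, orth ρ hBinv c hx hb]
  have hsplit : ∀ c, gauss B (fix ρ c) * ψ c = ∑ u : U, e B u := fun c => by
    have := Fintype.ofFinite (fix ρ c)
    have := Fintype.ofFinite (LinearMap.range (ρ c - 1))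
    show gauss B _ * gauss B _ = _
    rw [gauss_eq, gauss_eq, Finset.sum_mul_sum,
      ← (Submodule.prodEquivOfIsCompl _ _ (hcompl c)).toEquiv.sum_comp (fun u => e B u),
      Fintype.sum_prod_type]
    refine Finset.sum_congr rfl fun a _ => Finset.sum_congr rfl fun b _ => ?_
    simp only [LinearEquiv.coe_toEquiv, Submodule.coe_prodEquivOfIsCompl', e, map_add,
      LinearMap.add_apply, orth ρ hBinv c a.2 b.2, hsymm (b : U) (a : U),
      ← AddChar.map_add_eq_mul, add_zero, zero_add]
  have hcard : ∀ c, Nat.card (fix ρ c) * Nat.card (LinearMap.range (ρ c - 1)) = Nat.card U :=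
    fun c => by
    rw [← natCard_sup (hcompl c).disjoint, (hcompl c).sup_eq_top,
      Nat.card_congr Submodule.topEquiv.toEquiv]
  have hG0 : ∀ c, gauss B (fix ρ c) ≠ 0 := fun c h => by
    have := gauss_mul_conj hsymm hp2 _ (hndF c)
    rw [h, zero_mul] at this
    exact Nat.cast_ne_zero.2 Nat.card_pos.ne' this.symm
  -- the conjugate Gauss sum over the fixed points as a class function
  have hF : InSpan (H := H) N (fun c => conj (gauss B (fix ρ c))) := by
    have hz : ∀ t : ZMod p, ZMod.stdAddChar (-t) ∈ cycInt N := fun t =>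
      mem_of_pow_eq_one_of_dvd hpN (by
        rw [← AddChar.map_nsmul_eq_pow, nsmul_eq_mul, ZMod.natCast_self, zero_mul,
          AddChar.map_zero_eq_one])
    have hact : ∀ t : ZMod p, InSpan (H := H) N
        (fun c => (Nat.card {x : {u : U // B u u = t} // ρ c x.1 = x.1} : ℂ)) := fun t => by
      let act : H →* Equiv.Perm {u : U // B u u = t} :=
        { toFun := fun c => (toPerm ρ c).subtypeEquiv fun u => by
            show B u u = t ↔ B (ρ c u) (ρ c u) = t
            rw [hBinv]
          map_one' := by ext u; simp [toPerm]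
          map_mul' := fun a b => by ext u; simp [toPerm] }
      refine Eq.subst (motive := InSpan N) ?_ (inSpan_of_char (isCharacter_fixCount act))
      funext c
      rw [Nat.card_congr (Equiv.subtypeEquivRight fun x => Subtype.ext_iff :
        {x : {u : U // B u u = t} // act c x = x} ≃ {x : {u : U // B u u = t} // ρ c x.1 = x.1})]
    refine Eq.subst (motive := InSpan N) ?_
      (InSpan.sum (Finset.univ : Finset (ZMod p)) fun t _ => (hact t).smul (hz t))
    funext c
    have := Fintype.ofFinite (fix ρ c)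
    rw [gauss_eq, map_sum, Finset.sum_apply, ← Finset.sum_fiberwise Finset.univ
      (fun u : fix ρ c => B (u : U) u)]
    refine Finset.sum_congr rfl fun t _ => ?_
    have hval : ∀ u ∈ Finset.univ.filter (fun u : fix ρ c => B (u : U) u = t),
        conj (e B (u : U)) = ZMod.stdAddChar (-t) := fun u hu => by
      rw [e, ← AddChar.map_neg_eq_conj, (Finset.mem_filter.1 hu).2]
    rw [Finset.sum_congr rfl hval, Finset.sum_const, nsmul_eq_mul, mul_comm]
    congr 2
    rw [← Fintype.card_subtype, ← Nat.card_eq_fintype_card]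
    exact Nat.card_congr
      { toFun := fun x => ⟨⟨x.1.1, (mem_fix ρ).2 x.2⟩, x.1.2⟩
        invFun := fun x => ⟨⟨x.1.1, x.2⟩, (mem_fix ρ).1 x.1.2⟩
        left_inv := fun x => rfl
        right_inv := fun x => rfl }
  have hψc : Cfsg.IsClassFunction H ψ := fun g x => by
    have h := hF.classFun g x
    have h1 : gauss B (fix ρ (x * g * x⁻¹)) = gauss B (fix ρ g) := (starRingEnd ℂ).injective h
    refine mul_left_cancel₀ (hG0 g) ?_
    conv_lhs => rw [← h1]
    rw [hsplit, hsplit]
  have hroot : ∀ u : U, e B u ∈ cycInt N := fun u => mem_of_pow_eq_one_of_dvd hpN (by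
    rw [e, ← AddChar.map_nsmul_eq_pow, nsmul_eq_mul, ZMod.natCast_self, zero_mul,
      AddChar.map_zero_eq_one])
  have hψmem : ∀ c, ψ c ∈ cycInt N := fun c => by
    have := Fintype.ofFinite (LinearMap.range (ρ c - 1))
    show gauss B _ ∈ _
    rw [gauss_eq]
    exact sum_mem fun u _ => hroot _
  have hπ : ∀ c, gauss B (fix ρ c) * conj (gauss B (fix ρ c)) = (Nat.card (fix ρ c) : ℂ) :=
    fun c => gauss_mul_conj hsymm hp2 _ (hndF c)
  choose ex hex using exists_card_fix ρ
  refine ⟨ψ, ⟨inSpan_of_mul_char hHN hcop (isCharacter_card_fix ρ) ex hex hψc hψmem ?_, ?_,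
    fun c => ?_, fun c hc => ?_⟩⟩
  · refine Eq.subst (motive := InSpan N) ?_
      (hF.smul (a := ∑ u : U, e B u) (sum_mem fun u _ => hroot u))
    funext c
    rw [← hsplit c, ← hπ c]
    ring
  · show gauss B _ = 1
    have h0 : LinearMap.range (ρ 1 - 1) = ⊥ := by simp
    have := Fintype.ofFinite (LinearMap.range (ρ 1 - 1))
    rw [gauss_eq, Finset.sum_eq_single (0 : LinearMap.range (ρ 1 - 1))]
    · simp [e, AddChar.map_zero_eq_one]
    · intro b _ hb
      exact absurd (Subtype.ext ((Submodule.mem_bot _).1 (h0.le b.2))) hb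
    · intro h; exact absurd (Finset.mem_univ _) h
  · rw [top_inf_eq, Nat.card_congr Submodule.topEquiv.toEquiv, ← hcard c, Nat.cast_mul,
      gauss_mul_conj hsymm hp2 _ (hndR c)]
    ring
  · have hne : LinearMap.range (ρ c - 1) ≠ ⊥ := fun h => hc (by
      rw [fix, LinearMap.range_eq_bot.1 h, LinearMap.ker_zero])
    have := Fintype.ofFinite (LinearMap.range (ρ c - 1))
    show Div p (gauss B _)
    rw [gauss_eq, show (∑ u : LinearMap.range (ρ c - 1), e B (u : U)) =
      (∑ u : LinearMap.range (ρ c - 1), (e B (u : U) - 1)) +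
        (Nat.card (LinearMap.range (ρ c - 1)) : ℂ) by
      rw [Finset.sum_sub_distrib, Finset.sum_const, Finset.card_univ, nsmul_one,
        Nat.card_eq_fintype_card, sub_add_cancel]]
    refine (Div.sum _ fun u _ => ?_).add ?_
    · have : NeZero p := ⟨hp.ne_zero⟩
      have hu : e B (u : U) ^ p = 1 := by
        rw [e, ← AddChar.map_nsmul_eq_pow, nsmul_eq_mul, ZMod.natCast_self, zero_mul,
          AddChar.map_zero_eq_one]
      obtain ⟨k, -, hk⟩ := (zetaN_isPrimitiveRoot hp.ne_zero).eq_pow_of_pow_eq_one hu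
      rw [← hk]
      exact div_pow_sub_one k
    · rw [Module.natCard_eq_pow_finrank (K := ZMod p), Nat.card_zmod, Nat.cast_pow]
      obtain ⟨k, hk⟩ := Nat.exists_eq_add_one_of_ne_zero
        (fun h => hne (Submodule.finrank_eq_zero.1 h))
      rw [hk, pow_succ]
      exact div_natCast_self.mul_left (isIntegral_algebraMap.pow k : IsIntegral ℤ ((p : ℂ) ^ k))

end CfsgLib.BlockB.GaussPsi
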