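import Cfsg.Agent.Lib.BlockB.ExtTwists
import Cfsg.Agent.Lib.Coprime.Action
import Mathlib.RingTheory.IntegralDomain
import Mathlib.GroupTheory.PGroup
import Mathlib.Algebra.Ring.Subring.Basic

/-!
Extendibility is preserved by the Glauberman correspondence of a `p`-group: an invariant character
and its correspondent extend over the same abelian sections of the normalizer.
-/

set_option autoImplicit false
set_option linter.unusedSectionVars false
set_option linter.style.haveILetI false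

namespace CfsgLib.BlockB.McKay

open CfsgLib.Clifford

universe u

variable {G : Type u} [Group G] [Finite G] {p : ℕ} [Fact p.Prime]

/-- The invariant elementary central section above the kernel of the action, chosen minimal, and
an element generating the image of an abelian group acting on it. -/
theorem exists_section (S S₀ A₀ : Subgroup G) (hS : IsPGroup p S) (hS₀S : S₀ < S)
    (hSn : S ≤ Subgroup.normalizer (S₀ : Set G)) (hA₀S : A₀ ≤ Subgroup.normalizer (S : Set G))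
    (hA₀S₀ : A₀ ≤ Subgroup.normalizer (S₀ : Set G))
    (hab : ∀ a ∈ A₀, ∀ b ∈ A₀, ∀ s ∈ S,
      (a * b * a⁻¹ * b⁻¹) * s * (a * b * a⁻¹ * b⁻¹)⁻¹ * s⁻¹ ∈ S₀) :
    ∃ W : Subgroup G, S₀ < W ∧ W ≤ S ∧ S ≤ Subgroup.normalizer (W : Set G) ∧
      A₀ ≤ Subgroup.normalizer (W : Set G) ∧
      ∃ a₀ ∈ A₀, ∀ a ∈ A₀, ∃ i : ℤ, ∀ w ∈ W,
        (a * (a₀ ^ i)⁻¹) * w * (a * (a₀ ^ i)⁻¹)⁻¹ * w⁻¹ ∈ S₀ := by
  classical
  have hp := (Fact.out : p.Prime)
  let N₀ := S₀.subgroupOf S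
  haveI : N₀.Normal := Subgroup.normal_subgroupOf_of_le_normalizer hSn
  let π : S →* S ⧸ N₀ := QuotientGroup.mk' N₀
  have hπ : ∀ s : S, π s = 1 ↔ (s : G) ∈ S₀ := fun s =>
    (QuotientGroup.eq_one_iff s).trans Subgroup.mem_subgroupOf
  -- the central elements of order dividing `p`
  let Z1 : Subgroup (S ⧸ N₀) :=
    { carrier := {q | q ∈ Subgroup.center (S ⧸ N₀) ∧ q ^ p = 1}
      one_mem' := ⟨Subgroup.one_mem _, one_pow p⟩
      mul_mem' := fun {a b} ha hb => ⟨Subgroup.mul_mem _ ha.1 hb.1, by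
        rw [(show Commute a b from (Subgroup.mem_center_iff.1 hb.1 a)).mul_pow, ha.2, hb.2,
          one_mul]⟩
      inv_mem' := fun {a} ha => ⟨Subgroup.inv_mem _ ha.1, by rw [inv_pow, ha.2, inv_one]⟩ }
  let E : Subgroup G := (Z1.comap π).map S.subtype
  have hS₀E : S₀ ≤ E := fun x hx => ⟨⟨x, hS₀S.le hx⟩, by
    rw [SetLike.mem_coe, Subgroup.mem_comap, (hπ _).2 hx]; exact one_mem _, rfl⟩
  have hmemE : ∀ s : S, (s : G) ∈ E ↔
      (∀ t ∈ S, (s : G) * t * (s : G)⁻¹ * t⁻¹ ∈ S₀) ∧ (s : G) ^ p ∈ S₀ := by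
    intro s
    have h1 : (s : G) ∈ E ↔ π s ∈ Z1 := by
      refine ⟨fun ⟨t, ht, hts⟩ => ?_, fun h => ⟨s, h, rfl⟩⟩
      rwa [← show t = s from Subtype.ext hts]
    rw [h1]
    refine and_congr (Iff.trans Subgroup.mem_center_iff ?_) ?_
    · refine ⟨fun h t ht => ?_, fun h q => ?_⟩
      · have h2 : π (s * ⟨t, ht⟩ * s⁻¹ * (⟨t, ht⟩ : S)⁻¹) = 1 := by
          simp only [map_mul, map_inv]
          rw [← h (π ⟨t, ht⟩)]
          group
        exact (hπ _).1 h2
      · obtain ⟨t, rfl⟩ := QuotientGroup.mk'_surjective N₀ q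
        have h2 : π (s * t * s⁻¹ * t⁻¹) = 1 := (hπ _).2 (h t t.2)
        simp only [map_mul, map_inv, mul_inv_eq_iff_eq_mul, one_mul] at h2
        exact h2.symm
    · rw [← map_pow, hπ, Subgroup.coe_pow]
  have hES : E ≤ S := Subgroup.map_subtype_le _
  have hEA : A₀ ≤ Subgroup.normalizer (E : Set G) := by
    intro a ha
    refine Subgroup.mem_normalizer_fintype fun x hx => ?_
    have hxS : x ∈ S := hES hx
    obtain ⟨h1, h2⟩ := (hmemE ⟨x, hxS⟩).1 hx
    have hax : a * x * a⁻¹ ∈ S := (Subgroup.mem_normalizer_iff.1 (hA₀S ha) x).1 hxS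
    refine (hmemE ⟨_, hax⟩).2 ⟨fun t ht => ?_, ?_⟩
    · have ht' : a⁻¹ * t * a ∈ S := (Subgroup.mem_normalizer_iff''.1 (hA₀S ha) t).1 ht
      have h3 := (Subgroup.mem_normalizer_iff.1 (hA₀S₀ ha) _).1 (h1 _ ht')
      simpa [mul_assoc] using h3
    · show (a * x * a⁻¹) ^ p ∈ S₀
      rw [conj_pow]
      exact (Subgroup.mem_normalizer_iff.1 (hA₀S₀ ha) _).1 h2
  have hlt : S₀ < E := by
    refine lt_of_le_of_ne hS₀E fun he => ?_
    haveI : Nontrivial (S ⧸ N₀) := by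
      rw [QuotientGroup.nontrivial_iff]
      exact fun h => hS₀S.not_ge (Subgroup.subgroupOf_eq_top.1 h)
    haveI := (hS.to_quotient N₀).center_nontrivial
    obtain ⟨m, hm⟩ := IsPGroup.iff_card.1
      ((hS.to_quotient N₀).to_subgroup (Subgroup.center (S ⧸ N₀)))
    have hpd : p ∣ Nat.card (Subgroup.center (S ⧸ N₀)) := by
      rw [hm]
      refine dvd_pow_self p fun h0 => ?_
      rw [h0, pow_zero] at hm
      exact (Finite.one_lt_card (α := Subgroup.center (S ⧸ N₀))).ne' hm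
    obtain ⟨z, hz⟩ := exists_prime_orderOf_dvd_card' p hpd
    obtain ⟨s, hs⟩ := QuotientGroup.mk'_surjective N₀ (z : S ⧸ N₀)
    have hsE : (s : G) ∈ E := ⟨s, by
      rw [SetLike.mem_coe, Subgroup.mem_comap, hs]
      exact ⟨z.2, by rw [← Subgroup.coe_pow, ← hz, pow_orderOf_eq_one, Subgroup.coe_one]⟩, rfl⟩
    rw [← he, ← hπ, hs, OneMemClass.coe_eq_one] at hsE
    rw [hsE, orderOf_one] at hz
    exact hp.one_lt.ne hz
  -- a minimal invariant one
  obtain ⟨W, ⟨hW1, hW2, hW3⟩, hmin⟩ : ∃ W : Subgroup G,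
      (S₀ < W ∧ W ≤ E ∧ A₀ ≤ Subgroup.normalizer (W : Set G)) ∧
      ∀ V : Subgroup G, (S₀ < V ∧ V ≤ E ∧ A₀ ≤ Subgroup.normalizer (V : Set G)) → V ≤ W → V = W := by
    obtain ⟨W, hW⟩ := (Set.toFinite {V : Subgroup G |
      S₀ < V ∧ V ≤ E ∧ A₀ ≤ Subgroup.normalizer (V : Set G)}).exists_minimal ⟨E, hlt, le_rfl, hEA⟩
    exact ⟨W, hW.prop, fun V hV hle => le_antisymm hle (hW.2 hV hle)⟩
  have hWS : W ≤ S := hW2.trans hES
  have hWcomm : ∀ w ∈ W, ∀ t ∈ S, w * t * w⁻¹ * t⁻¹ ∈ S₀ := fun w hw =>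
    ((hmemE ⟨w, hWS hw⟩).1 (hW2 hw)).1
  have hSW : S ≤ Subgroup.normalizer (W : Set G) := by
    intro t ht
    refine Subgroup.mem_normalizer_fintype fun w hw => ?_
    have h := hWcomm w hw t ht
    rw [show t * w * t⁻¹ = (w * t * w⁻¹ * t⁻¹)⁻¹ * w by group]
    exact W.mul_mem (W.inv_mem (hW1.le h)) hw
  refine ⟨W, hW1, hWS, hSW, hW3, ?_⟩
  -- the section as a module for the ring generated by the image of `A₀`
  let M₀ := S₀.subgroupOf W
  haveI : M₀.Normal := Subgroup.normal_subgroupOf_of_le_normalizer fun x hx => hSn (hWS hx)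
  let M := W ⧸ M₀
  let μ : W →* M := QuotientGroup.mk' M₀
  have hμ : ∀ w : W, μ w = 1 ↔ (w : G) ∈ S₀ := fun w =>
    (QuotientGroup.eq_one_iff w).trans Subgroup.mem_subgroupOf
  letI : CommGroup M :=
    { (inferInstance : Group M) with
      mul_comm := fun x y => by
        obtain ⟨a, rfl⟩ := QuotientGroup.mk'_surjective M₀ x
        obtain ⟨b, rfl⟩ := QuotientGroup.mk'_surjective M₀ y
        have h2 : μ (a * b * a⁻¹ * b⁻¹) = 1 := (hμ _).2 (hWcomm a a.2 b (hWS b.2))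
        simp only [map_mul, map_inv, mul_inv_eq_iff_eq_mul, one_mul] at h2
        exact h2 }
  haveI : Finite M := Quotient.finite _
  let act : A₀ → M →* M := fun a => QuotientGroup.map M₀ M₀
    (W.normalizerMonoidHom ⟨(a : G), hW3 a.2⟩).toMonoidHom fun w hw =>
      (Subgroup.mem_normalizer_iff.1 (hA₀S₀ a.2) (w : G)).1 hw
  have hact : ∀ (a : A₀) (w : W), act a (μ w) =
      μ ⟨(a : G) * w * (a : G)⁻¹, (Subgroup.mem_normalizer_iff.1 (hW3 a.2) (w : G)).1 w.2⟩ :=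
    fun a w => rfl
  let ψ : A₀ →* AddMonoid.End (Additive M) :=
    { toFun := fun a => MonoidHom.toAdditive (act a)
      map_one' := by
        refine AddMonoidHom.ext fun x => ?_
        obtain ⟨w, hw⟩ := QuotientGroup.mk'_surjective M₀ (Additive.toMul x)
        show Additive.ofMul (act 1 (Additive.toMul x)) = x
        rw [← hw, show act 1 (μ w) = μ w by rw [hact]; exact congrArg μ (Subtype.ext (by simp))]
        rw [hw]; rfl
      map_mul' := fun a b => by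
        refine AddMonoidHom.ext fun x => ?_
        obtain ⟨w, hw⟩ := QuotientGroup.mk'_surjective M₀ (Additive.toMul x)
        show Additive.ofMul (act (a * b) (Additive.toMul x)) =
          Additive.ofMul (act a (act b (Additive.toMul x)))
        rw [← hw, hact, hact, hact]
        exact congrArg _ (congrArg μ (Subtype.ext (by simp [mul_assoc]))) }
  have hψ : ∀ (a : A₀) (w : W), ψ a (Additive.ofMul (μ w)) = Additive.ofMul (μ
      ⟨(a : G) * w * (a : G)⁻¹, (Subgroup.mem_normalizer_iff.1 (hW3 a.2) (w : G)).1 w.2⟩) :=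
    fun a w => rfl
  have hcommψ : ∀ a b : A₀, ψ a * ψ b = ψ b * ψ a := by
    intro a b
    rw [← map_mul, ← map_mul]
    refine AddMonoidHom.ext fun x => ?_
    obtain ⟨w, hw⟩ := QuotientGroup.mk'_surjective M₀ (Additive.toMul x)
    rw [show x = Additive.ofMul (μ w) from (congrArg Additive.ofMul hw).symm]
    refine (hψ (a * b) w).trans (Eq.trans ?_ (hψ (b * a) w).symm)
    refine congrArg Additive.ofMul (mul_inv_eq_one.1 ?_)
    rw [← map_inv, ← map_mul, hμ]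
    set v : G := (b : G) * a * (w : G) * ((b : G) * a)⁻¹ with hv
    have hvS : v ∈ S := hWS ((Subgroup.mem_normalizer_iff.1 (hW3 (A₀.mul_mem b.2 a.2)) (w : G)).1 w.2)
    have h := hab a a.2 b b.2 v hvS
    simpa [hv, mul_assoc] using h
  let R := Subring.closure (Set.range ψ)
  have hRcomm : ∀ x ∈ R, ∀ y ∈ R, x * y = y * x := by
    have h1 : ∀ y ∈ R, ∀ a, ψ a * y = y * ψ a := by
      intro y hy a
      induction hy using Subring.closure_induction with
      | mem z hz => obtain ⟨b, rfl⟩ := hz; exact hcommψ a b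
      | zero => rw [mul_zero, zero_mul]
      | one => rw [mul_one, one_mul]
      | add x y _ _ hx hy => rw [mul_add, add_mul, hx, hy]
      | neg x _ hx =>
        refine AddMonoidHom.ext fun v => ?_
        show ψ a (-(x v)) = -(x (ψ a v))
        rw [map_neg]
        exact congrArg Neg.neg (DFunLike.congr_fun hx v)
      | mul x y _ _ hx hy => rw [← mul_assoc, hx, mul_assoc, hy, mul_assoc]
    intro x hx y hy
    induction hx using Subring.closure_induction with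
    | mem z hz => obtain ⟨b, rfl⟩ := hz; exact h1 y hy b
    | zero => rw [mul_zero, zero_mul]
    | one => rw [mul_one, one_mul]
    | add x x' _ _ hx hx' => rw [mul_add, add_mul, hx, hx']
    | neg x _ hx =>
      refine AddMonoidHom.ext fun v => ?_
      show -(x (y v)) = y (-(x v))
      rw [map_neg]
      exact congrArg Neg.neg (DFunLike.congr_fun hx v)
    | mul x x' _ _ hx hx' => rw [mul_assoc, hx', ← mul_assoc, hx, mul_assoc]
  letI : CommRing R :=
    { (inferInstance : Ring R) with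
      mul_comm := fun x y => Subtype.ext (hRcomm x x.2 y y.2) }
  -- invariant subgroups of the section
  have hsimple : ∀ f : R, f ≠ 0 → ∀ x : Additive M, (f : AddMonoid.End (Additive M)) x = 0 → x = 0 := by
    intro f hf x hx
    let V : Subgroup G := ((AddMonoidHom.ker (f : AddMonoid.End (Additive M))).toSubgroup'.comap μ).map
      W.subtype
    have hmemV : ∀ w : W, (w : G) ∈ V ↔
        (f : AddMonoid.End (Additive M)) (Additive.ofMul (μ w)) = 0 := fun w => by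
      refine ⟨?_, fun h => ⟨w, h, rfl⟩⟩
      rintro ⟨t, ht, hts⟩
      obtain rfl : t = w := Subtype.ext hts
      exact ht
    have hVW : V ≤ W := Subgroup.map_subtype_le _
    have hS₀V : S₀ ≤ V := fun s hs => by
      refine (hmemV ⟨s, hW1.le hs⟩).2 ?_
      rw [(hμ _).2 hs]; exact map_zero _
    have hVA : A₀ ≤ Subgroup.normalizer (V : Set G) := by
      intro a ha
      refine Subgroup.mem_normalizer_fintype fun w hw => ?_
      have hwW : w ∈ W := hVW hw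
      refine (hmemV ⟨_, (Subgroup.mem_normalizer_iff.1 (hW3 ha) w).1 hwW⟩).2 ?_
      rw [← hψ ⟨a, ha⟩ ⟨w, hwW⟩]
      have e := hRcomm _ f.2 _ (Subring.subset_closure (Set.mem_range_self (⟨a, ha⟩ : A₀)))
      refine (DFunLike.congr_fun e _).trans ?_
      show ψ ⟨a, ha⟩ ((f : AddMonoid.End (Additive M)) _) = 0
      rw [(hmemV ⟨w, hwW⟩).1 hw, map_zero]
    obtain ⟨w, hw⟩ := QuotientGroup.mk'_surjective M₀ (Additive.toMul x)
    have hx' : x = Additive.ofMul (μ w) := (congrArg Additive.ofMul hw).symm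
    rcases eq_or_lt_of_le hS₀V with he | hlt'
    · rw [hx'] at hx ⊢
      have : (w : G) ∈ S₀ := he ▸ (hmemV w).2 hx
      rw [(hμ w).2 this]; rfl
    · refine absurd (Subtype.ext (AddMonoidHom.ext fun y => ?_)) hf
      have hVeq := hmin V ⟨hlt', hVW.trans hW2, hVA⟩ hVW
      obtain ⟨v, hv⟩ := QuotientGroup.mk'_surjective M₀ (Additive.toMul y)
      rw [show y = Additive.ofMul (μ v) from (congrArg Additive.ofMul hv).symm]
      exact (hmemV v).1 (hVeq.symm ▸ v.2)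
  haveI : Nontrivial M := by
    rw [QuotientGroup.nontrivial_iff]
    exact fun h => hW1.not_ge (Subgroup.subgroupOf_eq_top.1 h)
  haveI : Nontrivial R := ⟨⟨1, 0, fun h => by
    obtain ⟨x, hx⟩ := exists_ne (0 : Additive M)
    exact hx (DFunLike.congr_fun (congrArg Subtype.val h) x)⟩⟩
  haveI : NoZeroDivisors R := ⟨fun {a b} h => by
    by_contra hne
    rw [not_or] at hne
    refine hne.2 (Subtype.ext (AddMonoidHom.ext fun x => ?_))
    exact hsimple a hne.1 _ (DFunLike.congr_fun (congrArg Subtype.val h) x)⟩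
  haveI : IsDomain R := NoZeroDivisors.to_isDomain R
  -- the image is cyclic
  let ψR : A₀ →* R := ψ.codRestrict R fun a => Subring.subset_closure (Set.mem_range_self a)
  let ψU : A₀ →* Rˣ := ψR.toHomUnits
  haveI : Finite ψU.range := Finite.of_surjective _ ψU.rangeRestrict_surjective
  haveI : IsCyclic ψU.range := isCyclic_of_injective_ringHom
    ((Units.coeHom R).comp ψU.range.subtype)
    (Units.val_injective.comp (Subgroup.subtype_injective _))
  obtain ⟨⟨_, a₀, rfl⟩, hgen⟩ := IsCyclic.exists_zpow_surjective (G := ψU.range)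
  refine ⟨(a₀ : G), a₀.2, fun a ha => ?_⟩
  obtain ⟨i, hi⟩ := hgen ⟨ψU ⟨a, ha⟩, ⟨_, rfl⟩⟩
  refine ⟨i, fun w hw => ?_⟩
  have h1 : ψU (⟨a, ha⟩ * (a₀ ^ i)⁻¹) = 1 := by
    have := congrArg Subtype.val hi
    simp only [Subgroup.coe_zpow] at this
    rw [map_mul, map_inv, map_zpow, this, mul_inv_cancel]
  have h2 : ψ (⟨a, ha⟩ * (a₀ ^ i)⁻¹) (Additive.ofMul (μ ⟨w, hw⟩)) =
      Additive.ofMul (μ ⟨w, hw⟩) := by
    have := congrArg (fun u : Rˣ => ((u : R) : AddMonoid.End (Additive M))) h1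
    exact DFunLike.congr_fun this _
  rw [hψ] at h2
  have h3 := mul_inv_eq_one.2 (Additive.ofMul.injective h2)
  rw [← map_inv, ← map_mul, hμ] at h3
  simpa using h3

open scoped Classical in
/-- An invariant character and its Glauberman correspondent extend over the same abelian sections
of the normalizer of the acting group. -/
theorem ext_iff (K : Subgroup G) :
    ∀ (S A₀ C : Subgroup G), IsPGroup p S → ¬ p ∣ Nat.card K → ¬ p ∣ Nat.card A₀ →
    S ≤ Subgroup.normalizer (K : Set G) → A₀ ≤ Subgroup.normalizer (K : Set G) →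
    A₀ ≤ Subgroup.normalizer (S : Set G) → (∀ a ∈ A₀, ∀ b ∈ A₀, a * b * a⁻¹ * b⁻¹ ∈ K) →
    C = K ⊓ Subgroup.centralizer (S : Set G) → ∀ (hCK : C ≤ K) (θ : K → ℂ) (φ : C → ℂ),
    Cfsg.IsIrrCharacter K θ → Cfsg.IsIrrCharacter C φ → (∀ s ∈ S, InvBy K s θ) →
    (∀ a ∈ A₀, InvBy K a θ) → Corr p hCK θ φ →
    (Ext K (K ⊔ A₀) θ ↔ Ext C (C ⊔ A₀) φ) := by
  induction hn : Nat.card K using Nat.strong_induction_on generalizing K with
  | _ n ih => ?_
  intro S A₀ C hS hK hA₀ hSK hA₀K hA₀S hab hC hCK θ φ hθ hφ hθS hθA hc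
  rw [← hn] at hK
  have hp := (Fact.out : p.Prime)
  by_cases hCeq : C = K
  · subst hCeq
    rw [corr_self hθ hφ hc]
  set S₀ := S ⊓ Subgroup.centralizer (K : Set G) with hS₀def
  have hS₀S : S₀ < S := lt_of_le_of_ne inf_le_left fun he => hCeq (by
    rw [hC, inf_eq_left]
    intro k hk
    refine Subgroup.mem_centralizer_iff.2 fun s hs => ?_
    have : s ∈ S₀ := he.symm ▸ hs
    exact (Subgroup.mem_centralizer_iff.1 this.2 k hk).symm)
  have hnormS₀ : ∀ x : G, x ∈ Subgroup.normalizer (S : Set G) →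
      x ∈ Subgroup.normalizer (K : Set G) → x ∈ Subgroup.normalizer (S₀ : Set G) := by
    intro x hxS hxK
    refine Subgroup.mem_normalizer_fintype fun y hy => ?_
    refine ⟨(Subgroup.mem_normalizer_iff.1 hxS y).1 hy.1, Subgroup.mem_centralizer_iff.2 fun k hk => ?_⟩
    have h := Subgroup.mem_centralizer_iff.1 hy.2 _ ((Subgroup.mem_normalizer_iff''.1 hxK k).1 hk)
    calc k * (x * y * x⁻¹) = x * (x⁻¹ * k * x * y) * x⁻¹ := by group
      _ = x * (y * (x⁻¹ * k * x)) * x⁻¹ := by rw [h]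
      _ = x * y * x⁻¹ * k := by group
  -- `K ∩ N(S)` centralises `S`
  have hKS : ∀ k ∈ K, k ∈ Subgroup.normalizer (S : Set G) → ∀ s ∈ S, k * s = s * k := by
    intro k hk hkS s hs
    have h1 : k * s * k⁻¹ * s⁻¹ ∈ S :=
      S.mul_mem ((Subgroup.mem_normalizer_iff.1 hkS s).1 hs) (S.inv_mem hs)
    have h2 : k * s * k⁻¹ * s⁻¹ ∈ K := by
      rw [show k * s * k⁻¹ * s⁻¹ = k * (s * k⁻¹ * s⁻¹) by group]
      exact K.mul_mem hk ((Subgroup.mem_normalizer_iff.1 (hSK hs) _).1 (K.inv_mem hk))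
    have h3 : k * s * k⁻¹ * s⁻¹ = 1 := by
      obtain ⟨m, hm⟩ := IsPGroup.iff_orderOf.1 hS ⟨_, h1⟩
      have hd : orderOf (k * s * k⁻¹ * s⁻¹) ∣ Nat.card K := Subgroup.orderOf_dvd_natCard K h2
      rw [show orderOf (k * s * k⁻¹ * s⁻¹) = p ^ m from
        (Subgroup.orderOf_coe (⟨_, h1⟩ : S)).symm ▸ hm] at hd
      rcases Nat.eq_zero_or_pos m with rfl | hm0
      · rw [pow_zero, ← Subgroup.orderOf_coe] at hm
        exact orderOf_eq_one_iff.1 hm
      · exact absurd ((dvd_pow_self p hm0.ne').trans hd) hK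
    exact mul_inv_eq_iff_eq_mul.1 (mul_inv_eq_one.1 h3)
  obtain ⟨W, hW1, hW2, hSW, hA₀W, a₀, ha₀, hgen⟩ := exists_section S S₀ A₀ hS hS₀S
    (fun s hs => hnormS₀ s (Subgroup.le_normalizer hs) (hSK hs)) hA₀S
    (fun a ha => hnormS₀ a (hA₀S ha) (hA₀K ha)) (fun a ha b hb s hs => by
      rw [hKS _ (hab a ha b hb) (hA₀S (A₀.mul_mem (A₀.mul_mem (A₀.mul_mem ha hb) (A₀.inv_mem ha))
        (A₀.inv_mem hb))) s hs, mul_inv_cancel_right, mul_inv_cancel]
      exact one_mem _)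
  -- the part of `A₀` centralising the section
  let B₀ : Subgroup G :=
    { carrier := {a | a ∈ A₀ ∧ ∀ w ∈ W, a * w * a⁻¹ * w⁻¹ ∈ S₀}
      one_mem' := ⟨A₀.one_mem, fun w _ => by simp⟩
      mul_mem' := fun {a b} ha hb => ⟨A₀.mul_mem ha.1 hb.1, fun w hw => by
        rw [show a * b * w * (a * b)⁻¹ * w⁻¹ =
          (a * (b * w * b⁻¹) * a⁻¹ * (b * w * b⁻¹)⁻¹) * (b * w * b⁻¹ * w⁻¹) by group]
        exact S₀.mul_mem (ha.2 _ ((Subgroup.mem_normalizer_iff.1 (hA₀W hb.1) w).1 hw)) (hb.2 w hw)⟩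
      inv_mem' := fun {a} ha => ⟨A₀.inv_mem ha.1, fun w hw => by
        have h := ha.2 _ ((Subgroup.mem_normalizer_iff''.1 (hA₀W ha.1) w).1 hw)
        have h2 := S₀.inv_mem h
        simpa [mul_assoc] using h2⟩ }
  have hB₀A : B₀ ≤ A₀ := fun a ha => ha.1
  have hB₀cop : ¬ p ∣ Nat.card B₀ := fun h => hA₀ (h.trans (Subgroup.card_dvd_of_le hB₀A))
  let Z := W ⊓ Subgroup.centralizer (B₀ : Set G)
  have hlift : ∀ w ∈ W, ∃ s ∈ S₀, w * s ∈ Z := by
    intro w hw
    have hBS : ∀ b ∈ B₀, b ∈ Subgroup.normalizer (S₀ : Set G) := fun b hb =>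
      hnormS₀ b (hA₀S (hB₀A hb)) (hA₀K (hB₀A hb))
    obtain ⟨m, hm⟩ := IsPGroup.iff_card.1 (hS.to_le hW2)
    obtain ⟨s, hs, hs'⟩ := CfsgLib.Coprime.exists_mem_centralizer_of_coset (A := B₀) (G := W)
      (N := S₀) (hB₀A.trans hA₀W) hBS hW1.le
      (by rw [hm]; exact Nat.Coprime.pow_right m (hp.coprime_iff_not_dvd.2 hB₀cop).symm)
      (Or.inr (by
        haveI := (hS.to_le hS₀S.le).isNilpotent
        infer_instance)) hw fun b hb => by
        have h := hb.2 w hw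
        have hn := hnormS₀ w (Subgroup.le_normalizer (hW2 hw)) (hSK (hW2 hw))
        have h2 := (Subgroup.mem_normalizer_iff''.1 hn _).1 h
        simpa [mul_assoc] using h2
    exact ⟨s, hs, ⟨W.mul_mem hw (hW1.le hs), hs'⟩⟩
  let K₁ := K ⊓ Subgroup.centralizer (Z : Set G)
  have hK₁W : K₁ = K ⊓ Subgroup.centralizer (W : Set G) := by
    refine le_antisymm (fun k hk => ⟨hk.1, Subgroup.mem_centralizer_iff.2 fun w hw => ?_⟩)
      (inf_le_inf_left _ (Subgroup.centralizer_le inf_le_left))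
    obtain ⟨s, hs, hz⟩ := hlift w hw
    have h1 := Subgroup.mem_centralizer_iff.1 hk.2 _ hz
    have h2 := Subgroup.mem_centralizer_iff.1 hs.2 k hk.1
    calc w * k = w * s * (s⁻¹ * k) := by group
      _ = w * s * (k * s⁻¹) := by
          rw [show s⁻¹ * k = k * s⁻¹ by rw [inv_mul_eq_iff_eq_mul, ← mul_assoc, ← h2, mul_inv_cancel_right]]
      _ = k * (w * s) * s⁻¹ := by rw [← mul_assoc, h1]
      _ = k * w := by group
  have hK₁K : K₁ ≤ K := inf_le_left
  have hK₁card : Nat.card K₁ < n := by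
    rw [← hn]
    refine lt_of_le_of_ne (Nat.le_of_dvd Nat.card_pos (Subgroup.card_dvd_of_le hK₁K)) fun he => ?_
    have heq : K₁ = K := Subgroup.eq_of_le_of_card_ge hK₁K he.ge
    refine hW1.not_ge fun w hw => ⟨hW2 hw, Subgroup.mem_centralizer_iff.2 fun k hk => ?_⟩
    have hk' : k ∈ K₁ := heq.symm ▸ hk
    rw [hK₁W] at hk'
    exact (Subgroup.mem_centralizer_iff.1 hk'.2 w hw).symm
  have hCK₁ : C ≤ K₁ := by
    rw [hK₁W, hC]; exact inf_le_inf_left _ (Subgroup.centralizer_le hW2)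
  have hZS : Z ≤ S := inf_le_left.trans hW2
  have hZp : IsPGroup p Z := hS.to_le hZS
  have hK₁cop : ¬ p ∣ Nat.card K₁ := fun h => hK (h.trans (Subgroup.card_dvd_of_le hK₁K))
  have hSK₁ : S ≤ Subgroup.normalizer (K₁ : Set G) := by
    intro s hs
    rw [hK₁W]
    refine Subgroup.mem_normalizer_fintype fun y hy => ?_
    refine ⟨(Subgroup.mem_normalizer_iff.1 (hSK hs) y).1 hy.1, Subgroup.mem_centralizer_iff.2
      fun w hw => ?_⟩
    have h := Subgroup.mem_centralizer_iff.1 hy.2 _ ((Subgroup.mem_normalizer_iff''.1 (hSW hs) w).1 hw)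
    calc w * (s * y * s⁻¹) = s * (s⁻¹ * w * s * y) * s⁻¹ := by group
      _ = s * (y * (s⁻¹ * w * s)) * s⁻¹ := by rw [h]
      _ = s * y * s⁻¹ * w := by group
  have hA₀Z : A₀ ≤ Subgroup.normalizer (Z : Set G) := by
    intro a ha
    refine Subgroup.mem_normalizer_fintype fun z hz => ?_
    refine ⟨(Subgroup.mem_normalizer_iff.1 (hA₀W ha) z).1 hz.1, Subgroup.mem_centralizer_iff.2
      fun b hb => ?_⟩
    have hb' : a⁻¹ * b * a ∈ B₀ := ⟨A₀.mul_mem (A₀.mul_mem (A₀.inv_mem ha) hb.1) ha, fun w hw => by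
      have h := hb.2 _ ((Subgroup.mem_normalizer_iff.1 (hA₀W ha) w).1 hw)
      have h2 := (Subgroup.mem_normalizer_iff''.1 (hnormS₀ a (hA₀S ha) (hA₀K ha)) _).1 h
      simpa [mul_assoc] using h2⟩
    have h := Subgroup.mem_centralizer_iff.1 hz.2 _ hb'
    calc b * (a * z * a⁻¹) = a * (a⁻¹ * b * a * z) * a⁻¹ := by group
      _ = a * (z * (a⁻¹ * b * a)) * a⁻¹ := by rw [h]
      _ = a * z * a⁻¹ * b := by group
  have hA₀K₁ : A₀ ≤ Subgroup.normalizer (K₁ : Set G) := by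
    intro a ha
    refine Subgroup.mem_normalizer_fintype fun y hy => ?_
    refine ⟨(Subgroup.mem_normalizer_iff.1 (hA₀K ha) y).1 hy.1, Subgroup.mem_centralizer_iff.2
      fun w hw => ?_⟩
    have h := Subgroup.mem_centralizer_iff.1 hy.2 _ ((Subgroup.mem_normalizer_iff''.1 (hA₀Z ha) w).1 hw)
    calc w * (a * y * a⁻¹) = a * (a⁻¹ * w * a * y) * a⁻¹ := by group
      _ = a * (y * (a⁻¹ * w * a)) * a⁻¹ := by rw [h]
      _ = a * y * a⁻¹ * w := by group
  have hab₁ : ∀ a ∈ A₀, ∀ b ∈ A₀, a * b * a⁻¹ * b⁻¹ ∈ K₁ := by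
    intro a ha b hb
    have hm := A₀.mul_mem (A₀.mul_mem (A₀.mul_mem ha hb) (A₀.inv_mem ha)) (A₀.inv_mem hb)
    exact ⟨hab a ha b hb, Subgroup.mem_centralizer_iff.2 fun z hz =>
      (hKS _ (hab a ha b hb) (hA₀S hm) z (hZS hz)).symm⟩
  -- the intermediate correspondent
  have hθZ : ∀ z ∈ Z, InvBy K z θ := fun z hz => hθS z (hZS hz)
  have hZK : Z ≤ Subgroup.normalizer (K : Set G) := hZS.trans hSK
  obtain ⟨θ₁, hθ₁, hc₁, hu₁⟩ := (glauberman Z K hZp hK hZK K₁ rfl hK₁K).1 θ hθ hθZ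
  have hθ₁S : ∀ s ∈ S, InvBy K₁ s θ₁ := fun s hs =>
    invBy_of_corr Z K hZp hK hZK rfl hK₁K (hSK hs) (hSK₁ hs) hθ hθZ hθ₁ hc₁ (hθS s hs)
  have hθ₁A : ∀ a ∈ A₀, InvBy K₁ a θ₁ := fun a ha =>
    invBy_of_corr Z K hZp hK hZK rfl hK₁K (hA₀K ha) (hA₀K₁ ha) hθ hθZ hθ₁ hc₁ (hθA a ha)
  have hc₂ : Corr p hCK₁ θ₁ φ := (corr_trans_iff hK₁K hCK₁ (CfsgLib.Char.irr_isCharacter hθ) hθ₁
    hc₁ hu₁ (CfsgLib.Char.irr_isCharacter hφ)).1 hc
  have hC₁ : C = K₁ ⊓ Subgroup.centralizer (S : Set G) := by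
    refine le_antisymm (le_inf hCK₁ (hC ▸ inf_le_right)) ?_
    rw [hC]; exact inf_le_inf_right _ hK₁K
  rw [← ih _ hK₁card K₁ rfl S A₀ C hS hK₁cop hA₀ hSK₁ hA₀K₁ hA₀S hab₁ hC₁ hCK₁ θ₁ φ hθ₁ hφ hθ₁S
    hθ₁A hc₂]
  -- both sides through `B₀`
  have hB₀n : ∀ a ∈ A₀, a ∈ Subgroup.normalizer (B₀ : Set G) := fun a ha => by
    refine Subgroup.mem_normalizer_fintype fun b hb => ⟨A₀.mul_mem (A₀.mul_mem ha hb.1)
      (A₀.inv_mem ha), fun w hw => ?_⟩
    have h := hb.2 _ ((Subgroup.mem_normalizer_iff''.1 (hA₀W ha) w).1 hw)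
    have h2 := (Subgroup.mem_normalizer_iff.1 (hnormS₀ a (hA₀S ha) (hA₀K ha)) _).1 h
    simpa [mul_assoc] using h2
  have htr := ext_transfer Z K B₀ hZp hK hB₀cop hZK (hB₀A.trans hA₀K)
    (fun z hz b hb => (Subgroup.mem_centralizer_iff.1 hz.2 b hb).symm)
    (fun a ha b hb => hab a (hB₀A ha) b (hB₀A hb)) rfl hK₁K hθ hθZ
    (fun b hb => hθA b (hB₀A hb)) hθ₁ hc₁ (A₀ : Set G)
    fun a ha => ⟨hA₀K ha, hB₀n a ha, hA₀Z ha⟩
  have side : ∀ (L : Subgroup G) (η : L → ℂ), Cfsg.IsIrrCharacter L η →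
      A₀ ≤ Subgroup.normalizer (L : Set G) →
      (Ext L (L ⊔ A₀) η ↔ ∃ f : ↥(L ⊔ B₀) → ℂ, Cfsg.IsIrrCharacter ↥(L ⊔ B₀) f ∧
        (∀ (k : L) (b : ↥(L ⊔ B₀)), (b : G) = k → f b = η k) ∧
        ∀ a ∈ (A₀ : Set G), InvBy (L ⊔ B₀) a f) := by
    intro L η hη hA₀L
    have hnB : ∀ a ∈ A₀, a ∈ Subgroup.normalizer ((L ⊔ B₀ : Subgroup G) : Set G) := fun a ha => by
      refine Subgroup.mem_normalizer_fintype fun y hy => ?_
      obtain ⟨k, hk, b, hb, rfl⟩ := mem_sup_norm (hB₀A.trans hA₀L) hy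
      rw [show a * (k * b) * a⁻¹ = (a * k * a⁻¹) * (a * b * a⁻¹) by group]
      exact Subgroup.mul_mem_sup ((Subgroup.mem_normalizer_iff.1 (hA₀L ha) k).1 hk)
        ((Subgroup.mem_normalizer_iff.1 (hB₀n a ha) b).1 hb)
    refine (ext_cyclic_iff (K := L) (B := L ⊔ B₀) (A := L ⊔ A₀) le_sup_left
      (sup_le_sup_left hB₀A _) (sup_le (le_sup_left.trans Subgroup.le_normalizer) fun a ha => hnB a ha)
      a₀ (Subgroup.mem_sup_right ha₀) (fun x hx => ?_) hη).trans ?_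
    · obtain ⟨k, hk, a, ha, rfl⟩ := mem_sup_norm hA₀L hx
      obtain ⟨i, hi⟩ := hgen a ha
      refine ⟨i, ?_⟩
      rw [mul_assoc]
      exact Subgroup.mul_mem_sup hk ⟨A₀.mul_mem ha (A₀.inv_mem (A₀.zpow_mem ha₀ i)), hi⟩
    · refine exists_congr fun f => and_congr_right fun hf => and_congr_right fun _ =>
        ⟨fun h a ha => h a (Subgroup.mem_sup_right ha), fun h x hx => ?_⟩
      obtain ⟨k, hk, a, ha, rfl⟩ := mem_sup_norm hA₀L hx
      exact invBy_mul (hnB a ha)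
        (invBy_of_mem (Subgroup.mem_sup_left hk) (CfsgLib.Char.irr_isClassFunction hf)) (h a ha)
  rw [side K θ hθ hA₀K, side K₁ θ₁ hθ₁ hA₀K₁]
  exact htr

end CfsgLib.BlockB.McKay
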