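import Cfsg.Agent.Lib.BlockB.McKayBasic
import Cfsg.Agent.Lib.BlockB.OverTheta

/-!
Gallagher's count of the characters over an invariant character of a normal subgroup by the
pairs of elements commuting modulo it whose first member is good.
-/

set_option autoImplicit false
set_option linter.unusedSectionVars false
set_option maxHeartbeats 1000000

namespace CfsgLib.BlockB.McKay

open CfsgLib.Clifford
open scoped ComplexConjugate

universe u

variable {U : Type u} [Group U] [Fintype U] (K : Subgroup U) [K.Normal]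

/-- `g` is good for `θ`: `θ` extends whenever a second element commutes with `g` modulo `K`. -/
def Good (θ : K → ℂ) (g : U) : Prop :=
  ∀ x : U, x * g * x⁻¹ * g⁻¹ ∈ K → Ext K (K ⊔ Subgroup.closure {g, x}) θ

variable [Fintype K] {θ : K → ℂ} (hθ : Cfsg.IsIrrCharacter K θ) (hinv : ∀ t, conjFn t θ = θ)

open scoped Classical in
include hθ hinv in
/-- The second orthogonality relation over `θ` on a coset of `K`. -/
theorem sum_coset_over [Fintype (Cfsg.IrrCharacter U)] (g : U) :
    ∑ χ ∈ Finset.univ.filter (fun χ : Cfsg.IrrCharacter U =>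
        Cfsg.classInner ((χ : U → ℂ) ∘ fun k : K => (k : U)) θ ≠ 0),
      ∑ k : K, (χ : U → ℂ) (k * g) * conj ((χ : U → ℂ) (k * g)) =
      if Good K θ g then (Nat.card {x : U // x * g * x⁻¹ * g⁻¹ ∈ K} : ℂ) else 0 := by
  set Y := K ⊔ Subgroup.zpowers g with hY
  have hKY : K ≤ Y := le_sup_left
  have hgY : g ∈ Y := Subgroup.mem_sup_right (Subgroup.mem_zpowers g)
  have := Fintype.ofFinite Y
  let K' := K.subgroupOf Y
  have := Fintype.ofFinite K'
  let e : K' ≃* K := Subgroup.subgroupOfEquivOfLe hKY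
  have hYform : ∀ y ∈ Y, ∃ k ∈ K, ∃ i : ℤ, y = k * g ^ i := by
    intro y hy
    obtain ⟨k, hk, z, hz, rfl⟩ := Subgroup.mem_sup_of_normal_left.1 hy
    obtain ⟨i, rfl⟩ := Subgroup.mem_zpowers_iff.1 hz
    exact ⟨k, hk, i, rfl⟩
  have : IsCyclic (Y ⧸ K') := by
    refine ⟨⟨QuotientGroup.mk' K' ⟨g, hgY⟩, fun q => ?_⟩⟩
    obtain ⟨y, rfl⟩ := QuotientGroup.mk'_surjective K' q
    obtain ⟨k, hk, i, hi⟩ := hYform y y.2
    refine ⟨i, ?_⟩
    show QuotientGroup.mk' K' ⟨g, hgY⟩ ^ i = _
    rw [← map_zpow]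
    refine QuotientGroup.eq.2 (Subgroup.mem_subgroupOf.2 ?_)
    rw [Subgroup.coe_mul, Subgroup.coe_inv, Subgroup.coe_zpow, hi]
    simpa [mul_assoc] using (inferInstance : K.Normal).conj_mem k hk (g ^ i)⁻¹
  have hθ' : Cfsg.IsIrrCharacter K' (θ ∘ e) :=
    CfsgLib.Char.isIrrCharacter_comp_surjective hθ e.toMonoidHom e.surjective
  obtain ⟨θY, hθY, hres⟩ := exists_extension_cyclic K' hθ' fun t => funext fun m => by
    rw [conjFn_apply, Function.comp_apply, Function.comp_apply]
    exact (congrArg θ (Subtype.ext rfl)).trans (congr_fun (hinv (t : U)) (e m))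
  have hresirr : Cfsg.IsIrrCharacter K' (fun m : K' => θY m) := by
    rw [show (fun m : K' => θY m) = θ ∘ e from funext hres]; exact hθ'
  let kg : K → Y := fun k => ⟨(k : U) * g, mul_mem (hKY k.2) hgY⟩
  have havg : ∀ f : Y → ℂ,
      cosetAvg K' f ⟨g, hgY⟩ = (Nat.card K : ℂ)⁻¹ * ∑ k : K, f (kg k) := by
    intro f
    rw [cosetAvg, Nat.card_congr e.toEquiv]
    congr 1
    exact Fintype.sum_equiv e.toEquiv _ _ fun m => congrArg f (Subtype.ext rfl)
  have hK0 : (Nat.card K : ℂ) ≠ 0 := Nat.cast_ne_zero.2 Nat.card_pos.ne'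
  let Γ : Cfsg.IrrCharacter U → Y → ℂ := fun χ =>
    gallagherQuot K' (fun y : Y => (χ : U → ℂ) y) θY
  have hΓ : ∀ χ : Cfsg.IrrCharacter U, ∑ k : K, (χ : U → ℂ) (k * g) * conj (θY (kg k)) =
      (Nat.card K : ℂ) * Γ χ ⟨g, hgY⟩ := fun χ => by
    simp only [Γ, gallagherQuot, havg]
    rw [mul_inv_cancel_left₀ hK0]
  have hover : ∀ χ : Cfsg.IrrCharacter U,
      Cfsg.classInner (fun m : K' => (χ : U → ℂ) ((m : Y) : U)) (fun m : K' => θY m) =
        Cfsg.classInner ((χ : U → ℂ) ∘ fun k : K => (k : U)) θ := fun χ => by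
    rw [show (fun m : K' => θY m) = θ ∘ e.toMonoidHom from funext hres]
    exact OverTheta.classInner_comp_surjective e.toMonoidHom e.surjective
      ((χ : U → ℂ) ∘ fun k : K => (k : U)) θ
  -- the restriction to `Y` of a character over `θ` is a multiple of the extension
  have hfac : ∀ χ : Cfsg.IrrCharacter U,
      Cfsg.classInner ((χ : U → ℂ) ∘ fun k : K => (k : U)) θ ≠ 0 →
      ∀ y : Y, (χ : U → ℂ) y = θY y * Γ χ y := by
    intro χ hχ y
    have := Fintype.ofFinite (Cfsg.IrrCharacter Y)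
    have hc := CfsgLib.Char.isCharacter_restrict (CfsgLib.Char.irr_isCharacter χ.2) Y
    have hcl := CfsgLib.Char.isCharacter_isClassFunction hc
    have hK : (fun m : K' => (χ : U → ℂ) ((m : Y) : U)) =
        Cfsg.classInner ((χ : U → ℂ) ∘ fun k : K => (k : U)) θ • fun m : K' => θY m :=
      funext fun m => by
        have := congr_fun (restrict_eq_smul_of_invariant χ.2 hθ hinv hχ) (e m)
        rw [Pi.smul_apply, hres m]
        exact this
    have hlin : Γ χ y = ∑ ψ : Cfsg.IrrCharacter Y,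
        Cfsg.classInner (fun y : Y => (χ : U → ℂ) y) (ψ : Y → ℂ) *
          gallagherQuot K' (ψ : Y → ℂ) θY y := by
      simp only [Γ, gallagherQuot, cosetAvg, Finset.mul_sum]
      rw [Finset.sum_comm]
      refine Finset.sum_congr rfl fun m _ => ?_
      rw [CfsgLib.Char.classFunction_apply_eq_sum hcl, Finset.sum_mul, Finset.mul_sum]
      exact Finset.sum_congr rfl fun ψ _ => by ring
    rw [hlin, Finset.mul_sum,
      show (χ : U → ℂ) y = _ from CfsgLib.Char.classFunction_apply_eq_sum hcl y]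
    refine Finset.sum_congr rfl fun ψ _ => ?_
    rcases eq_or_ne (Cfsg.classInner (fun y : Y => (χ : U → ℂ) y) (ψ : Y → ℂ)) 0 with h0 | h0
    · rw [h0]; simp
    have hψK : Cfsg.classInner (fun m : K' => (ψ : Y → ℂ) m) (fun m : K' => θY m) ≠ 0 := by
      intro hz
      obtain ⟨μ, hμ, hμne⟩ := exists_irr_constituent_restrict (N := K') ψ.2
      obtain ⟨R, hR, hRe⟩ := exists_add_of_constituent hc ψ.2 h0
      have e1 : Cfsg.classInner (fun m : K' => (χ : U → ℂ) ((m : Y) : U)) μ ≠ 0 := by
        rw [show (fun m : K' => (χ : U → ℂ) ((m : Y) : U)) =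
          (fun m : K' => (ψ : Y → ℂ) m) + (fun m : K' => R m) from funext fun m => congr_fun hRe m]
        exact fun h => hμne (OverTheta.inner_add_eq_zero
          (CfsgLib.Char.isCharacter_restrict (CfsgLib.Char.irr_isCharacter ψ.2) K')
          (CfsgLib.Char.isCharacter_restrict hR K') (CfsgLib.Char.irr_isCharacter hμ) h)
      rw [hK, CfsgLib.Char.classInner_smul_left, mul_ne_zero_iff] at e1
      have hμe : (fun m : K' => θY m) = μ := by
        by_contra hne
        exact e1.2 (CfsgLib.Char.irr_classInner_ne hresirr hμ hne)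
      exact hμne (hμe ▸ hz)
    rw [show (ψ : Y → ℂ) y = _ from congr_fun
      (gallagher_factor K' ψ.2 (CfsgLib.Char.irr_isCharacter hθY) hresirr hψK).2 y, Pi.mul_apply]
    ring
  have hnorm : ∀ χ : Cfsg.IrrCharacter U,
      Cfsg.classInner ((χ : U → ℂ) ∘ fun k : K => (k : U)) θ ≠ 0 →
      ∑ k : K, (χ : U → ℂ) (k * g) * conj ((χ : U → ℂ) (k * g)) =
        (Nat.card K : ℂ) * (Γ χ ⟨g, hgY⟩ * conj (Γ χ ⟨g, hgY⟩)) := by
    intro χ hχ
    have h1 := congr_fun (cosetAvg_normSq_eq_one K' (CfsgLib.Char.irr_isCharacter hθY) hresirr)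
      ⟨g, hgY⟩
    rw [havg] at h1
    have h2 : ∀ k : K, Γ χ (kg k) = Γ χ ⟨g, hgY⟩ := fun k =>
      cosetAvg_mul_left K' _ ⟨⟨k, hKY k.2⟩, k.2⟩ ⟨g, hgY⟩
    calc ∑ k : K, (χ : U → ℂ) (k * g) * conj ((χ : U → ℂ) (k * g))
        = ∑ k : K, (θY (kg k) * conj (θY (kg k))) * (Γ χ ⟨g, hgY⟩ * conj (Γ χ ⟨g, hgY⟩)) :=
          Finset.sum_congr rfl fun k _ => by
            rw [show (χ : U → ℂ) (k * g) = _ from hfac χ hχ (kg k), h2, map_mul]; ring
      _ = (Nat.card K : ℂ) * ((Nat.card K : ℂ)⁻¹ * ∑ k : K, θY (kg k) * conj (θY (kg k))) *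
            (Γ χ ⟨g, hgY⟩ * conj (Γ χ ⟨g, hgY⟩)) := by
          rw [← Finset.sum_mul, mul_inv_cancel_left₀ hK0]
      _ = _ := by rw [h1, mul_one]
  -- elements commuting with `g` modulo `K`
  have hDc : ∀ x : U, x * g * x⁻¹ * g⁻¹ ∈ K → ∀ y ∈ Y, x * y * x⁻¹ * y⁻¹ ∈ K := by
    intro x hx y hy
    rw [← QuotientGroup.eq_one_iff] at hx ⊢
    obtain ⟨k, hk, i, rfl⟩ := hYform y hy
    have hk1 : (QuotientGroup.mk k : U ⧸ K) = 1 := (QuotientGroup.eq_one_iff k).2 hk
    simp only [QuotientGroup.mk_mul, QuotientGroup.mk_inv, QuotientGroup.mk_zpow, hk1, one_mul]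
      at hx ⊢
    have hcomm : Commute (x : U ⧸ K) (g : U ⧸ K) := mul_inv_eq_iff_eq_mul.1 (mul_inv_eq_one.1 hx)
    rw [mul_inv_eq_one, mul_inv_eq_iff_eq_mul]
    exact hcomm.zpow_right i
  have hDY : ∀ x : U, x * g * x⁻¹ * g⁻¹ ∈ K → ∀ y : Y, x * y * x⁻¹ ∈ Y := fun x hx y => by
    have := mul_mem (hKY (hDc x hx y y.2)) y.2
    rwa [inv_mul_cancel_right] at this
  by_cases hgood : Good K θ g
  · rw [if_pos hgood]
    have hfix : ∀ x : U, (hx : x * g * x⁻¹ * g⁻¹ ∈ K) → ∀ y : Y,
        θY ⟨x * y * x⁻¹, hDY x hx y⟩ = θY y := by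
      intro x hx y
      set A := K ⊔ Subgroup.closure {g, x} with hA
      obtain ⟨f, hf, hfres⟩ : Ext K A θ := hgood x hx
      have hxA : x ∈ A := Subgroup.mem_sup_right (Subgroup.subset_closure (by simp))
      have hYA : Y ≤ A := sup_le le_sup_left
        (Subgroup.zpowers_le.2 (Subgroup.mem_sup_right (Subgroup.subset_closure (by simp))))
      let fY : Y → ℂ := f ∘ Subgroup.inclusion hYA
      have hfYc : Cfsg.IsCharacter Y fY :=
        CfsgLib.Char.isCharacter_comp (CfsgLib.Char.irr_isCharacter hf) _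
      have hfYres : (fun m : K' => fY m) = fun m : K' => θY m := funext fun m => by
        rw [hres m]; exact hfres (e m) _ rfl
      have hfYirr : Cfsg.IsIrrCharacter Y fY :=
        isIrrCharacter_of_restrict (H := K') hfYc (by rw [hfYres]; exact hresirr)
      obtain ⟨hγ, hγe⟩ := gallagher_factor K' hfYirr (CfsgLib.Char.irr_isCharacter hθY) hresirr
        (by rw [hfYres, CfsgLib.Char.irr_classInner_self hresirr]; exact one_ne_zero)
      obtain ⟨φ, hφ⟩ := exists_hom_of_linear (CfsgLib.Char.irr_isCharacter hγ) (by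
        rw [gallagherQuot_apply_one, hfYres, CfsgLib.Char.irr_classInner_self hresirr])
      have e1 : fY ⟨x * y * x⁻¹, hDY x hx y⟩ = fY y :=
        CfsgLib.Char.irr_isClassFunction hf (Subgroup.inclusion hYA y) ⟨x, hxA⟩
      have e2 : gallagherQuot K' fY θY ⟨x * y * x⁻¹, hDY x hx y⟩ = gallagherQuot K' fY θY y := by
        have h := cosetAvg_mul_left K' (fun z => fY z * conj (θY z))
          ⟨⟨x * y * x⁻¹ * (y : U)⁻¹, hKY (hDc x hx y y.2)⟩, hDc x hx y y.2⟩ y
        refine Eq.trans (congrArg _ (Subtype.ext ?_)) h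
        simp
      rw [hγe, Pi.mul_apply, Pi.mul_apply, e2] at e1
      refine mul_right_cancel₀ ?_ e1
      rw [← hφ]
      exact Units.ne_zero _
    let D := Finset.univ.filter fun x : U => x * g * x⁻¹ * g⁻¹ ∈ K
    have hDcard : D.card = Nat.card {x : U // x * g * x⁻¹ * g⁻¹ ∈ K} := by
      rw [Nat.card_eq_fintype_card, Fintype.card_subtype]
    have hD0 : (D.card : ℂ) ≠ 0 := Nat.cast_ne_zero.2 (Finset.card_ne_zero.2 ⟨1, by simp [D]⟩)
    let f0 : U → ℂ := fun v => if h : v * g⁻¹ ∈ K then θY (kg ⟨v * g⁻¹, h⟩) else 0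
    let F : U → ℂ := fun u => (D.card : ℂ)⁻¹ * ∑ x : U, f0 (x * u * x⁻¹)
    have hFcl : Cfsg.IsClassFunction U F := fun u h => by
      simp only [F]
      congr 1
      exact Fintype.sum_equiv (Equiv.mulRight h) _ _ fun x => congrArg f0 (by simp [mul_assoc])
    have hf0g : ∀ k : K, f0 ((k : U) * g) = θY (kg k) := fun k => by
      simp only [f0]
      rw [dif_pos (by simp)]
      exact congrArg θY (Subtype.ext (by simp [kg]))
    have hinner : ∀ φ : U → ℂ, Cfsg.IsClassFunction U φ → Cfsg.classInner F φ =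
        (D.card : ℂ)⁻¹ * ∑ k : K, θY (kg k) * conj (φ (k * g)) := by
      intro φ hφ
      have h1 : ∑ u : U, F u * conj (φ u) =
          (D.card : ℂ)⁻¹ * ((Nat.card U : ℂ) * ∑ v : U, f0 v * conj (φ v)) := by
        simp only [F, mul_assoc, Finset.sum_mul, ← Finset.mul_sum]
        rw [Finset.sum_comm, Nat.card_eq_fintype_card, ← nsmul_eq_mul, ← Finset.card_univ,
          ← Finset.sum_const]
        refine congrArg _ (Finset.sum_congr rfl fun x _ => ?_)
        exact Fintype.sum_equiv (MulAut.conj x).toEquiv _ _ fun u => by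
          simp only [MulEquiv.toEquiv_eq_coe, MulEquiv.coe_toEquiv, MulAut.conj_apply]
          rw [mul_assoc x u x⁻¹, ← mul_assoc x u x⁻¹, hφ u x]
      rw [CfsgLib.Char.classInner_def, h1]
      have h2 : ∑ v : U, f0 v * conj (φ v) = ∑ k : K, θY (kg k) * conj (φ (k * g)) := by
        rw [← Finset.sum_subset (Finset.subset_univ (Finset.univ.image fun k : K => (k : U) * g))
          fun v _ hv => ?_]
        · rw [Finset.sum_image fun a _ b _ h => Subtype.ext (mul_right_cancel h)]
          exact Finset.sum_congr rfl fun k _ => by rw [hf0g]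
        · have : ¬ v * g⁻¹ ∈ K := fun h =>
            hv (Finset.mem_image.2 ⟨⟨_, h⟩, Finset.mem_univ _, by simp⟩)
          simp [f0, this]
      rw [h2]
      field_simp
    have hFg : ∀ k : K, F ((k : U) * g) = θY (kg k) := by
      intro k
      have h : ∀ x : U, f0 (x * ((k : U) * g) * x⁻¹) = if x ∈ D then θY (kg k) else 0 := by
        intro x
        by_cases hx : x * g * x⁻¹ * g⁻¹ ∈ K
        · rw [if_pos (by simp [D, hx])]
          have hmem : x * ((k : U) * g) * x⁻¹ * g⁻¹ ∈ K := by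
            have := mul_mem ((inferInstance : K.Normal).conj_mem _ k.2 x) hx
            rwa [show x * (k : U) * x⁻¹ * (x * g * x⁻¹ * g⁻¹) = x * ((k : U) * g) * x⁻¹ * g⁻¹ by
              group] at this
          simp only [f0]
          rw [dif_pos hmem]
          exact (congrArg θY (Subtype.ext (by simp [kg]))).trans (hfix x hx (kg k))
        · rw [if_neg (by simp [D, hx])]
          have hmem : ¬ x * ((k : U) * g) * x⁻¹ * g⁻¹ ∈ K := fun h => hx (by
            have := mul_mem ((inferInstance : K.Normal).conj_mem _ (K.inv_mem k.2) x) h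
            rwa [show x * (k : U)⁻¹ * x⁻¹ * (x * ((k : U) * g) * x⁻¹ * g⁻¹) =
              x * g * x⁻¹ * g⁻¹ by group] at this)
          simp only [f0]
          rw [dif_neg hmem]
      simp only [F, h, Finset.sum_ite_mem, Finset.univ_inter, Finset.sum_const, nsmul_eq_mul]
      rw [inv_mul_cancel_left₀ hD0]
    have hFF : Cfsg.classInner F F = (D.card : ℂ)⁻¹ * (Nat.card K : ℂ) := by
      rw [hinner F hFcl]
      congr 1
      rw [Finset.sum_congr rfl fun k _ => by rw [hFg k]]
      have h1 := congr_fun (cosetAvg_normSq_eq_one K' (CfsgLib.Char.irr_isCharacter hθY) hresirr)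
        ⟨g, hgY⟩
      rw [havg, inv_mul_eq_one₀ hK0] at h1
      exact h1.symm
    have hFχ : ∀ χ : Cfsg.IrrCharacter U, Cfsg.classInner F (χ : U → ℂ) =
        (D.card : ℂ)⁻¹ * ((Nat.card K : ℂ) * conj (Γ χ ⟨g, hgY⟩)) := by
      intro χ
      rw [hinner _ (CfsgLib.Char.irr_isClassFunction χ.2), ← Complex.conj_natCast (Nat.card K),
        ← map_mul, ← hΓ, map_sum]
      congr 1
      exact Finset.sum_congr rfl fun k _ => by rw [map_mul, Complex.conj_conj, mul_comm]
    have hpar := CfsgLib.Char.classInner_eq_sum_mul hFcl F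
    simp only [hFχ, hFF, map_mul, map_inv₀, Complex.conj_natCast, Complex.conj_conj] at hpar
    rw [← hDcard, Finset.sum_filter]
    calc ∑ χ : Cfsg.IrrCharacter U,
          (if Cfsg.classInner ((χ : U → ℂ) ∘ fun k : K => (k : U)) θ ≠ 0 then
            ∑ k : K, (χ : U → ℂ) (k * g) * conj ((χ : U → ℂ) (k * g)) else 0)
        = ∑ χ : Cfsg.IrrCharacter U,
            (Nat.card K : ℂ) * (Γ χ ⟨g, hgY⟩ * conj (Γ χ ⟨g, hgY⟩)) := by
          refine Finset.sum_congr rfl fun χ _ => ?_
          split_ifs with h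
          · exact hnorm χ h
          · rw [not_not] at h
            have h0 : Γ χ = 0 := gallagherQuot_eq_zero K'
              (CfsgLib.Char.isCharacter_restrict (CfsgLib.Char.irr_isCharacter χ.2) Y)
              (CfsgLib.Char.irr_isCharacter hθY) ((hover χ).trans h)
            simp [h0]
      _ = (D.card : ℂ) ^ 2 * (Nat.card K : ℂ)⁻¹ * ∑ χ : Cfsg.IrrCharacter U,
            (D.card : ℂ)⁻¹ * ((Nat.card K : ℂ) * conj (Γ χ ⟨g, hgY⟩)) *
              ((D.card : ℂ)⁻¹ * ((Nat.card K : ℂ) * Γ χ ⟨g, hgY⟩)) := by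
          rw [Finset.mul_sum]
          exact Finset.sum_congr rfl fun χ _ => by field_simp
      _ = (D.card : ℂ) := by
          rw [← hpar]
          field_simp
  · rw [if_neg hgood]
    simp only [Good, not_forall] at hgood
    obtain ⟨x, hx, hnext⟩ := hgood
    refine Finset.sum_eq_zero fun χ hχ => ?_
    rw [hnorm χ (Finset.mem_filter.1 hχ).2]
    suffices h : Γ χ ⟨g, hgY⟩ = 0 by simp [h]
    let σ : Y →* Y :=
      { toFun := fun y => ⟨x * y * x⁻¹, hDY x hx y⟩
        map_one' := Subtype.ext (by simp)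
        map_mul' := fun a b => Subtype.ext (by simp [mul_assoc]) }
    have hσ : Function.Bijective σ := Finite.injective_iff_bijective.1 fun a b h => Subtype.ext (by
      simpa [σ] using congrArg Subtype.val h)
    have hθx : Cfsg.IsIrrCharacter Y (θY ∘ σ) :=
      CfsgLib.Char.isIrrCharacter_comp_surjective hθY σ hσ.2
    have hθxres : (fun m : K' => (θY ∘ σ) m) = fun m : K' => θY m := funext fun m => by
      rw [hres m, Function.comp_apply, Function.comp_apply]
      have hm : σ (m : Y) = ((⟨⟨x * ((m : Y) : U) * x⁻¹,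
        hKY ((inferInstance : K.Normal).conj_mem _ m.2 x)⟩,
          (inferInstance : K.Normal).conj_mem _ m.2 x⟩ : K') : Y) := rfl
      rw [hm, hres, Function.comp_apply]
      exact (congr_fun (hinv x) (e m))
    obtain ⟨hγ, hγe⟩ := gallagher_factor K' hθx (CfsgLib.Char.irr_isCharacter hθY) hresirr
      (by rw [hθxres, CfsgLib.Char.irr_classInner_self hresirr]; exact one_ne_zero)
    obtain ⟨φ, hφ⟩ := exists_hom_of_linear (CfsgLib.Char.irr_isCharacter hγ) (by
      rw [gallagherQuot_apply_one, hθxres, CfsgLib.Char.irr_classInner_self hresirr])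
    have hφK : ∀ m : K', φ (m : Y) = 1 := fun m => Units.ext (by
      rw [hφ, Units.val_one, gallagherQuot, cosetAvg_mem, ← gallagherQuot,
        gallagherQuot_apply_one, hθxres, CfsgLib.Char.irr_classInner_self hresirr])
    by_cases hg1 : φ ⟨g, hgY⟩ = 1
    · -- then the extension is fixed by `x` and extends further
      exfalso
      have hφ1 : ∀ y : Y, φ y = 1 := by
        intro y
        obtain ⟨k, hk, i, hi⟩ := hYform y y.2
        rw [show y = ⟨k, hKY hk⟩ * ⟨g, hgY⟩ ^ i from Subtype.ext (by simpa using hi), map_mul,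
          map_zpow, hg1, one_zpow, mul_one]
        exact hφK ⟨⟨k, hKY hk⟩, hk⟩
      have hfx : ∀ y : Y, θY (σ y) = θY y := fun y => by
        have := congr_fun hγe y
        rw [Pi.mul_apply, ← hφ, hφ1, Units.val_one, mul_one] at this
        exact this
      set A := K ⊔ Subgroup.closure {g, x} with hA
      have hxA : x ∈ A := Subgroup.mem_sup_right (Subgroup.subset_closure (by simp))
      have hYA : Y ≤ A := sup_le le_sup_left
        (Subgroup.zpowers_le.2 (Subgroup.mem_sup_right (Subgroup.subset_closure (by simp))))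
      have hnorm' : A ≤ Subgroup.normalizer (Y : Set U) := by
        refine sup_le (hKY.trans Subgroup.le_normalizer) ((Subgroup.closure_le _).2 ?_)
        intro z hz
        rcases hz with rfl | hz
        · exact Subgroup.le_normalizer hgY
        · rw [Set.mem_singleton_iff.1 hz]
          refine (Subgroup.mem_normalizer_fintype fun y hy => ?_)
          exact hDY x hx ⟨y, hy⟩
      have : (Y.subgroupOf A).Normal := Subgroup.normal_subgroupOf_of_le_normalizer hnorm'
      have := Fintype.ofFinite A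
      have := Fintype.ofFinite (Y.subgroupOf A)
      let eY : Y.subgroupOf A ≃* Y := Subgroup.subgroupOfEquivOfLe hYA
      let q := QuotientGroup.mk' (Y.subgroupOf A) ⟨x, hxA⟩
      let B := (Subgroup.zpowers q).comap (QuotientGroup.mk' (Y.subgroupOf A))
      have hYB : ∀ y, (hy : y ∈ Y) → (⟨y, hYA hy⟩ : A) ∈ B := fun y hy => by
        rw [Subgroup.mem_comap, show QuotientGroup.mk' (Y.subgroupOf A) ⟨y, hYA hy⟩ = 1 from
          (QuotientGroup.eq_one_iff _).2 (Subgroup.mem_subgroupOf.2 hy)]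
        exact one_mem _
      have hAB : A ≤ B.map A.subtype := by
        refine sup_le (fun k hk => ⟨⟨k, hYA (hKY hk)⟩, hYB k (hKY hk), rfl⟩)
          ((Subgroup.closure_le _).2 fun z hz => ?_)
        rcases hz with rfl | hz
        · exact ⟨⟨z, hYA hgY⟩, hYB z hgY, rfl⟩
        · rw [Set.mem_singleton_iff.1 hz]
          exact ⟨⟨x, hxA⟩, Subgroup.mem_comap.2 (Subgroup.mem_zpowers q), rfl⟩
      have : IsCyclic (A ⧸ Y.subgroupOf A) := by
        refine ⟨⟨q, fun r => ?_⟩⟩
        obtain ⟨a, rfl⟩ := QuotientGroup.mk'_surjective (Y.subgroupOf A) r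
        obtain ⟨b, hb, hba⟩ := hAB a.2
        rw [← show b = a from Subtype.ext hba]
        exact Subgroup.mem_zpowers_iff.1 (Subgroup.mem_comap.1 hb)
      have hθA : Cfsg.IsIrrCharacter (Y.subgroupOf A) (θY ∘ eY) :=
        CfsgLib.Char.isIrrCharacter_comp_surjective hθY eY.toMonoidHom eY.surjective
      -- the inertia group of the extension contains the generators
      let J : Subgroup A :=
        { carrier := {a | conjFn a (θY ∘ eY) = θY ∘ eY}
          mul_mem' := fun {a b} ha hb => by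
            rw [Set.mem_setOf_eq] at ha hb ⊢
            rw [← conjFn_conjFn, ha, hb]
          one_mem' := conjFn_one _
          inv_mem' := fun {a} ha => by
            rw [Set.mem_setOf_eq] at ha ⊢
            conv_lhs => rw [← ha, conjFn_conjFn, mul_inv_cancel, conjFn_one] }
      have hYJ : ∀ y, (hy : y ∈ Y) → (⟨y, hYA hy⟩ : A) ∈ J := fun y hy => funext fun n => by
        rw [conjFn_apply, Function.comp_apply, Function.comp_apply]
        exact (congrArg θY (Subtype.ext (by simp [eY]))).trans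
          (CfsgLib.Char.irr_isClassFunction hθY (eY n) ⟨y, hy⟩)
      have hAJ : A ≤ J.map A.subtype := by
        refine sup_le (fun k hk => ⟨⟨k, hYA (hKY hk)⟩, hYJ k (hKY hk), rfl⟩)
          ((Subgroup.closure_le _).2 fun z hz => ?_)
        rcases hz with rfl | hz
        · exact ⟨⟨z, hYA hgY⟩, hYJ z hgY, rfl⟩
        · rw [Set.mem_singleton_iff.1 hz]
          exact ⟨⟨x, hxA⟩, funext fun n =>
            (congrArg θY (Subtype.ext (by simp [eY, σ]))).trans (hfx (eY n)), rfl⟩
      obtain ⟨f, hf, hfres⟩ := exists_extension_cyclic (Y.subgroupOf A) hθA fun a => by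
        obtain ⟨b, hb, hba⟩ := hAJ a.2
        exact (show b = a from Subtype.ext hba) ▸ hb
      refine hnext ⟨f, hf, fun k a hka => ?_⟩
      rw [show a = ((⟨⟨(k : U), hYA (hKY k.2)⟩, hKY k.2⟩ : Y.subgroupOf A) : A) from
        Subtype.ext hka, hfres]
      exact hres (e.symm k)
    · have hne : conj ((φ ⟨g, hgY⟩ : ℂˣ) : ℂ) ≠ 1 := fun h => hg1 (Units.ext (by
        rw [Units.val_one]
        simpa using congrArg conj h))
      have key : Γ χ ⟨g, hgY⟩ = conj ((φ ⟨g, hgY⟩ : ℂˣ) : ℂ) * Γ χ ⟨g, hgY⟩ := by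
        apply mul_left_cancel₀ hK0
        rw [mul_left_comm, ← hΓ, Finset.mul_sum]
        have hmem : ∀ k : K, x * ((k : U) * g) * x⁻¹ * g⁻¹ ∈ K := fun k => by
          have := mul_mem ((inferInstance : K.Normal).conj_mem _ k.2 x) hx
          rwa [show x * (k : U) * x⁻¹ * (x * g * x⁻¹ * g⁻¹) = x * ((k : U) * g) * x⁻¹ * g⁻¹ by
            group] at this
        let π : K → K := fun k => ⟨_, hmem k⟩
        have hπ : Function.Bijective π := Finite.injective_iff_bijective.1 fun a b h =>
          Subtype.ext (by simpa [π] using congrArg Subtype.val h)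
        symm
        refine Fintype.sum_bijective π hπ _ _ fun k => ?_
        have hkg : kg (π k) = σ (kg k) := Subtype.ext (by simp [π, kg, σ])
        have hval : (((π k : K) : U) * g) = x * ((k : U) * g) * x⁻¹ := by simp [π]
        rw [hkg, show θY (σ (kg k)) = _ from congr_fun hγe (kg k), Pi.mul_apply, map_mul, hval,
          CfsgLib.Char.irr_isClassFunction χ.2, ← hφ,
          show φ (kg k) = φ ⟨g, hgY⟩ by
            rw [show kg k = ⟨k, hKY k.2⟩ * ⟨g, hgY⟩ from rfl, map_mul,
              hφK ⟨⟨k, hKY k.2⟩, k.2⟩, one_mul]]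
        ring
      by_contra h
      exact hne (mul_right_cancel₀ h (by rw [one_mul]; exact key.symm))

open scoped Classical in
include hθ hinv in
/-- Gallagher's count. -/
theorem card_pairs :
    Nat.card {q : U × U // Good K θ q.1 ∧ q.2 * q.1 * q.2⁻¹ * q.1⁻¹ ∈ K} =
      Nat.card K * Nat.card U * Nat.card (Over (fun k : K => (k : U)) θ) := by
  have := Fintype.ofFinite (Cfsg.IrrCharacter U)
  have h1 : ∑ g : U, (if Good K θ g then (Nat.card {x : U // x * g * x⁻¹ * g⁻¹ ∈ K} : ℂ) else 0) =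
      (Nat.card K : ℂ) * (Nat.card U : ℂ) * Nat.card (Over (fun k : K => (k : U)) θ) := by
    rw [← Finset.sum_congr rfl fun g _ => sum_coset_over K hθ hinv g, Finset.sum_comm]
    rw [show Nat.card (Over (fun k : K => (k : U)) θ) = _ from
      Nat.card_eq_fintype_card.trans (Fintype.card_subtype _), mul_comm _ ((_ : ℕ) : ℂ),
      ← nsmul_eq_mul, ← Finset.sum_const]
    refine Finset.sum_congr rfl fun χ _ => ?_
    rw [Finset.sum_comm, Nat.card_eq_fintype_card, ← nsmul_eq_mul, ← Finset.card_univ,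
      ← Finset.sum_const]
    refine Finset.sum_congr rfl fun k _ => ?_
    refine (Equiv.sum_comp (Equiv.mulLeft (k : U))
      fun u => (χ : U → ℂ) u * conj ((χ : U → ℂ) u)).trans ?_
    have h := CfsgLib.Char.irr_classInner_self χ.2
    rwa [CfsgLib.Char.classInner_def, inv_mul_eq_one₀ CfsgLib.Char.natCard_ne_zero, eq_comm] at h
  have h2 : (Nat.card {q : U × U // Good K θ q.1 ∧ q.2 * q.1 * q.2⁻¹ * q.1⁻¹ ∈ K} : ℂ) =
      ∑ g : U, (if Good K θ g then (Nat.card {x : U // x * g * x⁻¹ * g⁻¹ ∈ K} : ℂ) else 0) := by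
    rw [Nat.card_eq_fintype_card, Fintype.card_subtype, Finset.card_filter, Fintype.sum_prod_type,
      Nat.cast_sum]
    refine Finset.sum_congr rfl fun g _ => ?_
    split_ifs with h
    · rw [Nat.card_eq_fintype_card, Fintype.card_subtype, Finset.card_filter]
      simp [h]
    · simp [h]
  exact_mod_cast h2.trans h1

end CfsgLib.BlockB.McKay
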