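import Cfsg.Agent.Lib.BlockB.GlaubermanExt
import Cfsg.Agent.Lib.BlockB.GoodClasses

/-!
The characters of `K U` over an invariant character of the normal `p'`-subgroup `K` are as many as
those of `U` over its Glauberman correspondent, for `U` in the normalizer of the acting group.
-/

set_option autoImplicit false
set_option linter.unusedSectionVars false
set_option linter.style.haveILetI false

namespace CfsgLib.BlockB.McKay

open CfsgLib.Clifford

universe u

/-- Fibres of constant cardinality multiply the count. -/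
theorem natCard_pullback {A B : Type u} [Finite A] [Finite B] (f : A → B) (c : ℕ)
    (hf : ∀ b, Nat.card {a // f a = b} = c) (P : B → Prop) :
    Nat.card {a // P (f a)} = c * Nat.card {b // P b} := by
  classical
  haveI := Fintype.ofFinite A
  haveI := Fintype.ofFinite B
  let e : {a // P (f a)} ≃ Σ b : {b // P b}, {a // f a = b.1} :=
    { toFun := fun a => ⟨⟨f a.1, a.2⟩, a.1, rfl⟩
      invFun := fun q => ⟨q.2.1, by rw [q.2.2]; exact q.1.2⟩
      left_inv := fun a => rfl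
      right_inv := by
        rintro ⟨⟨b, hb⟩, a, ha⟩
        change f a = b at ha
        subst ha
        rfl }
  rw [Nat.card_congr e, Nat.card_sigma, Finset.sum_congr rfl fun b _ => hf b.1, Finset.sum_const,
    Finset.card_univ, smul_eq_mul, mul_comm, ← Nat.card_eq_fintype_card]

variable {G : Type u} [Group G] [Finite G]

/-- Extendibility seen inside a subgroup. -/
theorem ext_subgroupOf {U K : Subgroup G} (hKU : K ≤ U) (A : Subgroup U) (θ : K → ℂ) :
    Ext (K.subgroupOf U) A (θ ∘ Subgroup.subgroupOfEquivOfLe hKU) ↔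
      Ext K (A.map U.subtype) θ := by
  let e : A ≃* A.map U.subtype := A.equivMapOfInjective U.subtype U.subtype_injective
  have he : ∀ a : A, ((e a : A.map U.subtype) : G) = ((a : U) : G) := fun a => rfl
  constructor
  · rintro ⟨f, hf, hres⟩
    refine ⟨f ∘ e.symm,
      CfsgLib.Char.isIrrCharacter_comp_surjective hf e.symm.toMonoidHom e.symm.surjective,
      fun k a ha => ?_⟩
    obtain ⟨b, rfl⟩ := e.surjective a
    rw [Function.comp_apply, e.symm_apply_apply,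
      hres ⟨⟨k, hKU k.2⟩, k.2⟩ b (Subtype.ext ha)]
    rfl
  · rintro ⟨f, hf, hres⟩
    refine ⟨f ∘ e, CfsgLib.Char.isIrrCharacter_comp_surjective hf e.toMonoidHom e.surjective,
      fun k a ha => ?_⟩
    exact hres _ (e a) (congrArg Subtype.val ha)

theorem natCard_over_le {U K : Subgroup G} (hKU : K ≤ U) [Fintype K]
    [Fintype (K.subgroupOf U)] (θ : K → ℂ) :
    Nat.card (Over (Subgroup.inclusion hKU) θ) =
      Nat.card (Over (fun k : K.subgroupOf U => (k : U))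
        (θ ∘ Subgroup.subgroupOfEquivOfLe hKU)) := by
  refine Nat.card_congr (Equiv.subtypeEquivRight fun χ => Iff.of_eq (congrArg (· ≠ 0) ?_))
  exact (OverTheta.classInner_comp_surjective
    (Subgroup.subgroupOfEquivOfLe hKU).toMonoidHom (Subgroup.subgroupOfEquivOfLe hKU).surjective
    ((χ : U → ℂ) ∘ Subgroup.inclusion hKU) θ).symm

/-- Gallagher's count in an ambient group. -/
theorem card_pairs_in {U K : Subgroup G} (hKU : K ≤ U) (hUK : U ≤ Subgroup.normalizer (K : Set G))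
    [Fintype K] {θ : K → ℂ} (hθ : Cfsg.IsIrrCharacter K θ) (hinv : ∀ u ∈ U, InvBy K u θ) :
    Nat.card {q : U × U // (∀ x : U, (x : G) * q.1 * (x : G)⁻¹ * (q.1 : G)⁻¹ ∈ K →
        Ext K (K ⊔ Subgroup.closure {(q.1 : G), (x : G)}) θ) ∧
        (q.2 : G) * q.1 * (q.2 : G)⁻¹ * (q.1 : G)⁻¹ ∈ K} =
      Nat.card K * Nat.card U * Nat.card (Over (Subgroup.inclusion hKU) θ) := by
  haveI := Fintype.ofFinite U
  haveI := Fintype.ofFinite (K.subgroupOf U)
  haveI : (K.subgroupOf U).Normal := Subgroup.normal_subgroupOf_of_le_normalizer hUK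
  let e := Subgroup.subgroupOfEquivOfLe hKU
  have he : Cfsg.IsIrrCharacter (K.subgroupOf U) (θ ∘ e) :=
    CfsgLib.Char.isIrrCharacter_comp_surjective hθ e.toMonoidHom e.surjective
  rw [natCard_over_le hKU θ, ← Nat.card_congr e.toEquiv,
    ← card_pairs (K.subgroupOf U) he fun t => funext fun m => hinv t t.2 (e m) _ rfl]
  have hmap : ∀ g x : U, ((K.subgroupOf U) ⊔ Subgroup.closure {g, x}).map U.subtype =
      K ⊔ Subgroup.closure {(g : G), (x : G)} := fun g x => by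
    rw [Subgroup.map_sup, MonoidHom.map_closure, Set.image_pair,
      Subgroup.map_subgroupOf_eq_of_le hKU]
    rfl
  refine Nat.card_congr (Equiv.subtypeEquivRight fun q => and_congr (forall_congr' fun x => ?_) ?_)
  · rw [Subgroup.mem_subgroupOf, ext_subgroupOf hKU, hmap]
    exact Iff.rfl
  · rw [Subgroup.mem_subgroupOf]; rfl

variable {p : ℕ} [Fact p.Prime]

/-- The count is preserved by the Glauberman correspondence. -/
theorem card_over_glauberman (S K U₂ C : Subgroup G) [Fintype K] [Fintype C] (hS : IsPGroup p S)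
    (hK : ¬ p ∣ Nat.card K) (hU₂ : ¬ p ∣ Nat.card U₂)
    (hSK : S ≤ Subgroup.normalizer (K : Set G)) (hU₂K : U₂ ≤ Subgroup.normalizer (K : Set G))
    (hU₂S : U₂ ≤ Subgroup.normalizer (S : Set G))
    (hC : C = K ⊓ Subgroup.centralizer (S : Set G)) (hCU₂ : C = K ⊓ U₂) (hCK : C ≤ K)
    (hC₂ : C ≤ U₂) {θ : K → ℂ} (hθ : Cfsg.IsIrrCharacter K θ) (hθS : ∀ s ∈ S, InvBy K s θ)
    (hθU : ∀ u ∈ U₂, InvBy K u θ) {φ : C → ℂ} (hφ : Cfsg.IsIrrCharacter C φ)
    (hc : Corr p hCK θ φ) :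
    Nat.card (Over (Subgroup.inclusion (le_sup_left : K ≤ K ⊔ U₂)) θ) =
      Nat.card (Over (Subgroup.inclusion hC₂) φ) := by
  classical
  have hp := (Fact.out : p.Prime)
  have hU₂C : U₂ ≤ Subgroup.normalizer (C : Set G) := by
    intro u hu
    refine Subgroup.mem_normalizer_fintype fun y hy => ?_
    rw [SetLike.mem_coe, hCU₂] at hy ⊢
    exact ⟨(Subgroup.mem_normalizer_iff.1 (hU₂K hu) y).1 hy.1,
      U₂.mul_mem (U₂.mul_mem hu hy.2) (U₂.inv_mem hu)⟩
  have hφU : ∀ u ∈ U₂, InvBy C u φ := fun u hu =>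
    invBy_of_corr S K hS hK hSK hC hCK (hU₂K hu) (hU₂C hu) hθ hθS hφ hc (hθU u hu)
  have hθKU : ∀ u ∈ K ⊔ U₂, InvBy K u θ := by
    intro u hu
    obtain ⟨k, hk, a, ha, rfl⟩ := mem_sup_norm hU₂K hu
    exact invBy_mul (hU₂K ha) (invBy_of_mem hk (CfsgLib.Char.irr_isClassFunction hθ)) (hθU a ha)
  have h1 := card_pairs_in (le_sup_left : K ≤ K ⊔ U₂) (le_normalizer_sup_self hU₂K) hθ hθKU
  have h2 := card_pairs_in hC₂ hU₂C hφ hφU
  set P1 : (↥(K ⊔ U₂) × ↥(K ⊔ U₂)) → Prop := fun q =>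
    (∀ x : ↥(K ⊔ U₂), (x : G) * q.1 * (x : G)⁻¹ * (q.1 : G)⁻¹ ∈ K →
        Ext K (K ⊔ Subgroup.closure {(q.1 : G), (x : G)}) θ) ∧
      (q.2 : G) * q.1 * (q.2 : G)⁻¹ * (q.1 : G)⁻¹ ∈ K with hP1
  let Φ : K × U₂ → ↥(K ⊔ U₂) := fun q =>
    ⟨(q.1 : G) * q.2, Subgroup.mul_mem_sup q.1.2 q.2.2⟩
  have hΦs : Function.Surjective Φ := fun y => by
    obtain ⟨k, hk, a, ha, h⟩ := mem_sup_norm hU₂K y.2
    exact ⟨(⟨k, hk⟩, ⟨a, ha⟩), Subtype.ext h.symm⟩
  have hfib : ∀ y, Nat.card {q // Φ q = y} = Nat.card C := by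
    intro y
    obtain ⟨⟨k₀, u₀⟩, rfl⟩ := hΦs y
    refine (Nat.card_congr ?_).symm
    refine
      { toFun := fun c => ⟨(k₀ * ⟨(c : G), hCK c.2⟩, ⟨(c : G), hC₂ c.2⟩⁻¹ * u₀), Subtype.ext (by
          simp [Φ, mul_assoc])⟩
        invFun := fun q => ⟨(k₀ : G)⁻¹ * q.1.1, ?_⟩
        left_inv := fun c => Subtype.ext (by simp)
        right_inv := fun q => ?_ }
    · rw [hCU₂]
      refine ⟨K.mul_mem (K.inv_mem k₀.2) q.1.1.2, ?_⟩
      have h : (q.1.1 : G) * q.1.2 = k₀ * u₀ := congrArg Subtype.val q.2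
      rw [show (k₀ : G)⁻¹ * q.1.1 = (u₀ : G) * (q.1.2 : G)⁻¹ by
        rw [inv_mul_eq_iff_eq_mul, ← mul_assoc, ← h, mul_inv_cancel_right]]
      exact U₂.mul_mem u₀.2 (U₂.inv_mem q.1.2.2)
    · have h : (q.1.1 : G) * q.1.2 = k₀ * u₀ := congrArg Subtype.val q.2
      refine Subtype.ext (Prod.ext (Subtype.ext (by simp)) (Subtype.ext ?_))
      show ((k₀ : G)⁻¹ * q.1.1)⁻¹ * u₀ = q.1.2
      rw [mul_inv_rev, inv_inv, mul_assoc, ← h, inv_mul_cancel_left]
  let Φ2 : (K × U₂) × (K × U₂) → ↥(K ⊔ U₂) × ↥(K ⊔ U₂) := fun q => (Φ q.1, Φ q.2)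
  have hfib2 : ∀ y, Nat.card {q // Φ2 q = y} = Nat.card C * Nat.card C := by
    intro y
    rw [Nat.card_congr (show {q // Φ2 q = y} ≃ {q // Φ q = y.1} × {q // Φ q = y.2} from
      (Equiv.subtypeEquivRight fun q => by simp [Φ2, Prod.ext_iff]).trans Equiv.subtypeProdEquivProd),
      Nat.card_prod, hfib, hfib]
  have hcount := natCard_pullback Φ2 _ hfib2 P1
  -- pairs modulo `K` are pairs modulo `C`
  have hcomm : ∀ (k l : K) (u v : U₂),
      ((l : G) * v) * ((k : G) * u) * ((l : G) * v)⁻¹ * ((k : G) * u)⁻¹ ∈ K ↔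
        (v : G) * u * (v : G)⁻¹ * (u : G)⁻¹ ∈ C := by
    intro k l u v
    have e : ((l : G) * v) * ((k : G) * u) * ((l : G) * v)⁻¹ * ((k : G) * u)⁻¹ =
        (l : G) * ((v : G) * k * (v : G)⁻¹) * ((v : G) * u * (v : G)⁻¹ * (u : G)⁻¹) *
          ((u : G) * (l : G)⁻¹ * (u : G)⁻¹) * (k : G)⁻¹ := by group
    have hl : (l : G) * ((v : G) * k * (v : G)⁻¹) ∈ K :=
      K.mul_mem l.2 ((Subgroup.mem_normalizer_iff.1 (hU₂K v.2) _).1 k.2)
    have hr : (u : G) * (l : G)⁻¹ * (u : G)⁻¹ ∈ K :=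
      (Subgroup.mem_normalizer_iff.1 (hU₂K u.2) _).1 (K.inv_mem l.2)
    rw [e, K.mul_mem_cancel_right (K.inv_mem k.2), K.mul_mem_cancel_right hr,
      K.mul_mem_cancel_left hl, hCU₂, Subgroup.mem_inf, and_iff_left]
    exact U₂.mul_mem (U₂.mul_mem (U₂.mul_mem v.2 u.2) (U₂.inv_mem v.2)) (U₂.inv_mem u.2)
  have hext : ∀ (k l : K) (u v : U₂), (v : G) * u * (v : G)⁻¹ * (u : G)⁻¹ ∈ C →
      (Ext K (K ⊔ Subgroup.closure {(k : G) * u, (l : G) * v}) θ ↔
        Ext C (C ⊔ Subgroup.closure {(u : G), (v : G)}) φ) := by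
    intro k l u v huv
    set A₀ := Subgroup.closure {(u : G), (v : G)} with hA₀
    have hA₀U : A₀ ≤ U₂ := (Subgroup.closure_le _).2 (by
      rintro x (rfl | rfl)
      · exact u.2
      · exact v.2)
    have hsup : K ⊔ Subgroup.closure {(k : G) * u, (l : G) * v} = K ⊔ A₀ := by
      refine le_antisymm (sup_le le_sup_left ((Subgroup.closure_le _).2 ?_))
        (sup_le le_sup_left ((Subgroup.closure_le _).2 ?_))
      · rintro x (rfl | rfl)
        · exact Subgroup.mul_mem_sup k.2 (Subgroup.subset_closure (by simp))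
        · exact Subgroup.mul_mem_sup l.2 (Subgroup.subset_closure (by simp))
      · rintro x (rfl | rfl)
        · rw [show (u : G) = (k : G)⁻¹ * ((k : G) * u) by group]
          exact Subgroup.mul_mem_sup (K.inv_mem k.2) (Subgroup.subset_closure (by simp))
        · rw [show (v : G) = (l : G)⁻¹ * ((l : G) * v) by group]
          exact Subgroup.mul_mem_sup (K.inv_mem l.2) (Subgroup.subset_closure (by simp))
    rw [hsup]
    refine ext_iff K S A₀ C hS hK (fun h => hU₂ (h.trans (Subgroup.card_dvd_of_le hA₀U))) hSK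
      (hA₀U.trans hU₂K) (hA₀U.trans hU₂S) (fun a ha b hb => ?_) hC hCK θ φ hθ hφ hθS
      (fun a ha => hθU a (hA₀U ha)) hc
    -- the two generators commute modulo `C`
    haveI : (C.subgroupOf U₂).Normal := Subgroup.normal_subgroupOf_of_le_normalizer hU₂C
    let π := QuotientGroup.mk' (C.subgroupOf U₂)
    have hπ : π v * π u = π u * π v := by
      have : π (v * u * v⁻¹ * u⁻¹) = 1 := (QuotientGroup.eq_one_iff _).2 huv
      simpa only [map_mul, map_inv, mul_inv_eq_iff_eq_mul, one_mul] using this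
    have hA₀' : ∀ x ∈ A₀, ∃ h : x ∈ U₂, π ⟨x, h⟩ ∈ Subgroup.closure {π u, π v} := by
      intro x hx
      induction hx using Subgroup.closure_induction with
      | mem z hz =>
        rcases hz with rfl | rfl
        · exact ⟨u.2, Subgroup.subset_closure (by simp)⟩
        · exact ⟨v.2, Subgroup.subset_closure (by simp)⟩
      | one => exact ⟨U₂.one_mem, by
          rw [show (⟨(1 : G), U₂.one_mem⟩ : U₂) = 1 from rfl, map_one]; exact Subgroup.one_mem _⟩
      | mul x y _ _ hx hy =>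
        obtain ⟨hx1, hx2⟩ := hx
        obtain ⟨hy1, hy2⟩ := hy
        exact ⟨U₂.mul_mem hx1 hy1, by
          rw [show (⟨x * y, U₂.mul_mem hx1 hy1⟩ : U₂) = ⟨x, hx1⟩ * ⟨y, hy1⟩ from rfl, map_mul]
          exact Subgroup.mul_mem _ hx2 hy2⟩
      | inv x _ hx =>
        obtain ⟨hx1, hx2⟩ := hx
        exact ⟨U₂.inv_mem hx1, by
          rw [show (⟨x⁻¹, U₂.inv_mem hx1⟩ : U₂) = ⟨x, hx1⟩⁻¹ from rfl, map_inv]
          exact Subgroup.inv_mem _ hx2⟩
    obtain ⟨ha1, ha2⟩ := hA₀' a ha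
    obtain ⟨hb1, hb2⟩ := hA₀' b hb
    have hab2 : π ⟨a, ha1⟩ * π ⟨b, hb1⟩ = π ⟨b, hb1⟩ * π ⟨a, ha1⟩ := by
      haveI := Subgroup.isMulCommutative_closure (G := U₂ ⧸ C.subgroupOf U₂) (k := {π u, π v}) (by
        rintro x (rfl | rfl) y (rfl | rfl)
        · rfl
        · exact hπ.symm
        · exact hπ
        · rfl)
      exact congrArg Subtype.val
        (mul_comm' (⟨_, ha2⟩ : Subgroup.closure {π u, π v}) ⟨_, hb2⟩)
    have : π (⟨a, ha1⟩ * ⟨b, hb1⟩ * ⟨a, ha1⟩⁻¹ * ⟨b, hb1⟩⁻¹) = 1 := by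
      simp only [map_mul, map_inv, hab2, mul_inv_cancel_right, mul_inv_cancel]
    exact hCK (Subgroup.mem_subgroupOf.1 ((QuotientGroup.eq_one_iff _).1 this))
  set P2 : U₂ × U₂ → Prop := fun q =>
    (∀ x : U₂, (x : G) * q.1 * (x : G)⁻¹ * (q.1 : G)⁻¹ ∈ C →
        Ext C (C ⊔ Subgroup.closure {(q.1 : G), (x : G)}) φ) ∧
      (q.2 : G) * q.1 * (q.2 : G)⁻¹ * (q.1 : G)⁻¹ ∈ C with hP2
  have hiff : ∀ q : (K × U₂) × (K × U₂), P1 (Φ2 q) ↔ P2 (q.1.2, q.2.2) := by
    intro q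
    refine and_congr ⟨fun h x hx => ?_, fun h x hx => ?_⟩ (hcomm q.1.1 q.2.1 q.1.2 q.2.2)
    · exact (hext q.1.1 1 q.1.2 x hx).1 (h (Φ (1, x)) ((hcomm q.1.1 1 q.1.2 x).2 hx))
    · obtain ⟨⟨l, v⟩, rfl⟩ := hΦs x
      have hx' := (hcomm q.1.1 l q.1.2 v).1 hx
      exact (hext q.1.1 l q.1.2 v hx').2 (h v hx')
  have hcount2 : Nat.card {q : (K × U₂) × (K × U₂) // P1 (Φ2 q)} =
      Nat.card K * Nat.card K * Nat.card {q // P2 q} := by
    rw [Nat.card_congr (Equiv.subtypeEquivRight hiff), ← Nat.card_prod, ← Nat.card_prod]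
    exact Nat.card_congr
      { toFun := fun q => ((q.1.1.1, q.1.2.1), ⟨(q.1.1.2, q.1.2.2), q.2⟩)
        invFun := fun q => ⟨((q.1.1, q.2.1.1), (q.1.2, q.2.1.2)), q.2.2⟩
        left_inv := fun q => rfl
        right_inv := fun q => rfl }
  have hUcard : Nat.card K * Nat.card U₂ = Nat.card C * Nat.card (K ⊔ U₂ : Subgroup G) := by
    have := natCard_pullback Φ _ hfib (fun _ => True)
    rwa [Nat.card_congr (Equiv.subtypeUnivEquiv fun _ => trivial),
      Nat.card_congr (Equiv.subtypeUnivEquiv fun _ => trivial), Nat.card_prod] at this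
  rw [hcount2, h2, h1] at hcount
  have hpos : 0 < Nat.card K * Nat.card C * (Nat.card K * Nat.card U₂) := by
    have := Nat.card_pos (α := U₂)
    have := Nat.card_pos (α := K)
    have := Nat.card_pos (α := C)
    positivity
  refine (Nat.eq_of_mul_eq_mul_left hpos ?_).symm
  calc Nat.card K * Nat.card C * (Nat.card K * Nat.card U₂) *
        Nat.card (Over (Subgroup.inclusion hC₂) φ)
      = Nat.card K * Nat.card K * (Nat.card C * Nat.card U₂ *
          Nat.card (Over (Subgroup.inclusion hC₂) φ)) := by ring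
    _ = _ := by rw [hcount, hUcard]; ring

end CfsgLib.BlockB.McKay
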