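import Cfsg.Agent.Lib.BlockB.StarOrbits
import Cfsg.Agent.Lib.BlockA.BlockFusion
import Cfsg.Agent.Lib.BlockA.BlockSquares
import Cfsg.Agent.Lib.Block.DefectOrder

/-!
Height zero characters of a given degree are counted by the quotient of the defect group by the
focal subgroup; the squares of their degrees sum to a multiple of `p ^ 2`.
-/

set_option autoImplicit false
set_option linter.unusedSectionVars false
set_option maxHeartbeats 1000000

namespace CfsgLib.BlockB.HeightZeroCount

open Cfsg CfsgLib.Block CfsgLib.BlockA CfsgLib.BlockB.Star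
open scoped commutatorElement

universe u

variable {G : Type u} [Group G] [Fintype G] {p : ℕ} {M : Ideal AlgInt} [M.IsPrime]
  {B : Set (IrrCharacter G)} {P : Subgroup G}
  {e : Set (IrrCharacter (Subgroup.centralizer (P : Set G)))} {F : FusionSystem P}

/-- **Orbit counting by degree.** -/
theorem index_focal_dvd_card_degree (hM : IsPModular p M) (hF : IsBlockFusionSystemOn p M B P e F)
    (m : ℕ) :
    (F.focalSubgroup.subgroupOf P).index ∣ Nat.card {χ : IrrCharacter G //
      χ ∈ B ∧ blockHeight p B (χ : G → ℂ) = 0 ∧ charDegree (χ : G → ℂ) = m} := by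
  classical
  have hN := focal_normal F
  set N := F.focalSubgroup.subgroupOf P with hNdef
  let hcomm : CommGroup (P ⧸ N) :=
    { mul_comm := fun a b => by
        induction a using QuotientGroup.induction_on with
        | _ a =>
        induction b using QuotientGroup.induction_on with
        | _ b =>
        rw [← QuotientGroup.mk_mul, ← QuotientGroup.mk_mul, QuotientGroup.eq]
        have h1 : ⁅b⁻¹, a⁻¹⁆ ∈ N := commutator_le_focal F
          (Subgroup.commutator_mem_commutator (Subgroup.mem_top _) (Subgroup.mem_top _))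
        simpa [commutatorElement_def, mul_assoc] using h1 }
  have hmax := hF.1
  have hst := fun μ : P ⧸ N →* ℂˣ => isStable_linOn hM hF N le_rfl μ
  set X := {χ : IrrCharacter G //
      χ ∈ B ∧ blockHeight p B (χ : G → ℂ) = 0 ∧ charDegree (χ : G → ℂ) = m}
  have hex : ∀ (μ : P ⧸ N →* ℂˣ) (χ : X), ∃ ψ : X, ((ψ.1 : IrrCharacter G) : G → ℂ) =
      star p M P e ((χ.1 : IrrCharacter G) : G → ℂ) (linOn N μ) := fun μ χ => by
    obtain ⟨ψ, hψB, hψ, hdeg⟩ :=
      exists_member hM hmax χ.2.1 (μ.comp (QuotientGroup.mk' N)) (hst μ)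
    refine ⟨⟨ψ, hψB, ?_, hdeg.trans χ.2.2.2⟩, hψ⟩
    rw [← χ.2.2.1, blockHeight, blockHeight, hdeg]
  choose act hact using hex
  let _ : MulAction (P ⧸ N →* ℂˣ) X :=
    { smul := act
      one_smul := fun χ => Subtype.ext (Subtype.ext (by
        show ((act 1 χ).1 : G → ℂ) = (χ.1 : G → ℂ)
        rw [hact, show linOn N (1 : P ⧸ N →* ℂˣ) = fun _ => (1 : ℂ) from funext fun _ => rfl,
          star_one hM hmax χ.2.1]))
      mul_smul := fun μ ν χ => Subtype.ext (Subtype.ext (by
        show ((act (μ * ν) χ).1 : G → ℂ) = ((act μ (act ν χ)).1 : G → ℂ)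
        rw [hact, hact, star_star hM hmax (hst ν) (hact ν χ)]
        congr 1
        funext y
        simp only [linOn, MonoidHom.mul_apply, Units.val_mul, mul_comm])) }
  rw [Subgroup.index_eq_card, ← Subgroup.card_top (G := P ⧸ N)]
  refine dvd_of_stab (X := X) _ fun μ χ hfix t _ => ?_
  induction t using QuotientGroup.induction_on with
  | _ y =>
  refine Units.ext ?_
  have h1 := eq_one_of_fixed_height_zero hM hmax χ.2.1 χ.2.2.1 y (hst μ) (by
    rw [← hact μ χ]
    exact congrArg (fun z : X => ((z.1 : IrrCharacter G) : G → ℂ)) hfix.symm)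
  simpa [linOn] using h1

open Classical in
/-- **The squares of the height zero degrees.** The sum of the squares of the `p`-prime parts of
the degrees of the height zero members is divisible by `p`, and by `p ^ 2` when the defect is at
least two. -/
theorem pow_min_dvd_sum_sq [Fact p.Prime] (hM : IsPModular p M) (hB : IsPBlock M B)
    (S : Finset (IrrCharacter G))
    (hS : ∀ χ, χ ∈ S ↔ χ ∈ B ∧ blockHeight p B (χ : G → ℂ) = 0) :
    p ^ min (blockDefect p B) 2 ∣
      ∑ χ ∈ S, (charDegree (χ : G → ℂ) / p ^ (charDegree (χ : G → ℂ)).factorization p) ^ 2 := by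
  have := isAlgClosed_kres (M := M)
  have hp : p.Prime := hM.1
  set a := (Nat.card G).factorization p with ha
  set k := sInf ((fun ψ : IrrCharacter G => (charDegree (ψ : G → ℂ)).factorization p) '' B)
    with hk
  set d := blockDefect p B with hd
  have hpos : ∀ χ : IrrCharacter G, charDegree (χ : G → ℂ) ≠ 0 := fun χ =>
    charDegree_ne_zero χ.2
  have hkle : ∀ χ ∈ B, k ≤ (charDegree (χ : G → ℂ)).factorization p := fun χ hχ =>
    Nat.sInf_le ⟨χ, hχ, rfl⟩
  have hdvd : ∀ χ ∈ B, p ^ k ∣ charDegree (χ : G → ℂ) := fun χ hχ =>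
    (hp.pow_dvd_iff_le_factorization (hpos χ)).2 (hkle χ hχ)
  obtain ⟨n, y, deg, hsum, hdeg, -⟩ := BlockSquares.exists_sum hM hB (pow_pos hp.pos k) hdvd
  have hbig : p ^ (k + a) ∣ ∑ χ ∈ B.toFinite.toFinset, charDegree (χ : G → ℂ) ^ 2 := by
    rw [hsum, pow_add]
    refine Nat.mul_dvd_mul_left _ (Finset.dvd_sum fun i _ => ?_)
    by_cases hi : y i = 0
    · simp [hi]
    · exact Dvd.dvd.mul_left (hdeg i hi).2.1 _
  -- remove the characters of positive height
  have hsub : S ⊆ B.toFinite.toFinset := fun χ hχ => B.toFinite.mem_toFinset.2 ((hS χ).1 hχ).1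
  rw [← Finset.sum_sdiff hsub] at hbig
  have hmin : k + k + min d 2 ≤ k + a ∧ k + k + min d 2 ≤ k + k + 2 := by
    obtain ⟨χ, hχ, he⟩ := Nat.sInf_mem ((isPBlock_nonempty hB).image
      (fun ψ : IrrCharacter G => (charDegree (ψ : G → ℂ)).factorization p))
    have hka : k ≤ a := by
      rw [hk, ← he]
      exact (Nat.factorization_le_iff_dvd (hpos χ) Nat.card_pos.ne').2
        (CfsgLib.BlockB.irr_degree_dvd_card χ) p
    simp only [hd, blockDefect, ← hk, ← ha]
    omega
  have hhigh : p ^ (k + k + min d 2) ∣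
      ∑ χ ∈ B.toFinite.toFinset \ S, charDegree (χ : G → ℂ) ^ 2 := by
    refine Finset.dvd_sum fun χ hχ => ?_
    rw [Finset.mem_sdiff, B.toFinite.mem_toFinset] at hχ
    have hh : blockHeight p B (χ : G → ℂ) ≠ 0 := fun h => hχ.2 ((hS χ).2 ⟨hχ.1, h⟩)
    simp only [blockHeight, ← hk] at hh
    have h1 : p ^ (k + 1) ∣ charDegree (χ : G → ℂ) :=
      (hp.pow_dvd_iff_le_factorization (hpos χ)).2 (by omega)
    refine dvd_trans (pow_dvd_pow p hmin.2) ?_
    rw [show k + k + 2 = (k + 1) * 2 by omega, pow_mul]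
    exact pow_dvd_pow_of_dvd h1 2
  have hlow := (Nat.dvd_add_right hhigh).1 ((pow_dvd_pow p hmin.1).trans hbig)
  have heq : ∑ χ ∈ S, charDegree (χ : G → ℂ) ^ 2 = p ^ (k + k) *
      ∑ χ ∈ S, (charDegree (χ : G → ℂ) / p ^ (charDegree (χ : G → ℂ)).factorization p) ^ 2 := by
    rw [Finset.mul_sum]
    refine Finset.sum_congr rfl fun χ hχ => ?_
    obtain ⟨hχB, h0⟩ := (hS χ).1 hχ
    have hf : (charDegree (χ : G → ℂ)).factorization p = k := by
      have := hkle χ hχB
      simp only [blockHeight, ← hk] at h0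
      omega
    rw [hf]
    conv_lhs => rw [← Nat.mul_div_cancel' (hdvd χ hχB)]
    rw [mul_pow, ← pow_mul, mul_two]
  rw [heq, pow_add p (k + k)] at hlow
  exact Nat.dvd_of_mul_dvd_mul_left (pow_pos hp.pos _) hlow

end CfsgLib.BlockB.HeightZeroCount
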