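import Cfsg.Agent.Lib.Block.ResidueSpan
import Mathlib.RingTheory.Coprime.Lemmas
import Mathlib.RingTheory.IntegralClosure.Algebra.Basic
import Mathlib.Algebra.Polynomial.Splits

/-!
Idempotents over a local domain whose monic polynomials split into linear factors: inside any
finite algebra they can be found as polynomials in a given element. The local ring at `M` and its
residue field are of this kind.
-/

set_option autoImplicit false
set_option linter.unusedSectionVars false

namespace CfsgLib.BlockB.Hensel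

open Polynomial

universe u v w w'

/-- A local ring with residue map `ρ` over which every monic polynomial splits. -/
structure SplitLocal (R : Type u) (k : Type v) [CommRing R] [Field k] where
  /-- The residue map. -/
  res : R →+* k
  surj : Function.Surjective res
  unit : ∀ r : R, res r ≠ 0 → IsUnit r
  splits : ∀ f : R[X], f.Monic → ∃ s : Multiset R, f = (s.map fun r => X - C r).prod

variable {R : Type u} {k : Type v} [CommRing R] [Field k] (L : SplitLocal R k)
include L

theorem isCoprime_of_res_ne {r s : R} (h : L.res r ≠ L.res s) :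
    IsCoprime (X - C r : R[X]) (X - C s) := by
  obtain ⟨v, hv⟩ := (L.unit (s - r) (by rw [map_sub]; exact sub_ne_zero.2 h.symm)).exists_left_inv
  refine ⟨C v, -C v, ?_⟩
  have : C v * (C s - C r) = (1 : R[X]) := by rw [← C_sub, ← C_mul, hv, C_1]
  linear_combination this

theorem isCoprime_prod {s t : Multiset R} (h : ∀ r ∈ s, ∀ r' ∈ t, L.res r ≠ L.res r') :
    IsCoprime (s.map fun r => (X - C r : R[X])).prod (t.map fun r => X - C r).prod := by
  induction s using Multiset.induction with
  | empty => simpa using isCoprime_one_left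
  | cons r s ih =>
    rw [Multiset.map_cons, Multiset.prod_cons]
    refine IsCoprime.mul_left ?_ (ih fun a ha => h a (Multiset.mem_cons_of_mem ha))
    have hr := h r (Multiset.mem_cons_self r s)
    clear ih h
    induction t using Multiset.induction with
    | empty => simpa using isCoprime_one_right
    | cons a t iht =>
      rw [Multiset.map_cons, Multiset.prod_cons]
      exact IsCoprime.mul_right (isCoprime_of_res_ne L (hr a (Multiset.mem_cons_self a t)))
        (iht fun b hb => hr b (Multiset.mem_cons_of_mem hb))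

variable {A : Type w} [Ring A] [Algebra R A]

/-- The idempotent of the part of an integral element that is a unit modulo the radical. -/
theorem exists_idem_poly (a : A) (ha : IsIntegral R a) :
    ∃ (e y : A) (g : R[X]) (n : ℕ), e * e = e ∧ a * y = e ∧ y * a = e ∧
      y ∈ Algebra.adjoin R {a} ∧ g.map L.res = X ^ n ∧ aeval a g * (1 - e) = 0 := by
  classical
  obtain ⟨f, hf, hfa⟩ := ha
  rw [← aeval_def] at hfa
  obtain ⟨s, hs⟩ := L.splits f hf
  set s0 := s.filter fun r => L.res r = 0
  set s1 := s.filter fun r => ¬ L.res r = 0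
  set g0 : R[X] := (s0.map fun r => X - C r).prod with hg0
  set g1 : R[X] := (s1.map fun r => X - C r).prod with hg1
  have hfg : f = g0 * g1 := by
    rw [hs, hg0, hg1, ← Multiset.prod_add, ← Multiset.map_add, Multiset.filter_add_not]
  obtain ⟨u, v, huv⟩ := isCoprime_prod L (s := s0) (t := s1) fun r hr r' hr' => by
    rw [(Multiset.mem_filter.1 hr).2]
    exact Ne.symm (Multiset.mem_filter.1 hr').2
  obtain ⟨c, d, hcd⟩ : IsCoprime (X : R[X]) g1 := by
    have h := isCoprime_prod L (s := {(0 : R)}) (t := s1) fun r hr r' hr' => by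
      rw [Multiset.mem_singleton.1 hr, map_zero]
      exact Ne.symm (Multiset.mem_filter.1 hr').2
    simpa using h
  rw [← hg0, ← hg1] at huv
  set Y : R[X] := u * g0 * c with hY
  refine ⟨aeval a (X * Y), aeval a Y, g0, Multiset.card s0, ?_, ?_, ?_,
    aeval_mem_adjoin_singleton R a, ?_, ?_⟩
  · have h : X * Y * (X * Y) - X * Y = f * (-(u * c * X) * (v + u * g0 * d * 1)) := by
      rw [hfg, hY]
      linear_combination (u * g0 * c * X) * (u * g0) * hcd + (u * g0 * c * X) * huv
    rw [← sub_eq_zero, ← map_mul, ← map_sub, h, map_mul, hfa, zero_mul]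
  · rw [map_mul (aeval a) X Y, aeval_X]
  · rw [mul_comm X Y, map_mul (aeval a) Y X, aeval_X]
  · rw [hg0, Polynomial.map_multiset_prod, Multiset.map_map,
      Multiset.map_congr rfl (g := fun _ => (X : k[X])) (fun r hr => by
        simp [(Multiset.mem_filter.1 hr).2]), Multiset.map_const', Multiset.prod_replicate]
  · have h : g0 * (1 - X * Y) = f * (v + u * g0 * d) := by
      rw [hfg, hY]
      linear_combination -g0 * huv - (u * g0 * g0) * hcd
    rw [show (1 : A) = aeval a (1 : R[X]) from (map_one _).symm, ← map_sub, ← map_mul, h,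
      map_mul, hfa, zero_mul]

/-- An element reducing to an idempotent gives an idempotent with the same reduction. -/
theorem exists_idem (a : A) (ha : IsIntegral R a) :
    ∃ e y : A, e * e = e ∧ a * y = e ∧ y * a = e ∧ y ∈ Algebra.adjoin R {a} ∧
      ∀ {B : Type w'} [Ring B] [Algebra k B] (ψ : A →+* B),
        (∀ r, ψ (algebraMap R A r) = algebraMap k B (L.res r)) →
          ψ a * ψ a = ψ a → ψ e = ψ a := by
  obtain ⟨e, y, g, n, he, hay, hya, hy, hg, hge⟩ := exists_idem_poly L a ha
  refine ⟨e, y, he, hay, hya, hy, fun {B} _ _ ψ hψ hid => ?_⟩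
  have h1 : ψ (aeval a g) = (ψ a) ^ n := by
    rw [map_aeval_eq_aeval_map (φ := L.res) (ψ := ψ) (RingHom.ext fun r => (hψ r).symm) g a, hg,
      map_pow, aeval_X]
  have h2 : (ψ a) ^ n * (1 - ψ e) = 0 := by
    rw [← h1, ← map_one ψ, ← map_sub, ← map_mul, hge, map_zero]
  have h3 : ψ a * ψ e = ψ e := by rw [← hay, map_mul, ← mul_assoc, hid]
  rcases Nat.eq_zero_or_pos n with rfl | hn
  · rw [pow_zero, one_mul, sub_eq_zero] at h2
    rw [← h3, ← h2, mul_one]
  · have h4 : (ψ a) ^ n = ψ a := by
      obtain ⟨m, rfl⟩ := Nat.exists_eq_succ_of_ne_zero hn.ne'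
      exact (show IsIdempotentElem (ψ a) from hid).pow_succ_eq m
    rw [h4, mul_sub, mul_one, h3, sub_eq_zero] at h2
    exact h2.symm

/-- Over a field the complementary part is nilpotent. -/
theorem exists_idem_nilpotent (hinj : Function.Injective L.res) (a : A) (ha : IsIntegral R a) :
    ∃ e y : A, e * e = e ∧ a * y = e ∧ y * a = e ∧ y ∈ Algebra.adjoin R {a} ∧
      ∃ n : ℕ, a ^ n * (1 - e) = 0 := by
  obtain ⟨e, y, g, n, he, hay, hya, hy, hg, hge⟩ := exists_idem_poly L a ha
  refine ⟨e, y, he, hay, hya, hy, n, ?_⟩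
  have : g = X ^ n := Polynomial.map_injective L.res hinj (by rw [hg]; simp)
  rw [this, map_pow, aeval_X] at hge
  exact hge

/-- If the reduction of an idempotent `e` is the reduction of `a * b`, then `e` dominates an
idempotent `a' * b'` with the same reduction, equivalent to `b' * a'`. -/
theorem exists_equiv [Algebra.IsIntegral R A] {B : Type w'} [Ring B] [Algebra k B] (ψ : A →+* B)
    (hψ : ∀ r, ψ (algebraMap R A r) = algebraMap k B (L.res r)) {e a b : A} (he : e * e = e)
    (hab : ψ e = ψ a * ψ b) :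
    ∃ e₁ y : A, e₁ * e₁ = e₁ ∧ e * e₁ = e₁ ∧ e₁ * e = e₁ ∧ ψ e₁ = ψ e ∧
      e₁ * a * (b * y) = e₁ ∧
      b * y * (e₁ * a) * (b * y * (e₁ * a)) = b * y * (e₁ * a) ∧
      ψ (b * y * (e₁ * a)) = ψ b * ψ e * ψ a := by
  set c := e * (a * b) * e with hc
  obtain ⟨e₁, y, he₁, hcy, hyc, -, hψc⟩ := exists_idem L c (Algebra.IsIntegral.isIntegral c)
  have hψe : ψ e * ψ e = ψ e := by rw [← map_mul, he]
  have hψ1 : ψ e₁ = ψ e := by
    have h : ψ c = ψ e := by rw [hc, map_mul, map_mul, map_mul, ← hab, hψe, hψe]
    rw [hψc ψ hψ (by rw [h, hψe]), h]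
  have hel : e * e₁ = e₁ := by rw [← hcy, hc, ← mul_assoc, ← mul_assoc e, ← mul_assoc e e, he]
  have her : e₁ * e = e₁ := by rw [← hyc, hc, mul_assoc, mul_assoc (e * (a * b)) e e, he]
  set y' := y * e₁ with hy'
  have hcy' : c * y' = e₁ := by rw [hy', ← mul_assoc, hcy, he₁]
  have hey' : e * y' = y' := by
    have h1 : y * e₁ = e₁ * y := by
      conv_lhs => rw [← hcy, ← mul_assoc, hyc]
    rw [hy', h1, ← mul_assoc, hel]
  have hab1 : e₁ * a * (b * y') = e₁ := by
    calc e₁ * a * (b * y') = (e₁ * e) * (a * b) * (e * y') := by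
          rw [her, hey']; simp only [mul_assoc]
      _ = e₁ * (c * y') := by rw [hc]; simp only [mul_assoc]
      _ = e₁ := by rw [hcy', he₁]
  refine ⟨e₁, y', he₁, hel, her, hψ1, hab1, ?_, ?_⟩
  · calc b * y' * (e₁ * a) * (b * y' * (e₁ * a))
        = b * y' * (e₁ * a * (b * y')) * (e₁ * a) := by simp only [mul_assoc]
      _ = b * y' * (e₁ * a) := by
          rw [hab1, mul_assoc (b * y') e₁, ← mul_assoc e₁ e₁, he₁]
  · have h2 : ψ y' * ψ e = ψ e := by
      have h : ψ c = ψ e := by rw [hc, map_mul, map_mul, map_mul, ← hab, hψe, hψe]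
      have hyy : y' * e = y' := by rw [hy', mul_assoc, her]
      have h3 : ψ e * ψ y' = ψ e := by
        calc ψ e * ψ y' = ψ c * ψ y' := by rw [h]
          _ = ψ e := by rw [← map_mul, hcy', hψ1]
      rw [← map_mul, hyy]
      rw [← h3, ← map_mul, hey']
    calc ψ (b * y' * (e₁ * a)) = ψ b * (ψ y' * ψ e) * ψ a := by
          rw [map_mul ψ (b * y') (e₁ * a), map_mul ψ b y', map_mul ψ e₁ a, hψ1]; simp only [mul_assoc]
      _ = _ := by rw [h2]

omit L

/-- An algebraically closed field as a split local ring. -/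
noncomputable def fieldSplit (k : Type v) [Field k] [IsAlgClosed k] : SplitLocal k k where
  res := RingHom.id _
  surj := Function.surjective_id
  unit r hr := IsUnit.mk0 r hr
  splits f hf := ⟨f.roots, (IsAlgClosed.splits f).eq_prod_roots_of_monic hf⟩

end CfsgLib.BlockB.Hensel

namespace CfsgLib.BlockB.Hensel

open Cfsg CfsgLib.Block Polynomial

variable {p : ℕ} {M : Ideal AlgInt} [M.IsPrime]

theorem isAlgebraic_lring (x : lring M) : IsAlgebraic ℤ (x : ℂ) := by
  obtain ⟨a, b, hb, hx⟩ := x.2
  have ha : IsAlgebraic ℤ (a : ℂ) := IsIntegral.isAlgebraic a.2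
  have hb' : IsAlgebraic ℤ (b : ℂ) := IsIntegral.isAlgebraic b.2
  rw [← hx, div_eq_mul_inv]
  exact ha.mul hb'.inv

/-- The local ring at `M` is integrally closed in the complex numbers. -/
theorem memLocalRing_of_root (hM : IsPModular p M) {z : ℂ} {f : (lring M)[X]} (hf : f.Monic)
    (hz : eval₂ (lring M).subtype z f = 0) : MemLocalRing M z := by
  classical
  have hint : IsIntegral (lring M) z := ⟨f, hf, hz⟩
  have halg : IsAlgebraic ℤ z := by
    have : Algebra.IsAlgebraic ℤ (lring M) := ⟨fun x =>
      (isAlgebraic_algHom_iff ((lring M).subtype.toIntAlgHom)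
        (Subtype.val_injective)).1 (isAlgebraic_lring x)⟩
    exact hint.isAlgebraic.restrictScalars ℤ
  rcases mem_or_inv_mem hM halg with h | h
  · exact h
  by_cases hz0 : z = 0
  · rw [hz0]; exact (lring M).zero_mem
  obtain ⟨n, hn⟩ : ∃ n, f.natDegree = n + 1 := Nat.exists_eq_succ_of_ne_zero fun h0 => by
    rw [eq_one_of_monic_natDegree_zero hf h0, eval₂_one] at hz
    exact one_ne_zero hz
  rw [eval₂_eq_sum_range, hn, Finset.sum_range_succ] at hz
  have hlead : f.coeff (n + 1) = 1 := by rw [← hn]; exact hf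
  rw [hlead, map_one, one_mul] at hz
  have e : z = -∑ i ∈ Finset.range (n + 1), ((f.coeff i : lring M) : ℂ) * z⁻¹ ^ (n - i) := by
    have h1 : z ^ n * z = -∑ i ∈ Finset.range (n + 1), ((f.coeff i : lring M) : ℂ) * z ^ i := by
      rw [← pow_succ]
      exact eq_neg_of_add_eq_zero_right hz
    refine mul_left_cancel₀ (pow_ne_zero n hz0) ?_
    rw [h1, mul_neg, Finset.mul_sum]
    congr 1
    refine Finset.sum_congr rfl fun i hi => ?_
    have hin : i ≤ n := Nat.lt_succ_iff.1 (Finset.mem_range.1 hi)
    rw [mul_left_comm, inv_pow, ← pow_sub₀ z hz0 (Nat.sub_le n i), Nat.sub_sub_self hin]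
  rw [e]
  exact (lring M).neg_mem (Subring.sum_mem _ fun i _ =>
    (lring M).mul_mem (f.coeff i).2 ((lring M).pow_mem h _))

/-- The local ring at `M`. -/
noncomputable def lringSplit (hM : IsPModular p M) : SplitLocal (lring M) (kres M) where
  res := red M
  surj := red_surjective
  unit r hr := isUnit_lring_iff.2 fun h => hr (red_eq_zero.2 h)
  splits f hf := by
    classical
    set ι := (lring M).subtype
    have hroots := (IsAlgClosed.splits (f.map ι)).eq_prod_roots_of_monic (hf.map ι)
    have hmem : ∀ z ∈ (f.map ι).roots, MemLocalRing M z := fun z hz =>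
      memLocalRing_of_root hM hf (by
        have := (mem_roots'.1 hz).2
        rwa [IsRoot.def, eval_map] at this)
    refine ⟨(f.map ι).roots.pmap (fun z hz => (⟨z, hz⟩ : lring M)) hmem, ?_⟩
    apply Polynomial.map_injective ι Subtype.val_injective
    conv_lhs => rw [hroots]
    rw [Polynomial.map_multiset_prod, Multiset.map_map]
    congr 1
    refine Eq.trans ?_ (Multiset.map_pmap (map ι ∘ fun r => X - C r)
      (fun z (hz : MemLocalRing M z) => (⟨z, hz⟩ : lring M)) _ hmem).symm
    rw [← Multiset.pmap_eq_map (fun z : ℂ => MemLocalRing M z) (fun z => X - C z) _ hmem]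
    exact Multiset.pmap_congr _ fun z _ _ _ => by simp [ι]

end CfsgLib.BlockB.Hensel
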