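import Mathlib.GroupTheory.GroupAction.Quotient
import Mathlib.GroupTheory.QuotientGroup.Basic
import Mathlib.GroupTheory.Index
import Mathlib.Algebra.Order.BigOperators.Group.Finset
import Mathlib.Data.Rat.Lemmas
import Mathlib.Tactic

/-!
Jordan's counting argument, abstractly: if the centralizer of every non-central element has an
abelian subgroup containing all `e`-th powers and some mild finiteness conditions hold, then the
group has an abelian subgroup of bounded index.
-/

set_option autoImplicit false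
set_option linter.unusedSectionVars false
set_option linter.style.haveILetI false

namespace CfsgLib.BlockB.JordanCount

universe u

/-- Jordan's arithmetical lemma. -/
theorem exists_arith_bound : ∀ N D : ℕ, 0 < D → ∃ B : ℕ, ∀ {ι : Type u} (s : Finset ι) (v : ι → ℕ)
    (g : ℕ) (q : ℤ), s.card ≤ N → 0 < g → (∀ i ∈ s, 0 < v i) →
      (q : ℚ) / D = 1 / g - ∑ i ∈ s, (1 : ℚ) / v i → g ≤ B ∨ ∃ i ∈ s, g ≤ B * v i := by
  intro N
  induction N with
  | zero =>
    intro D hD
    refine ⟨D, fun {ι} s v g q hs hg hv he => Or.inl ?_⟩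
    rw [Finset.card_eq_zero.1 (Nat.le_zero.1 hs), Finset.sum_empty, sub_zero] at he
    have hg' : (0 : ℚ) < g := by exact_mod_cast hg
    have hD' : (0 : ℚ) < D := by exact_mod_cast hD
    have hq : (1 : ℤ) ≤ q := by
      by_contra h
      push Not at h
      have h1 : (q : ℚ) ≤ 0 := by exact_mod_cast (show q ≤ 0 by omega)
      have h2 : (q : ℚ) / D ≤ 0 := div_nonpos_of_nonpos_of_nonneg h1 hD'.le
      have h3 : (0 : ℚ) < 1 / g := by positivity
      linarith
    rw [div_eq_div_iff hD'.ne' hg'.ne', one_mul] at he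
    have h1 : (1 : ℚ) ≤ q := by exact_mod_cast hq
    have : (g : ℚ) ≤ D := by nlinarith
    exact_mod_cast this
  | succ N ih =>
    intro D hD
    have : ∀ j : ℕ, ∃ B : ℕ, ∀ {ι : Type u} (s : Finset ι) (v : ι → ℕ) (g : ℕ) (q : ℤ),
        0 < j → s.card ≤ N → 0 < g → (∀ i ∈ s, 0 < v i) →
        (q : ℚ) / (D * j : ℕ) = 1 / g - ∑ i ∈ s, (1 : ℚ) / v i →
        g ≤ B ∨ ∃ i ∈ s, g ≤ B * v i := by
      intro j
      by_cases hj : 0 < j
      · obtain ⟨B, hB⟩ := ih (D * j) (Nat.mul_pos hD hj)
        exact ⟨B, fun {ι} s v g q _ => hB s v g q⟩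
      · exact ⟨0, fun {ι} s v g q h => absurd h hj⟩
    choose Bj hBj using this
    refine ⟨max D ((Finset.range ((N + 1) * D + 1)).sup Bj) + 1, fun {ι} s v g q hs hg hv he => ?_⟩
    classical
    set M := max D ((Finset.range ((N + 1) * D + 1)).sup Bj) + 1 with hM
    have hg' : (0 : ℚ) < g := by exact_mod_cast hg
    have hD' : (0 : ℚ) < D := by exact_mod_cast hD
    have hpos : (0 : ℚ) ≤ ∑ i ∈ s, (1 : ℚ) / v i := Finset.sum_nonneg fun i _ => by positivity
    rcases lt_trichotomy q 0 with hq | hq | hq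
    · have h1 : (q : ℚ) ≤ -1 := by exact_mod_cast (show q ≤ -1 by omega)
      have h2 : (1 : ℚ) / D ≤ ∑ i ∈ s, (1 : ℚ) / v i := by
        have : (q : ℚ) / D ≤ -(1 / D) := by
          rw [neg_div', div_le_div_iff_of_pos_right hD']; exact h1
        have : (0 : ℚ) < 1 / g := by positivity
        linarith
      obtain ⟨i, hi, hiv⟩ : ∃ i ∈ s, v i ≤ (N + 1) * D := by
        by_contra h
        push Not at h
        have hle : ∀ i ∈ s, (1 : ℚ) / v i ≤ 1 / (((N + 1) * D + 1 : ℕ)) := fun i hi =>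
          one_div_le_one_div_of_le (by positivity) (by exact_mod_cast h i hi)
        have h3 := (Finset.sum_le_sum hle).trans_eq (by rw [Finset.sum_const, nsmul_eq_mul])
        have h4 : (s.card : ℚ) ≤ (N + 1 : ℕ) := by exact_mod_cast hs
        have h5 : (1 : ℚ) / D ≤ (N + 1 : ℕ) * (1 / (((N + 1) * D + 1 : ℕ))) :=
          h2.trans (h3.trans (mul_le_mul_of_nonneg_right h4 (by positivity)))
        rw [mul_one_div, div_le_div_iff₀ hD' (by positivity)] at h5
        push_cast at h5
        linarith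
      have hvi : (0 : ℚ) < v i := by exact_mod_cast hv i hi
      have he' : ((q * v i + D : ℤ) : ℚ) / (D * v i : ℕ) =
          1 / g - ∑ x ∈ s.erase i, (1 : ℚ) / v x := by
        rw [← Finset.add_sum_erase _ _ hi] at he
        have : ((q * v i + D : ℤ) : ℚ) / (D * v i : ℕ) = (q : ℚ) / D + 1 / v i := by
          push_cast
          field_simp
        rw [this, he]
        ring
      have hle : Bj (v i) ≤ M := (Finset.le_sup (f := Bj)
        (Finset.mem_range.2 (Nat.lt_succ_of_le hiv))).trans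
          ((le_max_right D _).trans (Nat.le_succ _))
      rcases hBj (v i) (s.erase i) v g _ (hv i hi)
        (by rw [Finset.card_erase_of_mem hi]; omega) hg
        (fun x hx => hv x (Finset.mem_of_mem_erase hx)) he' with h | ⟨x, hx, h⟩
      · exact Or.inl (h.trans hle)
      · exact Or.inr ⟨x, Finset.mem_of_mem_erase hx, h.trans (Nat.mul_le_mul_right _ hle)⟩
    · subst hq
      rw [Int.cast_zero, zero_div, eq_comm, sub_eq_zero] at he
      obtain ⟨i, hi⟩ : s.Nonempty := by
        rw [Finset.nonempty_iff_ne_empty]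
        rintro rfl
        rw [Finset.sum_empty] at he
        have : (0 : ℚ) < 1 / g := by positivity
        linarith
      refine Or.inr ⟨i, hi, ?_⟩
      have h1 : (1 : ℚ) / v i ≤ 1 / g :=
        he ▸ Finset.single_le_sum (f := fun x => (1 : ℚ) / v x) (fun x _ => by positivity) hi
      have h2 : g ≤ v i := by
        have := (one_div_le_one_div (by exact_mod_cast hv i hi) hg').1 h1
        exact_mod_cast this
      exact h2.trans (Nat.le_mul_of_pos_left _ (by omega))
    · refine Or.inl (le_trans ?_ (show D ≤ M by omega))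
      have h1 : (1 : ℚ) ≤ q := by exact_mod_cast hq
      have h2 : (1 : ℚ) / D ≤ 1 / g :=
        le_trans ((div_le_div_iff_of_pos_right hD').2 h1) (by linarith)
      have := (one_div_le_one_div hD' hg').1 h2
      exact_mod_cast this

section Orbits

variable {G : Type u} [Group G] [Finite G] {X : Type u} [MulAction G X] [Finite X]

/-- An invariant weight summed over a `G`-set, orbit by orbit. -/
theorem sum_eq_sum_orbits (w : X → ℚ) (hw : ∀ (g : G) (x : X), w (g • x) = w x)
    [Fintype X] [Fintype (Quotient (MulAction.orbitRel G X))] :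
    ∑ x : X, w x = ∑ o : Quotient (MulAction.orbitRel G X),
      (Nat.card G : ℚ) / Nat.card (MulAction.stabilizer G o.out) * w o.out := by
  classical
  rw [← Finset.sum_fiberwise (s := Finset.univ) (g := Quotient.mk (MulAction.orbitRel G X))]
  refine Finset.sum_congr rfl fun o _ => ?_
  have hc : ∀ x ∈ Finset.univ.filter (fun x => Quotient.mk (MulAction.orbitRel G X) x = o),
      w x = w o.out := by
    intro x hx
    rw [Finset.mem_filter] at hx
    obtain ⟨g, hg⟩ : x ∈ MulAction.orbit G o.out := by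
      rw [← MulAction.orbitRel_apply]
      exact Quotient.exact (hx.2.trans (Quotient.out_eq o).symm)
    rw [← hg, hw]
  rw [Finset.sum_congr rfl hc, Finset.sum_const, nsmul_eq_mul]
  congr 1
  have h1 : Finset.card (Finset.univ.filter fun x => Quotient.mk (MulAction.orbitRel G X) x = o) =
      Nat.card (MulAction.orbit G o.out) := by
    rw [← Nat.card_eq_finsetCard]
    refine Nat.card_congr (Equiv.subtypeEquivRight fun x => ?_)
    rw [Finset.mem_filter, ← MulAction.orbitRel_apply]
    refine ⟨fun h => Quotient.exact (h.2.trans (Quotient.out_eq o).symm), fun h =>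
      ⟨Finset.mem_univ _, (Quotient.sound h).trans (Quotient.out_eq o)⟩⟩
  have h2 := MulAction.index_stabilizer G o.out
  have h3 := (MulAction.stabilizer G o.out).index_mul_card
  rw [h2] at h3
  rw [h1, eq_div_iff (by exact_mod_cast Nat.card_pos.ne'), Nat.card_coe_set_eq]
  exact_mod_cast h3

end Orbits

variable {G : Type u} [Group G]

/-- The setwise stabiliser under conjugation. -/
def setStab (S : Set G) : Subgroup G where
  carrier := {g | ∀ a, a ∈ S ↔ g * a * g⁻¹ ∈ S}
  one_mem' a := by simp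
  mul_mem' := fun {g h} hg hh a => by
    refine (hh a).trans ((hg _).trans ?_)
    simp [mul_assoc]
  inv_mem' := fun {g} hg a => by
    refine ((hg (g⁻¹ * a * g)).trans ?_).symm.trans ?_
    · rw [show g * (g⁻¹ * a * g) * g⁻¹ = a by group]
    · rw [inv_inv]

theorem mem_setStab {S : Set G} {g : G} : g ∈ setStab S ↔ ∀ a, a ∈ S ↔ g * a * g⁻¹ ∈ S := Iff.rfl

variable (e : ℕ) (Q : G → Prop)

/-- The elements on which commutation becomes transitive. -/
def Om (a : G) : Prop :=
  a ∉ Subgroup.center G ∧ Q a ∧ ∀ x : G, Commute x (a ^ e) → Commute x a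

/-- The class of a distinguished element. -/
def cls (a : G) : Set G := {b | Om e Q b ∧ Commute a b}

variable {e Q}

/-- Commutation is transitive on the distinguished elements. -/
theorem commute_trans
    (hJ : ∀ x : G, x ∉ Subgroup.center G → ∀ u w : G, Commute x u → Commute x w →
      Commute (u ^ e) (w ^ e))
    {a b y : G} (ha : Om e Q a) (hb : Om e Q b) (hy : y ∉ Subgroup.center G) (hya : Commute y a)
    (hyb : Commute y b) : Commute a b :=
  (ha.2.2 b (hb.2.2 (a ^ e) (hJ y hy a b hya hyb)).symm).symm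

theorem om_conj (hQ : ∀ g a : G, Q a → Q (g * a * g⁻¹)) (g : G) {a : G} (ha : Om e Q a) :
    Om e Q (g * a * g⁻¹) := by
  refine ⟨fun h => ha.1 ?_, hQ g a ha.2.1, fun x hx => ?_⟩
  · have := (inferInstance : (Subgroup.center G).Normal).conj_mem _ h g⁻¹
    simpa [mul_assoc] using this
  · have h1 : Commute (g⁻¹ * x * g) (a ^ e) := by
      have := congrArg (fun t => g⁻¹ * t * g) hx.eq
      simp only [conj_pow] at this
      simpa [Commute, SemiconjBy, mul_assoc] using this
    have := congrArg (fun t => g * t * g⁻¹) (ha.2.2 _ h1).eq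
    simpa [Commute, SemiconjBy, mul_assoc] using this


/-- **Jordan's counting argument.** -/
theorem exists_abelian_bound (J R E k : ℕ) : ∃ B : ℕ, ∀ {G : Type u} [Group G] [Finite G] (e : ℕ)
    (Q : G → Prop), (∀ g a : G, Q a → Q (g * a * g⁻¹)) →
    (∀ x : G, x ∉ Subgroup.center G → ∃ A : Subgroup G, IsMulCommutative A ∧
      A ≤ Subgroup.centralizer {x} ∧ A.relIndex (Subgroup.centralizer {x}) ≤ J ∧
      ∀ u ∈ Subgroup.centralizer ({x} : Set G), u ^ e ∈ A) →
    (∀ T : Subgroup G, IsMulCommutative T → (∀ t ∈ T, t ^ E = 1) → Nat.card T ≤ R) →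
    (∀ u : G, u ^ E ∈ Subgroup.center G ∨ ∃ a ∈ Subgroup.zpowers u, Om e Q a) →
    (∀ S : Set G, S.Nonempty → (∀ a ∈ S, Q a) → (∀ a ∈ S, ∀ b ∈ S, Commute a b) →
      (Subgroup.centralizer S).relIndex (setStab S) ≤ k) →
    ∃ A : Subgroup G, IsMulCommutative A ∧ A.index ≤ B := by
  set M := max (max (J * R * R) k) 1 with hM
  obtain ⟨Ba, hBa⟩ := exists_arith_bound.{u} (2 * M) M.factorial (Nat.factorial_pos M)
  refine ⟨max Ba (J * (Ba * k)), fun {G} _ _ e Q hQ hA hR hstab hk => ?_⟩
  classical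
  have := Fintype.ofFinite G
  set Z := Subgroup.center G with hZ
  have hcen : ∀ x u : G, u ∈ Subgroup.centralizer ({x} : Set G) ↔ Commute x u := fun x u => by
    rw [Subgroup.mem_centralizer_singleton_iff]; exact ⟨Eq.symm, Eq.symm⟩
  have hJ : ∀ x : G, x ∉ Z → ∀ u w : G, Commute x u → Commute x w →
      Commute (u ^ e) (w ^ e) := by
    intro x hx u w hu hw
    obtain ⟨A, hAc, -, -, hAe⟩ := hA x hx
    exact congrArg Subtype.val (hAc.is_comm.comm ⟨u ^ e, hAe u ((hcen x u).2 hu)⟩
      ⟨w ^ e, hAe w ((hcen x w).2 hw)⟩)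
  have hcz : ∀ {c : G}, c ∈ Z → ∀ x : G, Commute x c := fun hc x => Subgroup.mem_center_iff.1 hc x
  -- the elements with small centralizer
  let S0 : Set G := {y | y ∉ Z ∧ ∀ a, Om e Q a → ¬ Commute y a}
  have hS0z : ∀ y ∈ S0, ∀ c ∈ Z, y * c ∈ S0 := by
    rintro y ⟨hy, hya⟩ c hc
    refine ⟨fun h => hy (by simpa using Z.mul_mem h (Z.inv_mem hc)), fun a ha h => hya a ha ?_⟩
    have := h.mul_left ((hcz (Z.inv_mem hc) a).symm)
    rwa [mul_inv_cancel_right] at this
  have hS0c : ∀ y ∈ S0, ∀ g : G, g * y * g⁻¹ ∈ S0 := by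
    rintro y ⟨hy, hya⟩ g
    refine ⟨fun h => hy ?_, fun a ha h => hya _ (om_conj hQ g⁻¹ ha) ?_⟩
    · have := (inferInstance : (Subgroup.center G).Normal).conj_mem _ h g⁻¹
      simpa [mul_assoc] using this
    · have := congrArg (fun t => g⁻¹ * t * g) h.eq
      simpa [Commute, SemiconjBy, mul_assoc] using this
  have hsmall : ∀ y ∈ S0, ∀ St : Subgroup G, (∀ s ∈ St, s * y * s⁻¹ * y⁻¹ ∈ Z) →
      Nat.card St ≤ J * R * R * Nat.card Z := by
    rintro y ⟨hy, hya⟩ St hSt
    have hexp : ∀ u ∈ Subgroup.centralizer ({y} : Set G), u ^ E ∈ Z := by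
      intro u hu
      refine (hstab u).resolve_right ?_
      rintro ⟨a, ha, hao⟩
      obtain ⟨n, rfl⟩ := Subgroup.mem_zpowers_iff.1 ha
      exact hya _ hao (((hcen y u).1 hu).zpow_right n)
    obtain ⟨A, hAc, hAle, hAi, -⟩ := hA y hy
    let φ : A →* Z :=
      { toFun := fun a => ⟨(a : G) ^ E, hexp _ (hAle a.2)⟩
        map_one' := Subtype.ext (one_pow E)
        map_mul' := fun a b => Subtype.ext
          (Commute.mul_pow (congrArg Subtype.val (hAc.is_comm.comm a b)) E) }
    have h1 : Nat.card A ≤ Nat.card Z * R := by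
      rw [← φ.ker.index_mul_card, Subgroup.index_ker]
      refine Nat.mul_le_mul (Nat.card_le_card_of_injective _ Subtype.val_injective) ?_
      refine le_of_eq_of_le (Nat.card_congr
        (φ.ker.equivMapOfInjective A.subtype A.subtype_injective).toEquiv) (hR _ ?_ ?_)
      · constructor; constructor
        rintro ⟨_, a, -, rfl⟩ ⟨_, b, -, rfl⟩
        exact Subtype.ext ((congrArg Subtype.val (hAc.is_comm.comm a b) : _) :)
      · rintro _ ⟨a, ha, rfl⟩
        exact congrArg Subtype.val (MonoidHom.mem_ker.1 ha)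
    have h2 : Nat.card (Subgroup.centralizer ({y} : Set G)) ≤ J * (Nat.card Z * R) := by
      rw [← (A.subgroupOf (Subgroup.centralizer {y})).index_mul_card]
      refine Nat.mul_le_mul hAi ?_
      rw [Nat.card_congr (Subgroup.subgroupOfEquivOfLe hAle).toEquiv]
      exact h1
    let ψ : St →* Z :=
      { toFun := fun s => ⟨(s : G) * y * (s : G)⁻¹ * y⁻¹, hSt s s.2⟩
        map_one' := Subtype.ext (by simp)
        map_mul' := fun a b => Subtype.ext (by
          show ((a : G) * b) * y * ((a : G) * b)⁻¹ * y⁻¹ =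
            (a : G) * y * (a : G)⁻¹ * y⁻¹ * ((b : G) * y * (b : G)⁻¹ * y⁻¹)
          rw [hcz (hSt b b.2) _ |>.eq]
          have hb := (hcz (hSt b b.2) (a : G)).eq
          calc ((a : G) * b) * y * ((a : G) * b)⁻¹ * y⁻¹
              = ((a : G) * ((b : G) * y * (b : G)⁻¹ * y⁻¹)) * y * (a : G)⁻¹ * y⁻¹ := by group
            _ = _ := by rw [hb]; group) }
    have hy' : y ^ E ∈ Z := hexp y ((hcen y y).2 (Commute.refl y))
    have h3 : Nat.card ψ.range ≤ R := by
      refine le_of_eq_of_le (Nat.card_congr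
        (ψ.range.equivMapOfInjective Z.subtype Z.subtype_injective).toEquiv) (hR _ ?_ ?_)
      · constructor; constructor
        rintro ⟨_, a, -, rfl⟩ ⟨_, b, -, rfl⟩
        exact Subtype.ext (hcz b.2 _)
      · rintro _ ⟨_, ⟨s, rfl⟩, rfl⟩
        show ((s : G) * y * (s : G)⁻¹ * y⁻¹) ^ E = 1
        have hc : Commute ((s : G) * y * (s : G)⁻¹ * y⁻¹) y := (hcz (hSt s s.2) y).symm
        have e1 : (((s : G) * y * (s : G)⁻¹ * y⁻¹) * y) ^ E = y ^ E := by
          rw [inv_mul_cancel_right, conj_pow, (hcz hy' (s : G)).eq, mul_inv_cancel_right]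
        rw [hc.mul_pow] at e1
        exact mul_eq_right.1 e1
    rw [← ψ.ker.index_mul_card, Subgroup.index_ker]
    calc Nat.card ψ.range * Nat.card ψ.ker ≤ R * (J * (Nat.card Z * R)) := by
          refine Nat.mul_le_mul h3 (le_trans ?_ h2)
          refine Nat.card_le_card_of_injective (fun s => (⟨((s : St) : G), (hcen _ _).2 ?_⟩ :
            Subgroup.centralizer ({y} : Set G))) fun a b h => Subtype.ext (Subtype.ext
              (congrArg (fun t : Subgroup.centralizer ({y} : Set G) => (t : G)) h))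
          have := congrArg Subtype.val (MonoidHom.mem_ker.1 s.2)
          exact (mul_inv_eq_iff_eq_mul.1 (mul_inv_eq_one.1 this)).symm
      _ = J * R * R * Nat.card Z := by ring
  -- the classes
  let X2 := {K : Set G // ∃ a, Om e Q a ∧ K = cls e Q a}
  let X1 := {x : G ⧸ Z // x ∈ ((QuotientGroup.mk : G → G ⧸ Z) '' S0)}
  letI : MulAction G X1 :=
    { smul := fun g x => ⟨(g : G ⧸ Z) * x.1 * (g : G ⧸ Z)⁻¹, by
        obtain ⟨y, hy, he⟩ := x.2
        exact ⟨g * y * g⁻¹, hS0c y hy g, by rw [← he]; rfl⟩⟩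
      one_smul := fun x => Subtype.ext (by
        show ((1 : G) : G ⧸ Z) * x.1 * ((1 : G) : G ⧸ Z)⁻¹ = x.1
        simp)
      mul_smul := fun a b x => Subtype.ext (by
        show ((a * b : G) : G ⧸ Z) * x.1 * ((a * b : G) : G ⧸ Z)⁻¹ =
          (a : G ⧸ Z) * ((b : G ⧸ Z) * x.1 * (b : G ⧸ Z)⁻¹) * (a : G ⧸ Z)⁻¹
        rw [QuotientGroup.mk_mul]; group) }
  have hclsconj : ∀ (g : G) (a : G), {b : G | g⁻¹ * b * g ∈ cls e Q a} = cls e Q (g * a * g⁻¹) := by
    intro g a
    ext b
    constructor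
    · rintro ⟨hb, hab⟩
      refine ⟨by simpa [mul_assoc] using om_conj hQ g hb, ?_⟩
      have := congrArg (fun t => g * t * g⁻¹) hab.eq
      simpa [Commute, SemiconjBy, mul_assoc] using this
    · rintro ⟨hb, hab⟩
      refine ⟨by simpa using om_conj hQ g⁻¹ hb, ?_⟩
      have := congrArg (fun t => g⁻¹ * t * g) hab.eq
      simpa [Commute, SemiconjBy, mul_assoc] using this
  letI : MulAction G X2 :=
    { smul := fun g K => ⟨{b : G | g⁻¹ * b * g ∈ K.1}, by
        obtain ⟨a, ha, he⟩ := K.2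
        exact ⟨g * a * g⁻¹, om_conj hQ g ha, by rw [he]; exact hclsconj g a⟩⟩
      one_smul := fun K => Subtype.ext (by
        show {b : G | (1 : G)⁻¹ * b * 1 ∈ K.1} = K.1
        simp)
      mul_smul := fun a b K => Subtype.ext (Set.ext fun t => by
        show (a * b)⁻¹ * t * (a * b) ∈ K.1 ↔ b⁻¹ * (a⁻¹ * t * a) * b ∈ K.1
        rw [show (a * b)⁻¹ * t * (a * b) = b⁻¹ * (a⁻¹ * t * a) * b by group]) }
  let U : X2 → Set G := fun K => {y | y ∉ Z ∧ ∃ a ∈ K.1, Commute y a}
  have hmemK : ∀ (K : X2), ∀ a ∈ K.1, Om e Q a ∧ K.1 = cls e Q a := by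
    rintro ⟨K, a₀, ha₀, rfl⟩ a ⟨ha, haa⟩
    refine ⟨ha, Set.ext fun b => ⟨fun hb => ⟨hb.1, ?_⟩, fun hb => ⟨hb.1, ?_⟩⟩⟩
    · exact commute_trans hJ ha hb.1 ha₀.1 haa hb.2
    · exact commute_trans hJ ha₀ hb.1 ha.1 haa.symm hb.2
  have huniq : ∀ (y : G) (K K' : X2), y ∈ U K → y ∈ U K' → K = K' := by
    rintro y K K' ⟨hy, a, ha, hya⟩ ⟨-, b, hb, hyb⟩
    obtain ⟨hao, hKa⟩ := hmemK K a ha
    obtain ⟨hbo, hKb⟩ := hmemK K' b hb
    have hab := commute_trans hJ hao hbo hy hya hyb
    refine Subtype.ext ?_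
    have : b ∈ K.1 := by rw [hKa]; exact ⟨hbo, hab⟩
    rw [(hmemK K b this).2, hKb]
  have := Fintype.ofFinite X1
  have := Fintype.ofFinite X2
  have := Fintype.ofFinite (Quotient (MulAction.orbitRel G X1))
  have := Fintype.ofFinite (Quotient (MulAction.orbitRel G X2))
  have hcount : (Nat.card G : ℚ) = Nat.card Z + (∑ _x : X1, (Nat.card Z : ℚ)) +
      ∑ K : X2, (Nat.card (U K) : ℚ) := by
    have e1 : Nat.card S0 = Nat.card X1 * Nat.card Z := by
      have hS : S0 = (QuotientGroup.mk : G → G ⧸ Z) ⁻¹' ((QuotientGroup.mk : G → G ⧸ Z) '' S0) := by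
        ext y
        refine ⟨fun h => ⟨y, h, rfl⟩, ?_⟩
        rintro ⟨y', hy', he⟩
        have := hS0z y' hy' (y'⁻¹ * y) (QuotientGroup.eq.1 he)
        rwa [mul_inv_cancel_left] at this
      conv_lhs => rw [hS]
      rw [Nat.card_congr (QuotientGroup.preimageMkEquivSubgroupProdSet Z _), Nat.card_prod,
        mul_comm]
    let Rest := {y : G | y ∉ Z ∧ ∃ a, Om e Q a ∧ Commute y a}
    have e2 : Nat.card Rest = ∑ K : X2, Nat.card (U K) := by
      rw [← Nat.card_sigma]
      refine (Nat.card_congr (Equiv.ofBijective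
        (fun x : Σ K, U K => (⟨x.2.1, x.2.2.1, ?_⟩ : Rest)) ⟨?_, ?_⟩)).symm
      · obtain ⟨a, ha, hya⟩ := x.2.2.2
        exact ⟨a, (hmemK x.1 a ha).1, hya⟩
      · rintro ⟨K, y, hy⟩ ⟨K', y', hy'⟩ h
        obtain rfl : y = y' := congrArg Subtype.val h
        obtain rfl := huniq y K K' hy hy'
        rfl
      · rintro ⟨y, hy, a, ha, hya⟩
        exact ⟨⟨⟨cls e Q a, a, ha, rfl⟩, y, hy, a, ⟨ha, Commute.refl a⟩, hya⟩, rfl⟩
    have e3 : Nat.card G = Nat.card Z + Nat.card S0 + Nat.card Rest := by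
      have h1 : (Set.univ : Set G) = ((Z : Set G) ∪ S0) ∪ Rest := by
        ext y
        simp only [Set.mem_univ, true_iff]
        by_cases hy : y ∈ Z
        · exact Or.inl (Or.inl hy)
        · by_cases h : ∃ a, Om e Q a ∧ Commute y a
          · exact Or.inr ⟨hy, h⟩
          · exact Or.inl (Or.inr ⟨hy, fun a ha hc => h ⟨a, ha, hc⟩⟩)
      have hd1 : Disjoint (Z : Set G) S0 := Set.disjoint_left.2 fun y h1 h2 => h2.1 h1
      have hd2 : Disjoint ((Z : Set G) ∪ S0) Rest := Set.disjoint_left.2 fun y h1 h2 => by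
        rcases h1 with h1 | h1
        · exact h2.1 h1
        · obtain ⟨a, ha, hc⟩ := h2.2
          exact h1.2 a ha hc
      rw [← Set.ncard_univ, h1, Set.ncard_union_eq hd2, Set.ncard_union_eq hd1,
        ← Nat.card_coe_set_eq, ← Nat.card_coe_set_eq, ← Nat.card_coe_set_eq]
      rfl
    rw [e3, e1, e2, Finset.sum_const, Finset.card_univ, ← Nat.card_eq_fintype_card, nsmul_eq_mul]
    push_cast
    ring
  have hUinv : ∀ (g : G) (K : X2), (Nat.card (U (g • K)) : ℚ) = Nat.card (U K) := by
    intro g K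
    congr 1
    refine (Nat.card_congr ((MulAut.conj g).toEquiv.subtypeEquiv fun y => ?_)).symm
    show y ∈ U K ↔ g * y * g⁻¹ ∈ U (g • K)
    constructor
    · rintro ⟨hy, a, ha, hya⟩
      refine ⟨fun h => hy ?_, g * a * g⁻¹, ?_, ?_⟩
      · have := (inferInstance : (Subgroup.center G).Normal).conj_mem _ h g⁻¹
        simpa [mul_assoc] using this
      · show g⁻¹ * (g * a * g⁻¹) * g ∈ K.1
        simpa [mul_assoc] using ha
      · have := congrArg (fun t => g * t * g⁻¹) hya.eq
        simpa [Commute, SemiconjBy, mul_assoc] using this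
    · rintro ⟨hy, a, ha, hya⟩
      refine ⟨fun h => hy ((inferInstance : (Subgroup.center G).Normal).conj_mem _ h g),
        g⁻¹ * a * g, ha, ?_⟩
      have := congrArg (fun t => g⁻¹ * t * g) hya.eq
      simpa [Commute, SemiconjBy, mul_assoc] using this
  rw [sum_eq_sum_orbits (G := G) (fun _ : X1 => (Nat.card Z : ℚ)) (fun _ _ => rfl),
    sum_eq_sum_orbits (G := G) (fun K : X2 => (Nat.card (U K) : ℚ)) hUinv] at hcount
  have hGpos : (0 : ℚ) < Nat.card G := by exact_mod_cast Nat.card_pos
  have hZpos : (0 : ℚ) < Nat.card Z := by exact_mod_cast Nat.card_pos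
  -- the first kind of orbit
  have hO1 : ∀ o : Quotient (MulAction.orbitRel G X1), ∃ c : ℕ, 0 < c ∧ c ≤ M ∧
      (Nat.card Z : ℚ) / Nat.card (MulAction.stabilizer G o.out) = 1 / c := by
    intro o
    obtain ⟨y, hy, he⟩ := o.out.2
    have hmem : ∀ s : G, s ∈ MulAction.stabilizer G o.out ↔ s * y * s⁻¹ * y⁻¹ ∈ Z := by
      intro s
      rw [MulAction.mem_stabilizer_iff, ← div_eq_mul_inv, ← QuotientGroup.eq_iff_div_mem]
      constructor
      · intro h
        have := congrArg Subtype.val h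
        rw [show (s • o.out).1 = (s : G ⧸ Z) * o.out.1 * (s : G ⧸ Z)⁻¹ from rfl, ← he] at this
        exact this
      · intro h
        refine Subtype.ext ?_
        show (s : G ⧸ Z) * o.out.1 * (s : G ⧸ Z)⁻¹ = o.out.1
        rw [← he]
        exact h
    have hle : Z ≤ MulAction.stabilizer G o.out := fun c hc => by
      rw [hmem, (hcz hc y).symm.eq, mul_inv_cancel_right, mul_inv_cancel]
      exact Z.one_mem
    refine ⟨Z.relIndex (MulAction.stabilizer G o.out), Nat.pos_of_ne_zero
      Subgroup.index_ne_zero_of_finite, ?_, ?_⟩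
    · have h := hsmall y hy _ fun s hs => (hmem s).1 hs
      rw [← (Z.subgroupOf (MulAction.stabilizer G o.out)).index_mul_card,
        Nat.card_congr (Subgroup.subgroupOfEquivOfLe hle).toEquiv] at h
      exact (Nat.le_of_mul_le_mul_right h Nat.card_pos).trans ((le_max_left _ _).trans (le_max_left _ _))
    · rw [← (Z.subgroupOf (MulAction.stabilizer G o.out)).index_mul_card,
        Nat.card_congr (Subgroup.subgroupOfEquivOfLe hle).toEquiv]
      push_cast
      rw [div_mul_cancel_right₀ hZpos.ne', one_div]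
      rfl
  choose c hcpos hcM hc using hO1
  -- the second kind of orbit
  have hO2 : ∀ o : Quotient (MulAction.orbitRel G X2), ∃ i j v : ℕ, ∃ a : G, 0 < j ∧ j ≤ M ∧
      0 < v ∧ a ∉ Z ∧ Z.index = v * (MulAction.stabilizer G o.out).index ∧
      (Subgroup.centralizer ({a} : Set G)).index ≤ (MulAction.stabilizer G o.out).index * k ∧
      (Nat.card (U o.out) : ℚ) / Nat.card (MulAction.stabilizer G o.out) = i / j - 1 / v ∧
      (1 : ℚ) / (2 * M) ≤ (i : ℚ) / j - 1 / v := by
    intro o
    obtain ⟨a, ha, hKa⟩ := o.out.2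
    set K := o.out with hK
    set Nst := MulAction.stabilizer G K with hNst
    set C := Subgroup.centralizer (K.1 : Set G) with hC
    have haK : a ∈ K.1 := by rw [hKa]; exact ⟨ha, Commute.refl a⟩
    have hNK : Nst = setStab K.1 := by
      ext g
      rw [hNst, MulAction.mem_stabilizer_iff, mem_setStab]
      constructor
      · intro h b
        have h' := Set.ext_iff.1 (congrArg Subtype.val h) (g * b * g⁻¹)
        rw [show (g * b * g⁻¹ ∈ (g • K).1) = (g⁻¹ * (g * b * g⁻¹) * g ∈ K.1) from rfl,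
          show g⁻¹ * (g * b * g⁻¹) * g = b by group] at h'
        exact h'
      · intro h
        refine Subtype.ext (Set.ext fun b => ?_)
        show g⁻¹ * b * g ∈ K.1 ↔ b ∈ K.1
        rw [h (g⁻¹ * b * g), show g * (g⁻¹ * b * g) * g⁻¹ = b by group]
    have hCN : C ≤ Nst := fun g hg => by
      rw [hNK, mem_setStab]
      intro b
      have h1 : ∀ x ∈ K.1, g * x * g⁻¹ = x := fun x hx => by
        rw [← Subgroup.mem_centralizer_iff.1 hg x hx, mul_inv_cancel_right]
      constructor
      · intro hb; rw [h1 b hb]; exact hb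
      · intro hb
        have := h1 _ hb
        rw [mul_left_inj, mul_right_inj] at this
        rwa [this] at hb
    have hZC : Z ≤ C := fun x hx => Subgroup.mem_centralizer_iff.2 fun b _ => (hcz hx b).eq
    set W : Set G := U K ∪ (Z : Set G) with hW
    have hWpre : W = (QuotientGroup.mk : G → G ⧸ C) ⁻¹' ((QuotientGroup.mk : G → G ⧸ C) '' W) := by
      ext y
      refine ⟨fun h => ⟨y, h, rfl⟩, ?_⟩
      rintro ⟨y', hy', he⟩
      have hd : y'⁻¹ * y ∈ C := QuotientGroup.eq.1 he
      by_cases hyZ : y ∈ Z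
      · exact Or.inr hyZ
      refine Or.inl ⟨hyZ, ?_⟩
      obtain ⟨b, hb, hcb⟩ : ∃ b ∈ K.1, Commute y' b := by
        rcases hy' with ⟨-, b, hb, hcb⟩ | h
        · exact ⟨b, hb, hcb⟩
        · exact ⟨a, haK, (hcz h a).symm⟩
      refine ⟨b, hb, ?_⟩
      have h3 : Commute (y'⁻¹ * y) b := (Subgroup.mem_centralizer_iff.1 hd b hb).symm
      simpa using hcb.mul_left h3
    set i := Nat.card ((QuotientGroup.mk : G → G ⧸ C) '' W) with hi
    have hWcard : Nat.card W = Nat.card C * i := by
      conv_lhs => rw [hWpre]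
      rw [Nat.card_congr (QuotientGroup.preimageMkEquivSubgroupProdSet C _), Nat.card_prod]
    have hUW : Nat.card (U K) + Nat.card Z = Nat.card W := by
      rw [Nat.card_coe_set_eq W, hW, Set.ncard_union_eq
        (Set.disjoint_left.2 fun y h1 h2 => h1.1 h2), ← Nat.card_coe_set_eq, ← Nat.card_coe_set_eq]
      rfl
    set j := C.relIndex Nst with hj
    set v := Z.relIndex Nst with hv
    have hj0 : 0 < j := Nat.pos_of_ne_zero Subgroup.index_ne_zero_of_finite
    have hv0 : 0 < v := Nat.pos_of_ne_zero Subgroup.index_ne_zero_of_finite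
    have hjk : j ≤ k := by
      rw [hj, hNK]
      exact hk _ ⟨a, haK⟩ (fun b hb => (hmemK K b hb).1.2.1) fun b hb b' hb' => by
        rw [(hmemK K b hb).2] at hb'
        exact hb'.2
    have hNC : Nat.card Nst = j * Nat.card C := by
      rw [← (C.subgroupOf Nst).index_mul_card,
        Nat.card_congr (Subgroup.subgroupOfEquivOfLe hCN).toEquiv]
      rfl
    have hNZ : Nat.card Nst = v * Nat.card Z := by
      rw [← (Z.subgroupOf Nst).index_mul_card,
        Nat.card_congr (Subgroup.subgroupOfEquivOfLe (hZC.trans hCN)).toEquiv]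
      rfl
    have haC : a ∈ C := Subgroup.mem_centralizer_iff.2 fun b hb => by
      rw [hKa] at hb
      exact hb.2.symm.eq
    have hC2 : 2 * Nat.card Z ≤ Nat.card C := by
      obtain ⟨t, ht⟩ := Subgroup.card_dvd_of_le hZC
      have : t ≠ 1 := fun h1 => ha.1 (by
        rw [h1, mul_one] at ht
        exact (Subgroup.eq_of_le_of_card_ge hZC ht.le).ge haC)
      have : t ≠ 0 := fun h0 => (Nat.card_pos (α := C)).ne' (by rw [ht, h0, mul_zero])
      rw [ht, mul_comm 2]
      exact Nat.mul_le_mul_left _ (by omega)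
    have hi0 : 0 < i := by
      have : Nonempty ((QuotientGroup.mk : G → G ⧸ C) '' W) :=
        ⟨⟨_, 1, Or.inr Z.one_mem, rfl⟩⟩
      exact Nat.card_pos
    have hN0 : (Nat.card Nst : ℚ) ≠ 0 := by exact_mod_cast Nat.card_pos.ne'
    have hval : (Nat.card (U K) : ℚ) / Nat.card Nst = (i : ℚ) / j - 1 / v := by
      have h1 : (Nat.card (U K) : ℚ) = Nat.card C * i - Nat.card Z := by
        rw [eq_sub_iff_add_eq]; exact_mod_cast hUW.trans hWcard
      have hCq : (Nat.card C : ℚ) ≠ 0 := by exact_mod_cast Nat.card_pos.ne'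
      rw [h1, sub_div]
      congr 1
      · rw [hNC]; push_cast; field_simp
      · rw [hNZ]; push_cast; field_simp
    refine ⟨i, j, v, a, hj0, hjk.trans ((le_max_right _ _).trans (le_max_left _ _)), hv0, ha.1,
      ?_, ?_, hval, ?_⟩
    · rw [← Subgroup.relIndex_mul_index (hZC.trans hCN)]
    · calc (Subgroup.centralizer ({a} : Set G)).index ≤ C.index :=
            Nat.le_of_dvd (Nat.pos_of_ne_zero Subgroup.index_ne_zero_of_finite)
              (Subgroup.index_dvd_of_le (Subgroup.centralizer_le (Set.singleton_subset_iff.2 haK)))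
        _ = j * Nst.index := (Subgroup.relIndex_mul_index hCN).symm
        _ ≤ Nst.index * k := by rw [mul_comm]; exact Nat.mul_le_mul_left _ hjk
    · rw [← hval, div_le_div_iff₀ (by positivity) (by exact_mod_cast Nat.card_pos), one_mul]
      have h1 : Nat.card C ≤ 2 * Nat.card (U K) := by
        have := Nat.le_mul_of_pos_right (Nat.card C) hi0
        omega
      have h2 : Nat.card Nst ≤ Nat.card (U K) * (2 * M) := by
        rw [hNC]
        calc j * Nat.card C ≤ M * (2 * Nat.card (U K)) :=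
              Nat.mul_le_mul (hjk.trans ((le_max_right _ _).trans (le_max_left _ _))) h1
          _ = _ := by ring
      exact_mod_cast h2
  choose i j v a hjpos hjM hvpos haZ hvindex haindex hterm hlow using hO2
  have hG0 : (Nat.card Z : ℚ) / Nat.card G = 1 / (Z.index : ℚ) := by
    rw [← Z.index_mul_card]; push_cast
    rw [div_mul_cancel_right₀ hZpos.ne', one_div]
  have heq : (1 : ℚ) = 1 / (Z.index : ℚ) + (∑ o, (1 : ℚ) / c o) +
      ∑ o, ((i o : ℚ) / j o - 1 / v o) := by
    have := congrArg (· / (Nat.card G : ℚ)) hcount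
    simp only [add_div, Finset.sum_div, div_self hGpos.ne', hG0] at this
    refine this.trans ?_
    congr 1
    · congr 1
      refine Finset.sum_congr rfl fun o _ => ?_
      rw [← hc o]
      field_simp
    · refine Finset.sum_congr rfl fun o _ => ?_
      rw [← hterm o]
      field_simp
  set D := M.factorial with hD
  have hint : ∀ (n : ℕ) (x : ℕ), 0 < x → x ≤ M → ∃ q : ℤ, (n : ℚ) / x = (q : ℚ) / D := by
    intro n x hx hxM
    obtain ⟨t, ht⟩ := Nat.dvd_factorial hx hxM
    have hD0 : (D : ℚ) ≠ 0 := by exact_mod_cast (Nat.factorial_pos M).ne'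
    refine ⟨(n * t : ℕ), ?_⟩
    rw [div_eq_div_iff (by exact_mod_cast hx.ne') hD0, hD, ht]
    push_cast; ring
  choose q1 hq1 using fun o => hint 1 (c o) (hcpos o) (hcM o)
  choose q2 hq2 using fun o => hint (i o) (j o) (hjpos o) (hjM o)
  have hD0 : (D : ℚ) ≠ 0 := by exact_mod_cast (Nat.factorial_pos M).ne'
  have hq : (((D : ℤ) - ∑ o, q1 o - ∑ o, q2 o : ℤ) : ℚ) / D =
      1 / (Z.index : ℚ) - ∑ o, (1 : ℚ) / v o := by
    push_cast
    rw [sub_div, sub_div, div_self hD0, Finset.sum_div, Finset.sum_div,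
      ← Finset.sum_congr rfl (fun o _ => hq1 o), ← Finset.sum_congr rfl (fun o _ => hq2 o)]
    rw [Finset.sum_sub_distrib] at heq
    push_cast
    linarith
  have hcard : (Finset.univ : Finset (Quotient (MulAction.orbitRel G X2))).card ≤ 2 * M := by
    have h1 := Finset.sum_le_sum (s := Finset.univ) fun o _ => hlow o
    rw [Finset.sum_const, nsmul_eq_mul, mul_one_div] at h1
    have h2 : (0 : ℚ) ≤ ∑ o, (1 : ℚ) / c o := Finset.sum_nonneg fun o _ => by positivity
    have h3 : (0 : ℚ) ≤ 1 / (Z.index : ℚ) := by positivity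
    have hM0 : (0 : ℚ) < 2 * M := by
      have : (1 : ℚ) ≤ M := by exact_mod_cast (le_max_right _ 1 : 1 ≤ M)
      linarith
    have h4 : ((Finset.univ : Finset (Quotient (MulAction.orbitRel G X2))).card : ℚ) / (2 * M) ≤ 1 := by
      linarith
    rw [div_le_one hM0] at h4
    exact_mod_cast h4
  rcases hBa Finset.univ v Z.index _ hcard (Nat.pos_of_ne_zero Subgroup.index_ne_zero_of_finite)
    (fun o _ => hvpos o) hq with h | ⟨o, -, h⟩
  · exact ⟨Z, ⟨⟨fun x y => Subtype.ext (hcz y.2 x)⟩⟩, h.trans (le_max_left _ _)⟩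
  · obtain ⟨A, hAc, hAle, hAi, -⟩ := hA (a o) (haZ o)
    refine ⟨A, hAc, le_trans ?_ (le_max_right _ _)⟩
    rw [← Subgroup.relIndex_mul_index hAle]
    refine Nat.mul_le_mul hAi ((haindex o).trans (Nat.mul_le_mul_right _ ?_))
    rw [hvindex o, mul_comm Ba] at h
    exact Nat.le_of_mul_le_mul_left h (hvpos o)

end CfsgLib.BlockB.JordanCount
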