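import Cfsg.Agent.Lib.BlockB.JordanCount
import Mathlib.RepresentationTheory.Basic
import Mathlib.RingTheory.RootsOfUnity.AlgebraicallyClosed
import Mathlib.GroupTheory.FiniteAbelian.Duality
import Mathlib.GroupTheory.PGroup
import Mathlib.LinearAlgebra.Eigenspace.Triangularizable
import Mathlib.FieldTheory.IsAlgClosed.AlgebraicClosure
import Mathlib.LinearAlgebra.Matrix.ToLin

/-!
The theorem of Brauer and Feit: a finite linear group of degree `n` in characteristic `p` whose
Sylow `p`-subgroup has order at most `p ^ m` has an abelian subgroup of index bounded in terms of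
`p`, `m`, `n`.
-/

set_option autoImplicit false
set_option linter.unusedSectionVars false
set_option linter.style.haveILetI false

namespace CfsgLib.BlockB.JordanLinear

open Module

universe u v

variable {K : Type v} [Field K] {p : ℕ} [Fact p.Prime]

/-- The prime-to-`p` part of the group order kills the elements of order prime to `p`. -/
theorem pow_ordCompl_eq_one_iff {G : Type u} [Group G] [Finite G] (a : G) :
    a ^ ordCompl[p] (Nat.card G) = 1 ↔ ¬ p ∣ orderOf a := by
  have hp := (Fact.out : p.Prime)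
  rw [← orderOf_dvd_iff_pow_eq_one]
  refine ⟨fun h hd => Nat.not_dvd_ordCompl hp Nat.card_pos.ne' (hd.trans h), fun h => ?_⟩
  have h1 : orderOf a ∣ ordProj[p] (Nat.card G) * ordCompl[p] (Nat.card G) := by
    rw [Nat.ordProj_mul_ordCompl_eq_self]; exact orderOf_dvd_natCard a
  exact ((hp.coprime_iff_not_dvd.2 h).symm.pow_right _).dvd_of_dvd_mul_left h1

/-- A high enough `p`-th power has order prime to `p`. -/
theorem not_dvd_orderOf_pow {G : Type u} [Group G] [Finite G] {m : ℕ}
    (hm : (Nat.card G).factorization p ≤ m) (u : G) : ¬ p ∣ orderOf (u ^ p ^ m) := by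
  rw [← pow_ordCompl_eq_one_iff (G := G), ← pow_mul, ← orderOf_dvd_iff_pow_eq_one]
  refine (orderOf_dvd_natCard u).trans ?_
  conv_lhs => rw [← Nat.ordProj_mul_ordCompl_eq_self (Nat.card G) p]
  exact Nat.mul_dvd_mul_right (pow_dvd_pow p hm) _

/-- A `p`-subgroup has order at most `p ^ m`. -/
theorem card_le_of_isPGroup {G : Type u} [Group G] [Finite G] {m : ℕ}
    (hm : (Nat.card G).factorization p ≤ m) (H : Subgroup G) (hH : IsPGroup p H) :
    Nat.card H ≤ p ^ m := by
  have hp := (Fact.out : p.Prime)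
  obtain ⟨a, ha⟩ := hH.exists_card_eq
  rw [ha]
  refine Nat.pow_le_pow_right hp.pos (le_trans ?_ hm)
  rw [← hp.pow_dvd_iff_le_factorization Nat.card_pos.ne', ← ha]
  exact Subgroup.card_subgroup_dvd_card H

theorem factorization_le_of_dvd {a b m : ℕ} (h : a ∣ b) (hb : b ≠ 0)
    (hm : b.factorization p ≤ m) : a.factorization p ≤ m :=
  ((Nat.factorization_le_iff_dvd (ne_zero_of_dvd_ne_zero hb h) hb).2 h p).trans hm

section Eigen

variable [IsAlgClosed K] {V : Type v} [AddCommGroup V] [Module K V] [FiniteDimensional K V]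

/-- A commutative group of order prime to the characteristic is diagonalisable. -/
theorem exists_eigen_characters [CharP K p] {A : Type u} [CommGroup A] [Finite A]
    (hA : ¬ p ∣ Nat.card A) (ρ : Representation K A V) :
    ∃ Λ : Finset (A →* Kˣ), Λ.card ≤ finrank K V ∧
      (∀ χ : A →* Kˣ, χ ∈ Λ ↔ ∃ v : V, v ≠ 0 ∧ ∀ a, ρ a v = (χ a : K) • v) ∧
      ∀ a, (∀ χ ∈ Λ, χ a = 1) → ρ a = 1 := by
  classical
  have hp := (Fact.out : p.Prime)
  have := Fintype.ofFinite A
  have hAK : (Nat.card A : K) ≠ 0 := fun h => hA ((CharP.cast_eq_zero_iff K p _).1 h)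
  have : NeZero (Monoid.exponent A : K) := ⟨fun h => hA
    (((CharP.cast_eq_zero_iff K p _).1 h).trans Group.exponent_dvd_nat_card)⟩
  obtain ⟨eA⟩ := CommGroup.monoidHom_mulEquiv_of_hasEnoughRootsOfUnity A K
  have : Finite (A →* Kˣ) := Finite.of_equiv A eA.symm.toEquiv
  have := Fintype.ofFinite (A →* Kˣ)
  have horth : ∀ a : A, ∑ χ : A →* Kˣ, (χ a : K) = if a = 1 then (Nat.card A : K) else 0 := by
    intro a
    split_ifs with h
    · subst h
      simp [← Nat.card_eq_fintype_card, Nat.card_congr eA.toEquiv]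
    · obtain ⟨ψ, hψ⟩ := CommGroup.exists_apply_ne_one_of_hasEnoughRootsOfUnity A K h
      have h1 : ∑ χ : A →* Kˣ, (χ a : K) = (ψ a : K) * ∑ χ : A →* Kˣ, (χ a : K) := by
        rw [Finset.mul_sum]
        exact (Fintype.sum_equiv (Equiv.mulLeft ψ) _ _ fun χ => by simp).symm
      exact (mul_eq_zero.1 (show ((ψ a : K) - 1) * ∑ χ : A →* Kˣ, (χ a : K) = 0 by
        rw [sub_mul, one_mul, ← h1, sub_self])).resolve_left
          (sub_ne_zero.2 fun h2 => hψ (Units.ext h2))
  let e : (A →* Kˣ) → V →ₗ[K] V := fun χ =>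
    (Nat.card A : K)⁻¹ • ∑ a : A, ((χ a⁻¹ : Kˣ) : K) • (ρ a : V →ₗ[K] V)
  have heig : ∀ χ a v, ρ a (e χ v) = (χ a : K) • e χ v := by
    intro χ a v
    simp only [e, LinearMap.smul_apply, LinearMap.coe_sum, Finset.sum_apply, map_smul, map_sum,
      Finset.smul_sum, smul_smul]
    refine Fintype.sum_equiv (Equiv.mulLeft a : A ≃ A)
      (fun b => ((Nat.card A : K)⁻¹ * ((χ b⁻¹ : Kˣ) : K)) • ρ a (ρ b v))
      (fun b => ((χ a : K) * ((Nat.card A : K)⁻¹ * ((χ b⁻¹ : Kˣ) : K))) • ρ b v) fun b => ?_
    simp only [Equiv.coe_mulLeft, map_mul ρ, Module.End.mul_apply]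
    congr 1
    rw [mul_left_comm, ← Units.val_mul, ← map_mul]
    congr 3
    rw [mul_inv_rev, mul_comm b⁻¹, mul_inv_cancel_left]
  have hsum : ∀ v, ∑ χ, e χ v = v := by
    intro v
    simp only [e, LinearMap.smul_apply, LinearMap.coe_sum, Finset.sum_apply, ← Finset.smul_sum]
    rw [Finset.sum_comm]
    simp only [← Finset.sum_smul, horth, inv_eq_one]
    rw [Finset.sum_eq_single (1 : A) (fun a _ ha => by rw [if_neg ha, zero_smul])
      (fun h => absurd (Finset.mem_univ _) h), if_pos rfl, map_one, smul_smul,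
      inv_mul_cancel₀ hAK, one_smul, Module.End.one_apply]
  have hproj : ∀ (χ ψ : A →* Kˣ) (v : V), (∀ a, ρ a v = (ψ a : K) • v) →
      e χ v = if χ = ψ then v else 0 := by
    intro χ ψ v hv
    simp only [e, LinearMap.smul_apply, LinearMap.coe_sum, Finset.sum_apply, hv, smul_smul,
      ← Finset.sum_smul]
    split_ifs with h
    · subst h
      have : ∀ a : A, ((χ a⁻¹ : Kˣ) : K) * (χ a : K) = 1 := fun a => by
        rw [← Units.val_mul, ← map_mul, inv_mul_cancel, map_one, Units.val_one]
      simp only [this, Finset.sum_const, Finset.card_univ, ← Nat.card_eq_fintype_card,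
        nsmul_eq_mul, mul_one, inv_mul_cancel₀ hAK, one_smul]
    · obtain ⟨b, hb⟩ : ∃ b, χ b ≠ ψ b := by
        by_contra h2
        push Not at h2
        exact h (MonoidHom.ext h2)
      set s := ∑ a : A, ((χ a⁻¹ : Kˣ) : K) * (ψ a : K) with hs
      have h1 : s = ((χ b⁻¹ : Kˣ) : K) * (ψ b : K) * s := by
        rw [hs, Finset.mul_sum]
        exact (Fintype.sum_equiv (Equiv.mulLeft b) _ _ fun a => by
          simp only [Equiv.coe_mulLeft, mul_inv_rev, map_mul, Units.val_mul]; ring).symm
      have h2 : ((χ b⁻¹ : Kˣ) : K) * (ψ b : K) ≠ 1 := fun h2 => hb (by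
        have h3 : χ b⁻¹ * ψ b = 1 := Units.ext (by rw [Units.val_mul, Units.val_one]; exact h2)
        rw [map_inv] at h3
        exact inv_mul_eq_one.1 h3)
      have : s = 0 := by
        by_contra h3
        exact h2 (mul_right_cancel₀ h3 (by rw [one_mul]; exact h1.symm))
      rw [this, mul_zero, zero_smul]
  refine ⟨Finset.univ.filter fun χ : A →* Kˣ => ∃ v : V, v ≠ 0 ∧ ∀ a, ρ a v = (χ a : K) • v, ?_,
    fun χ => by simp, fun a ha => LinearMap.ext fun v => ?_⟩
  · set Λ := Finset.univ.filter fun χ : A →* Kˣ => ∃ v : V, v ≠ 0 ∧ ∀ a, ρ a v = (χ a : K) • v with hΛ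
    have hmem : ∀ χ : Λ, ∃ v : V, v ≠ 0 ∧ ∀ a, ρ a v = ((χ : A →* Kˣ) a : K) • v := fun χ =>
      (Finset.mem_filter.1 χ.2).2
    choose w hw0 hw using hmem
    have hli : LinearIndependent K w := by
      rw [Fintype.linearIndependent_iff]
      intro c hc i
      have h1 := congrArg (e i) hc
      simp only [map_sum, map_smul, map_zero] at h1
      rw [Finset.sum_eq_single i (fun j _ hj => by
          rw [hproj _ _ _ (hw j), if_neg (fun h => hj (Subtype.ext h).symm), smul_zero])
        (fun h => absurd (Finset.mem_univ _) h), hproj _ _ _ (hw i), if_pos rfl] at h1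
      exact (smul_eq_zero.1 h1).resolve_right (hw0 i)
    simpa using hli.fintype_card_le_finrank
  · rw [Module.End.one_apply]
    conv_lhs => rw [← hsum v, map_sum]
    conv_rhs => rw [← hsum v]
    refine Finset.sum_congr rfl fun χ _ => ?_
    rw [heig]
    by_cases h : e χ v = 0
    · rw [h, smul_zero]
    · rw [ha χ (Finset.mem_filter.2 ⟨Finset.mem_univ _, _, h, fun b => heig χ b v⟩),
        Units.val_one, one_smul]

variable [CharP K p] {G : Type u} [Group G] [Finite G]

/-- An abelian subgroup of bounded exponent has bounded order. -/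
theorem card_le_of_exponent {m n E : ℕ} (hm : (Nat.card G).factorization p ≤ m)
    (ρ : Representation K G V) (hρ : Function.Injective ρ) (hn : finrank K V ≤ n) (hE : 0 < E)
    (T : Subgroup G) [IsMulCommutative T] (hT : ∀ t ∈ T, t ^ E = 1) :
    Nat.card T ≤ E ^ n * p ^ m := by
  classical
  have hp := (Fact.out : p.Prime)
  let cT : CommGroup T :=
    { (inferInstance : Group T) with
      mul_comm := fun a b => IsMulCommutative.is_comm.comm a b }
  let φ : T →* T := powMonoidHom (p ^ m)
  rw [← φ.ker.index_mul_card, Subgroup.index_ker]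
  refine Nat.mul_le_mul ?_ ?_
  · have hA : ¬ p ∣ Nat.card φ.range := by
      intro hd
      obtain ⟨a, ha⟩ := exists_prime_orderOf_dvd_card' p hd
      obtain ⟨t, ht⟩ := a.2
      refine not_dvd_orderOf_pow hm (t : G) ?_
      have h1 : orderOf ((t : G) ^ p ^ m) = p := by
        refine Eq.trans ?_ ha
        rw [← Subgroup.orderOf_coe a, ← Subgroup.orderOf_coe (a : T), ← ht]
        rfl
      rw [h1]
    obtain ⟨Λ, hΛc, -, hΛi⟩ := exists_eigen_characters hA
      (ρ.comp ((T.subtype).comp φ.range.subtype))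
    have hroot : ∀ (a : φ.range) (χ : φ.range →* Kˣ), χ a ∈ rootsOfUnity E K := fun a χ => by
      rw [mem_rootsOfUnity, ← map_pow,
        show a ^ E = 1 from Subtype.ext (Subtype.ext (hT _ (a : T).2)), map_one]
    have hinj : Function.Injective
        (fun (a : φ.range) (χ : Λ) => (⟨(χ : φ.range →* Kˣ) a, hroot a χ⟩ : rootsOfUnity E K)) := by
      intro a b h
      have h1 := hΛi (a⁻¹ * b) fun χ hχ => by
        have := congrArg Subtype.val (congr_fun h ⟨χ, hχ⟩)
        rw [map_mul, map_inv, inv_mul_eq_one]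
        exact this
      have h2 : ((T.subtype).comp φ.range.subtype) (a⁻¹ * b) = 1 := hρ (by
        rw [map_one]; exact h1)
      exact inv_mul_eq_one.1 (φ.range.subtype_injective (T.subtype_injective (by simpa using h2)))
    have : NeZero E := ⟨hE.ne'⟩
    refine (Nat.card_le_card_of_injective _ hinj).trans ?_
    rw [Nat.card_fun, Nat.card_eq_finsetCard]
    refine (Nat.pow_le_pow_left (card_rootsOfUnity K E) _).trans ?_
    exact Nat.pow_le_pow_right hE (hΛc.trans hn)
  · refine le_of_eq_of_le (Nat.card_congr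
      (φ.ker.equivMapOfInjective T.subtype T.subtype_injective).toEquiv)
      (card_le_of_isPGroup hm _ ?_)
    rintro ⟨_, t, ht, rfl⟩
    exact ⟨m, Subtype.ext (congrArg Subtype.val (MonoidHom.mem_ker.1 ht) : _)⟩

/-- A set of commuting elements of order prime to `p` has few normalising cosets. -/
theorem relIndex_centralizer_le {m n : ℕ} (hm : (Nat.card G).factorization p ≤ m)
    (ρ : Representation K G V) (hρ : Function.Injective ρ) (hn : finrank K V ≤ n) (hn0 : 0 < n)
    (S : Set G) (hSp : ∀ a ∈ S, ¬ p ∣ orderOf a) (hSc : ∀ a ∈ S, ∀ b ∈ S, Commute a b) :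
    (Subgroup.centralizer S).relIndex (JordanCount.setStab S) ≤ n ^ n := by
  classical
  set A := Subgroup.closure S with hA
  have hAc : IsMulCommutative A :=
    Subgroup.isMulCommutative_closure (fun a ha b hb => hSc a ha b hb)
  let cA : CommGroup A :=
    { (inferInstance : Group A) with
      mul_comm := fun a b => IsMulCommutative.is_comm.comm a b }
  have hpow : ∀ x : A, (x : G) ^ ordCompl[p] (Nat.card G) = 1 := by
    rintro ⟨x, hx⟩
    have : x ∈ A ∧ x ^ ordCompl[p] (Nat.card G) = 1 := by
      induction hx using Subgroup.closure_induction with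
      | mem y hy => exact ⟨Subgroup.subset_closure hy, (pow_ordCompl_eq_one_iff y).2 (hSp y hy)⟩
      | one => exact ⟨A.one_mem, one_pow _⟩
      | mul y z _ _ hy hz =>
        refine ⟨A.mul_mem hy.1 hz.1, ?_⟩
        have hc : Commute y z := congrArg Subtype.val
          (mul_comm (⟨y, hy.1⟩ : A) ⟨z, hz.1⟩)
        rw [hc.mul_pow, hy.2, hz.2, one_mul]
      | inv y _ hy => exact ⟨A.inv_mem hy.1, by rw [inv_pow, hy.2, inv_one]⟩
    exact this.2
  have hAp : ¬ p ∣ Nat.card A := by
    intro hd
    obtain ⟨a, ha⟩ := exists_prime_orderOf_dvd_card' p hd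
    have h1 := (pow_ordCompl_eq_one_iff (p := p) (a : G)).1 (hpow a)
    rw [Subgroup.orderOf_coe, ha] at h1
    exact h1 dvd_rfl
  obtain ⟨Λ, hΛc, hΛ, hΛi⟩ := exists_eigen_characters hAp (ρ.comp A.subtype)
  set Nst := JordanCount.setStab S with hN
  have hnorm : ∀ g : Nst, ∀ a ∈ A, (g : G) * a * (g : G)⁻¹ ∈ A := by
    intro g a ha
    have : A ≤ A.comap (MulAut.conj (g : G)).toMonoidHom := by
      rw [hA, Subgroup.closure_le]
      intro b hb
      exact Subgroup.subset_closure ((g.2 b).1 hb)
    exact this ha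
  let cj : Nst → (A →* A) := fun g =>
    { toFun := fun a => ⟨(g : G) * a * (g : G)⁻¹, hnorm g a a.2⟩
      map_one' := Subtype.ext (by simp)
      map_mul' := fun a b => Subtype.ext (by simp [mul_assoc]) }
  let F : Nst → (Λ → Λ) := fun g χ => ⟨(χ : A →* Kˣ).comp (cj g), by
    obtain ⟨v, hv, hva⟩ := (hΛ _).1 χ.2
    refine (hΛ _).2 ⟨ρ ((g : G)⁻¹) v, fun h => hv ?_, fun a => ?_⟩
    · have := congrArg (ρ (g : G)) h
      rwa [← Module.End.mul_apply, ← map_mul, mul_inv_cancel, map_one, map_zero,
        Module.End.one_apply] at this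
    · show ρ (a : G) (ρ ((g : G)⁻¹) v) = ((χ : A →* Kˣ) (cj g a) : K) • ρ ((g : G)⁻¹) v
      rw [← map_smul, ← hva (cj g a)]
      show ρ (a : G) (ρ ((g : G)⁻¹) v) = ρ ((g : G)⁻¹) (ρ ((g : G) * a * (g : G)⁻¹) v)
      rw [← Module.End.mul_apply, ← map_mul, ← Module.End.mul_apply, ← map_mul]
      congr 2
      group⟩
  let C := (Subgroup.centralizer S).subgroupOf Nst
  have hFinj : ∀ g g' : Nst, F g = F g' → g⁻¹ * g' ∈ C := by
    intro g g' h
    rw [Subgroup.mem_subgroupOf, Subgroup.mem_centralizer_iff]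
    intro b hb
    set a : A := ⟨b, Subgroup.subset_closure hb⟩
    have h1 := hΛi ((cj g a)⁻¹ * cj g' a) fun χ hχ => by
      rw [map_mul, map_inv, inv_mul_eq_one]
      exact DFunLike.congr_fun (congrArg Subtype.val (congr_fun h ⟨χ, hχ⟩)) a
    have h2 : A.subtype ((cj g a)⁻¹ * cj g' a) = 1 := hρ (by rw [map_one]; exact h1)
    rw [map_mul, map_inv, inv_mul_eq_one] at h2
    replace h2 : (g : G) * b * (g : G)⁻¹ = (g' : G) * b * (g' : G)⁻¹ := h2
    show b * ((g : G)⁻¹ * (g' : G)) = (g : G)⁻¹ * (g' : G) * b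
    calc b * ((g : G)⁻¹ * (g' : G))
        = (g : G)⁻¹ * ((g : G) * b * (g : G)⁻¹) * (g' : G) := by group
      _ = _ := by rw [h2]; group
  let F' : Nst ⧸ C → (Λ → Λ) := fun x => F x.out
  have hF' : Function.Injective F' := fun x y h => by
    rw [← Quotient.out_eq x, ← Quotient.out_eq y]
    exact Quotient.sound (QuotientGroup.leftRel_apply.2 (hFinj _ _ h))
  refine le_of_eq_of_le (Subgroup.index_eq_card C) ((Nat.card_le_card_of_injective F' hF').trans ?_)
  rw [Nat.card_fun, Nat.card_eq_finsetCard]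
  exact (Nat.pow_le_pow_left (hΛc.trans hn) _).trans (Nat.pow_le_pow_right hn0 (hΛc.trans hn))

/-- Some power of each element of order prime to `p` has a stable centralizer. -/
theorem exists_stable_power {m n e : ℕ} (hm : (Nat.card G).factorization p ≤ m)
    (ρ : Representation K G V) (hρ : Function.Injective ρ) (hn : finrank K V ≤ n) (u : G) :
    u ^ (p ^ m * e ^ (n * n + 1)) ∈ Subgroup.center G ∨
      ∃ a ∈ Subgroup.zpowers u, JordanCount.Om e (fun a => ¬ p ∣ orderOf a) a := by
  classical
  set v0 := u ^ p ^ m with hv0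
  let Cm : ℕ → Submodule K (Module.End K V) := fun j =>
    LinearMap.ker (LinearMap.mulLeft K (ρ (v0 ^ e ^ j)) - LinearMap.mulRight K (ρ (v0 ^ e ^ j)))
  have hCm : ∀ j X, X ∈ Cm j ↔ Commute (ρ (v0 ^ e ^ j)) X := fun j X => by
    simp [Cm, LinearMap.mem_ker, sub_eq_zero, Commute, SemiconjBy]
  have hmono : ∀ j, Cm j ≤ Cm (j + 1) := fun j X hX => by
    rw [hCm] at hX ⊢
    rw [pow_succ, pow_mul, map_pow]
    exact hX.pow_left e
  have hEnd : finrank K (Module.End K V) ≤ n * n := by
    rw [Module.finrank_linearMap]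
    exact Nat.mul_le_mul hn hn
  obtain ⟨j, hj, hje⟩ : ∃ j, j ≤ n * n ∧ finrank K (Cm (j + 1)) ≤ finrank K (Cm j) := by
    by_contra h
    push Not at h
    have : ∀ j, j ≤ n * n + 1 → j ≤ finrank K (Cm j) := by
      intro j
      induction j with
      | zero => intro _; exact Nat.zero_le _
      | succ j ih =>
        intro hj
        exact (Nat.succ_le_succ (ih (by omega))).trans (h j (by omega))
    have h1 := (this _ le_rfl).trans ((Submodule.finrank_le _).trans hEnd)
    omega
  have heq := Submodule.eq_of_le_of_finrank_le (hmono j) hje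
  by_cases hz : v0 ^ e ^ j ∈ Subgroup.center G
  · refine Or.inl ?_
    obtain ⟨d, hd⟩ := Nat.exists_eq_add_of_le (show j ≤ n * n + 1 by omega)
    rw [pow_mul, ← hv0, hd, pow_add, pow_mul]
    exact Subgroup.pow_mem _ hz _
  · refine Or.inr ⟨v0 ^ e ^ j, Subgroup.pow_mem _ (Subgroup.pow_mem _ (Subgroup.mem_zpowers u) _) _,
      hz, fun hd => not_dvd_orderOf_pow hm u (hd.trans (orderOf_pow_dvd _)), fun x hx => ?_⟩
    have h1 : ρ x ∈ Cm (j + 1) := by
      rw [hCm, pow_succ, pow_mul]
      exact (hx.map ρ).symm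
    rw [← heq, hCm] at h1
    exact hρ (by rw [map_mul, map_mul]; exact h1.symm.eq)

end Eigen

section Main

variable [IsAlgClosed K]

/-- The statement to be proved by induction on the dimension. -/
def Bounded (K : Type v) [Field K] (p m n J : ℕ) : Prop :=
  ∀ (G : Type u) [Group G] [Finite G] (V : Type v) [AddCommGroup V] [Module K V]
    [FiniteDimensional K V] (ρ : Representation K G V), Function.Injective ρ →
    finrank K V ≤ n → (Nat.card G).factorization p ≤ m →
    ∃ A : Subgroup G, IsMulCommutative A ∧ A.index ≤ J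

/-- A group with a proper invariant subspace is governed by the smaller dimension. -/
theorem bound_of_invariant [CharP K p] {m n J : ℕ} (ih : Bounded.{u} K p m n J)
    (H : Type u) [Group H] [Finite H] {V : Type v} [AddCommGroup V] [Module K V]
    [FiniteDimensional K V] (ρ : Representation K H V) (hρ : Function.Injective ρ)
    (hV : finrank K V ≤ n + 1) (hm : (Nat.card H).factorization p ≤ m) (W : Submodule K V)
    (hW0 : W ≠ ⊥) (hW1 : W ≠ ⊤) (hW : ∀ h : H, ∀ w ∈ W, ρ h w ∈ W) :
    ∃ A : Subgroup H, IsMulCommutative A ∧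
      A.index ≤ J * J * ((p ^ m) ^ (p ^ m)) * p ^ m := by
  classical
  have hp := (Fact.out : p.Prime)
  have hWle : ∀ h : H, W ≤ W.comap (ρ h) := fun h w hw => hW h w hw
  let ρ1 : Representation K H W :=
    { toFun := fun h => (ρ h).restrict (hW h)
      map_one' := LinearMap.ext fun w => Subtype.ext (by simp [LinearMap.restrict_apply])
      map_mul' := fun a b => LinearMap.ext fun w => Subtype.ext (by simp [LinearMap.restrict_apply]) }
  let ρ2 : Representation K H (V ⧸ W) :=
    { toFun := fun h => W.mapQ W (ρ h) (hWle h)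
      map_one' := by ext x; simp
      map_mul' := fun a b => by ext x; simp }
  have hlt1 : finrank K W ≤ n := by
    have := Submodule.finrank_lt hW1
    omega
  have hlt2 : finrank K (V ⧸ W) ≤ n := by
    have h1 := Submodule.finrank_quotient_add_finrank W
    have h2 : finrank K W ≠ 0 := fun h => hW0 (Submodule.finrank_eq_zero.1 h)
    omega
  have hfac : ∀ (V' : Type v) [AddCommGroup V'] [Module K V'] [FiniteDimensional K V'],
      finrank K V' ≤ n → ∀ σ : Representation K H V', ∃ A : Subgroup H,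
      A.index ≤ J ∧ ∀ a ∈ A, ∀ b ∈ A, σ (a * b) = σ (b * a) := by
    intro V' _ _ _ hV' σ
    let σH : H →* Module.End K V' := σ
    let σb : Representation K (H ⧸ σH.ker) V' := QuotientGroup.lift σH.ker σH le_rfl
    have hinj : Function.Injective σb := by
      rw [injective_iff_map_eq_one]
      intro x hx
      induction x using QuotientGroup.induction_on with
      | _ h => exact (QuotientGroup.eq_one_iff h).2 (MonoidHom.mem_ker.2 hx)
    obtain ⟨A, hAc, hAi⟩ := ih (H ⧸ σH.ker) V' σb hinj hV'
      (factorization_le_of_dvd (Subgroup.card_quotient_dvd_card _) Nat.card_pos.ne' hm)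
    refine ⟨A.comap (QuotientGroup.mk' σH.ker), ?_, fun a ha b hb => ?_⟩
    · rw [Subgroup.index_comap_of_surjective _ (QuotientGroup.mk'_surjective _)]
      exact hAi
    · exact congrArg σb (congrArg Subtype.val (hAc.is_comm.comm ⟨_, ha⟩ ⟨_, hb⟩) :
        ((a * b : H) : H ⧸ σH.ker) = ((b * a : H) : H ⧸ σH.ker))
  obtain ⟨A1, hA1, hA1c⟩ := hfac W hlt1 ρ1
  obtain ⟨A2, hA2, hA2c⟩ := hfac (V ⧸ W) hlt2 ρ2
  set H' := A1 ⊓ A2 with hH'
  -- the kernel of both
  let U : Subgroup H :=
    { carrier := {h | ρ1 h = 1 ∧ ρ2 h = 1}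
      one_mem' := ⟨map_one ρ1, map_one ρ2⟩
      mul_mem' := fun {a b} ha hb => ⟨by rw [map_mul, ha.1, hb.1, one_mul],
        by rw [map_mul, ha.2, hb.2, one_mul]⟩
      inv_mem' := fun {a} ha => by
        constructor
        · calc ρ1 a⁻¹ = ρ1 a⁻¹ * ρ1 a := by rw [ha.1, mul_one]
            _ = 1 := by rw [← map_mul, inv_mul_cancel, map_one]
        · calc ρ2 a⁻¹ = ρ2 a⁻¹ * ρ2 a := by rw [ha.2, mul_one]
            _ = 1 := by rw [← map_mul, inv_mul_cancel, map_one] }
  have hUp : ∀ h ∈ U, h ^ p = 1 := by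
    intro h hh
    refine hρ ?_
    rw [map_pow, map_one]
    have hN : (ρ h - 1) ^ 2 = 0 := by
      refine LinearMap.ext fun v => ?_
      have h1 : (ρ h - 1) v ∈ W := by
        rw [LinearMap.sub_apply, Module.End.one_apply, ← Submodule.Quotient.eq]
        exact LinearMap.congr_fun hh.2 (Submodule.Quotient.mk v)
      rw [pow_two, Module.End.mul_apply, LinearMap.zero_apply, LinearMap.sub_apply,
        Module.End.one_apply]
      exact sub_eq_zero.2 (congrArg Subtype.val (LinearMap.congr_fun hh.1 ⟨_, h1⟩))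
    have hpe : ((p : ℕ) : Module.End K V) = 0 := by
      rw [← map_natCast (algebraMap K (Module.End K V)) p, CharP.cast_eq_zero, map_zero]
    have h2 : (ρ h - 1 + 1) ^ p = 1 := by
      rw [(Commute.one_right (ρ h - 1)).add_pow]
      refine (Finset.sum_eq_single 0 (fun i _ hi => ?_) (fun h => absurd (Finset.mem_range.2
        (Nat.succ_pos p)) h)).trans (by simp)
      rcases Nat.lt_or_ge i 2 with hi2 | hi2
      · obtain rfl : i = 1 := by omega
        rw [Nat.choose_one_right, hpe, mul_zero]
      · rw [← Nat.add_sub_cancel' hi2, pow_add, hN, zero_mul, zero_mul, zero_mul]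
    rwa [sub_add_cancel] at h2
  have hUpg : IsPGroup p U := fun u => ⟨1, Subtype.ext (by
    rw [pow_one]; exact hUp _ u.2)⟩
  have hUc := card_le_of_isPGroup hm U hUpg
  have hUn : ∀ (g : H), ∀ u ∈ U, g * u * g⁻¹ ∈ U := fun g u hu => by
    constructor
    · rw [map_mul, map_mul, hu.1, mul_one, ← map_mul, mul_inv_cancel, map_one]
    · rw [map_mul, map_mul, hu.2, mul_one, ← map_mul, mul_inv_cancel, map_one]
  have hcomm : ∀ a ∈ H', ∀ b ∈ H', a * b * a⁻¹ * b⁻¹ ∈ U := by
    intro a ha b hb
    constructor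
    · rw [mul_assoc, map_mul, hA1c a ha.1 b hb.1, ← map_mul, ← mul_inv_rev, mul_inv_cancel, map_one]
    · rw [mul_assoc, map_mul, hA2c a ha.2 b hb.2, ← map_mul, ← mul_inv_rev, mul_inv_cancel, map_one]
  set Hn := H' ⊓ Subgroup.centralizer (U : Set H) with hHn
  have hHni : (Subgroup.centralizer (U : Set H)).index ≤ (p ^ m) ^ (p ^ m) := by
    let F : H ⧸ Subgroup.centralizer (U : Set H) → (U → U) := Quotient.lift
      (fun g : H => fun u : U => (⟨g * u * g⁻¹, hUn g u u.2⟩ : U)) (by
        intro a b hab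
        funext u
        refine Subtype.ext ?_
        have h1 := Subgroup.mem_centralizer_iff.1 (QuotientGroup.leftRel_apply.1 hab) _ u.2
        show a * (u : H) * a⁻¹ = b * (u : H) * b⁻¹
        calc a * (u : H) * a⁻¹ = a * ((u : H) * (a⁻¹ * b)) * b⁻¹ := by group
          _ = _ := by rw [h1]; group)
    have hF : Function.Injective F := by
      intro x y hxy
      induction x using Quotient.inductionOn with
      | _ a =>
        induction y using Quotient.inductionOn with
        | _ b =>
          refine Quotient.sound (QuotientGroup.leftRel_apply.2 (Subgroup.mem_centralizer_iff.2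
            fun u hu => ?_))
          have h1 : a * u * a⁻¹ = b * u * b⁻¹ := congrArg Subtype.val (congr_fun hxy ⟨u, hu⟩)
          calc u * (a⁻¹ * b) = a⁻¹ * (a * u * a⁻¹) * b := by group
            _ = _ := by rw [h1]; group
    rw [Subgroup.index_eq_card]
    refine (Nat.card_le_card_of_injective F hF).trans ?_
    rw [Nat.card_fun]
    exact (Nat.pow_le_pow_left hUc _).trans (Nat.pow_le_pow_right (pow_pos hp.pos m) hUc)
  -- the centre of `Hn`
  have hexp : ∀ x : Hn, x ^ p ∈ Subgroup.center Hn := by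
    intro x
    rw [Subgroup.mem_center_iff]
    intro y
    refine Subtype.ext ?_
    show (y : H) * (x : H) ^ p = (x : H) ^ p * (y : H)
    set c := (y : H) * (x : H) * (y : H)⁻¹ * (x : H)⁻¹ with hc
    have hcU : c ∈ U := hcomm _ y.2.1 _ x.2.1
    have hcx : Commute c (x : H) := Subgroup.mem_centralizer_iff.1 x.2.2 c hcU
    have h1 : ((y : H) * (x : H) * (y : H)⁻¹) ^ p = (x : H) ^ p := by
      rw [show (y : H) * (x : H) * (y : H)⁻¹ = c * (x : H) by rw [hc]; group, hcx.mul_pow,
        hUp c hcU, one_mul]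
    rw [conj_pow] at h1
    exact mul_inv_eq_iff_eq_mul.1 h1
  have hq : (Subgroup.center Hn).index ≤ p ^ m := by
    rw [Subgroup.index_eq_card]
    obtain ⟨a, ha⟩ := (show IsPGroup p (Hn ⧸ Subgroup.center Hn) from fun q => ⟨1, by
      induction q using QuotientGroup.induction_on with
      | _ x => rw [pow_one, ← QuotientGroup.mk_pow, QuotientGroup.eq_one_iff]; exact hexp x⟩).exists_card_eq
    rw [ha]
    refine Nat.pow_le_pow_right hp.pos (le_trans ?_ hm)
    rw [← hp.pow_dvd_iff_le_factorization Nat.card_pos.ne', ← ha]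
    exact (Subgroup.card_quotient_dvd_card _).trans (Subgroup.card_subgroup_dvd_card Hn)
  refine ⟨(Subgroup.center Hn).map Hn.subtype, ?_, ?_⟩
  · constructor; constructor
    rintro ⟨_, a, ha, rfl⟩ ⟨_, b, -, rfl⟩
    exact Subtype.ext ((congrArg Subtype.val (Subgroup.mem_center_iff.1 ha b).symm : _) :)
  · rw [Subgroup.index_map_subtype]
    calc (Subgroup.center Hn).index * Hn.index
        ≤ p ^ m * (A1.index * A2.index * (Subgroup.centralizer (U : Set H)).index) := by
          refine Nat.mul_le_mul hq ?_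
          exact Subgroup.index_inf_le.trans (Nat.mul_le_mul_right _ Subgroup.index_inf_le)
      _ ≤ p ^ m * (J * J * (p ^ m) ^ (p ^ m)) :=
          Nat.mul_le_mul_left _ (Nat.mul_le_mul (Nat.mul_le_mul hA1 hA2) hHni)
      _ = _ := by ring

/-- A subgroup of bounded index contains a normal one of bounded index. -/
theorem index_normalCore_le {H : Type u} [Group H] [Finite H] (A : Subgroup H) :
    A.normalCore.index ≤ A.index.factorial := by
  rw [Subgroup.normalCore_eq_ker, Subgroup.index_ker]
  refine (Nat.card_le_card_of_injective _ Subtype.val_injective).trans ?_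
  classical
  have := Fintype.ofFinite (H ⧸ A)
  rw [Nat.card_eq_fintype_card, Fintype.card_perm, ← Nat.card_eq_fintype_card,
    ← Subgroup.index_eq_card]

/-- The bound exists in every dimension, uniformly in the field. -/
theorem exists_bounded_all (p : ℕ) [Fact p.Prime] (m n : ℕ) :
    ∃ J, ∀ (K : Type v) [Field K] [IsAlgClosed K] [CharP K p], Bounded.{u} K p m n J := by
  have hp := (Fact.out : p.Prime)
  induction n with
  | zero =>
    refine ⟨1, fun K _ _ _ G _ _ V _ _ _ ρ hρ hn _ => ⟨⊤, ?_, by simp⟩⟩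
    have : Subsingleton V := Module.finrank_zero_iff.1 (Nat.le_zero.1 hn)
    have : Subsingleton G := ⟨fun a b => hρ (Subsingleton.elim _ _)⟩
    exact ⟨⟨fun a b => Subsingleton.elim _ _⟩⟩
  | succ n ih =>
    obtain ⟨J, hJ⟩ := ih
    set Jr := J * J * ((p ^ m) ^ (p ^ m)) * p ^ m with hJr
    set e := Jr.factorial.factorial with he
    set E := p ^ m * e ^ ((n + 1) * (n + 1) + 1) with hE
    obtain ⟨B, hB⟩ := JordanCount.exists_abelian_bound.{u} Jr.factorial (E ^ (n + 1) * p ^ m) E
      ((n + 1) ^ (n + 1))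
    refine ⟨max (max B Jr) 1, fun K _ _ _ G _ _ V _ _ _ ρ hρ hn hm => ?_⟩
    have hred : ∀ x : G, (¬ ∃ μ : K, ρ x = μ • (1 : Module.End K V)) →
        ∃ A : Subgroup G, IsMulCommutative A ∧ A ≤ Subgroup.centralizer {x} ∧
          A.relIndex (Subgroup.centralizer {x}) ≤ Jr := by
      intro x hx
      have : Nontrivial V := by
        by_contra h
        rw [not_nontrivial_iff_subsingleton] at h
        exact hx ⟨0, Subsingleton.elim _ _⟩
      obtain ⟨μ, hμ⟩ := Module.End.exists_eigenvalue (ρ x)
      set C := Subgroup.centralizer ({x} : Set G) with hC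
      obtain ⟨A, hA, hAi⟩ := bound_of_invariant (hJ K) C (ρ.comp C.subtype) (hρ.comp C.subtype_injective)
        hn (factorization_le_of_dvd (Subgroup.card_subgroup_dvd_card C) Nat.card_pos.ne' hm)
        (Module.End.eigenspace (ρ x) μ) hμ (fun h => hx ⟨μ, LinearMap.ext fun v => by
          have h2 : v ∈ Module.End.eigenspace (ρ x) μ := h ▸ Submodule.mem_top
          rw [Module.End.mem_eigenspace_iff] at h2
          simpa using h2⟩) (fun c w hw => by
          rw [Module.End.mem_eigenspace_iff] at hw ⊢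
          show ρ x (ρ (c : G) w) = μ • ρ (c : G) w
          rw [← Module.End.mul_apply, ← map_mul,
            ← Subgroup.mem_centralizer_singleton_iff.1 c.2, map_mul, Module.End.mul_apply, hw,
            map_smul])
      refine ⟨A.map C.subtype, ?_, Subgroup.map_subtype_le _, ?_⟩
      · constructor; constructor
        rintro ⟨_, a, ha, rfl⟩ ⟨_, b, hb, rfl⟩
        exact Subtype.ext (congrArg (fun t : A => ((t : C) : G)) (hA.is_comm.comm ⟨a, ha⟩ ⟨b, hb⟩))
      · rw [Subgroup.relIndex, Subgroup.subgroupOf,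
          Subgroup.comap_map_eq_self_of_injective C.subtype_injective]
        exact hAi
    by_cases hn0 : finrank K V = 0
    · have : Subsingleton V := Module.finrank_zero_iff.1 hn0
      have : Subsingleton G := ⟨fun a b => hρ (Subsingleton.elim _ _)⟩
      exact ⟨⊤, ⟨⟨fun a b => Subsingleton.elim _ _⟩⟩, by simp⟩
    by_cases hcen : ∃ x ∈ Subgroup.center G, ¬ ∃ μ : K, ρ x = μ • (1 : Module.End K V)
    · obtain ⟨x, hx, hxs⟩ := hcen
      obtain ⟨A, hA, -, hAi⟩ := hred x hxs
      rw [Subgroup.centralizer_eq_top_iff_subset.2 (Set.singleton_subset_iff.2 hx),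
        Subgroup.relIndex_top_right] at hAi
      exact ⟨A, hA, hAi.trans ((le_max_right _ _).trans (le_max_left _ _))⟩
    push Not at hcen
    have hns : ∀ x : G, x ∉ Subgroup.center G → ¬ ∃ μ : K, ρ x = μ • (1 : Module.End K V) := by
      rintro x hx ⟨μ, hμ⟩
      refine hx (Subgroup.mem_center_iff.2 fun g => hρ ?_)
      rw [map_mul, map_mul, hμ, mul_smul_comm, smul_mul_assoc, mul_one, one_mul]
    obtain ⟨A, hA, hAi⟩ := hB e (fun a => ¬ p ∣ orderOf a)
      (fun g a ha => by
        rwa [show g * a * g⁻¹ = MulAut.conj g a from rfl, MulEquiv.orderOf_eq])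
      (fun x hx => by
        obtain ⟨A, hA, hAle, hAi⟩ := hred x (hns x hx)
        set C := Subgroup.centralizer ({x} : Set G) with hC
        refine ⟨(A.subgroupOf C).normalCore.map C.subtype, ?_, Subgroup.map_subtype_le _, ?_, ?_⟩
        · constructor; constructor
          rintro ⟨_, a, ha, rfl⟩ ⟨_, b, hb, rfl⟩
          exact Subtype.ext (congrArg Subtype.val (hA.is_comm.comm
            ⟨(a : G), Subgroup.mem_subgroupOf.1 ((A.subgroupOf C).normalCore_le ha)⟩
            ⟨(b : G), Subgroup.mem_subgroupOf.1 ((A.subgroupOf C).normalCore_le hb)⟩) : _)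
        · rw [Subgroup.relIndex, Subgroup.subgroupOf,
            Subgroup.comap_map_eq_self_of_injective C.subtype_injective]
          exact (index_normalCore_le _).trans (Nat.factorial_le hAi)
        · intro u hu
          refine ⟨⟨u, hu⟩ ^ e, ?_, rfl⟩
          obtain ⟨t, ht⟩ := Nat.dvd_factorial
            (Nat.pos_of_ne_zero (Subgroup.index_ne_zero_of_finite (H := (A.subgroupOf C).normalCore)))
            ((index_normalCore_le _).trans (Nat.factorial_le hAi))
          rw [show e = _ from ht, pow_mul]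
          exact Subgroup.pow_mem _ (Subgroup.pow_index_mem _ _) _)
      (fun T hT hTE => @card_le_of_exponent K _ p _ _ V _ _ _ _ G _ _ m (n + 1) E hm ρ hρ hn
        (Nat.mul_pos (pow_pos hp.pos m) (pow_pos (Nat.factorial_pos _) _)) T hT hTE)
      (fun u => exists_stable_power hm ρ hρ hn u)
      (fun S _ hSp hSc => relIndex_centralizer_le hm ρ hρ hn (Nat.succ_pos n) S hSp hSc)
    exact ⟨A, hA, hAi.trans ((le_max_left _ _).trans (le_max_left _ _))⟩

end Main

end CfsgLib.BlockB.JordanLinear
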