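import Cfsg.Agent.Lib.BlockB.CycInt
import Cfsg.Agent.Lib.Char.Column
import Cfsg.Agent.Lib.Char.Linear
import Cfsg.Agent.Lib.Char.CliffordApps
import Mathlib.Analysis.SpecialFunctions.Complex.CircleAddChar

/-!
Knörr's criterion: if the centraliser `H` of `v` has a virtual character `ψ` with `ψ 1 = 1`,
`ψ c ≡ 0` and `|ψ c|² |C_V(c)| ≤ |V|` then `k(GV) ≤ |V|`.
-/

set_option autoImplicit false
set_option linter.unusedSectionVars false

open Cfsg
open scoped ComplexConjugate

namespace CfsgLib.BlockB.KnorrVector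

open CfsgLib.BlockB.CycInt

universe u

theorem degree_dvd_card {G : Type u} [Group G] [Finite G] {χ : G → ℂ}
    (hχ : IsIrrCharacter G χ) {d : ℕ} (hd : χ 1 = d) : d ∣ Nat.card G := by
  obtain ⟨n, ρ, hρ, rfl⟩ := hχ
  have h := CfsgLib.Char.ito_degree_dvd_index ρ ⊥ fun a ha b hb => by
    rw [Subgroup.mem_bot.1 ha, Subgroup.mem_bot.1 hb]
  rw [Representation.char_one, Module.finrank_fin_fun] at hd
  rwa [Module.finrank_fin_fun, Subgroup.index_bot, Nat.cast_inj.1 hd] at h

theorem sum_centralizer (G : Type u) [Group G] [Fintype G] :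
    ∑ c : G, Nat.card (Subgroup.centralizer ({c} : Set G)) =
      Nat.card (IrrCharacter G) * Nat.card G := by
  have := Fintype.ofFinite (IrrCharacter G)
  have h : (∑ c : G, (Nat.card (Subgroup.centralizer ({c} : Set G)) : ℂ)) =
      (Nat.card (IrrCharacter G) : ℂ) * (Nat.card G : ℂ) := by
    have e : ∀ c : G, (Nat.card (Subgroup.centralizer ({c} : Set G)) : ℂ) =
        ∑ χ : IrrCharacter G, (χ : G → ℂ) c * conj ((χ : G → ℂ) c) := fun c => by
      rw [CfsgLib.Char.column_orthogonality, if_pos (IsConj.refl _)]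
    simp only [e]
    rw [Finset.sum_comm]
    have e2 : ∀ χ : IrrCharacter G,
        ∑ c : G, (χ : G → ℂ) c * conj ((χ : G → ℂ) c) = (Nat.card G : ℂ) := fun χ => by
      have := CfsgLib.Char.irr_classInner_self χ.2
      rw [CfsgLib.Char.classInner_def, inv_mul_eq_one₀ CfsgLib.Char.natCard_ne_zero] at this
      exact this.symm
    simp [e2, Nat.card_eq_fintype_card]
  exact_mod_cast h

section Fourier

variable (p : ℕ) [NeZero p]

theorem sum_add_char (x : ZMod p) :
    ∑ j : ZMod p, ZMod.stdAddChar (j * x) = if x = 0 then (p : ℂ) else 0 := by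
  rw [AddChar.sum_mulShift x (ZMod.isPrimitive_stdAddChar p), ZMod.card]
  split_ifs <;> simp

theorem sum_sq_sub (a : ZMod p → ℂ) :
    ∑ x, ∑ y, (a x - a y) * conj (a x - a y) =
      2 * ∑ j ∈ Finset.univ.filter (fun j : ZMod p => j ≠ 0),
        (∑ x, a x * ZMod.stdAddChar (x * j)) * conj (∑ x, a x * ZMod.stdAddChar (x * j)) := by
  classical
  have hall : ∑ j : ZMod p, (∑ x, a x * ZMod.stdAddChar (x * j)) *
      conj (∑ x, a x * ZMod.stdAddChar (x * j)) = (p : ℂ) * ∑ x, a x * conj (a x) := by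
    simp only [map_sum, Finset.sum_mul_sum]
    rw [Finset.sum_comm, Finset.mul_sum]
    refine Finset.sum_congr rfl fun x _ => ?_
    rw [Finset.sum_comm, Finset.sum_eq_single x]
    · have h : ∀ j : ZMod p, a x * ZMod.stdAddChar (x * j) *
          conj (a x * ZMod.stdAddChar (x * j)) = a x * conj (a x) := fun j => by
        have h1 : ZMod.stdAddChar (x * j) * conj (ZMod.stdAddChar (x * j)) = (1 : ℂ) := by
          rw [← AddChar.map_neg_eq_conj, ← AddChar.map_add_eq_mul, add_neg_cancel,
            AddChar.map_zero_eq_one]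
        rw [map_mul (starRingEnd ℂ)]
        linear_combination (a x * conj (a x)) * h1
      rw [Finset.sum_congr rfl fun j _ => h j]
      simp
    · intro y _ hy
      have h : ∀ j : ZMod p, a x * ZMod.stdAddChar (x * j) *
          conj (a y * ZMod.stdAddChar (y * j)) =
          a x * conj (a y) * ZMod.stdAddChar (j * (x - y)) := fun j => by
        have h1 : ZMod.stdAddChar (x * j) * conj (ZMod.stdAddChar (y * j)) =
            ZMod.stdAddChar (j * (x - y)) := by
          rw [← AddChar.map_neg_eq_conj, ← AddChar.map_add_eq_mul]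
          congr 1
          ring
        rw [map_mul (starRingEnd ℂ)]
        linear_combination (a x * conj (a y)) * h1
      simp only [h, ← Finset.mul_sum, sum_add_char, sub_eq_zero, if_neg (Ne.symm hy), mul_zero]
    · intro h; exact absurd (Finset.mem_univ _) h
  rw [Finset.filter_ne', Finset.sum_erase_eq_sub (Finset.mem_univ _), hall]
  simp only [mul_zero, AddChar.map_zero_eq_one, mul_one, map_sub, sub_mul, mul_sub, map_sum,
    Finset.sum_sub_distrib, Finset.sum_const, Finset.card_univ, ZMod.card, nsmul_eq_mul,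
    ← Finset.mul_sum, ← Finset.sum_mul]
  ring

end Fourier

section Main

variable {X : Type u} [Group X] [Finite X] {p : ℕ} [Fact p.Prime] (V : Subgroup X) [V.Normal]

/-- The general criterion. -/
theorem card_conjClasses_le (hVexp : ∀ w ∈ V, w ^ p = 1) (hidx : ¬ p ∣ V.index)
    (hVcomm : ∀ a ∈ V, ∀ b ∈ V, a * b = b * a) {v : X} (hv : v ∈ V)
    {H : Type u} [Group H] [Fintype H] (ι : H →* X)
    (hH : ¬ p ∣ Nat.card H) (hdis : ∀ c, ι c ∈ V → c = 1) (hcomm : ∀ c, Commute (ι c) v)
    (hcen : ∀ a, Commute a v → ∃ w ∈ V, ∃ c, a = w * ι c)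
    {N : ℕ} [NeZero N] (hpN : p ∣ N) (hHN : Nat.card H ∣ N)
    (ψ : H → ℂ) (hψ : InSpan N ψ) (hψ1 : ψ 1 = 1) (hψdiv : ∀ c, c ≠ 1 → Div p (ψ c))
    (m : H → ℕ) (hm : ∀ c, ψ c * conj (ψ c) = (m c : ℂ))
    (hle : ∀ c, m c * Nat.card {w : V // Commute (w : X) (ι c)} ≤ Nat.card V) :
    Nat.card (ConjClasses X) ≤ Nat.card V := by
  classical
  have hp : p.Prime := Fact.out
  have : NeZero p := ⟨hp.ne_zero⟩
  have := Fintype.ofFinite X
  have := Fintype.ofFinite (IrrCharacter X)
  have := Fintype.ofFinite (IrrCharacter H)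
  have hvp : v ^ p = 1 := hVexp v hv
  let f : H × Multiplicative (ZMod p) →* X :=
    MonoidHom.mk' (fun a => ι a.1 * v ^ (Multiplicative.toAdd a.2).val) fun a b => by
      have e : v ^ (Multiplicative.toAdd a.2 + Multiplicative.toAdd b.2).val =
          v ^ (Multiplicative.toAdd a.2).val * v ^ (Multiplicative.toAdd b.2).val := by
        rw [ZMod.val_add, ← pow_eq_pow_mod _ hvp, pow_add]
      simp only [Prod.fst_mul, Prod.snd_mul, map_mul, toAdd_mul, e]
      exact (((hcomm b.1).pow_right _).symm.mul_mul_mul_comm _ _).symm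
  let val : IrrCharacter X → H → ZMod p → ℂ := fun χ c j => (χ : X → ℂ) (ι c * v ^ j.val)
  let θ : IrrCharacter X → ZMod p → H → ℂ := fun χ x c =>
    (p : ℂ)⁻¹ * ∑ j, val χ c j * conj (ZMod.stdAddChar (x * j))
  have hθg : ∀ χ x, IsGeneralizedCharacter H (θ χ x) := by
    intro χ x
    have hc : Cfsg.IsCharacter (H × Multiplicative (ZMod p)) (fun q => (χ : X → ℂ) (f q)) :=
      CfsgLib.Char.isCharacter_comp (CfsgLib.Char.irr_isCharacter χ.2) f
    refine CfsgLib.Char.isGeneralized_of_int (fun g y => ?_) fun μ hμ => ?_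
    · show (p : ℂ)⁻¹ * _ = (p : ℂ)⁻¹ * _
      refine congrArg _ (Finset.sum_congr rfl fun j _ => ?_)
      have := CfsgLib.Char.isCharacter_isClassFunction hc (g, Multiplicative.ofAdd j) (y, 1)
      simp only [Prod.mk_mul_mk, Prod.inv_mk, one_mul, inv_one, mul_one] at this
      exact congrArg (· * _) this
    · let lam : Multiplicative (ZMod p) →* ℂˣ := MonoidHom.toHomUnits
        { toFun := fun j => ZMod.stdAddChar (x * Multiplicative.toAdd j)
          map_one' := by simp [AddChar.map_zero_eq_one]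
          map_mul' := fun a b => by simp [mul_add, AddChar.map_add_eq_mul] }
      have hprod : Cfsg.IsCharacter (H × Multiplicative (ZMod p))
          (fun q => μ q.1 * (lam q.2 : ℂ)) :=
        CfsgLib.Char.isCharacter_mul
          (CfsgLib.Char.isCharacter_comp (CfsgLib.Char.irr_isCharacter hμ)
            (MonoidHom.fst H (Multiplicative (ZMod p))))
          (CfsgLib.Char.isCharacter_comp
            (CfsgLib.Char.irr_isCharacter (CfsgLib.Char.isIrrCharacter_linear lam))
            (MonoidHom.snd H (Multiplicative (ZMod p))))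
      obtain ⟨k, hk⟩ := CfsgLib.Char.classInner_isCharacter_nat hc hprod
      refine ⟨k, ?_⟩
      rw [Int.cast_natCast, ← hk, CfsgLib.Char.classInner_def, CfsgLib.Char.classInner_def,
        Fintype.sum_prod_type, Nat.card_prod, Nat.card_congr Multiplicative.toAdd, Nat.card_zmod,
        Finset.mul_sum, Finset.mul_sum]
      refine Finset.sum_congr rfl fun c _ => ?_
      show (Nat.card H : ℂ)⁻¹ * (((p : ℂ)⁻¹ * ∑ j, val χ c j * _) * conj (μ c)) = _
      rw [← Multiplicative.ofAdd.sum_comp, Nat.cast_mul, mul_inv, Finset.mul_sum, Finset.mul_sum,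
        Finset.sum_mul, Finset.mul_sum]
      refine Finset.sum_congr rfl fun j _ => ?_
      show _ = (Nat.card H : ℂ)⁻¹ * (p : ℂ)⁻¹ *
        (val χ c j * conj (μ c * ZMod.stdAddChar (x * j)))
      rw [map_mul (starRingEnd ℂ)]
      ring
  have hfourier : ∀ χ c j, ∑ x, θ χ x c * ZMod.stdAddChar (x * j) = val χ c j := by
    intro χ c j
    have e : ∀ x, θ χ x c * ZMod.stdAddChar (x * j) =
        (p : ℂ)⁻¹ * ∑ i, val χ c i * ZMod.stdAddChar (x * (j - i)) := fun x => by
      show (p : ℂ)⁻¹ * _ * _ = _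
      rw [mul_assoc, Finset.sum_mul]
      refine congrArg _ (Finset.sum_congr rfl fun i _ => ?_)
      rw [mul_assoc, ← AddChar.map_neg_eq_conj, ← AddChar.map_add_eq_mul]
      congr 2
      ring
    simp only [e, ← Finset.mul_sum]
    rw [Finset.sum_comm, Finset.sum_eq_single j]
    · simp [AddChar.map_zero_eq_one, ← Finset.mul_sum, mul_comm (val χ c j),
        inv_mul_cancel_left₀ (Nat.cast_ne_zero.2 hp.ne_zero : (p : ℂ) ≠ 0)]
    · intro i _ hi
      rw [← Finset.mul_sum, sum_add_char, if_neg (sub_ne_zero.2 (Ne.symm hi)), mul_zero]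
    · intro h; exact absurd (Finset.mem_univ _) h
  -- the coefficients
  let a : IrrCharacter X → IrrCharacter H → ZMod p → ℂ := fun χ μ x =>
    classInner (fun c => ψ c * θ χ x c) (μ : H → ℂ)
  have ha : ∀ χ μ x, a χ μ x ∈ cycInt N := fun χ μ x =>
    (hψ.mul (inSpan_of_generalized (hθg χ x))).coeff _ μ.2
  -- congruence
  have hpairs : ∀ χ μ, 2 * (p - 1) ≤
      ((Finset.univ : Finset (ZMod p × ZMod p)).filter
        fun q => a χ μ q.1 - a χ μ q.2 ≠ 0).card := by
    intro χ μ
    have hd : ∀ x, ∃ d : ℤ, θ χ x 1 = (d : ℂ) := fun x => by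
      obtain ⟨α, β, hα, hβ, e⟩ := hθg χ x
      obtain ⟨i, hi⟩ := CfsgLib.Char.char_apply_one_eq_nat hα
      obtain ⟨k, hk⟩ := CfsgLib.Char.char_apply_one_eq_nat hβ
      exact ⟨(i : ℤ) - k, by rw [e, Pi.sub_apply, hi, hk]; push_cast; ring⟩
    choose d hd using hd
    obtain ⟨dμ, hdμ⟩ := CfsgLib.Char.char_apply_one_eq_nat (CfsgLib.Char.irr_isCharacter μ.2)
    obtain ⟨dχ, hdχ⟩ := CfsgLib.Char.char_apply_one_eq_nat (CfsgLib.Char.irr_isCharacter χ.2)
    have hμp : ¬ p ∣ dμ := fun h => hH (h.trans (degree_dvd_card μ.2 hdμ))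
    have hχp : ¬ p ∣ dχ := fun h => by
      obtain ⟨n, ρ, hρ, hρχ⟩ := χ.2
      have hd' := CfsgLib.Char.ito_degree_dvd_index ρ V hVcomm
      rw [← hρχ, Representation.char_one] at hdχ
      exact hidx (h.trans (Nat.cast_inj.1 hdχ ▸ hd'))
    have hsum : ∑ x, d x = (dχ : ℤ) := by
      have h := hfourier χ 1 0
      simp only [mul_zero, AddChar.map_zero_eq_one, mul_one, hd, val, map_one, one_mul,
        ZMod.val_zero, pow_zero, hdχ] at h
      exact_mod_cast h
    have hcongr : ∀ x y, a χ μ x - a χ μ y = 0 → (p : ℤ) ∣ d x - d y := by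
      intro x y h
      simp only [a, CfsgLib.Char.classInner_def, ← mul_sub, ← Finset.sum_sub_distrib] at h
      have h' := (mul_eq_zero.1 h).resolve_left (inv_ne_zero CfsgLib.Char.natCard_ne_zero)
      rw [← Finset.add_sum_erase _ _ (Finset.mem_univ (1 : H)), hψ1, hd, hd, hdμ,
        Complex.conj_natCast, one_mul, one_mul] at h'
      have hD : Div p (((d x - d y) * (dμ : ℤ) : ℤ) : ℂ) := by
        rw [show (((d x - d y) * (dμ : ℤ) : ℤ) : ℂ) = -∑ c ∈ Finset.univ.erase (1 : H),
          (ψ c * θ χ x c * conj ((μ : H → ℂ) c) - ψ c * θ χ y c * conj ((μ : H → ℂ) c)) by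
            push_cast; linear_combination h']
        rw [← Finset.sum_neg_distrib]
        refine Div.sum _ fun c hc => ?_
        have hint : IsIntegral ℤ ((θ χ y c - θ χ x c) * conj ((μ : H → ℂ) c)) := by
          refine IsIntegral.mul ?_ (isIntegral_of_mem
            (conj_mem (char_mem hHN (CfsgLib.Char.irr_isCharacter μ.2) c)))
          exact (isIntegral_of_mem ((inSpan_of_generalized (N := N) (hθg χ y)).apply_mem hHN c)).sub
            (isIntegral_of_mem ((inSpan_of_generalized (N := N) (hθg χ x)).apply_mem hHN c))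
        have := (hψdiv c (Finset.ne_of_mem_erase hc)).mul_right hint
        convert this using 1
        ring
      rcases Int.Prime.dvd_mul' hp (dvd_of_div hD) with h1 | h1
      · exact h1
      · exact absurd (Int.natCast_dvd_natCast.1 h1) hμp
    set S := Finset.univ.filter fun x => (p : ℤ) ∣ d x - d 0 with hS
    have h1 : 1 ≤ S.card := Finset.card_pos.2 ⟨0, by simp [hS]⟩
    have h2 : 1 ≤ Sᶜ.card := by
      refine Finset.card_pos.2 ?_
      by_contra hne
      rw [Finset.not_nonempty_iff_eq_empty, Finset.compl_eq_empty_iff] at hne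
      refine hχp (Int.natCast_dvd_natCast.1 ?_)
      rw [← hsum]
      have : ∑ x, d x = ∑ x, (d x - d 0) + (p : ℤ) * d 0 := by
        simp [Finset.sum_sub_distrib, ZMod.card]
      rw [this]
      refine dvd_add (Finset.dvd_sum fun x _ => ?_) (dvd_mul_right _ _)
      have := hne.ge (Finset.mem_univ x)
      exact (Finset.mem_filter.1 this).2
    have hdj : Disjoint (S ×ˢ Sᶜ) (Sᶜ ×ˢ S) := Finset.disjoint_left.2 fun q hq hq' =>
      Finset.mem_compl.1 (Finset.mem_product.1 hq').1 (Finset.mem_product.1 hq).1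
    have h3 := Finset.card_add_card_compl S
    rw [ZMod.card] at h3
    have h4 : p ≤ S.card * Sᶜ.card + 1 := by nlinarith
    refine le_trans ?_ (Finset.card_le_card (s := S ×ˢ Sᶜ ∪ Sᶜ ×ˢ S) fun q hq => ?_)
    · rw [Finset.card_union_of_disjoint hdj, Finset.card_product, Finset.card_product,
        mul_comm Sᶜ.card]
      omega
    · refine Finset.mem_filter.2 ⟨Finset.mem_univ _, fun h0 => ?_⟩
      have hq' := hcongr _ _ h0
      rcases Finset.mem_union.1 hq with hq | hq <;> obtain ⟨h5, h6⟩ := Finset.mem_product.1 hq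
      · refine Finset.mem_compl.1 h6 (Finset.mem_filter.2 ⟨Finset.mem_univ _, ?_⟩)
        have := dvd_sub (Finset.mem_filter.1 h5).2 hq'
        rwa [sub_sub_sub_cancel_left] at this
      · refine Finset.mem_compl.1 h5 (Finset.mem_filter.2 ⟨Finset.mem_univ _, ?_⟩)
        have := dvd_add hq' (Finset.mem_filter.1 h6).2
        rwa [sub_add_sub_cancel] at this
  -- centralisers
  let F : H → ℕ := fun c => Nat.card {w : V // Commute (w : X) (ι c)}
  let Z : H → ℕ := fun c => Nat.card (Subgroup.centralizer ({c} : Set H))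
  have hcz : ∀ c : H, ∀ j : ZMod p, j ≠ 0 →
      Nat.card (Subgroup.centralizer ({ι c * v ^ j.val} : Set X)) = F c * Z c := by
    intro c j hj
    rw [← Nat.card_prod]
    have hgen : ∀ b, Commute b (ι c * v ^ j.val) → Commute b v ∧ Commute b (ι c) := by
      intro b hb
      have hjc : Nat.Coprime (j.val * Nat.card H) p :=
        (((ZMod.val_coe_unit_coprime (Units.mk0 j hj))).mul_left
          ((hp.coprime_iff_not_dvd).2 hH).symm)
      have e : (ι c * v ^ j.val) ^ Nat.card H = v ^ (j.val * Nat.card H) := by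
        rw [((hcomm c).pow_right _).mul_pow, ← map_pow, pow_card_eq_one', map_one, one_mul,
          pow_mul]
      have hv' : Commute b v := by
        obtain ⟨k, hk⟩ := exists_pow_eq_self_of_coprime
          (hjc.coprime_dvd_right (orderOf_dvd_of_pow_eq_one hvp))
        rw [← hk, ← e]
        exact (hb.pow_right _).pow_right _
      refine ⟨hv', ?_⟩
      have := hb.mul_right (hv'.pow_right j.val).inv_right
      rwa [mul_inv_cancel_right] at this
    have huniq : ∀ (w w' : X), w ∈ V → w' ∈ V → ∀ d d' : H, w * ι d = w' * ι d' →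
        w = w' ∧ d = d' := by
      intro w w' hw hw' d d' h
      have e : ι (d * d'⁻¹) = w⁻¹ * w' := by
        rw [map_mul, map_inv, eq_inv_mul_iff_mul_eq, ← mul_assoc, h, mul_inv_cancel_right]
      have h2 : d = d' := eq_of_mul_inv_eq_one (hdis _ (e ▸ V.mul_mem (V.inv_mem hw) hw'))
      rw [h2] at h
      exact ⟨mul_right_cancel h, h2⟩
    refine (Nat.card_congr (Equiv.ofBijective
      (fun x : {w : V // Commute (w : X) (ι c)} × Subgroup.centralizer ({c} : Set H) =>
        (⟨(x.1.1 : X) * ι x.2, ?_⟩ :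
          Subgroup.centralizer ({ι c * v ^ j.val} : Set X))) ⟨?_, ?_⟩)).symm
    · rw [Subgroup.mem_centralizer_singleton_iff]
      have h3 : Commute (ι x.2) (ι c) :=
        (show Commute (x.2 : H) c from Subgroup.mem_centralizer_singleton_iff.1 x.2.2).map ι
      have h2 : Commute ((x.1.1 : V) : X) v := hVcomm _ x.1.1.2 _ hv
      exact ((x.1.2.mul_right (h2.pow_right _)).mul_left
        (h3.mul_right ((hcomm x.2).pow_right _))).eq
    · intro b b' hbb
      obtain ⟨h1, h2⟩ := huniq _ _ b.1.1.2 b'.1.1.2 _ _ (congrArg Subtype.val hbb)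
      exact Prod.ext (Subtype.ext (Subtype.ext h1)) (Subtype.ext h2)
    · rintro ⟨b, hb⟩
      rw [Subgroup.mem_centralizer_singleton_iff] at hb
      obtain ⟨hbv, hbc⟩ := hgen b hb
      obtain ⟨w, hw, d, rfl⟩ := hcen b hbv
      have e : (ι c * w * (ι c)⁻¹) * ι (c * d * c⁻¹) = w * ι d := by
        rw [map_mul, map_mul, map_inv,
          show ι c * w * (ι c)⁻¹ * (ι c * ι d * (ι c)⁻¹) = ι c * (w * ι d) * (ι c)⁻¹ by group,
          ← hbc.eq, mul_inv_cancel_right]
      obtain ⟨h1, h2⟩ :=
        huniq _ _ ((inferInstance : V.Normal).conj_mem w hw _) hw _ _ e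
      exact ⟨(⟨⟨w, hw⟩, (mul_inv_eq_iff_eq_mul.1 h1).symm⟩,
        ⟨d, Subgroup.mem_centralizer_singleton_iff.2 (mul_inv_eq_iff_eq_mul.1 h2).symm⟩), rfl⟩
  -- the total
  set R : ℕ := 2 * (p - 1) * ∑ c, m c * (F c * Z c) with hR
  have hpar : ∀ χ, ∀ j, ∑ μ : IrrCharacter H,
      (∑ x, a χ μ x * ZMod.stdAddChar (x * j)) * conj (∑ x, a χ μ x * ZMod.stdAddChar (x * j)) =
        (Nat.card H : ℂ)⁻¹ * ∑ c, (m c : ℂ) * (val χ c j * conj (val χ c j)) := by
    intro χ j
    let g : H → ℂ := fun c => ψ c * val χ c j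
    have hg : IsClassFunction H g := fun y z => by
      show ψ _ * val χ _ j = ψ _ * val χ _ j
      rw [hψ.classFun y z, ← hfourier, ← hfourier]
      refine congrArg _ (Finset.sum_congr rfl fun x _ => ?_)
      rw [CfsgLib.Char.isGeneralized_isClassFunction (hθg χ x) y z]
    have hA : ∀ μ : IrrCharacter H,
        ∑ x, a χ μ x * ZMod.stdAddChar (x * j) = classInner g (μ : H → ℂ) := by
      intro μ
      have e : g = ∑ x, (ZMod.stdAddChar (x * j) : ℂ) • fun c => ψ c * θ χ x c := by
        funext c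
        show ψ c * val χ c j = _
        rw [← hfourier, Finset.mul_sum, Finset.sum_apply]
        exact Finset.sum_congr rfl fun x _ => by rw [Pi.smul_apply, smul_eq_mul]; ring
      rw [e, CfsgLib.Char.classInner_sum_left]
      exact Finset.sum_congr rfl fun x _ => by
        rw [CfsgLib.Char.classInner_smul_left, mul_comm]
    simp only [hA]
    rw [← CfsgLib.Char.classInner_eq_sum_mul hg g, CfsgLib.Char.classInner_def]
    refine congrArg _ (Finset.sum_congr rfl fun c _ => ?_)
    show ψ c * val χ c j * conj (ψ c * val χ c j) = _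
    rw [map_mul, ← hm]
    ring
  have htotal : (Nat.card H : ℂ) * ∑ q : (IrrCharacter X × IrrCharacter H) × (ZMod p × ZMod p),
      (a q.1.1 q.1.2 q.2.1 - a q.1.1 q.1.2 q.2.2) *
        conj (a q.1.1 q.1.2 q.2.1 - a q.1.1 q.1.2 q.2.2) = (R : ℂ) := by
    have hH0 : (Nat.card H : ℂ) ≠ 0 := Nat.cast_ne_zero.2 Nat.card_pos.ne'
    simp only [Fintype.sum_prod_type, sum_sq_sub, ← Finset.mul_sum]
    rw [Finset.sum_congr rfl fun χ (_ : χ ∈ (Finset.univ : Finset (IrrCharacter X))) =>
      Finset.sum_comm]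
    simp only [hpar, ← Finset.mul_sum]
    rw [Finset.sum_comm, Finset.sum_congr rfl fun j _ => Finset.sum_comm]
    have hcol : ∀ j ∈ Finset.univ.filter (fun j : ZMod p => j ≠ 0), ∀ c : H,
        ∑ χ : IrrCharacter X, (m c : ℂ) * (val χ c j * conj (val χ c j)) =
          ((m c * (F c * Z c) : ℕ) : ℂ) := fun j hj c => by
      rw [← Finset.mul_sum, CfsgLib.Char.column_orthogonality, if_pos (IsConj.refl _),
        hcz c j (Finset.mem_filter.1 hj).2]
      push_cast
      ring
    rw [Finset.sum_congr rfl fun j hj => Finset.sum_congr rfl fun c _ => hcol j hj c,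
      Finset.sum_const, Finset.filter_ne', Finset.card_erase_of_mem (Finset.mem_univ _),
      Finset.card_univ, ZMod.card, nsmul_eq_mul, hR]
    push_cast
    field_simp
  set tot := ∑ q : (IrrCharacter X × IrrCharacter H) × (ZMod p × ZMod p),
      (a q.1.1 q.1.2 q.2.1 - a q.1.1 q.1.2 q.2.2) *
        conj (a q.1.1 q.1.2 q.2.1 - a q.1.1 q.1.2 q.2.2) with htot
  have hint : IsIntegral ℤ tot := isIntegral_of_mem (N := N) (sum_mem fun q _ =>
    mul_mem (sub_mem (ha _ _ _) (ha _ _ _)) (conj_mem (sub_mem (ha _ _ _) (ha _ _ _))))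
  have hrat : tot = (((R : ℚ) / (Nat.card H : ℚ) : ℚ) : ℂ) := by
    push_cast
    rw [← htotal, mul_div_cancel_left₀ _ (Nat.cast_ne_zero.2 Nat.card_pos.ne')]
  obtain ⟨M, hM⟩ := CfsgLib.Char.exists_int_of_isIntegral_rat (hrat ▸ hint)
  have htotM : tot = (M : ℂ) := by rw [hrat, hM]; norm_cast
  have hlow := card_ne_zero_le (N := N)
    (Finset.univ : Finset ((IrrCharacter X × IrrCharacter H) × (ZMod p × ZMod p)))
    (fun q => a q.1.1 q.1.2 q.2.1 - a q.1.1 q.1.2 q.2.2)
    (fun q _ => sub_mem (ha _ _ _) (ha _ _ _)) M htotM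
  have hcount : Nat.card (IrrCharacter X) * Nat.card (IrrCharacter H) * (2 * (p - 1)) ≤
      ((Finset.univ : Finset ((IrrCharacter X × IrrCharacter H) × (ZMod p × ZMod p))).filter
        fun q => a q.1.1 q.1.2 q.2.1 - a q.1.1 q.1.2 q.2.2 ≠ 0).card := by
    rw [Finset.card_filter, Fintype.sum_prod_type, ← Nat.card_prod, Nat.card_eq_fintype_card,
      ← Finset.card_univ, ← smul_eq_mul, ← Finset.sum_const]
    refine Finset.sum_le_sum fun q _ => (hpairs q.1 q.2).trans (le_of_eq ?_)
    rw [Finset.card_filter]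
  have hub : R ≤ 2 * (p - 1) * (Nat.card V * (Nat.card (IrrCharacter H) * Nat.card H)) := by
    rw [hR, ← sum_centralizer, Finset.mul_sum Finset.univ (fun c => Nat.card
      (Subgroup.centralizer ({c} : Set H))) (Nat.card V)]
    refine Nat.mul_le_mul_left _ (Finset.sum_le_sum fun c _ => ?_)
    rw [← mul_assoc]
    exact Nat.mul_le_mul_right _ (hle c)
  have hfin : (Nat.card (IrrCharacter X) * Nat.card (IrrCharacter H) * (2 * (p - 1))) *
      Nat.card H ≤ 2 * (p - 1) * (Nat.card V * (Nat.card (IrrCharacter H) * Nat.card H)) := by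
    refine le_trans ?_ hub
    have h1 : ((Nat.card (IrrCharacter X) * Nat.card (IrrCharacter H) * (2 * (p - 1)) : ℕ) : ℤ) ≤
        M := le_trans (by exact_mod_cast hcount) hlow
    have h2 : (M : ℚ) * (Nat.card H : ℚ) = (R : ℚ) := by
      rw [← hM, div_mul_cancel₀ _ (Nat.cast_ne_zero.2 Nat.card_pos.ne')]
    have h3 : M * (Nat.card H : ℤ) = (R : ℤ) := by exact_mod_cast h2
    have h4 := mul_le_mul_of_nonneg_right h1 (Int.natCast_nonneg (Nat.card H))
    rw [h3] at h4
    exact_mod_cast h4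
  rw [← CfsgLib.Char.irr_card_eq]
  have hk : 0 < Nat.card (IrrCharacter H) := by
    have : Nonempty (IrrCharacter H) := ⟨⟨_, CfsgLib.Char.isIrrCharacter_one⟩⟩
    exact Nat.card_pos
  have hp1 : 0 < p - 1 := by have := hp.two_le; omega
  refine Nat.le_of_mul_le_mul_right ?_
    (Nat.mul_pos (Nat.mul_pos two_pos hp1) (Nat.mul_pos hk Nat.card_pos) :
      0 < 2 * (p - 1) * (Nat.card (IrrCharacter H) * Nat.card H))
  calc _ = Nat.card (IrrCharacter X) * Nat.card (IrrCharacter H) * (2 * (p - 1)) * Nat.card H := by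
        ring
    _ ≤ _ := hfin
    _ = _ := by ring

end Main

end CfsgLib.BlockB.KnorrVector
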