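import Cfsg.Agent.Lib.Char.Column
import Mathlib.Tactic
import Mathlib.GroupTheory.ClassEquation

/-!
# Landau's bound of the order by the number of classes
-/

namespace CfsgLib.BlockB

/-- Bounded denominators for a given sum of unit fractions. -/
theorem exists_bound_unit_fractions : ∀ (k : ℕ) (r : ℚ), ∃ N : ℕ,
    ∀ f : Fin k → ℕ, (∀ i, 0 < f i) → ∑ i, (1 : ℚ) / f i = r → ∀ i, f i ≤ N := by
  intro k
  induction k with
  | zero => exact fun r => ⟨0, fun f _ _ i => i.elim0⟩
  | succ k ih =>
    intro r
    choose N hN using ih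
    let m := ⌈((k + 1 : ℕ) : ℚ) / r⌉₊
    refine ⟨m + ∑ t ∈ Finset.range (m + 1), N (r - 1 / t), fun f hf hsum i => ?_⟩
    obtain ⟨j, -, hj⟩ := Finset.exists_min_image Finset.univ f Finset.univ_nonempty
    have hr : r ≤ ((k + 1 : ℕ) : ℚ) / f j := by
      rw [← hsum]
      refine (Finset.sum_le_card_nsmul Finset.univ _ ((1 : ℚ) / f j) fun i hi => ?_).trans_eq ?_
      · exact one_div_le_one_div_of_le (by exact_mod_cast hf j) (by exact_mod_cast hj i hi)
      · rw [Finset.card_univ, Fintype.card_fin, nsmul_eq_mul, mul_one_div]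
    have hfj : f j ≤ m := by
      have hr0 : 0 < r := by
        rw [← hsum]
        exact Finset.sum_pos (fun i _ => div_pos one_pos (by exact_mod_cast hf i))
          Finset.univ_nonempty
      have h2 : (f j : ℚ) ≤ ((k + 1 : ℕ) : ℚ) / r := by
        rw [le_div_iff₀ hr0, mul_comm]
        exact (le_div_iff₀ (by exact_mod_cast hf j)).1 hr
      exact_mod_cast h2.trans (Nat.le_ceil _)
    obtain ⟨i', rfl⟩ | rfl : (∃ i', j.succAbove i' = i) ∨ i = j := by
      by_cases h : i = j
      · exact Or.inr h
      · exact Or.inl (Fin.exists_succAbove_eq h)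
    · have h2 := hN (r - 1 / f j) (fun a => f (j.succAbove a)) (fun a => hf _) (by
        rw [eq_sub_iff_add_eq, add_comm, ← hsum, Fin.sum_univ_succAbove _ j]) i'
      refine h2.trans (le_trans ?_ (Nat.le_add_left _ _))
      exact Finset.single_le_sum (f := fun t : ℕ => N (r - 1 / (t : ℚ))) (fun t _ => Nat.zero_le _)
        (Finset.mem_range.2 (Nat.lt_succ_of_le hfj))
    · exact hfj.trans (Nat.le_add_right _ _)

/-- Landau's theorem. -/
theorem exists_bound_of_classCount (k : ℕ) : ∃ N : ℕ, ∀ (G : Type*) [Group G] [Finite G],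
    Nat.card (ConjClasses G) ≤ k → Nat.card G ≤ N := by
  choose N hN using fun j => exists_bound_unit_fractions j 1
  refine ⟨∑ j ∈ Finset.range (k + 1), N j, fun G _ _ hG => ?_⟩
  classical
  have := Fintype.ofFinite G
  have : Finite (ConjClasses G) := Finite.of_surjective _ ConjClasses.mk_surjective
  have := Fintype.ofFinite (ConjClasses G)
  set j := Nat.card (ConjClasses G) with hj
  let e : Fin j ≃ ConjClasses G := (Finite.equivFin (ConjClasses G)).symm
  let f : Fin j → ℕ := fun i => Nat.card (Subgroup.centralizer ({(e i).out} : Set G))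
  have hout : ∀ C : ConjClasses G, ConjClasses.mk C.out = C := fun C => Quotient.out_eq C
  have hmul : ∀ i, Nat.card (e i).carrier * f i = Nat.card G := fun i => by
    have h := CfsgLib.Char.natCard_carrier_mul_centralizer (e i).out
    rwa [hout] at h
  have hcar : ∑ i, Nat.card (e i).carrier = Nat.card G := by
    rw [e.sum_comp fun C => Nat.card C.carrier]
    simp only [Nat.card_eq_fintype_card]
    exact (Finset.sum_congr rfl fun C _ => (Set.toFinset_card C.carrier).symm).trans
      (sum_conjClasses_card_eq_card G)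
  have hsum : ∑ i, (1 : ℚ) / f i = 1 := by
    have hG0 : (Nat.card G : ℚ) ≠ 0 := by exact_mod_cast Nat.card_pos.ne'
    have hstep : ∀ i, (1 : ℚ) / f i = (Nat.card (e i).carrier : ℚ) / (Nat.card G : ℚ) := fun i => by
      rw [div_eq_div_iff (by exact_mod_cast Nat.card_pos.ne') hG0, one_mul]
      exact_mod_cast (hmul i).symm
    rw [Finset.sum_congr rfl fun i _ => hstep i, ← Finset.sum_div, ← Nat.cast_sum, hcar,
      div_self hG0]
  have h1 := hN j f (fun i => Nat.card_pos) hsum (e.symm (ConjClasses.mk 1))
  have h2 : f (e.symm (ConjClasses.mk 1)) = Nat.card G := by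
    have h3 : (e (e.symm (ConjClasses.mk 1))).out = (1 : G) := by
      rw [Equiv.apply_symm_apply]
      exact isConj_one_right.1 (ConjClasses.mk_eq_mk_iff_isConj.1 (hout (ConjClasses.mk 1))).symm
    simp only [f, h3]
    rw [Subgroup.centralizer_eq_top_iff_subset.2 (by simp), Subgroup.card_top]
  rw [h2] at h1
  exact h1.trans (Finset.single_le_sum (fun t _ => Nat.zero_le (N t))
    (Finset.mem_range.2 (Nat.lt_succ_of_le hG)))

end CfsgLib.BlockB
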