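import Cfsg.Agent.Lib.BlockA.PairNorm
import Cfsg.Agent.Lib.BlockA.CentralDefect
import Cfsg.Agent.Lib.BlockA.CentricNorm
import Cfsg.Agent.Lib.BlockB.DefectZero
import Cfsg.Agent.Lib.BlockB.PEltValue

/-!
The criterion for maximal Brauer pairs: blocks with central defect group, and classes fixed by a
`p`-element of the stabilizer.
-/

set_option autoImplicit false
set_option linter.unusedSectionVars false
set_option maxHeartbeats 1000000

namespace CfsgLib.BlockB

open Cfsg CfsgLib.Block CfsgLib.BlockA MonoidAlgebra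
open scoped ComplexConjugate

universe u

variable {H : Type u} [Group H] [Finite H] {p : ℕ} {M : Ideal AlgInt} [M.IsPrime]

/-- A block with central defect group has a member trivial on the defect group. -/
theorem exists_trivial_of_central_defect (hM : IsPModular p M) {B : Set (IrrCharacter H)}
    (hB : IsPBlock M B) {P : Subgroup H} (hD : IsDefectGroup p M B P)
    (hPZ : P ≤ Subgroup.center H) :
    ∃ φ ∈ B, (∀ z ∈ P, (φ : H → ℂ) z = (φ : H → ℂ) 1) ∧
      (charDegree (φ : H → ℂ)).factorization p + (Nat.card P).factorization p =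
        (Nat.card H).factorization p := by
  classical
  have := Fact.mk hM.1
  have := Fintype.ofFinite H
  have := Fintype.ofFinite P
  have := Fintype.ofFinite B
  have hPp := isPGroup_defectGroup hM hB hD
  have hzero : ∀ z : P, z ≠ 1 →
      ∑ φ : B, ((φ : IrrCharacter H) : H → ℂ) 1 * conj (((φ : IrrCharacter H) : H → ℂ) z) = 0 := by
    intro z hz
    have hz' : p ∣ orderOf (z : H) := by
      rw [Subgroup.orderOf_coe]
      obtain ⟨k, hk⟩ := IsPGroup.iff_orderOf.1 hPp z
      rcases Nat.eq_zero_or_pos k with rfl | hk0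
      · exact absurd (orderOf_eq_one_iff.1 (by simpa using hk)) hz
      · rw [hk]; exact dvd_pow_self p hk0.ne'
    have h := sum_block_eq_zero_of_regular_singular hM hB (g := (1 : H))
      (by rw [orderOf_one]; exact hM.1.not_dvd_one) hz'
    rw [← finsum_set_coe_eq_finsum_mem B, finsum_eq_sum_of_fintype] at h
    exact h
  have htot : ∑ φ : B, ((φ : IrrCharacter H) : H → ℂ) 1 *
      conj (∑ z : P, ((φ : IrrCharacter H) : H → ℂ) z) ≠ 0 := by
    simp only [map_sum, Finset.mul_sum]
    rw [Finset.sum_comm, Finset.sum_eq_single (1 : P) (fun z _ hz => hzero z hz) (by simp)]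
    obtain ⟨φ₀, hφ₀⟩ := isPBlock_nonempty hB
    have hone : ∀ φ : B, ((φ : IrrCharacter H) : H → ℂ) 1 *
        conj (((φ : IrrCharacter H) : H → ℂ) ((1 : P) : H)) =
          ((charDegree ((φ : IrrCharacter H) : H → ℂ) ^ 2 : ℕ) : ℂ) := fun φ => by
      rw [OneMemClass.coe_one, Nat.cast_pow,
        charDegree_cast (CfsgLib.Char.irr_isCharacter φ.1.2)]
      rw [← charDegree_cast (CfsgLib.Char.irr_isCharacter φ.1.2), Complex.conj_natCast, sq]
    rw [Finset.sum_congr rfl fun φ _ => hone φ, ← Nat.cast_sum, Nat.cast_ne_zero]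
    intro h0
    have h1 := Finset.sum_eq_zero_iff.1 h0 ⟨φ₀, hφ₀⟩ (Finset.mem_univ _)
    exact charDegree_ne_zero φ₀.2 (by simpa using h1)
  obtain ⟨⟨φ, hφ⟩, -, hne⟩ := Finset.exists_ne_zero_of_sum_ne_zero htot
  refine ⟨φ, hφ, fun u hu => ?_, ?_⟩
  · set S := ∑ z : P, (φ : H → ℂ) z with hS
    have hS0 : S ≠ 0 := fun h0 => right_ne_zero_of_mul hne (by
      show conj S = 0
      rw [h0, map_zero])
    have h2 : S = (φ : H → ℂ) u / (φ : H → ℂ) 1 * S := by
      rw [hS, Finset.mul_sum]
      refine (Fintype.sum_equiv (Equiv.mulLeft (⟨u, hu⟩ : P)) _ _ fun z => ?_).symm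
      exact (irr_central_mul φ
        (fun w => (Subgroup.mem_center_iff.1 (hPZ hu) w).symm) (z : H)).symm
    have h3 : (φ : H → ℂ) u / (φ : H → ℂ) 1 = 1 := by
      refine mul_right_cancel₀ hS0 ?_
      rw [one_mul, ← h2]
    exact (div_eq_one_iff_eq (CfsgLib.Char.irr_apply_one_ne_zero φ.2)).1 h3
  · have h0 := blockHeight_eq_zero_of_central hM hB hD hPZ hφ
    rw [blockHeight_eq_zero_iff hM hB hφ] at h0
    rw [h0, natCard_defectGroup hM hB hD, hM.1.factorization_pow, Finsupp.single_eq_same,
      sInf_degree_add_blockDefect hM hB]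

/-- A member trivial on a central `p`-subgroup, of defect zero modulo it, gives the defect
group. -/
theorem isDefectGroup_of_trivial (hM : IsPModular p M) {B : Set (IrrCharacter H)}
    (hB : IsPBlock M B) {Z : Subgroup H} (hZp : IsPGroup p Z) (hZc : Z ≤ Subgroup.center H)
    {θ : IrrCharacter H} (hθ : θ ∈ B) (htriv : ∀ z ∈ Z, (θ : H → ℂ) z = (θ : H → ℂ) 1)
    (hdeg : (charDegree (θ : H → ℂ)).factorization p + (Nat.card Z).factorization p =
      (Nat.card H).factorization p) :
    IsDefectGroup p M B Z := by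
  classical
  have := Fact.mk hM.1
  have hp := hM.1
  have := Fintype.ofFinite H
  have := Fintype.ofFinite Z
  have : Z.Normal := ⟨fun z hz g => by
    rw [Subgroup.mem_center_iff.1 (hZc hz) g, mul_inv_cancel_right]; exact hz⟩
  obtain ⟨ψ, hψ⟩ := (quotIrrEquiv Z).surjective ⟨θ, htriv⟩
  have hval : ∀ g : H, (θ : H → ℂ) g = (ψ : H ⧸ Z → ℂ) (g : H ⧸ Z) := fun g => by
    rw [← quotIrrEquiv_apply, hψ]
  have hdegψ : charDegree (ψ : H ⧸ Z → ℂ) = charDegree (θ : H → ℂ) := by
    apply Nat.cast_injective (R := ℂ)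
    rw [charDegree_cast (CfsgLib.Char.irr_isCharacter ψ.2),
      charDegree_cast (CfsgLib.Char.irr_isCharacter θ.2), hval 1]
    rfl
  have hvan : ∀ g : H, p ∣ orderOf (g : H ⧸ Z) → (θ : H → ℂ) g = 0 := by
    intro g hg
    rw [hval]
    refine irr_apply_eq_zero_of_defect_zero ψ ?_ hg
    rw [hdegψ]
    refine (hp.pow_dvd_iff_le_factorization (charDegree_ne_zero θ.2)).2 ?_
    have h := Subgroup.card_eq_card_quotient_mul_card_subgroup Z
    rw [h, Nat.factorization_mul Nat.card_pos.ne' Nat.card_pos.ne', Finsupp.add_apply] at hdeg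
    omega
  have hpart : ∀ (z : Z) (y : H), ¬ p ∣ orderOf y → IsPPart p ((z : H) * y) (z : H) := by
    intro z y hy
    obtain ⟨k, hk⟩ := IsPGroup.iff_orderOf.1 hZp z
    exact ⟨y, rfl, (Subgroup.mem_center_iff.1 (hZc z.2) y).symm,
      ⟨k, by rw [← hk, Subgroup.orderOf_coe]⟩, hy⟩
  have hsum : (Nat.card Z : ℂ) * ∑ y with ¬ p ∣ orderOf y,
      (θ : H → ℂ) y * conj ((θ : H → ℂ) y) = (Nat.card H : ℂ) := by
    have h1 := CfsgLib.Char.irr_classInner θ.2 θ.2
    rw [if_pos rfl, CfsgLib.Char.classInner_def,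
      inv_mul_eq_one₀ CfsgLib.Char.natCard_ne_zero] at h1
    rw [h1, ← Finset.sum_subset (Finset.subset_univ
      (((Finset.univ : Finset Z) ×ˢ Finset.univ.filter fun y : H => ¬ p ∣ orderOf y).image
        fun t => (t.1 : H) * t.2)) ?_]
    · rw [Finset.sum_image]
      · rw [Finset.sum_product, Nat.card_eq_fintype_card, ← nsmul_eq_mul, ← Finset.card_univ,
          ← Finset.sum_const]
        refine Finset.sum_congr rfl fun z _ => Finset.sum_congr rfl fun y _ => ?_
        rw [irr_central_mul θ (fun w => (Subgroup.mem_center_iff.1 (hZc z.2) w).symm), htriv z z.2,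
          div_self (CfsgLib.Char.irr_apply_one_ne_zero θ.2), one_mul]
      · intro t ht t' ht' e
        simp only [Finset.coe_product, Set.mem_prod, Finset.mem_coe, Finset.mem_filter] at ht ht'
        change (t.1 : H) * t.2 = (t'.1 : H) * t'.2 at e
        have h1 := hpart t.1 t.2 ht.2.2
        have h2 := hpart t'.1 t'.2 ht'.2.2
        rw [e] at h1
        have e1 : t.1 = t'.1 := Subtype.ext (isPPart_unique hp h1 h2)
        rw [e1] at e
        exact Prod.ext e1 (mul_left_cancel e)
    · intro g _ hg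
      rw [hvan g, zero_mul]
      by_contra hreg
      obtain ⟨u, hu⟩ := exists_isPPart hp g
      obtain ⟨y, hxy, hcomm, ⟨k, hk⟩, hy⟩ := hu
      refine hg (Finset.mem_image.2 ⟨(⟨u, ?_⟩, y), by simp [hy], hxy⟩)
      rw [← QuotientGroup.eq_one_iff, ← orderOf_eq_one_iff]
      have hu1 : orderOf (u : H ⧸ Z) ∣ p ^ k := hk ▸ orderOf_map_dvd (QuotientGroup.mk' Z) u
      have hy1 : orderOf (y : H ⧸ Z) ∣ orderOf y := orderOf_map_dvd (QuotientGroup.mk' Z) y
      obtain ⟨j, -, hj⟩ := (Nat.dvd_prime_pow hp).1 hu1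
      have hcop : (orderOf (u : H ⧸ Z)).Coprime (orderOf (y : H ⧸ Z)) := by
        refine Nat.Coprime.coprime_dvd_left hu1 (Nat.Coprime.pow_left _ ?_)
        exact hp.coprime_iff_not_dvd.2 fun h => hy (h.trans hy1)
      have hgo : orderOf (g : H ⧸ Z) = orderOf (u : H ⧸ Z) * orderOf (y : H ⧸ Z) := by
        rw [← hxy, QuotientGroup.mk_mul]
        exact (hcomm.map (QuotientGroup.mk' Z)).orderOf_mul_eq_mul_orderOf_of_coprime hcop
      rcases Nat.eq_zero_or_pos j with rfl | hj0
      · simpa using hj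
      · exact absurd ((dvd_pow_self p hj0.ne').trans
          ((dvd_of_eq hj.symm).trans (Dvd.intro _ hgo.symm))) hreg
  have hheight : blockHeight p B (θ : H → ℂ) = 0 := by
    refine (lam_regZ_ne_zero_iff hM hB hθ hθ).1 ?_
    rw [lam_regZ]
    intro h0
    obtain ⟨c, hc⟩ : ∃ c, c = Nat.card Z * charDegree (θ : H → ℂ) := ⟨_, rfl⟩
    have hc0 : c ≠ 0 := by
      rw [hc]; exact mul_ne_zero Nat.card_pos.ne' (charDegree_ne_zero θ.2)
    have hcf : c.factorization p = (Nat.card H).factorization p := by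
      rw [hc, Nat.factorization_mul Nat.card_pos.ne' (charDegree_ne_zero θ.2), Finsupp.add_apply]
      omega
    have hom : omegaC (θ : H → ℂ) (regSum p (θ : H → ℂ)) = (Nat.card H : ℂ) / (c : ℂ) := by
      rw [omegaC_eq, hc, Nat.cast_mul, charDegree_cast (CfsgLib.Char.irr_isCharacter θ.2),
        ← div_div]
      congr 1
      rw [eq_div_iff (by exact_mod_cast (Nat.card_pos (α := Z)).ne'), mul_comm, ← hsum,
        Finset.sum_filter]
      congr 1
      refine Finset.sum_congr rfl fun x _ => ?_
      rw [coeff_regSum, irr_conj_eq θ.2]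
      split <;> simp [mul_comm]
    have hI : MemLocalIdeal M (omegaC (θ : H → ℂ) (regSum p (θ : H → ℂ))) :=
      (redC_eq_zero_iff (by rw [hom]; exact memLocalRing_natCast_div hM hc0 (Or.inr hcf.le))).1 h0
    have hone : MemLocalIdeal M (1 : ℂ) := by
      have h := memLocalIdeal_mul_right
        (memLocalRing_natCast_div hM (Nat.card_pos (α := H)).ne' (a := c) (Or.inr hcf.ge)) hI
      rwa [hom, div_mul_div_cancel₀ (by exact_mod_cast hc0),
        div_self (by exact_mod_cast (Nat.card_pos (α := H)).ne')] at h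
    exact one_ne_zero ((redC_one (M := M)).symm.trans
      ((redC_eq_zero_iff (lring M).one_mem).2 hone))
  obtain ⟨D, hD⟩ := exists_isDefectGroup hM hB
  have hZD : Z ≤ D := normal_le_defectGroup hM hZp hB hD
  have hcard : Nat.card D = Nat.card Z := by
    obtain ⟨n, hn⟩ := IsPGroup.iff_card.1 hZp
    rw [natCard_defectGroup hM hB hD, hn]
    congr 1
    have h1 := (blockHeight_eq_zero_iff hM hB hθ).1 hheight
    have h2 := sInf_degree_add_blockDefect hM hB
    rw [hn, hp.factorization_pow, Finsupp.single_eq_same] at hdeg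
    omega
  rwa [Subgroup.eq_of_le_of_card_ge hZD hcard.le]

variable {G : Type u} [Group G] [Finite G]

local notation "cen" Q => Subgroup.centralizer ((Q : Subgroup G) : Set G)

/-- A `p`-element stabilizing a block of a centralizer fixes a class with a nonzero coefficient. -/
theorem exists_stable_class (hM : IsPModular p M) {Q : Subgroup G}
    {e : Set (IrrCharacter (cen Q))} (he : IsPBlock M e) {x : G} (hx : x ∈ pairStab M Q e)
    (hxp : IsPGroup p (Subgroup.zpowers x)) :
    ∃ c y : (cen Q), (y : G) * x * (c : G) = (c : G) * ((y : G) * x) ∧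
      (sIdem M (cen Q) e).coeff (c : G) ≠ 0 := by
  classical
  have := Fact.mk hM.1
  have := charP_kres hM
  obtain ⟨ξ, hξ⟩ := isPBlock_nonempty he
  have hle : Subgroup.zpowers x ≤ pairStab M Q e := Subgroup.zpowers_le.2 hx
  have hN : ∀ u : Subgroup.zpowers x,
      (u : G) ∈ Subgroup.normalizer ((cen Q : Subgroup G) : Set G) := fun u =>
    CfsgLib.BlockA.normalizer_le_normalizer_centralizer hM Q (pairStab_le Q e (hle u.2))
  let σ : Subgroup.zpowers x → ((cen Q) →* (cen Q)) := fun u =>
    (conjAut (⟨u, hN u⟩ : Subgroup.normalizer ((cen Q : Subgroup G) : Set G))).toMonoidHom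
  have hσ : ∀ u h, ((σ u h : (cen Q)) : G) = (u : G) * (h : G) * (u : G)⁻¹ := fun u h =>
    coe_conjAut _ h
  let _ : MulAction (Subgroup.zpowers x) (ConjClasses (cen Q)) :=
    { smul := fun u K => ConjClasses.map (σ u) K
      one_smul := fun K => by
        induction K using Quotient.inductionOn with
        | h h =>
          show ConjClasses.mk (σ 1 h) = ConjClasses.mk h
          exact congrArg _ (Subtype.ext (by rw [hσ]; simp))
      mul_smul := fun u v K => by
        induction K using Quotient.inductionOn with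
        | h h =>
          show ConjClasses.mk (σ (u * v) h) = ConjClasses.mk (σ u (σ v h))
          exact congrArg _ (Subtype.ext (by simp [hσ, mul_assoc])) }
  have : Finite (ConjClasses (cen Q)) :=
    Finite.of_surjective ConjClasses.mk ConjClasses.mk_surjective
  have := Fintype.ofFinite (ConjClasses (cen Q))
  let F : (cen Q) → kres M := fun h =>
    (blkIdem M e : MonoidAlgebra (kres M) (cen Q)).coeff h * lam M ξ (classSumZ (kres M) h)
  have hFcl : ∀ a b, IsConj a b → F a = F b := by
    intro a b hab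
    obtain ⟨t, ht⟩ := isConj_iff.1 hab
    show _ * _ = _ * _
    rw [show (blkIdem M e : MonoidAlgebra (kres M) (cen Q)).coeff b =
      (blkIdem M e : MonoidAlgebra (kres M) (cen Q)).coeff a by
        rw [← ht]; exact isClassCoeff_center (blkIdem M e) a t,
      show classSumZ (kres M) b = classSumZ (kres M) a from
        Subtype.ext (classSum_eq_of_isConj hab).symm]
  have hFinv : ∀ u h, F (σ u h) = F h := by
    intro u h
    show _ * _ = _ * _
    congr 1
    · rw [← coeff_inclSub_of_mem (cen Q) _ (σ u h), ← coeff_inclSub_of_mem (cen Q) _ h, hσ]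
      exact isPInv_sIdem_pairStab Q e (u : G) (hle u.2) (h : G)
    · obtain ⟨_, hu'⟩ := (stabilizesBlock_iff he _).1
        (stabilizesBlock_of_mem hM he ((pairStab M Q e).inv_mem (hle u.2)))
      have hmem : irrMap (conjAut (⟨u, hN u⟩ : Subgroup.normalizer ((cen Q : Subgroup G) : Set G)))
          ξ ∈ e := by
        rw [← hu']
        refine ⟨ξ, hξ, ?_⟩
        exact congrArg (fun t => irrMap (conjAut t) ξ) (Subtype.ext (inv_inv _))
      rw [lam_classSumZ, show centralChar (ξ : (cen Q) → ℂ) (σ u h) = centralChar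
        (irrMap (conjAut (⟨u, hN u⟩ : Subgroup.normalizer ((cen Q : Subgroup G) : Set G))) ξ :
          (cen Q) → ℂ) h from (centralChar_irrMap _ ξ h).symm,
        ← lam_classSumZ, lam_eq_of_sameBlock (sameBlock_of_mem he hmem hξ)]
  let f : ConjClasses (cen Q) → kres M := fun K => F K.out
  have hf : ∀ h, f (ConjClasses.mk h) = F h := fun h =>
    hFcl _ _ (ConjClasses.mk_eq_mk_iff_isConj.1 (Quotient.out_eq _))
  have h1 : ∑ K, f K = 1 := by
    have h := algHom_eq_sum_classes (lam M ξ) (blkIdem M e)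
    rw [(algHom_blkIdem_eq_one_iff hM he ξ).2 hξ] at h
    exact h.symm
  rw [sum_eq_sum_fixed hxp (p := p) (fun v => by simp [nsmul_eq_mul]) f (fun u K => by
    obtain ⟨h, rfl⟩ := ConjClasses.mk_surjective K
    show f (ConjClasses.mk (σ u h)) = _
    rw [hf, hf, hFinv])] at h1
  obtain ⟨K, hK, hK0⟩ := Finset.exists_ne_zero_of_sum_ne_zero (h1.trans_ne one_ne_zero)
  have hfix : ConjClasses.mk (σ ⟨x, Subgroup.mem_zpowers x⟩ K.out) = ConjClasses.mk K.out := by
    have h2 : ∀ u : Subgroup.zpowers x, u • K = K := (Finset.mem_filter.1 hK).2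
    have h3 := h2 ⟨x, Subgroup.mem_zpowers x⟩
    have h4 : ConjClasses.mk K.out = K := Quotient.out_eq K
    rw [← h4] at h3
    exact h3
  obtain ⟨y, hy⟩ := isConj_iff.1 (ConjClasses.mk_eq_mk_iff_isConj.1 hfix)
  refine ⟨K.out, y, ?_, ?_⟩
  · have h := congrArg Subtype.val hy
    simp only [Subgroup.coe_mul, Subgroup.coe_inv, hσ] at h
    calc (y : G) * x * (K.out : G)
        = (y : G) * (x * (K.out : G) * x⁻¹) * (y : G)⁻¹ * ((y : G) * x) := by group
      _ = _ := by rw [h]
  · rw [sIdem, coeff_inclSub_of_mem]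
    exact left_ne_zero_of_mul hK0

end CfsgLib.BlockB
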