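import Cfsg.Agent.Lib.BlockA.BlockDim
import Cfsg.Agent.Lib.BlockA.BrauerPair
import Cfsg.Agent.Lib.BlockA.BlockFusion
import Cfsg.Agent.Lib.BlockA.CoveredUnder
import Cfsg.Agent.Lib.Block.DefectClass
import Mathlib.GroupTheory.FiniteAbelian.Basic

/-!
A block whose algebra has the least possible dimension is nilpotent: for each Sylow subgroup `P`
the algebra is a transitive permutation module of `P × P`, so conjugation on the subgroup of a
Brauer pair is conjugation by elements of `P`.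
-/

set_option autoImplicit false
set_option linter.unusedSectionVars false
set_option maxHeartbeats 1000000

namespace CfsgLib.BlockB.MinDim

open Cfsg CfsgLib.Block CfsgLib.BlockA MonoidAlgebra

universe u v w

/-- A nonzero invariant space of functions over a field of characteristic `p` contains a nonzero
function fixed by the `p`-group. -/
theorem exists_fixed_of_invariant {p : ℕ} [Fact p.Prime] {k : Type v} [Field k] [CharP k p]
    {Γ : Type w} [Group Γ] [Finite Γ] (hΓ : IsPGroup p Γ) {Ω : Type u} [MulAction Γ Ω]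
    (K : Submodule k (Ω → k)) (hK : ∀ (γ : Γ), ∀ φ ∈ K, (fun ω => φ (γ • ω)) ∈ K)
    {φ : Ω → k} (hφ : φ ∈ K) (hφ0 : φ ≠ 0) :
    ∃ ψ ∈ K, ψ ≠ 0 ∧ ∀ (γ : Γ) (ω : Ω), ψ (γ • ω) = ψ ω := by
  classical
  let gen : Set (Ω → k) := Set.range fun (γ : Γ) ω => φ (γ • ω)
  let S : AddSubgroup (Ω → k) := AddSubgroup.closure gen
  have hSK : ∀ x ∈ S, x ∈ K := fun x hx =>
    (AddSubgroup.closure_le (K := K.toAddSubgroup)).2
      (by rintro _ ⟨γ, rfl⟩; exact hK γ φ hφ) hx
  have htor : ∀ x : S, p • x = 0 := fun x => Subtype.ext (funext fun ω => by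
    simp only [AddSubmonoidClass.coe_nsmul, Pi.smul_apply, nsmul_eq_mul, CharP.cast_eq_zero,
      zero_mul, ZeroMemClass.coe_zero, Pi.zero_apply])
  have : AddGroup.FG S :=
    AddGroup.fg_iff_addSubgroup_fg S |>.2 ((AddSubgroup.fg_iff S).2 ⟨gen, rfl, Set.finite_range _⟩)
  have : Finite S := AddCommGroup.finite_of_fg_torsion S fun x =>
    isOfFinAddOrder_iff_nsmul_eq_zero.2 ⟨p, (Fact.out : p.Prime).pos, htor x⟩
  have hinv : ∀ (γ : Γ), ∀ x ∈ S, (fun ω => x (γ • ω)) ∈ S := by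
    intro γ x hx
    induction hx using AddSubgroup.closure_induction with
    | mem y hy =>
      obtain ⟨δ, rfl⟩ := hy
      exact AddSubgroup.subset_closure ⟨δ * γ, funext fun ω => by simp [mul_smul]⟩
    | zero => exact S.zero_mem
    | add y z _ _ h1 h2 => exact S.add_mem h1 h2
    | neg y _ h => exact S.neg_mem h
  let _ : MulAction Γ S :=
    { smul := fun γ x => ⟨fun ω => (x : Ω → k) (γ⁻¹ • ω), hinv γ⁻¹ x x.2⟩
      one_smul := fun x => Subtype.ext (funext fun ω => by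
        show (x : Ω → k) ((1 : Γ)⁻¹ • ω) = _
        rw [inv_one, one_smul])
      mul_smul := fun γ δ x => Subtype.ext (funext fun ω => by
        show (x : Ω → k) ((γ * δ)⁻¹ • ω) = (x : Ω → k) (δ⁻¹ • γ⁻¹ • ω)
        rw [mul_inv_rev, mul_smul]) }
  have hφS : φ ∈ S := AddSubgroup.subset_closure ⟨1, funext fun ω => by simp⟩
  have h0S : (⟨φ, hφS⟩ : S) ≠ 0 := fun h => hφ0 (congrArg Subtype.val h)
  have hdvd : p ∣ Nat.card S := by
    rw [← addOrderOf_eq_prime (htor ⟨φ, hφS⟩) h0S]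
    exact addOrderOf_dvd_natCard _
  obtain ⟨ψ, hψ, hψ0⟩ := hΓ.exists_fixed_point_of_prime_dvd_card_of_fixed_point S hdvd
    (a := 0) (fun γ => Subtype.ext rfl)
  refine ⟨(ψ : Ω → k), hSK _ ψ.2, fun h => hψ0 (Subtype.ext h.symm), fun γ ω => ?_⟩
  have h1 : (ψ : Ω → k) (γ⁻¹⁻¹ • ω) = (ψ : Ω → k) ω :=
    congrFun (congrArg Subtype.val (hψ γ⁻¹)) ω
  rwa [inv_inv] at h1

theorem isPGroup_prod {p : ℕ} [Fact p.Prime] {H : Type u} [Group H] [Finite H]
    (h : IsPGroup p H) : IsPGroup p (H × H) := by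
  obtain ⟨n, hn⟩ := IsPGroup.iff_card.1 h
  exact IsPGroup.of_card (n := n + n) (by rw [Nat.card_prod, hn, pow_add])

variable {G : Type u} [Group G] [Fintype G] {p : ℕ} {M : Ideal AlgInt} [M.IsPrime]
  (hM : IsPModular p M) {B : Set (IrrCharacter G)} (hB : IsPBlock M B)

local notation "cen" Q => Subgroup.centralizer ((Q : Subgroup G) : Set G)

/-- The coefficients of the block idempotent. -/
noncomputable abbrev bc (M : Ideal AlgInt) [M.IsPrime] (B : Set (IrrCharacter G)) (g : G) :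
    kres M := (blkIdem M B : MonoidAlgebra (kres M) G).coeff g

theorem bc_swap (a b : G) : bc M B (a * b) = bc M B (b * a) := by
  rw [bc, bc, ← isClassCoeff_center (blkIdem M B) (b * a) a]
  congr 1
  group

include hM hB

theorem bc_conv (g : G) : ∑ y, bc M B (g * y⁻¹) * bc M B y = bc M B g := by
  have h := congrArg (fun a : MonoidAlgebra (kres M) G => a.coeff g)
    (congrArg Subtype.val (blkIdem_idem hM hB))
  simp only [MulMemClass.coe_mul, coeff_mul_eq] at h
  show _ = (blkIdem M B : MonoidAlgebra (kres M) G).coeff g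
  rw [← h]
  exact Fintype.sum_equiv ((Equiv.inv G).trans (Equiv.mulLeft g)) _ _ fun y => by simp [bc]

/-- The idempotent does not kill the permutation module on the cosets of a `p`-subgroup. -/
theorem exists_coset_sum_ne_zero {P : Subgroup G} [Fintype P] (hP : IsPGroup p P) :
    ∃ g : G, ∑ z : P, bc M B (g * z) ≠ 0 := by
  classical
  have := Fact.mk hM.1
  have := charP_kres hM
  by_contra h
  push Not at h
  let K : Submodule (kres M) (G → kres M) :=
    { carrier := {ψ | ∀ g, ∑ y, bc M B (g * y⁻¹) * ψ y = ψ g}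
      add_mem' := fun {a b} ha hb g => by
        simp only [Pi.add_apply, mul_add, Finset.sum_add_distrib]
        rw [ha g, hb g]
      zero_mem' := fun g => by simp
      smul_mem' := fun c a ha g => by
        simp only [Pi.smul_apply, smul_eq_mul, mul_left_comm _ c, ← Finset.mul_sum]
        rw [ha g] }
  have hmem : bc M B ∈ K := fun g => bc_conv hM hB g
  have hK : ∀ z : P, ∀ ψ ∈ K, (fun g => ψ (z • g)) ∈ K := by
    intro z ψ hψ g
    show ∑ y, bc M B (g * y⁻¹) * ψ ((z : G) * y) = ψ ((z : G) * g)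
    rw [← hψ ((z : G) * g)]
    refine Fintype.sum_equiv (Equiv.mulLeft (z : G)) _ _ fun y => ?_
    simp only [Equiv.coe_mulLeft]
    rw [mul_inv_rev, mul_assoc (z : G), bc_swap (z : G)]
    congr 2
    group
  have hne : bc M B ≠ 0 := by
    intro h0
    obtain ⟨χ, hχ⟩ := isPBlock_nonempty hB
    have h1 := (algHom_blkIdem_eq_one_iff hM hB χ).2 hχ
    have h2 : blkIdem M B = (0 : Subalgebra.center (kres M) (MonoidAlgebra (kres M) G)) := by
      apply Subtype.ext
      ext g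
      simpa [bc] using congrFun h0 g
    rw [h2, map_zero] at h1
    exact zero_ne_one h1
  obtain ⟨ψ, hψK, hψ0, hψ⟩ := exists_fixed_of_invariant hP K hK hmem hne
  refine hψ0 (funext fun g => ?_)
  rw [← hψK g, Pi.zero_apply]
  have := Fintype.ofFinite (G ⧸ P)
  rw [← Finset.sum_fiberwise Finset.univ (fun y : G => ((y⁻¹ : G) : G ⧸ P))]
  refine Finset.sum_eq_zero fun q _ => ?_
  obtain ⟨y₀, rfl⟩ : ∃ y₀ : G, ((y₀⁻¹ : G) : G ⧸ P) = q := ⟨q.out⁻¹, by
    rw [inv_inv, QuotientGroup.out_eq']⟩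
  rw [Finset.sum_bij' (t := (Finset.univ : Finset P)) (g := fun z : P =>
      bc M B (g * y₀⁻¹ * z) * ψ y₀)
    (fun y hy => ⟨y₀ * y⁻¹, by
      have h1 := QuotientGroup.eq.1 (Finset.mem_filter.1 hy).2.symm
      simpa using h1⟩)
    (fun z _ => (z : G)⁻¹ * y₀)]
  · rw [← Finset.sum_mul, h, zero_mul]
  · exact fun y _ => Finset.mem_univ _
  · intro z _
    simp only [Finset.mem_filter, Finset.mem_univ, true_and]
    exact QuotientGroup.eq.2 (by simp)
  · intro y _; simp
  · intro z _; exact Subtype.ext (by simp)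
  · intro y hy
    have h1 : y₀ * y⁻¹ ∈ P := by
      have h1 := QuotientGroup.eq.1 (Finset.mem_filter.1 hy).2.symm
      simpa using h1
    rw [show ψ y₀ = ψ y from by
      have := hψ ⟨_, h1⟩ y
      rwa [Subgroup.smul_def, smul_eq_mul, inv_mul_cancel_right] at this]
    congr 2
    show g * y⁻¹ = g * y₀⁻¹ * (y₀ * y⁻¹)
    group

omit hM hB in
/-- The orbit of `x` under conjugation by `P`. -/
noncomputable def orb (P : Subgroup G) (x : G) : Finset G := by
  classical exact Finset.univ.filter fun y => ∃ u ∈ P, u * x * u⁻¹ = y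

omit hM hB in
theorem mem_orb {P : Subgroup G} {x y : G} : y ∈ orb P x ↔ ∃ u ∈ P, u * x * u⁻¹ = y := by
  classical simp [orb]

/-- Some orbit carries a piece of the idempotent that survives on the cosets. -/
theorem exists_good {P : Subgroup G} [Fintype P] (hP : IsPGroup p P) :
    ∃ x g : G, bc M B x ≠ 0 ∧ ∑ y ∈ orb P x, ∑ z : P, bc M B (g * z * y⁻¹) ≠ 0 := by
  classical
  obtain ⟨g, hg⟩ := exists_coset_sum_ne_zero hM hB hP
  have h1 : ∑ z : P, bc M B (g * z) =
      ∑ y, bc M B y * ∑ z : P, bc M B (g * z * y⁻¹) := by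
    rw [Finset.sum_congr rfl fun (z : P) _ => (bc_conv hM hB (g * z)).symm, Finset.sum_comm]
    exact Finset.sum_congr rfl fun y _ => by
      rw [Finset.mul_sum]; exact Finset.sum_congr rfl fun z _ => mul_comm _ _
  rw [h1, ← Finset.sum_fiberwise_of_maps_to
    (fun y hy => Finset.mem_image_of_mem (orb P) hy)] at hg
  obtain ⟨O, hO, hO0⟩ := Finset.exists_ne_zero_of_sum_ne_zero hg
  obtain ⟨x, -, rfl⟩ := Finset.mem_image.1 hO
  have hfib : (Finset.univ.filter fun y => orb P y = orb P x) = orb P x := by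
    ext y
    simp only [Finset.mem_filter, Finset.mem_univ, true_and]
    refine ⟨fun h => h ▸ mem_orb.2 ⟨1, P.one_mem, by group⟩, fun h => ?_⟩
    obtain ⟨u, hu, rfl⟩ := mem_orb.1 h
    ext z
    simp only [mem_orb]
    exact ⟨fun ⟨w, hw, e⟩ => ⟨w * u, P.mul_mem hw hu, by rw [← e]; group⟩,
      fun ⟨w, hw, e⟩ => ⟨w * u⁻¹, P.mul_mem hw (P.inv_mem hu), by rw [← e]; group⟩⟩
  rw [hfib, Finset.sum_congr rfl (g := fun y => bc M B x * ∑ z : P, bc M B (g * z * y⁻¹))
    (fun y hy => by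
      obtain ⟨u, -, rfl⟩ := mem_orb.1 hy
      rw [bc, isClassCoeff_center (blkIdem M B) x u]), ← Finset.mul_sum] at hO0
  exact ⟨x, g, left_ne_zero_of_mul hO0, right_ne_zero_of_mul hO0⟩

omit hM hB in
/-- The stabiliser of `x` in `P × P`. -/
def stab (P : Subgroup G) (x : G) : Subgroup (P × P) where
  carrier := {t | t.1 = t.2 ∧ (t.1 : G) * x = x * (t.1 : G)}
  one_mem' := ⟨rfl, by simp⟩
  mul_mem' := fun {a b} ha hb => ⟨by simp [ha.1, hb.1], by
    simp only [Prod.fst_mul, Subgroup.coe_mul]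
    exact Commute.mul_left (ha.2 : Commute (a.1 : G) x) (hb.2 : Commute (b.1 : G) x)⟩
  inv_mem' := fun {a} ha => ⟨by simp [ha.1], by
    simp only [Prod.fst_inv, Subgroup.coe_inv]
    exact Commute.inv_left (ha.2 : Commute (a.1 : G) x)⟩

omit hM hB in
theorem mem_stab {P : Subgroup G} {x : G} {t : P × P} :
    t ∈ stab P x ↔ t.1 = t.2 ∧ (t.1 : G) * x = x * (t.1 : G) := Iff.rfl

omit hM hB in
/-- The element attached to a coset. -/
noncomputable def pt (P : Subgroup G) (x : G) (ω : (P × P) ⧸ stab P x) : G :=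
  ((ω.out : P × P).1 : G) * x * ((ω.out : P × P).2 : G)⁻¹

omit hM hB in
theorem pt_mk (P : Subgroup G) (x : G) (t : P × P) :
    pt P x (QuotientGroup.mk t) = (t.1 : G) * x * (t.2 : G)⁻¹ := by
  obtain ⟨r, hr⟩ := QuotientGroup.mk_out_eq_mul (stab P x) t
  obtain ⟨h1, h2⟩ := r.2
  rw [pt, hr, Prod.fst_mul, Prod.snd_mul, ← h1]
  simp only [Subgroup.coe_mul, mul_inv_rev]
  calc (t.1 : G) * ((r : P × P).1 : G) * x * (((r : P × P).1 : G)⁻¹ * (t.2 : G)⁻¹)
      = (t.1 : G) * ((((r : P × P).1 : G) * x) * ((r : P × P).1 : G)⁻¹) * (t.2 : G)⁻¹ := by group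
    _ = _ := by rw [h2]; group

omit hM hB in
theorem pt_smul (P : Subgroup G) (x : G) (δ : P × P) (ω : (P × P) ⧸ stab P x) :
    pt P x (δ • ω) = (δ.1 : G) * pt P x ω * (δ.2 : G)⁻¹ := by
  conv_lhs => rw [← QuotientGroup.out_eq' ω]
  rw [MulAction.Quotient.smul_mk, pt_mk, pt]
  simp only [smul_eq_mul, Prod.fst_mul, Prod.snd_mul, Subgroup.coe_mul, mul_inv_rev]
  group

omit hM hB in
/-- The map from the permutation module to the block. -/
noncomputable def permMap (B : Set (IrrCharacter G)) (P : Subgroup G) (x : G)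
    [Fintype ((P × P) ⧸ stab P x)] :
    ((P × P) ⧸ stab P x → kres M) →ₗ[kres M] MonoidAlgebra (kres M) G :=
  LinearMap.mulLeft (kres M) (blkIdem M B : MonoidAlgebra (kres M) G) ∘ₗ
    Fintype.linearCombination (kres M) (fun ω => single (pt P x ω) (1 : kres M))

omit hM hB in
theorem coeff_permMap {P : Subgroup G} {x : G} [Fintype ((P × P) ⧸ stab P x)]
    (φ : (P × P) ⧸ stab P x → kres M) (g : G) :
    (permMap B P x φ).coeff g = ∑ ω, φ ω * bc M B (g * (pt P x ω)⁻¹) := by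
  simp only [permMap, LinearMap.comp_apply, LinearMap.mulLeft_apply,
    Fintype.linearCombination_apply, Finset.mul_sum, coeff_sum, Finset.sum_apply', mul_smul_comm,
    coeff_smul, Finsupp.smul_apply, smul_eq_mul, coeff_mul_single', mul_one]

omit hM hB in
/-- Translating the function translates the value. -/
theorem coeff_permMap_smul {P : Subgroup G} {x : G} [Fintype ((P × P) ⧸ stab P x)]
    (φ : (P × P) ⧸ stab P x → kres M) (δ : P × P) (g : G) :
    (permMap B P x fun ω => φ (δ • ω)).coeff g =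
      (permMap B P x φ).coeff ((δ.1 : G) * g * (δ.2 : G)⁻¹) := by
  rw [coeff_permMap, coeff_permMap]
  refine Fintype.sum_equiv (MulAction.toPerm δ) _ _ fun ω => ?_
  rw [MulAction.toPerm_apply, pt_smul]
  congr 1
  rw [show (δ.1 : G) * g * (δ.2 : G)⁻¹ * ((δ.1 : G) * pt P x ω * (δ.2 : G)⁻¹)⁻¹ =
    (δ.1 : G) * (g * (pt P x ω)⁻¹ * (δ.1 : G)⁻¹) by group, bc_swap (M := M) (δ.1 : G)]
  group

/-- The permutation module embeds. -/
theorem permMap_injective {P : Subgroup G} [Fintype P] (hP : IsPGroup p P) {x g : G}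
    [Fintype ((P × P) ⧸ stab P x)] (hg : ∑ y ∈ orb P x, ∑ z : P, bc M B (g * z * y⁻¹) ≠ 0) :
    Function.Injective (permMap (M := M) B P x) := by
  classical
  have := Fact.mk hM.1
  have := charP_kres hM
  rw [← LinearMap.ker_eq_bot]
  by_contra hne
  obtain ⟨φ, hφ, hφ0⟩ := Submodule.exists_mem_ne_zero_of_ne_bot hne
  have hΓ : IsPGroup p (P × P) := isPGroup_prod hP
  obtain ⟨ψ, hψ, hψ0, hψfix⟩ := exists_fixed_of_invariant hΓ
    (LinearMap.ker (permMap (M := M) B P x)) (fun δ φ hφ => by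
      rw [LinearMap.mem_ker] at hφ ⊢
      ext h
      rw [coeff_permMap_smul, hφ]
      simp) hφ hφ0
  have hconst : ∀ ω, ψ ω = ψ (QuotientGroup.mk 1) := fun ω => by
    obtain ⟨δ, rfl⟩ := QuotientGroup.mk_surjective ω
    have h := hψfix δ (QuotientGroup.mk 1)
    rwa [MulAction.Quotient.smul_mk, smul_eq_mul, mul_one] at h
  have hc : ψ (QuotientGroup.mk 1) ≠ 0 := fun h =>
    hψ0 (funext fun ω => by rw [hconst, h]; rfl)
  have h1 : (permMap B P x ψ).coeff g = 0 := by rw [LinearMap.mem_ker.1 hψ]; simp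
  rw [coeff_permMap, Finset.sum_congr rfl fun ω _ => by rw [hconst ω], ← Finset.mul_sum] at h1
  refine hg ?_
  rw [← Finset.sum_product']
  refine Eq.trans ?_ ((mul_eq_zero.1 h1).resolve_left hc)
  symm
  refine Finset.sum_bij (fun ω _ => ((((ω.out : P × P).1 : G) * x * ((ω.out : P × P).1 : G)⁻¹),
      (ω.out : P × P).2 * (ω.out : P × P).1⁻¹)) ?_ ?_ ?_ ?_
  · intro ω _
    exact Finset.mem_product.2 ⟨mem_orb.2 ⟨_, (ω.out : P × P).1.2, rfl⟩, Finset.mem_univ _⟩
  · intro ω _ ω' _ h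
    rw [← QuotientGroup.out_eq' ω, ← QuotientGroup.out_eq' ω', QuotientGroup.eq, mem_stab]
    revert h
    generalize (ω.out : P × P) = a
    generalize (ω'.out : P × P) = b
    intro h
    obtain ⟨h2, h3⟩ := Prod.mk.inj h
    refine ⟨?_, ?_⟩
    · rw [Prod.fst_mul, Prod.snd_mul, Prod.fst_inv, Prod.snd_inv,
        show b.2 = a.2 * a.1⁻¹ * b.1 by rw [h3, inv_mul_cancel_right]]
      simp [mul_assoc]
    · simp only [Prod.fst_mul, Prod.fst_inv, Subgroup.coe_mul, Subgroup.coe_inv]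
      calc (a.1 : G)⁻¹ * (b.1 : G) * x = (a.1 : G)⁻¹ * ((b.1 : G) * x * (b.1 : G)⁻¹) * b.1 := by
            group
        _ = _ := by rw [← h2]; group
  · intro t ht
    obtain ⟨u, hu, e⟩ := mem_orb.1 (Finset.mem_product.1 ht).1
    set s : P × P := (⟨u, hu⟩, t.2 * ⟨u, hu⟩) with hs
    refine ⟨QuotientGroup.mk s, Finset.mem_univ _, ?_⟩
    obtain ⟨r, hr⟩ := QuotientGroup.mk_out_eq_mul (stab P x) s
    obtain ⟨r1, r2⟩ := r.2
    rw [hr]
    refine Prod.ext ?_ ?_
    · show ((s * (r : P × P)).1 : G) * x * ((s * (r : P × P)).1 : G)⁻¹ = t.1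
      rw [← e]
      simp only [hs, Prod.fst_mul, Subgroup.coe_mul]
      calc u * ((r : P × P).1 : G) * x * (u * ((r : P × P).1 : G))⁻¹
          = u * ((((r : P × P).1 : G) * x) * ((r : P × P).1 : G)⁻¹) * u⁻¹ := by group
        _ = _ := by rw [r2]; group
    · show (s * (r : P × P)).2 * (s * (r : P × P)).1⁻¹ = t.2
      simp only [hs, Prod.fst_mul, Prod.snd_mul, ← r1]
      group
  · intro ω _
    simp only [pt, Subgroup.coe_mul, Subgroup.coe_inv, mul_inv_rev, inv_inv, mul_assoc,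
      inv_mul_cancel_left]

/-- **The permutation module is the whole block.** -/
theorem exists_perm {D : Subgroup G} (hD : IsDefectGroup p M B D) {a d : ℕ}
    (ha : (Nat.card G).factorization p = a) (hd : Nat.card D = p ^ d)
    (hmin : ∑ᶠ χ ∈ B, charDegree (χ : G → ℂ) ^ 2 = p ^ (2 * a - d)) {P : Subgroup G} (hPp : IsPGroup p P)
    (hPc : Nat.card P = p ^ a) :
    ∃ (x : G) (_ : Fintype ((P × P) ⧸ stab P x)),
      Function.Injective (permMap (M := M) B P x) ∧
        LinearMap.range (permMap (M := M) B P x) = LinearMap.range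
          (LinearMap.mulLeft (kres M) (blkIdem M B : MonoidAlgebra (kres M) G)) := by
  classical
  have := Fact.mk hM.1
  obtain ⟨x, g, hx, hg⟩ := exists_good hM hB hPp
  have hfin := Fintype.ofFinite ((P × P) ⧸ stab P x)
  have hinj := permMap_injective hM hB hPp hg
  refine ⟨x, hfin, hinj, Submodule.eq_of_le_of_finrank_le (LinearMap.range_comp_le_range _ _) ?_⟩
  rw [finrank_block hM hB, ← finsum_mem_eq_finite_toFinset_sum, hmin,
    LinearMap.finrank_range_of_inj hinj, Module.finrank_fintype_fun_eq_card,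
    ← Nat.card_eq_fintype_card, ← Subgroup.index_eq_card]
  have := Fintype.ofFinite P
  have hR : IsPGroup p ↥(P ⊓ Subgroup.centralizer ({x} : Set G)) :=
    hPp.to_le inf_le_left
  obtain ⟨y, hy⟩ := (exists_le_conj_iff_coeff hM hB hD hR).1
    ⟨x, Subgroup.mem_centralizer_iff.2 fun r hr =>
      Subgroup.mem_centralizer_singleton_iff.1 hr.2, hx⟩
  have hle : Nat.card (stab P x) ≤ p ^ d := by
    rw [← hd, ← natCard_map_conj D y]
    refine le_trans (Nat.card_le_card_of_injective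
      (fun t => (⟨((t.1.1 : P) : G), t.1.1.2,
        Subgroup.mem_centralizer_singleton_iff.2 t.2.2⟩ :
          ↥(P ⊓ Subgroup.centralizer ({x} : Set G)))) fun t t' h => ?_)
      (Subgroup.card_le_of_le hy)
    have h0 := congrArg Subtype.val h
    have h1 : t.1.1 = t'.1.1 := Subtype.ext h0
    exact Subtype.ext (Prod.ext h1 (by rw [← t.2.1, ← t'.2.1, h1]))
  have hda : d ≤ a := by
    rw [← Nat.pow_dvd_pow_iff_le_right hM.1.one_lt, ← hd]
    obtain ⟨Q, hQ⟩ := (isPGroup_defectGroup hM hB hD).exists_le_sylow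
    rw [← ha, ← Sylow.card_eq_multiplicity Q]
    exact Subgroup.card_dvd_of_le hQ
  refine Nat.le_of_mul_le_mul_right ?_ (pow_pos hM.1.pos d)
  calc p ^ (2 * a - d) * p ^ d = p ^ a * p ^ a := by rw [← pow_add, ← pow_add]; congr 1; omega
    _ = (stab P x).index * Nat.card (stab P x) := by
      rw [Subgroup.index_mul_card, Nat.card_prod, hPc]
    _ ≤ _ := Nat.mul_le_mul_left _ hle

/-- **Conjugation on the subgroup of a pair is conjugation inside a Sylow subgroup.** -/
theorem exists_conj_eq {D : Subgroup G} (hD : IsDefectGroup p M B D) {a d : ℕ}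
    (ha : (Nat.card G).factorization p = a) (hd : Nat.card D = p ^ d)
    (hmin : ∑ᶠ χ ∈ B, charDegree (χ : G → ℂ) ^ 2 = p ^ (2 * a - d))
    {Q P : Subgroup G} (hPp : IsPGroup p P) (hPc : Nat.card P = p ^ a)
    (hQP : Q ≤ P) {c : G} (hc : c ∈ cen Q)
    (hc0 : bc M B c ≠ 0) {y : G} (hy : y ∈ Subgroup.normalizer (Q : Set G)) :
    ∃ u ∈ P, ∀ q ∈ Q, y * q * y⁻¹ = u * q * u⁻¹ := by
  classical
  have := Fact.mk hM.1
  have := charP_kres hM
  obtain ⟨x, hfin, hinj, hrange⟩ := exists_perm hM hB hD ha hd hmin hPp hPc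
  obtain ⟨φ, hφ⟩ : (blkIdem M B : MonoidAlgebra (kres M) G) * single y (1 : kres M) ∈
      LinearMap.range (permMap (M := M) B P x) := by
    rw [hrange]; exact ⟨single y 1, rfl⟩
  have hz : ∀ g, (permMap B P x φ).coeff g = bc M B (g * y⁻¹) := fun g => by
    rw [hφ, coeff_mul_single', mul_one]
  let hom : Q →* P × P :=
    { toFun := fun q => (⟨y * q * y⁻¹, hQP ((Subgroup.mem_normalizer_iff.1 hy q).1 q.2)⟩,
        ⟨q, hQP q.2⟩)
      map_one' := Prod.ext (Subtype.ext (by simp)) (Subtype.ext rfl)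
      map_mul' := fun q r => Prod.ext (Subtype.ext (by simp [mul_assoc])) (Subtype.ext rfl) }
  have hcq : ∀ q : Q, (q : G) * c = c * q := fun q => Subgroup.mem_centralizer_iff.1 hc q q.2
  have hfix : ∀ (q : Q) ω, φ (hom q • ω) = φ ω := fun q ω => by
    refine congrFun (hinj (a₁ := fun ω => φ (hom q • ω)) (a₂ := φ) ?_) ω
    ext g
    show (permMap B P x fun ω => φ (hom q • ω)).coeff g = _
    rw [coeff_permMap_smul, hz, hz]
    show bc M B (y * (q : G) * y⁻¹ * g * (q : G)⁻¹ * y⁻¹) = _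
    rw [mul_assoc, bc_swap, bc_swap g]
    congr 1
    group
  let _ : MulAction Q ((P × P) ⧸ stab P x) :=
    MulAction.compHom _ hom
  have hsum : ∑ ω, φ ω * bc M B (y * c * (pt P x ω)⁻¹) ≠ 0 := by
    rw [← coeff_permMap, hz, bc_swap]
    rwa [← mul_assoc, inv_mul_cancel, one_mul]
  rw [sum_eq_sum_fixed (hPp.to_le hQP)
    (fun v => by rw [nsmul_eq_mul, CharP.cast_eq_zero, zero_mul])
    (fun ω => φ ω * bc M B (y * c * (pt P x ω)⁻¹)) (fun q ω => by
      show φ (hom q • ω) * bc M B (y * c * (pt P x (hom q • ω))⁻¹) = _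
      rw [hfix, pt_smul]
      congr 1
      show bc M B (y * c * (y * (q : G) * y⁻¹ * pt P x ω * (q : G)⁻¹)⁻¹) = _
      rw [show y * c * (y * (q : G) * y⁻¹ * pt P x ω * (q : G)⁻¹)⁻¹ =
        y * (c * (q : G)) * (pt P x ω)⁻¹ * (y * (q : G)⁻¹ * y⁻¹) by group, bc_swap]
      rw [← hcq]
      congr 1
      group)] at hsum
  obtain ⟨ω, hω, -⟩ := Finset.exists_ne_zero_of_sum_ne_zero hsum
  obtain ⟨t, rfl⟩ := QuotientGroup.mk_surjective ω
  refine ⟨(t.1 : G) * (t.2 : G)⁻¹, P.mul_mem t.1.2 (P.inv_mem t.2.2), fun q hq => ?_⟩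
  have h1 : QuotientGroup.mk (s := stab P x) (hom ⟨q, hq⟩ * t) =
      QuotientGroup.mk t := (Finset.mem_filter.1 hω).2 ⟨q, hq⟩
  obtain ⟨h2, -⟩ := mem_stab.1 (QuotientGroup.eq.1 h1.symm)
  have h3 := congrArg (fun z : P => (z : G)) h2
  simp only [Prod.fst_mul, Prod.snd_mul, Prod.fst_inv, Prod.snd_inv, Subgroup.coe_mul,
    Subgroup.coe_inv, hom, MonoidHom.coe_mk, OneHom.coe_mk] at h3
  calc y * q * y⁻¹ = (t.1 : G) * ((t.1 : G)⁻¹ * (y * q * y⁻¹ * t.1)) * (t.1 : G)⁻¹ := by group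
    _ = _ := by rw [h3]; group

/-- **A block of least dimension is nilpotent.** -/
theorem isNilpotent_of_min {D : Subgroup G} (hD : IsDefectGroup p M B D) {a d : ℕ}
    (ha : (Nat.card G).factorization p = a) (hd : Nat.card D = p ^ d)
    (hmin : ∑ᶠ χ ∈ B, charDegree (χ : G → ℂ) ^ 2 = p ^ (2 * a - d)) :
    IsNilpotentBlock p M B := by
  classical
  have := Fact.mk hM.1
  refine ⟨hB, fun Q e he y hy _ hreg => ?_⟩
  obtain ⟨ξ, hξ⟩ := isPBlock_nonempty he.1.2
  have hval := (isBrauerPairOf_iff hM he.1 hB hξ).1 he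
  obtain ⟨c, hc0⟩ : ∃ c : (cen Q), bc M B (c : G) ≠ 0 := by
    by_contra h
    push Not at h
    have h0 : resSub (cen Q) (blkIdem M B : MonoidAlgebra (kres M) G) = 0 := by
      ext c
      rw [coeff_resSub]
      simpa [bc] using h c
    rw [pairVal_eq ξ (isCInv_of_isClassCoeff (isClassCoeff_center (blkIdem M B)))] at hval
    simp only [h0] at hval
    exact zero_ne_one ((map_zero (lam M ξ)).symm.trans hval)
  obtain ⟨P, hP⟩ := he.1.1.exists_le_sylow
  obtain ⟨u, hu, hconj⟩ := exists_conj_eq hM hB hD ha hd hmin P.2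
    (by rw [Sylow.card_eq_multiplicity, ha]) hP c.2 hc0 hy
  have hun : u ∈ Subgroup.normalizer (Q : Set G) := by
    refine mem_normalizer_of_map_le ?_
    rintro _ ⟨q, hq, rfl⟩
    show u * q * u⁻¹ ∈ Q
    rw [← hconj q hq]
    exact (Subgroup.mem_normalizer_iff.1 hy q).1 hq
  let θ := Q.normalizerMonoidHom
  have hθ : θ ⟨y, hy⟩ = θ ⟨u, hun⟩ := MulEquiv.ext fun q => Subtype.ext (hconj q q.2)
  obtain ⟨k, hk⟩ := IsPGroup.iff_orderOf.1 P.2 ⟨u, hu⟩
  have h1 : orderOf (θ ⟨y, hy⟩) ∣ p ^ k := by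
    rw [hθ]
    refine (orderOf_map_dvd θ _).trans ?_
    rw [← Subgroup.orderOf_coe, ← hk, ← Subgroup.orderOf_coe (⟨u, hu⟩ : (P : Subgroup G))]
  have h2 : orderOf (θ ⟨y, hy⟩) ∣ orderOf y :=
    (orderOf_map_dvd θ _).trans (by rw [← Subgroup.orderOf_coe])
  have h3 : θ ⟨y, hy⟩ = 1 := orderOf_eq_one_iff.1 (Nat.eq_one_of_dvd_coprimes
    (Nat.Coprime.pow_left k (hM.1.coprime_iff_not_dvd.2 hreg)) h1 h2)
  refine Subgroup.mem_centralizer_iff.2 fun q hq => ?_
  have h4 : y * q * y⁻¹ = q := congrArg Subtype.val (DFunLike.congr_fun h3 (⟨q, hq⟩ : Q))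
  exact (mul_inv_eq_iff_eq_mul.1 h4).symm

end CfsgLib.BlockB.MinDim
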