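import Cfsg.Agent.Lib.BlockB.OverTheta
import Cfsg.Agent.Lib.BlockB.ClassMul
import Cfsg.Agent.Lib.Char.FS
import Cfsg.Agent.Lib.Char.Linear
import Mathlib.LinearAlgebra.Matrix.Kronecker
import Mathlib.LinearAlgebra.Trace

/-!
An extendible character of a non-abelian minimal normal subgroup bounds the number of linear
characters; the Frobenius-Schur indicator of the induced extension.
-/

set_option autoImplicit false
set_option linter.unusedSectionVars false
set_option linter.style.haveILetI false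

namespace CfsgLib.BlockB.MinimalNormalExt

open CfsgLib CfsgLib.Clifford
open scoped Kronecker ComplexConjugate Matrix

universe u

variable {G : Type u} [Group G] [Fintype G] (N : Subgroup G) [N.Normal] [Fintype N]

/-- A non-abelian minimal normal subgroup lies in the derived subgroup. -/
theorem le_commutator (hmin : ∀ M : Subgroup G, M.Normal → M ≤ N → M = ⊥ ∨ M = N)
    (hna : ¬ IsMulCommutative N) : N ≤ commutator G := by
  rcases hmin ⁅N, N⁆ inferInstance (Subgroup.commutator_le_self N) with h | h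
  · refine absurd ?_ hna
    constructor; constructor
    intro a b
    exact Subtype.ext ((Subgroup.mem_centralizer_iff.1
      (Subgroup.commutator_eq_bot_iff_le_centralizer.1 h b.2) a a.2))
  · rw [← h]
    exact Subgroup.commutator_mono le_top le_top

/-- Few linear characters are trivial on a subgroup. -/
theorem card_trivial_on_le (T : Subgroup G) [Fintype T] :
    Nat.card {μ : G →* ℂˣ // ∀ t ∈ T, μ t = 1} ≤ T.index := by
  classical
  have := Fintype.ofFinite (Cfsg.IrrCharacter G)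
  have hT1 : Cfsg.IsIrrCharacter T (fun _ : T => (1 : ℂ)) := Char.isIrrCharacter_one
  set F := Cfsg.indFun T (fun _ : T => (1 : ℂ)) with hF
  have hFc : Cfsg.IsCharacter G F := Char.isCharacter_indFun T (Char.irr_isCharacter hT1)
  have hex : ∀ χ : Cfsg.IrrCharacter G, ∃ e d : ℕ,
      Cfsg.classInner F (χ : G → ℂ) = e ∧ (χ : G → ℂ) 1 = d := fun χ => by
    obtain ⟨e, he⟩ := Char.classInner_isCharacter_nat hFc (Char.irr_isCharacter χ.2)
    obtain ⟨d, hd⟩ := Char.char_apply_one_eq_nat (Char.irr_isCharacter χ.2)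
    exact ⟨e, d, he, hd⟩
  choose e d he hd using hex
  have hsum : T.index = ∑ χ, e χ * d χ := by
    have h := Char.classFunction_apply_eq_sum (Char.isCharacter_isClassFunction hFc) (1 : G)
    rw [hF, Char.indFun_apply_one, mul_one, ← hF] at h
    apply Nat.cast_injective (R := ℂ)
    push_cast
    rw [h]
    exact Finset.sum_congr rfl fun χ _ => by rw [he, hd]
  let J : {μ : G →* ℂˣ // ∀ t ∈ T, μ t = 1} → Cfsg.IrrCharacter G := fun μ =>
    ⟨_, Char.isIrrCharacter_linear μ.1⟩
  have hJ : Function.Injective J := fun a b h => Subtype.ext (MonoidHom.ext fun g =>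
    Units.ext (congr_fun (congrArg Subtype.val h) g))
  have hone : ∀ μ, 1 ≤ e (J μ) * d (J μ) := by
    intro μ
    have h1 : Cfsg.classInner F (J μ : G → ℂ) = 1 := by
      rw [hF, Char.frobenius_reciprocity T _ _ (Char.irr_isClassFunction (J μ).2),
        show (fun t : T => (J μ : G → ℂ) t) = fun _ : T => (1 : ℂ) from
          funext fun t => by simp [J, μ.2 t t.2]]
      exact Char.irr_classInner_self hT1
    have h2 : (J μ : G → ℂ) 1 = 1 := by simp [J]
    rw [he] at h1
    rw [hd] at h2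
    rw [Nat.cast_eq_one.1 h1, Nat.cast_eq_one.1 h2]
  have := Fintype.ofFinite {μ : G →* ℂˣ // ∀ t ∈ T, μ t = 1}
  rw [hsum, Nat.card_eq_fintype_card, ← Finset.card_univ, Finset.card_eq_sum_ones]
  refine (Finset.sum_le_sum fun μ _ => hone μ).trans ?_
  rw [← Finset.sum_image (f := fun χ => e χ * d χ) fun a _ b _ h => hJ h]
  exact Finset.sum_le_sum_of_subset (Finset.subset_univ _)

variable {N} {T : Subgroup G} [Fintype T] {θ : N → ℂ} {Θ : T → ℂ}

/-- Counting linear characters through the induced extensions. -/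
theorem card_linear_le (D : OverTheta.Data T θ Θ) (hN : N ≤ commutator G)
    (P : (G →* ℂˣ) → Prop) (Q : Cfsg.IrrCharacter G → Prop)
    (hQ : ∀ μ : G →* ℂˣ, P μ → ∀ χ : Cfsg.IrrCharacter G,
      (χ : G → ℂ) = Cfsg.indFun T (Θ * fun t : T => (μ t : ℂ)) → Q χ) :
    Nat.card {μ : G →* ℂˣ // P μ} ≤ T.index * Nat.card {χ : Cfsg.IrrCharacter G // Q χ} := by
  classical
  have hq : ∀ μ : G →* ℂˣ, OverTheta.IsQuot N (fun t : T => (μ t : ℂ)) := by
    intro μ n t hn
    have h1 : μ (n : G) = 1 := MonoidHom.mem_ker.1 (Abelianization.commutator_subset_ker μ (hN hn))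
    show (μ ((n : G) * t) : ℂ) = μ (t : G)
    rw [map_mul, h1, one_mul]
  have hi : ∀ μ : G →* ℂˣ, Cfsg.IsIrrCharacter T (fun t : T => (μ t : ℂ)) := fun μ =>
    Char.isIrrCharacter_linear (μ.comp T.subtype)
  let F : {μ : G →* ℂˣ // P μ} → {χ : Cfsg.IrrCharacter G // Q χ} := fun μ =>
    ⟨⟨_, OverTheta.isIrr_ind D (hi μ.1) (hq μ.1)⟩, hQ μ.1 μ.2 _ rfl⟩
  have := Fintype.ofFinite {μ : G →* ℂˣ // P μ}
  have : Finite (G →* ℂˣ) := by
    refine Nat.finite_of_card_ne_zero ?_
    rw [Char.natCard_linear]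
    exact Subgroup.index_ne_zero_of_finite
  have := Fintype.ofFinite {μ : G →* ℂˣ // P μ}
  have := Fintype.ofFinite {χ : Cfsg.IrrCharacter G // Q χ}
  rw [Nat.card_eq_fintype_card, Nat.card_eq_fintype_card, ← Finset.card_univ, ← Finset.card_univ]
  refine (Finset.card_le_mul_card_image Finset.univ T.index fun χ _ => ?_).trans
    (Nat.mul_le_mul_left _ ((Finset.card_le_univ (Finset.univ.image F)).trans_eq
      Finset.card_univ.symm))
  by_cases hne : (Finset.univ.filter fun μ => F μ = χ).Nonempty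
  swap
  · rw [Finset.not_nonempty_iff_eq_empty.1 hne, Finset.card_empty]; exact Nat.zero_le _
  obtain ⟨μ₀, hμ₀⟩ := hne
  rw [← Nat.card_eq_finsetCard]
  refine le_trans (Nat.card_le_card_of_injective
    (fun μ => (⟨(μ₀.1)⁻¹ * μ.1.1, fun t ht => ?_⟩ : {μ : G →* ℂˣ // ∀ t ∈ T, μ t = 1}))
    fun a b h => ?_) (card_trivial_on_le T)
  · have h1 : F μ₀ = F μ.1 :=
      (Finset.mem_filter.1 hμ₀).2.trans (Finset.mem_filter.1 μ.2).2.symm
    have h2 := OverTheta.ind_injective D (hi μ₀.1) (hq μ₀.1) (hi μ.1.1) (hq μ.1.1)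
      (congrArg (fun x : {χ : Cfsg.IrrCharacter G // Q χ} => (x.1 : G → ℂ)) h1)
    rw [MonoidHom.mul_apply, MonoidHom.inv_apply, inv_mul_eq_one]
    exact Units.ext (congr_fun h2 ⟨t, ht⟩)
  · exact Subtype.ext (Subtype.ext (mul_left_cancel (congrArg Subtype.val h)))

/-- An averaged tensor product without invariants vanishes entrywise. -/
theorem sum_mul_entries_eq_zero {m : ℕ} (X Y : N →* Matrix (Fin m) (Fin m) ℂ)
    (h : ∑ n : N, (X n).trace * (Y n).trace = 0) (i j k l : Fin m) :
    ∑ n : N, X n i j * Y n k l = 0 := by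
  classical
  set P : Matrix (Fin m × Fin m) (Fin m × Fin m) ℂ := ∑ n : N, X n ⊗ₖ Y n with hP
  set c : ℂ := (Nat.card N : ℂ)⁻¹ with hc
  have hmul : P * P = (Nat.card N : ℂ) • P := by
    rw [hP, Finset.sum_mul, Finset.sum_congr rfl fun a _ => by
      rw [Finset.mul_sum,
        Fintype.sum_equiv (Equiv.mulLeft a) (fun b => X a ⊗ₖ Y a * X b ⊗ₖ Y b)
          (fun b => X b ⊗ₖ Y b) fun b => by
          rw [Equiv.coe_mulLeft, map_mul, map_mul, Matrix.mul_kronecker_mul]]]
    rw [Finset.sum_const, Finset.card_univ, ← Nat.card_eq_fintype_card, Nat.cast_smul_eq_nsmul]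
  have hN0 : (Nat.card N : ℂ) ≠ 0 := by exact_mod_cast Nat.card_pos.ne'
  set L := Matrix.toLin' (c • P) with hL
  have hidem : ∀ x, L (L x) = L x := fun x => by
    rw [hL, ← LinearMap.comp_apply, ← Matrix.toLin'_mul, smul_mul_smul_comm, hmul, smul_smul]
    congr 2
    rw [hc]; field_simp
  have hproj : LinearMap.IsProj (LinearMap.range L) L :=
    ⟨fun x => ⟨x, rfl⟩, by rintro _ ⟨x, rfl⟩; exact hidem x⟩
  have htr : LinearMap.trace ℂ _ L = 0 := by
    rw [hL, Matrix.trace_toLin'_eq, Matrix.trace_smul, hP, Matrix.trace_sum]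
    simp only [Matrix.trace_kronecker, h, smul_zero]
  rw [hproj.trace, Nat.cast_eq_zero, Submodule.finrank_eq_zero, LinearMap.range_eq_bot, hL,
    LinearEquiv.map_eq_zero_iff] at htr
  have h2 : P = 0 := (smul_eq_zero.1 htr).resolve_left (inv_ne_zero hN0)
  have h3 := congrFun (congrFun h2 (i, k)) (j, l)
  rw [hP, Matrix.sum_apply] at h3
  simpa [Matrix.kroneckerMap_apply] using h3

/-- **The indicator of an induced extension.** -/
theorem fs_indFun (D : OverTheta.Data T θ Θ) (hΘ : Cfsg.IsIrrCharacter T Θ)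
    (hν : (Nat.card T : ℂ)⁻¹ * ∑ t : T, Θ (t * t) = 1) :
    (Nat.card G : ℂ)⁻¹ * ∑ s : G, Cfsg.indFun T Θ (s * s) = 1 := by
  classical
  obtain ⟨m, ρ, hρ, hρc⟩ := id hΘ
  have hreal : ∀ t : T, (Θ t).im = 0 := by
    intro t
    by_contra hk
    have h0 := (Char.fs_indicator ρ).2
    rw [hρc] at h0
    rw [h0.2 ⟨t, hk⟩] at hν
    exact zero_ne_one hν
  have hθreal : ∀ n : N, (θ n).im = 0 := fun n => by
    rw [← D.ext n ⟨n, D.le n.2⟩ rfl]; exact hreal _
  let A : T →* Matrix (Fin m) (Fin m) ℂ :=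
    { toFun := fun t => LinearMap.toMatrix' (ρ t)
      map_one' := by rw [map_one]; exact LinearMap.toMatrix'_id
      map_mul' := fun a b => by rw [map_mul]; exact LinearMap.toMatrix'_comp _ _ }
  have hAtr : ∀ t, (A t).trace = Θ t := fun t => by
    rw [← hρc]
    show (LinearMap.toMatrix' (ρ t)).trace = LinearMap.trace ℂ _ (ρ t)
    rw [LinearMap.trace_eq_matrix_trace ℂ (Pi.basisFun ℂ (Fin m)), LinearMap.toMatrix_eq_toMatrix']
  have hmain : ∀ s : G, s ∉ T → ∑ n : N, Cfsg.extendByZero T Θ (s * n * (s * n)) = 0 := by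
    intro s hs
    by_cases hss : s * s ∈ T
    · have hkey : ∀ n : N, s * n * (s * n) = s * s * ((conjN s⁻¹ n : N) : G) * n := fun n => by
        rw [coe_conjN]; group
      let X : N →* Matrix (Fin m) (Fin m) ℂ := A.comp
        { toFun := fun n => ⟨((conjN s⁻¹ n : N) : G), D.le (conjN s⁻¹ n).2⟩
          map_one' := Subtype.ext (by simp)
          map_mul' := fun a b => Subtype.ext (by simp [mul_assoc]) }
      let Y : N →* Matrix (Fin m) (Fin m) ℂ := A.comp (Subgroup.inclusion D.le)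
      have htrace : ∑ n : N, (X n).trace * (Y n).trace = 0 := by
        have h1 : Cfsg.classInner (conjFn s⁻¹ θ) θ = 0 :=
          Char.irr_classInner_ne (isIrrCharacter_conjFn D.irr s⁻¹) D.irr
            fun h => hs (by simpa using T.inv_mem ((D.inertia s⁻¹).2 h))
        rw [Char.classInner_def, mul_eq_zero] at h1
        refine Eq.trans (Finset.sum_congr rfl fun n _ => ?_)
          (h1.resolve_left (inv_ne_zero (Nat.cast_ne_zero.2 Nat.card_pos.ne')))
        show (A _).trace * (A _).trace = θ (conjN s⁻¹ n) * conj (θ n)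
        rw [hAtr, hAtr, D.ext (conjN s⁻¹ n) _ rfl, D.ext n _ rfl,
          Complex.conj_eq_iff_im.2 (hθreal n)]
      have hz := sum_mul_entries_eq_zero X Y htrace
      rw [Finset.sum_congr rfl fun n _ => by
        rw [hkey n, Char.extendByZero_of_mem Θ
          (T.mul_mem (T.mul_mem hss (D.le (conjN s⁻¹ n).2)) (D.le n.2)),
          show Θ _ = (A ⟨s * s, hss⟩ * X n * Y n).trace from by
            rw [show A ⟨s * s, hss⟩ * X n * Y n = A (⟨s * s, hss⟩ *
              ⟨((conjN s⁻¹ n : N) : G), D.le (conjN s⁻¹ n).2⟩ * Subgroup.inclusion D.le n) from by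
              rw [map_mul, map_mul]; rfl, hAtr]
            rfl]]
      simp only [Matrix.trace, Matrix.diag_apply, Matrix.mul_apply, Finset.sum_mul]
      rw [Finset.sum_comm]
      refine Finset.sum_eq_zero fun i _ => ?_
      rw [Finset.sum_comm]
      refine Finset.sum_eq_zero fun j _ => ?_
      rw [Finset.sum_comm]
      refine Finset.sum_eq_zero fun k _ => ?_
      simp only [mul_assoc, ← Finset.mul_sum, hz, mul_zero]
    · refine Finset.sum_eq_zero fun n _ => Char.extendByZero_of_not_mem Θ fun h => hss ?_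
      have h' : (conjN s⁻¹ n : G) ∈ T := D.le (conjN s⁻¹ n).2
      have := T.mul_mem (T.mul_mem h (T.inv_mem (D.le n.2))) (T.inv_mem h')
      convert this using 1
      rw [coe_conjN]; group
  have hzero : ∑ s ∈ Finset.univ.filter (fun s : G => s ∉ T),
      Cfsg.extendByZero T Θ (s * s) = 0 := by
    set S := ∑ s ∈ Finset.univ.filter (fun s : G => s ∉ T), Cfsg.extendByZero T Θ (s * s) with hS
    have h1 : ∀ n : N, ∑ s ∈ Finset.univ.filter (fun s : G => s ∉ T),
        Cfsg.extendByZero T Θ (s * n * (s * n)) = S := by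
      intro n
      refine Finset.sum_equiv (Equiv.mulRight (n : G)) (fun s => ?_) (fun s _ => rfl)
      simp only [Finset.mem_filter, Finset.mem_univ, true_and, Equiv.coe_mulRight]
      rw [Subgroup.mul_mem_cancel_right T (D.le n.2)]
    have h2 : (Nat.card N : ℂ) * S = 0 := by
      rw [Nat.card_eq_fintype_card, ← nsmul_eq_mul, ← Finset.card_univ, ← Finset.sum_const,
        ← Finset.sum_congr rfl fun n _ => h1 n, Finset.sum_comm]
      exact Finset.sum_eq_zero fun s hs => hmain s (Finset.mem_filter.1 hs).2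
    exact (mul_eq_zero.1 h2).resolve_left (Nat.cast_ne_zero.2 Nat.card_pos.ne')
  have hG : ∑ s : G, Cfsg.indFun T Θ (s * s) =
      (Nat.card T : ℂ)⁻¹ * ((Nat.card G : ℂ) * ∑ t : T, Θ (t * t)) := by
    simp only [Char.indFun_def, ← Finset.mul_sum]
    congr 1
    rw [Finset.sum_comm, Finset.sum_congr rfl fun x _ =>
      show ∑ s : G, Cfsg.extendByZero T Θ (x⁻¹ * (s * s) * x) = ∑ t : T, Θ (t * t) from ?_,
      Finset.sum_const, Finset.card_univ, nsmul_eq_mul, ← Nat.card_eq_fintype_card]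
    rw [Fintype.sum_equiv (MulAut.conj x⁻¹).toEquiv
      (fun s => Cfsg.extendByZero T Θ (x⁻¹ * (s * s) * x))
      (fun s => Cfsg.extendByZero T Θ (s * s)) fun s => by simp [mul_assoc],
      ← Finset.sum_filter_add_sum_filter_not Finset.univ (fun s : G => s ∈ T), hzero, add_zero,
      Finset.sum_subtype (Finset.univ.filter fun s : G => s ∈ T) (p := fun s => s ∈ T) (by simp)]
    exact Finset.sum_congr rfl fun t _ => Char.extendByZero_of_mem Θ (T.mul_mem t.2 t.2)
  rw [hG]
  have h1 : (Nat.card G : ℂ) ≠ 0 := Nat.cast_ne_zero.2 Nat.card_pos.ne'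
  rw [show (Nat.card G : ℂ)⁻¹ * ((Nat.card T : ℂ)⁻¹ * ((Nat.card G : ℂ) * ∑ t : T, Θ (t * t))) =
    (Nat.card T : ℂ)⁻¹ * ∑ t : T, Θ (t * t) by field_simp, hν]

/-- The inertia condition of the statements. -/
theorem inertia_iff (φ : N → ℂ) (g : G) :
    (∀ n n' : N, (n' : G) = g * (n : G) * g⁻¹ → φ n' = φ n) ↔ conjFn g φ = φ :=
  ⟨fun h => funext fun n => h n (conjN g n) (coe_conjN g n), fun h n n' hn => by
    rw [show n' = conjN g n from Subtype.ext hn]; exact congr_fun h n⟩

/-- The linear characters as irreducible characters of degree one. -/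
noncomputable def linearDegreeEquiv :
    (G →* ℂˣ) ≃ {χ : Cfsg.IrrCharacter G // Cfsg.charDegree (χ : G → ℂ) = 1} :=
  Char.linearIrrEquiv.trans (Equiv.subtypeEquivRight fun χ => by
    rw [← irr_degree_cast χ, Nat.cast_eq_one])

theorem linearDegreeEquiv_apply (μ : G →* ℂˣ) (g : G) :
    ((linearDegreeEquiv μ).1 : G → ℂ) g = (μ g : ℂ) := rfl

/-- The degree of an induced twisted extension. -/
theorem charDegree_ind (D : OverTheta.Data T θ Θ) (μ : G →* ℂˣ) {χ : Cfsg.IrrCharacter G}
    (hχ : (χ : G → ℂ) = Cfsg.indFun T (Θ * fun t : T => (μ t : ℂ))) :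
    Cfsg.charDegree (χ : G → ℂ) = Cfsg.charDegree θ * T.index := by
  apply Nat.cast_injective (R := ℂ)
  push_cast
  rw [irr_degree_cast, hχ, Char.indFun_apply_one, charDegree_cast (Char.irr_isCharacter D.irr),
    Pi.mul_apply, D.ext 1 1 rfl, OneMemClass.coe_one, map_one, Units.val_one, mul_one, mul_comm]

/-- A linear character of indicator one is quadratic. -/
theorem sq_eq_one_of_fs (μ : G →* ℂˣ)
    (h : (Nat.card G : ℂ)⁻¹ * ∑ s : G, (μ (s * s) : ℂ) = 1) (s : G) : μ (s * s) = 1 := by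
  classical
  have hn : ∀ g : G, ‖(μ g : ℂ)‖ = 1 := fun g => by
    refine Complex.norm_eq_one_of_pow_eq_one (n := Fintype.card G) ?_ Fintype.card_ne_zero
    rw [← Units.val_pow_eq_pow_val, ← map_pow, pow_card_eq_one, map_one, Units.val_one]
  have h0 : (Nat.card G : ℂ) ≠ 0 := Nat.cast_ne_zero.2 Nat.card_pos.ne'
  rw [inv_mul_eq_one₀ h0] at h
  have hs : ∑ g : G, (1 - (μ (g * g) : ℂ).re) = 0 := by
    rw [Finset.sum_sub_distrib, ← Complex.re_sum, ← h, Finset.sum_const, Finset.card_univ,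
      ← Nat.card_eq_fintype_card]
    simp
  have hge : ∀ g : G, 0 ≤ 1 - (μ (g * g) : ℂ).re := fun g =>
    sub_nonneg.2 ((Complex.re_le_norm _).trans_eq (hn _))
  have h1 : (μ (s * s) : ℂ).re = 1 :=
    (sub_eq_zero.1 ((Finset.sum_eq_zero_iff_of_nonneg fun g _ => hge g).1 hs s
      (Finset.mem_univ _))).symm
  have h2 := Complex.sq_norm_sub_sq_re (μ (s * s) : ℂ)
  rw [hn, h1] at h2
  refine Units.ext (Complex.ext h1 ?_)
  simpa using h2.symm

end CfsgLib.BlockB.MinimalNormalExt
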