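import Cfsg.Prelude.Def_Blocks
import Cfsg.Agent.Lib.Char.Column
import Cfsg.Agent.Lib.Char.Linear
import Cfsg.Agent.Lib.Char.Commutator
import Cfsg.Agent.Lib.Char.Integral
import Cfsg.Agent.Lib.Block.DefectOrder
import Cfsg.Agent.Lib.BlockB.DefectZero
import Cfsg.Agent.Lib.Coprime.Action
import Cfsg.Agent.Lib.Solvable.FixedPointFree
import Mathlib.GroupTheory.SchurZassenhaus

/-!
Groups whose irreducible characters are multiplicative on pairs of elements of coprime prime
power orders.
-/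

set_option autoImplicit false
set_option linter.unusedSectionVars false

namespace CfsgLib.BlockB.Multiplicative

open Subgroup
open scoped ComplexConjugate

universe u

variable {G : Type u} [Group G] [Finite G]

/-- The hypothesis. -/
def IsMult (G : Type u) [Group G] : Prop :=
  ∀ (x y : G) (χ : Cfsg.IrrCharacter G), x ≠ 1 → y ≠ 1 →
    (∃ p q a b : ℕ, p.Prime ∧ q.Prime ∧ p ≠ q ∧ orderOf x = p ^ a ∧ orderOf y = q ^ b) →
    (χ : G → ℂ) (x * y) = (χ : G → ℂ) x * (χ : G → ℂ) y

/-- A nonlinear character has product zero on such a pair. -/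
theorem mul_eq_zero_of_isMult (h : IsMult G) {χ : Cfsg.IrrCharacter G} (hχ : (χ : G → ℂ) 1 ≠ 1)
    {x y : G} (hx : x ≠ 1) (hy : y ≠ 1) {p q a b : ℕ} (hp : p.Prime) (hq : q.Prime) (hpq : p ≠ q)
    (ha : orderOf x = p ^ a) (hb : orderOf y = q ^ b) :
    (χ : G → ℂ) x * (χ : G → ℂ) y = 0 := by
  have := Fintype.ofFinite G
  obtain ⟨n, ρ, hρ, hρc⟩ := χ.2
  have h1 := Char.sum_char_conj_mul ρ x y
  have h2 : ∀ g : G, ρ.character (g * x * g⁻¹ * y) = (χ : G → ℂ) x * (χ : G → ℂ) y := by
    intro g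
    rw [hρc, h (g * x * g⁻¹) y χ (fun e => hx (conj_eq_one_iff.1 e)) hy
      ⟨p, q, a, b, hp, hq, hpq, ?_, hb⟩, Char.irr_isClassFunction χ.2]
    rw [← ha]
    refine (SemiconjBy.orderOf_eq (x := x) g ?_).symm
    show g * x = g * x * g⁻¹ * g
    rw [inv_mul_cancel_right]
  rw [Finset.sum_congr rfl fun g _ => h2 g, Finset.sum_const, Finset.card_univ, nsmul_eq_mul,
    ← Nat.card_eq_fintype_card, hρc] at h1
  have hn : (χ : G → ℂ) 1 = (Module.finrank ℂ (Fin n → ℂ) : ℂ) := by
    rw [← hρc, Representation.char_one]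
  rw [← hn, eq_div_iff (Char.irr_apply_one_ne_zero χ.2), mul_assoc (Nat.card G : ℂ)
    ((χ : G → ℂ) x)] at h1
  by_contra hne
  exact hχ (mul_left_cancel₀ (mul_ne_zero Char.natCard_ne_zero hne) (by rw [h1, mul_one]))

/-- Vanishing on a Sylow subgroup off the identity makes its order divide the degree. -/
theorem pow_dvd_degree {q : ℕ} [Fact q.Prime] {χ : Cfsg.IrrCharacter G}
    (hv : ∀ y : G, y ≠ 1 → (∃ b, orderOf y = q ^ b) → (χ : G → ℂ) y = 0) :
    q ^ (Nat.card G).factorization q ∣ Cfsg.charDegree (χ : G → ℂ) := by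
  classical
  let Q : Sylow q G := default
  have := Fintype.ofFinite (Q : Subgroup G)
  obtain ⟨k, hk⟩ := Char.classInner_isCharacter_nat
    (Char.isCharacter_restrict (Char.irr_isCharacter χ.2) (Q : Subgroup G))
    (Char.isCharacter_one (G := (Q : Subgroup G)))
  rw [Char.classInner_def] at hk
  simp only [map_one, mul_one] at hk
  rw [Finset.sum_eq_single (1 : (Q : Subgroup G)) (fun y _ hy => hv y
      (fun e => hy (Subtype.ext e)) (by
        obtain ⟨b, hb⟩ := IsPGroup.iff_orderOf.1 Q.2 y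
        exact ⟨b, by rw [← hb, Subgroup.orderOf_coe]⟩)) (by simp),
    OneMemClass.coe_one, ← Block.charDegree_cast (Char.irr_isCharacter χ.2),
    inv_mul_eq_iff_eq_mul₀ Char.natCard_ne_zero, Q.card_eq_multiplicity] at hk
  exact Dvd.intro k (by exact_mod_cast hk.symm)

/-- Nonlinear degrees are divisible by the full `q`-parts, for all `q` but one. -/
theorem exists_prime (h : IsMult G) (χ : Cfsg.IrrCharacter G) (hχ : (χ : G → ℂ) 1 ≠ 1) :
    ∃ p : ℕ, ∀ q : ℕ, q.Prime → q ≠ p →
      q ^ (Nat.card G).factorization q ∣ Cfsg.charDegree (χ : G → ℂ) := by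
  classical
  by_cases hw : ∃ (p a : ℕ) (x : G), p.Prime ∧ x ≠ 1 ∧ orderOf x = p ^ a ∧ (χ : G → ℂ) x ≠ 0
  · obtain ⟨p, a, x, hp, hx, ha, hx0⟩ := hw
    refine ⟨p, fun q hq hqp => ?_⟩
    have := Fact.mk hq
    refine pow_dvd_degree fun y hy ⟨b, hb⟩ => ?_
    exact (mul_eq_zero.1 (mul_eq_zero_of_isMult h hχ hx hy hp hq (Ne.symm hqp) ha hb)).resolve_left hx0
  · refine ⟨0, fun q hq _ => ?_⟩
    have := Fact.mk hq
    refine pow_dvd_degree fun y hy ⟨b, hb⟩ => ?_
    by_contra hne
    exact hw ⟨q, b, y, hq, hy, hb, hne⟩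

/-- The square of a nonlinear degree is less than the order. -/
theorem sq_degree_lt (χ : Cfsg.IrrCharacter G) (hχ : (χ : G → ℂ) 1 ≠ 1) :
    Cfsg.charDegree (χ : G → ℂ) * Cfsg.charDegree (χ : G → ℂ) < Nat.card G := by
  classical
  have := Fintype.ofFinite G
  have := Fintype.ofFinite (Cfsg.IrrCharacter G)
  have h := Char.sum_irr_sq (G := G)
  simp only [← Block.charDegree_cast (Char.irr_isCharacter (Subtype.prop _))] at h
  have h' : ∑ ψ : Cfsg.IrrCharacter G, Cfsg.charDegree (ψ : G → ℂ) ^ 2 = Nat.card G := by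
    exact_mod_cast h
  let t : Cfsg.IrrCharacter G := ⟨fun _ => 1, Char.isIrrCharacter_one⟩
  have hne : χ ≠ t := fun e => hχ (by rw [e])
  have h2 := Finset.sum_le_sum_of_subset (f := fun ψ : Cfsg.IrrCharacter G =>
    Cfsg.charDegree (ψ : G → ℂ) ^ 2) (Finset.subset_univ {χ, t})
  rw [h', Finset.sum_pair hne, show Cfsg.charDegree (t : G → ℂ) = 1 by simp [t, Cfsg.charDegree]]
    at h2
  rw [sq] at h2
  omega

/-- The column count. -/
theorem natCard_centralizer_eq {g : G}
    (hv : ∀ χ : Cfsg.IrrCharacter G, (χ : G → ℂ) 1 ≠ 1 → (χ : G → ℂ) g = 0) :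
    Nat.card (centralizer ({g} : Set G)) = (commutator G).index := by
  classical
  have := Fintype.ofFinite G
  have := Fintype.ofFinite (Cfsg.IrrCharacter G)
  have h := Char.column_orthogonality g g
  rw [if_pos (IsConj.refl g), Finset.sum_congr rfl (g := fun χ : Cfsg.IrrCharacter G =>
    if (χ : G → ℂ) 1 = 1 then (1 : ℂ) else 0) (fun χ _ => by
      by_cases h1 : (χ : G → ℂ) 1 = 1
      · obtain ⟨lam, hlam⟩ := Char.exists_hom_of_degree_one (Char.irr_isCharacter χ.2) h1
        have hn : ‖((lam g : ℂˣ) : ℂ)‖ = 1 := Char.norm_eigen_eq_one (orderOf_pos g) (by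
          rw [← Units.val_pow_eq_pow_val, ← map_pow, pow_orderOf_eq_one, map_one, Units.val_one])
        rw [if_pos h1, hlam, Complex.mul_conj', hn]
        simp
      · rw [if_neg h1, hv χ h1, zero_mul]), Finset.sum_boole] at h
  have h2 : (Finset.univ.filter fun χ : Cfsg.IrrCharacter G => (χ : G → ℂ) 1 = 1).card =
      (commutator G).index := by
    rw [← Char.natCard_linearIrr, Nat.card_eq_fintype_card, Fintype.card_subtype]
  rw [h2] at h
  exact_mod_cast h.symm

/-- If `G'` meets the centralizer of `g` trivially, nonlinear characters vanish at `g`. -/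
theorem apply_eq_zero_of_inf_eq_bot {g : G}
    (hg : centralizer ({g} : Set G) ⊓ commutator G = ⊥) (χ : Cfsg.IrrCharacter G)
    (hχ : (χ : G → ℂ) 1 ≠ 1) : (χ : G → ℂ) g = 0 := by
  classical
  have := Fintype.ofFinite G
  have := Fintype.ofFinite (Cfsg.IrrCharacter G)
  have hle : Nat.card (centralizer ({g} : Set G)) ≤ (commutator G).index := by
    rw [Subgroup.index_eq_card]
    refine Nat.card_le_card_of_injective
      (fun x : centralizer ({g} : Set G) => ((x : G) : G ⧸ commutator G)) fun a b hab => ?_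
    have h1 : (a : G)⁻¹ * b ∈ centralizer ({g} : Set G) ⊓ commutator G :=
      mem_inf.2 ⟨mul_mem (inv_mem a.2) b.2, QuotientGroup.eq.1 hab⟩
    rw [hg, mem_bot, inv_mul_eq_one] at h1
    exact Subtype.ext h1
  have h := Char.column_orthogonality g g
  rw [if_pos (IsConj.refl g)] at h
  have hre : ∑ ψ : Cfsg.IrrCharacter G, Complex.normSq ((ψ : G → ℂ) g) =
      (Nat.card (centralizer ({g} : Set G)) : ℝ) := by
    have h' := congrArg Complex.re h
    rw [Complex.re_sum, Complex.natCast_re] at h'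
    simpa [Complex.mul_conj] using h'
  let L := Finset.univ.filter fun ψ : Cfsg.IrrCharacter G => (ψ : G → ℂ) 1 = 1
  have hL : L.card = (commutator G).index := by
    rw [← Char.natCard_linearIrr, Nat.card_eq_fintype_card, Fintype.card_subtype]
  have h1 : ∀ ψ ∈ L, Complex.normSq ((ψ : G → ℂ) g) = 1 := fun ψ hψ => by
    obtain ⟨lam, hlam⟩ := Char.exists_hom_of_degree_one (Char.irr_isCharacter ψ.2)
      (Finset.mem_filter.1 hψ).2
    rw [hlam, Complex.normSq_eq_norm_sq, Char.norm_eigen_eq_one (orderOf_pos g) (by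
      rw [← Units.val_pow_eq_pow_val, ← map_pow, pow_orderOf_eq_one, map_one, Units.val_one]),
      one_pow]
  have hχL : χ ∉ L := fun hm => hχ (Finset.mem_filter.1 hm).2
  have h2 := Finset.sum_le_sum_of_subset_of_nonneg (Finset.subset_univ (insert χ L))
    (fun ψ _ _ => Complex.normSq_nonneg ((ψ : G → ℂ) g))
  rw [Finset.sum_insert hχL, Finset.sum_congr rfl h1, Finset.sum_const, nsmul_one, hre, hL] at h2
  have h3 : (Nat.card (centralizer ({g} : Set G)) : ℝ) ≤ (commutator G).index := by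
    exact_mod_cast hle
  exact Complex.normSq_eq_zero.1
    (le_antisymm (by linarith) (Complex.normSq_nonneg _))

/-- The structure forced by the hypothesis. -/
theorem structure_of_isMult (h : IsMult G) (hnp : ¬ ∃ p : ℕ, p.Prime ∧ IsPGroup p G)
    (hnc : ¬ IsMulCommutative G) :
    ∃ (p : ℕ) (_ : Fact p.Prime) (P : Sylow p G) (A : Subgroup G), (P : Subgroup G).Normal ∧
      IsCyclic A ∧ A ≠ ⊥ ∧ (Nat.card A).Coprime p ∧ A ⊔ (P : Subgroup G) = ⊤ ∧
      IsMulCommutative ↥((P : Subgroup G) ⊓ centralizer (A : Set G)) ∧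
      (⁅A, (P : Subgroup G)⁆).Normal ∧
      ((P : Subgroup G) ⊓ centralizer (A : Set G)) ⊔ ⁅A, (P : Subgroup G)⁆ = (P : Subgroup G) ∧
      ((P : Subgroup G) ⊓ centralizer (A : Set G)) ⊓ ⁅A, (P : Subgroup G)⁆ = ⊥ ∧
      ∀ a ∈ A, a ≠ 1 → ∀ d ∈ ⁅A, (P : Subgroup G)⁆, a * d = d * a → d = 1 := by
  classical
  have := Fintype.ofFinite G
  have := Fintype.ofFinite (Cfsg.IrrCharacter G)
  obtain ⟨χ0, hχ0⟩ : ∃ χ : Cfsg.IrrCharacter G, (χ : G → ℂ) 1 ≠ 1 := by
    by_contra hno
    exact hnc ⟨⟨Char.comm_iff_forall_degree_one.2 fun χ => by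
      by_contra hne; exact hno ⟨χ, hne⟩⟩⟩
  obtain ⟨p, hp0⟩ := exists_prime h χ0 hχ0
  set n := Nat.card G with hn
  have hn0 : n ≠ 0 := Nat.card_pos.ne'
  let part : ℕ → ℕ := fun r => r ^ n.factorization r
  have hcofull : ∀ (d r : ℕ), (∀ q : ℕ, q.Prime → q ≠ r → part q ∣ d) → n / part r ∣ d := by
    intro d r hd
    refine Nat.dvd_iff_prime_pow_dvd_dvd _ _ |>.2 fun q k hq hk => ?_
    rcases Nat.eq_zero_or_pos k with rfl | hk0
    · simp
    have hqr : q ≠ r := by
      rintro rfl
      exact Nat.not_dvd_ordCompl hq hn0 ((dvd_pow_self q hk0.ne').trans hk)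
    refine (Nat.pow_dvd_pow q ?_).trans (hd q hq hqr)
    exact (hq.pow_dvd_iff_le_factorization hn0).1 (hk.trans (Nat.ordCompl_dvd n r))
  have hd0pos : 0 < Cfsg.charDegree (χ0 : G → ℂ) := Nat.pos_of_ne_zero fun e => by
    have h' := Block.charDegree_cast (Char.irr_isCharacter χ0.2)
    rw [e, Nat.cast_zero] at h'
    exact Char.irr_apply_one_ne_zero χ0.2 h'.symm
  have hbig : ∀ (χ : Cfsg.IrrCharacter G) (r : ℕ), (χ : G → ℂ) 1 ≠ 1 →
      (∀ q : ℕ, q.Prime → q ≠ r → part q ∣ Cfsg.charDegree (χ : G → ℂ)) →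
      r.Prime ∧ n / part r * (n / part r) < n := by
    intro χ r hχ hr
    have hpos : 0 < Cfsg.charDegree (χ : G → ℂ) := Nat.pos_of_ne_zero fun e => by
      have h' := Block.charDegree_cast (Char.irr_isCharacter χ.2)
      rw [e, Nat.cast_zero] at h'
      exact Char.irr_apply_one_ne_zero χ.2 h'.symm
    have hle := Nat.le_of_dvd hpos (hcofull _ r hr)
    have hlt := (Nat.mul_le_mul hle hle).trans_lt (sq_degree_lt χ hχ)
    refine ⟨?_, hlt⟩
    by_contra hr'
    have h1 : part r = 1 := by simp [part, Nat.factorization_eq_zero_of_not_prime _ hr']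
    rw [h1, Nat.div_one] at hlt
    have : 1 ≤ n := Nat.one_le_iff_ne_zero.2 hn0
    nlinarith
  obtain ⟨hp, hplt⟩ := hbig χ0 p hχ0 hp0
  have := Fact.mk hp
  have huniq : ∀ (χ : Cfsg.IrrCharacter G), (χ : G → ℂ) 1 ≠ 1 →
      ∀ q : ℕ, q.Prime → q ≠ p → part q ∣ Cfsg.charDegree (χ : G → ℂ) := by
    intro χ hχ
    obtain ⟨r, hr⟩ := exists_prime h χ hχ
    rcases eq_or_ne r p with rfl | hrp
    · exact hr
    exfalso
    obtain ⟨hr', hrlt⟩ := hbig χ r hχ hr
    have hmul : part p * part r ∣ n :=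
      Nat.Coprime.mul_dvd_of_dvd_of_dvd
        (Nat.Coprime.pow _ _ ((Nat.coprime_primes hp hr').2 hrp.symm))
        (Nat.ordProj_dvd n p) (Nat.ordProj_dvd n r)
    have hle := Nat.le_of_dvd (Nat.pos_of_ne_zero hn0) hmul
    have h1 : n / part p * part p = n := Nat.div_mul_cancel (Nat.ordProj_dvd n p)
    have h2 : n / part r * part r = n := Nat.div_mul_cancel (Nat.ordProj_dvd n r)
    have h3 : n / part p * (n / part p) * (n / part r * (n / part r)) < n * n :=
      Nat.mul_lt_mul'' hplt hrlt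
    have h4 : n ≤ n / part p * (n / part r) := by
      have h5 : n * n = n / part p * (n / part r) * (part p * part r) := by
        calc n * n = (n / part p * part p) * (n / part r * part r) := by rw [h1, h2]
          _ = _ := by ring
      have h6 : n * n ≤ n / part p * (n / part r) * n := h5 ▸ Nat.mul_le_mul_left _ hle
      exact Nat.le_of_mul_le_mul_right h6 (Nat.pos_of_ne_zero hn0)
    have h7 := Nat.mul_le_mul h4 h4
    have h8 : n / part p * (n / part r) * (n / part p * (n / part r)) =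
        n / part p * (n / part p) * (n / part r * (n / part r)) := by ring
    omega
  set M := n / part p with hMdef
  have hMn : M ∣ n := Nat.ordCompl_dvd n p
  have hMidx : M ∣ (commutator G).index := by
    have hsum : (∑ χ : Cfsg.IrrCharacter G, Cfsg.charDegree (χ : G → ℂ) ^ 2) = n := by
      have h' := Char.sum_irr_sq (G := G)
      simp only [← Block.charDegree_cast (Char.irr_isCharacter (Subtype.prop _))] at h'
      exact_mod_cast h'
    rw [← Finset.sum_filter_add_sum_filter_not Finset.univ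
      (fun χ : Cfsg.IrrCharacter G => (χ : G → ℂ) 1 = 1)] at hsum
    have h1 : ∑ χ ∈ Finset.univ.filter (fun χ : Cfsg.IrrCharacter G => (χ : G → ℂ) 1 = 1),
        Cfsg.charDegree (χ : G → ℂ) ^ 2 = (commutator G).index := by
      rw [Finset.sum_congr rfl (g := fun _ => 1) fun χ hχ => by
        simp [Cfsg.charDegree, (Finset.mem_filter.1 hχ).2],
        ← Finset.card_eq_sum_ones, ← Char.natCard_linearIrr, Nat.card_eq_fintype_card,
        Fintype.card_subtype]
    have h2 : M ∣ ∑ χ ∈ Finset.univ.filter (fun χ : Cfsg.IrrCharacter G => ¬ (χ : G → ℂ) 1 = 1),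
        Cfsg.charDegree (χ : G → ℂ) ^ 2 :=
      Finset.dvd_sum fun χ hχ => Dvd.dvd.pow
        (hcofull _ p (huniq χ (Finset.mem_filter.1 hχ).2)) two_ne_zero
    rw [h1] at hsum
    have h3 : M ∣ (commutator G).index + _ := hsum.symm ▸ hMn
    exact (Nat.dvd_add_left h2).1 h3
  have hG'p : IsPGroup p (commutator G) := by
    have hd : Nat.card (commutator G) ∣ part p := by
      obtain ⟨c, hc⟩ := hMidx
      have h1 := (commutator G).card_mul_index
      rw [hc, ← hn, ← Nat.mul_div_cancel' (Nat.ordProj_dvd n p)] at h1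
      refine Dvd.intro c (Nat.eq_of_mul_eq_mul_left (Nat.div_pos
        (Nat.le_of_dvd (Nat.pos_of_ne_zero hn0) (Nat.ordProj_dvd n p))
        (pow_pos hp.pos _)) ?_)
      calc M * (Nat.card (commutator G) * c) = Nat.card (commutator G) * (M * c) := by ring
        _ = part p * M := h1
        _ = M * part p := Nat.mul_comm _ _
    obtain ⟨j, -, hj⟩ := (Nat.dvd_prime_pow hp).1 hd
    exact IsPGroup.of_card hj
  let P : Sylow p G := default
  have hG'P : commutator G ≤ (P : Subgroup G) := by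
    obtain ⟨Q, hQ⟩ := hG'p.exists_le_sylow
    obtain ⟨g, hg⟩ := MulAction.exists_smul_eq G Q P
    rw [← hg]
    intro x hx
    rw [Sylow.coe_subgroup_smul, Subgroup.mem_pointwise_smul_iff_inv_smul_mem]
    refine hQ ?_
    rw [← map_inv, MulAut.smul_def, MulAut.conj_apply]
    exact (inferInstance : (commutator G).Normal).conj_mem x hx g⁻¹
  have hPn : (P : Subgroup G).Normal := Subgroup.Normal.of_commutator_le G hG'P
  obtain ⟨A, hA⟩ := Subgroup.exists_right_complement'_of_coprime P.card_coprime_index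
  have hAcard : Nat.card A = (P : Subgroup G).index := hA.symm.index_eq_card.symm
  have hsup : A ⊔ (P : Subgroup G) = ⊤ := by rw [sup_comm]; exact hA.sup_eq_top
  have hAcop : (Nat.card A).Coprime p := by
    rw [hAcard]; exact (hp.coprime_iff_not_dvd.2 P.not_dvd_index).symm
  have hAcopP : (Nat.card A).Coprime (Nat.card (P : Subgroup G)) := by
    rw [P.card_eq_multiplicity]; exact hAcop.pow_right _
  have hAne : A ≠ ⊥ := fun e => hnp ⟨p, hp, P.2.of_surjective
    ((P : Subgroup G).subtype) fun g => ⟨⟨g, by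
      rw [e, bot_sup_eq] at hsup; exact hsup ▸ mem_top g⟩, rfl⟩⟩
  have hPA : A ⊓ (P : Subgroup G) = ⊥ := Coprime.inf_eq_bot_of_coprime hAcopP
  have hAcomm : ∀ a ∈ A, ∀ b ∈ A, a * b = b * a := by
    intro a ha b hb
    have h1 : a * b * a⁻¹ * b⁻¹ ∈ A ⊓ (P : Subgroup G) :=
      mem_inf.2 ⟨mul_mem (mul_mem (mul_mem ha hb) (inv_mem ha)) (inv_mem hb),
        hG'P (commutator_mem_commutator (mem_top a) (mem_top b))⟩
    rw [hPA, mem_bot, mul_inv_eq_one, mul_inv_eq_iff_eq_mul] at h1
    exact h1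
  set G' := commutator G with hG'def
  set C := (P : Subgroup G) ⊓ centralizer (A : Set G) with hCdef
  set D := ⁅A, (P : Subgroup G)⁆ with hDdef
  have hAN : A ≤ normalizer ((P : Subgroup G) : Set G) := by
    rw [Subgroup.normalizer_eq_top]; exact le_top
  have hvan : ∀ a ∈ A, a ≠ 1 → ∀ χ : Cfsg.IrrCharacter G, (χ : G → ℂ) 1 ≠ 1 →
      (χ : G → ℂ) a = 0 := by
    intro a ha ha1 χ hχ
    obtain ⟨q, hq, hqd⟩ := Nat.exists_prime_and_dvd (fun e => ha1 (orderOf_eq_one_iff.1 e))
    have hqp : q ≠ p := by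
      rintro rfl
      exact hp.coprime_iff_not_dvd.1 hAcop.symm (hqd.trans (A.orderOf_dvd_natCard ha))
    have := Fact.mk hq
    exact irr_apply_eq_zero_of_defect_zero χ (huniq χ hχ q hq hqp) hqd
  -- fixed points of each element of `A` meet `G'` trivially
  have hfpf : ∀ a ∈ A, a ≠ 1 → ∀ d ∈ G', a * d = d * a → d = 1 := by
    intro a ha ha1 d hd hcomm
    let Z : Subgroup G := zpowers a
    have hZA : Z ≤ A := zpowers_le.2 ha
    let CP : Subgroup G := (P : Subgroup G) ⊓ centralizer (Z : Set G)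
    have hcos : ∀ g ∈ (P : Subgroup G), ∃ n ∈ G', g * n ∈ centralizer (Z : Set G) := fun g hg =>
      Coprime.exists_mem_centralizer_of_coset (hZA.trans hAN)
        (by rw [Subgroup.normalizer_eq_top]; exact le_top) hG'P
        (hAcopP.coprime_dvd_left (card_dvd_of_le hZA))
        (Or.inr (have := hG'p.isNilpotent; inferInstance)) hg fun b _ => by
          have h' := commutator_mem_commutator (mem_top g⁻¹) (mem_top b)
          rwa [commutatorElement_def, inv_inv] at h'
    -- `g = (CP element) * (G' element)`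
    let f : CP × G' → (P : Subgroup G) := fun z => ⟨(z.1 : G) * z.2, mul_mem z.1.2.1 (hG'P z.2.2)⟩
    have hf : Function.Surjective f := by
      rintro ⟨g, hg⟩
      obtain ⟨m, hm, hgm⟩ := hcos g hg
      exact ⟨(⟨g * m, mul_mem hg (hG'P hm), hgm⟩, ⟨m⁻¹, inv_mem hm⟩),
        Subtype.ext (mul_inv_cancel_right g m)⟩
    -- the centralizer of `a` contains `A × CP`
    let e : A × CP → centralizer ({a} : Set G) := fun z => ⟨(z.1 : G) * z.2, by
      rw [mem_centralizer_singleton_iff]
      have h2 : a * (z.2 : G) = (z.2 : G) * a :=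
        mem_centralizer_iff.1 z.2.2.2 a (mem_zpowers a)
      rw [mul_assoc, ← h2, ← mul_assoc, hAcomm _ z.1.2 a ha, mul_assoc]⟩
    have he : Function.Injective e := by
      rintro ⟨a1, c1⟩ ⟨a2, c2⟩ hz
      have hz' : (a1 : G) * c1 = a2 * c2 := congrArg Subtype.val hz
      have h3 : (a2 : G)⁻¹ * a1 ∈ A ⊓ (P : Subgroup G) := by
        refine mem_inf.2 ⟨mul_mem (inv_mem a2.2) a1.2, ?_⟩
        have h4 : (a2 : G)⁻¹ * a1 = (c2 : G) * (c1 : G)⁻¹ := by
          rw [inv_mul_eq_iff_eq_mul, ← mul_assoc, ← hz', mul_inv_cancel_right]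
        rw [h4]
        exact mul_mem c2.2.1 (inv_mem c1.2.1)
      rw [hPA, mem_bot, inv_mul_eq_one] at h3
      have h5 : a1 = a2 := Subtype.ext h3.symm
      subst h5
      exact Prod.ext rfl (Subtype.ext (mul_left_cancel hz'))
    have h1 := Nat.card_le_card_of_injective e he
    rw [Nat.card_prod, natCard_centralizer_eq (hvan a ha ha1)] at h1
    have h2 : Nat.card A * Nat.card CP * Nat.card G' ≤ Nat.card A * Nat.card (P : Subgroup G) := by
      refine (Nat.mul_le_mul_right _ h1).trans (le_of_eq ?_)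
      rw [hAcard, mul_comm G'.index, G'.card_mul_index, ← (P : Subgroup G).card_mul_index,
        mul_comm]
    rw [mul_assoc] at h2
    have h3 := Nat.le_of_mul_le_mul_left h2 Nat.card_pos
    rw [← Nat.card_prod] at h3
    have hfinj := ((Nat.bijective_iff_surjective_and_card f).2
      ⟨hf, le_antisymm h3 (Nat.card_le_card_of_surjective f hf)⟩).1
    have hdc : d ∈ CP := ⟨hG'P hd, mem_centralizer_iff.2 fun z hz => by
      obtain ⟨i, rfl⟩ := mem_zpowers_iff.1 hz
      exact ((show Commute a d from hcomm).zpow_left i).eq⟩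
    have h4 := @hfinj (⟨d, hdc⟩, 1) (1, ⟨d, hd⟩) (Subtype.ext (by simp [f]))
    exact congrArg (fun z : CP × G' => (z.1 : G)) h4
  obtain ⟨a0, ha0, ha01⟩ := A.bot_or_exists_ne_one.resolve_left hAne
  have hDG' : D ≤ G' := commutator_le.2 fun a ha b hb =>
    commutator_mem_commutator (mem_top a) (mem_top b)
  have hCG' : C ⊓ G' = ⊥ := by
    rw [eq_bot_iff]
    intro x hx
    exact mem_bot.2 (hfpf a0 ha0 ha01 x hx.2 (mem_centralizer_iff.1 hx.1.2 a0 ha0))
  have hDn : D.Normal := by
    rw [← Subgroup.normalizer_eq_top_iff, eq_top_iff, ← hsup]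
    exact sup_le (Subgroup.normalizer_commutator_ge_left A (P : Subgroup G))
      (Subgroup.normalizer_commutator_ge_right A (P : Subgroup G))
  have hsupP : C ⊔ D = (P : Subgroup G) := by
    have h1 := Coprime.commutator_sup_centralizer hAN hAcopP (Or.inr (have := P.2.isNilpotent; inferInstance))
    rwa [Subgroup.commutator_comm, sup_comm] at h1
  have hD : D = G' := by
    refine le_antisymm hDG' fun g hg => ?_
    have h1 := hG'P hg
    rw [← hsupP] at h1
    obtain ⟨c, hc, d, hd, rfl⟩ := mem_sup_of_normal_right.1 h1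
    have h2 : c ∈ C ⊓ G' := ⟨hc, (mul_mem_cancel_right (hDG' hd)).1 hg⟩
    rw [hCG', mem_bot] at h2
    rw [h2, one_mul]
    exact hd
  have hfpfD : ∀ a ∈ A, a ≠ 1 → ∀ d ∈ D, a * d = d * a → d = 1 := fun a ha ha1 d hd =>
    hfpf a ha ha1 d (hDG' hd)
  refine ⟨p, ⟨hp⟩, P, A, hPn, ?_, hAne, hAcop, hsup, ?_, hDn, hsupP, ?_, hfpfD⟩
  · -- `A` is cyclic
    have hDne : D ≠ ⊥ := fun e => hnc ⟨⟨fun a b => by
      have h1 : a * b * a⁻¹ * b⁻¹ ∈ D :=
        hD ▸ commutator_mem_commutator (mem_top a) (mem_top b)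
      rw [e, mem_bot, mul_inv_eq_one, mul_inv_eq_iff_eq_mul] at h1
      exact h1⟩⟩
    let Z : Subgroup G := (center D).map D.subtype
    have hZn : Z.Normal := inferInstance
    have : Nontrivial D := D.nontrivial_iff_ne_bot.2 hDne
    have := (hG'p.to_le hDG').center_nontrivial
    have : Nontrivial Z := (Z.nontrivial_iff_ne_bot).2 fun e => by
      rw [Subgroup.map_eq_bot_iff_of_injective _ D.subtype_injective] at e
      exact (Subgroup.nontrivial_iff_ne_bot _).1 ‹Nontrivial (center D)› e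
    let : CommGroup Z := { (inferInstance : Group Z) with
      mul_comm := by
        rintro ⟨_, a, ha, rfl⟩ ⟨_, b, -, rfl⟩
        exact Subtype.ext (show (a : G) * b = b * a from
          congrArg Subtype.val (Subgroup.mem_center_iff.1 ha b).symm) }
    have : IsMulCommutative A := ⟨⟨fun a b => Subtype.ext (hAcomm a a.2 b b.2)⟩⟩
    have := Solvable.isCyclic_of_fpf ((MulAut.conjNormal : G →* MulAut Z).comp A.subtype)
      (fun a ha v hv => by
        obtain ⟨w, -, hw⟩ := v.2
        have hvD : (v : G) ∈ D := hw ▸ w.2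
        exact Subtype.ext (hfpfD a a.2 (fun e => ha (Subtype.ext e)) v hvD
          (mul_inv_eq_iff_eq_mul.1 (congrArg Subtype.val hv)))) (⊤ : Subgroup A)
    exact (Subgroup.topEquiv (G := A)).isCyclic.1 this
  · refine ⟨⟨fun a b => Subtype.ext ?_⟩⟩
    have h1 : (a : G) * b * (a : G)⁻¹ * (b : G)⁻¹ ∈ C ⊓ G' :=
      mem_inf.2 ⟨mul_mem (mul_mem (mul_mem a.2 b.2) (inv_mem a.2)) (inv_mem b.2),
        commutator_mem_commutator (mem_top (a : G)) (mem_top (b : G))⟩
    rw [hCG', mem_bot, mul_inv_eq_one, mul_inv_eq_iff_eq_mul] at h1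
    exact h1
  · rw [eq_bot_iff, ← hCG']
    exact inf_le_inf_left C hDG'

/-- The converse. -/
theorem isMult_of_structure {p : ℕ} [hp : Fact p.Prime] (P : Sylow p G) (A : Subgroup G)
    (hPn : (P : Subgroup G).Normal) (hAcyc : IsCyclic A) (hAcop : (Nat.card A).Coprime p)
    (hsup : A ⊔ (P : Subgroup G) = ⊤)
    (hCcomm : IsMulCommutative ↥((P : Subgroup G) ⊓ centralizer (A : Set G)))
    (hDn : (⁅A, (P : Subgroup G)⁆).Normal)
    (hsupP : ((P : Subgroup G) ⊓ centralizer (A : Set G)) ⊔ ⁅A, (P : Subgroup G)⁆ =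
      (P : Subgroup G))
    (hfpf : ∀ a ∈ A, a ≠ 1 → ∀ d ∈ ⁅A, (P : Subgroup G)⁆, a * d = d * a → d = 1) :
    IsMult G := by
  classical
  set D := ⁅A, (P : Subgroup G)⁆ with hDdef
  set C := (P : Subgroup G) ⊓ centralizer (A : Set G) with hCdef
  have hG'D : commutator G ≤ D := by
    have hAC : closure ((A : Set G) ∪ C) ⊔ D = ⊤ := by
      rw [Subgroup.closure_union, Subgroup.closure_eq, Subgroup.closure_eq, sup_assoc, hsupP, hsup]
    rw [_root_.commutator_def, commutator_le]
    intro a _ b _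
    rw [← QuotientGroup.eq_one_iff, ← QuotientGroup.mk'_apply, map_commutatorElement,
      commutatorElement_eq_one_iff_mul_comm]
    have hsub : IsMulCommutative ↥(closure ((A : Set G) ∪ C)) := by
      refine Subgroup.isMulCommutative_closure fun u hu v hv => ?_
      rcases hu with hu | hu <;> rcases hv with hv | hv
      · exact congrArg Subtype.val (Solvable.comm_of_isCyclic (⟨u, hu⟩ : A) ⟨v, hv⟩)
      · exact mem_centralizer_iff.1 (show v ∈ centralizer (A : Set G) from hv.2) u hu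
      · exact (mem_centralizer_iff.1 (show u ∈ centralizer (A : Set G) from hu.2) v hv).symm
      · exact congrArg Subtype.val (hCcomm.is_comm.comm (⟨u, hu⟩ : C) ⟨v, hv⟩)
    have hsurj : ∀ z : G, ∃ u : closure ((A : Set G) ∪ C),
        QuotientGroup.mk' D z = QuotientGroup.mk' D (u : G) := fun z => by
      obtain ⟨u, hu, d, hd, rfl⟩ := mem_sup_of_normal_right.1 (hAC ▸ mem_top z)
      exact ⟨⟨u, hu⟩, by rw [map_mul, QuotientGroup.mk'_apply D d,
        (QuotientGroup.eq_one_iff d).2 hd, mul_one]⟩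
    obtain ⟨u, hu⟩ := hsurj a
    obtain ⟨v, hv⟩ := hsurj b
    rw [hu, hv, ← map_mul, ← map_mul,
      show (u : G) * v = v * u from congrArg Subtype.val (hsub.is_comm.comm u v)]
  have hDP : D ≤ (P : Subgroup G) := hsupP ▸ le_sup_right
  -- nonlinear characters vanish outside `P`
  have hvan : ∀ χ : Cfsg.IrrCharacter G, (χ : G → ℂ) 1 ≠ 1 → ∀ g : G, g ∉ (P : Subgroup G) →
      (χ : G → ℂ) g = 0 := by
    intro χ hχ g hg
    refine apply_eq_zero_of_inf_eq_bot (eq_bot_iff.2 fun d hd => mem_bot.2 ?_) χ hχ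
    have hord : ¬ ∀ q : ℕ, q.Prime → q ∣ orderOf g → q = p := by
      intro hall
      obtain ⟨Q, hQ⟩ := (IsPGroup.of_card (G := zpowers g) (n := (orderOf g).primeFactorsList.length)
        (p := p) (by
          rw [Nat.card_zpowers]
          exact Nat.eq_prime_pow_of_unique_prime_dvd (orderOf_pos g).ne'
            (fun {q} hq hqd => hall q hq hqd))).exists_le_sylow
      have := Sylow.unique_of_normal P hPn
      exact hg ((Subsingleton.elim Q P) ▸ hQ (mem_zpowers g))
    push Not at hord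
    obtain ⟨q, hq, hqd, hqp⟩ := hord
    have := Fact.mk hq
    have hb : orderOf (g ^ (orderOf g / q)) = q :=
      orderOf_pow_orderOf_div (orderOf_pos g).ne' hqd
    set b := g ^ (orderOf g / q) with hbdef
    have hbQ : IsPGroup q (zpowers b) :=
      IsPGroup.of_card (n := 1) (by rw [Nat.card_zpowers, hb, pow_one])
    obtain ⟨Q, hQ⟩ := hbQ.exists_le_sylow
    let QA : Sylow q A := default
    have hQAcard : Nat.card ((QA : Subgroup A).map A.subtype) =
        q ^ (Nat.card G).factorization q := by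
      rw [Subgroup.card_map_of_injective A.subtype_injective, QA.card_eq_multiplicity]
      congr 1
      have hinf : A ⊓ (P : Subgroup G) = ⊥ := Coprime.inf_eq_bot_of_coprime (by
        rw [P.card_eq_multiplicity]; exact hAcop.pow_right _)
      have h1 := Coprime.card_sup_of_inf_eq_bot (N := (P : Subgroup G))
        (by rw [Subgroup.normalizer_eq_top]; exact le_top) hinf
      rw [sup_comm, hsup, Subgroup.card_top] at h1
      rw [h1, Nat.factorization_mul Nat.card_pos.ne' Nat.card_pos.ne', P.card_eq_multiplicity,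
        hp.out.factorization_pow, Finsupp.add_apply, Finsupp.single_apply, if_neg (Ne.symm hqp),
        zero_add]
    obtain ⟨t, ht⟩ := MulAction.exists_smul_eq G Q (Sylow.ofCard _ hQAcard)
    have hbA : t * b * t⁻¹ ∈ A := by
      have h1 : t * b * t⁻¹ ∈ ((t • Q : Sylow q G) : Subgroup G) := by
        rw [Sylow.coe_subgroup_smul, Subgroup.mem_pointwise_smul_iff_inv_smul_mem, ← map_inv,
          MulAut.smul_def, MulAut.conj_apply, inv_inv, show t⁻¹ * (t * b * t⁻¹) * t = b by group]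
        exact hQ (mem_zpowers b)
      rw [ht, Sylow.coe_ofCard] at h1
      obtain ⟨w, -, hw⟩ := h1
      exact hw ▸ w.2
    have hbne : t * b * t⁻¹ ≠ 1 := fun e => by
      rw [conj_eq_one_iff.1 e, orderOf_one] at hb
      exact hq.one_lt.ne hb
    have hdb : Commute b d :=
      (show Commute g d from (mem_centralizer_singleton_iff.1 hd.1).symm).pow_left _
    have h2 := hfpf _ hbA hbne (t * d * t⁻¹) (hDn.conj_mem d (hG'D hd.2) t) (by
      rw [show t * b * t⁻¹ * (t * d * t⁻¹) = t * (b * d) * t⁻¹ by group, hdb.eq]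
      group)
    exact conj_eq_one_iff.1 h2
  intro x y χ hx hy ⟨r, s, a, b, hr, hs, hrs, ha, hb⟩
  by_cases hlin : (χ : G → ℂ) 1 = 1
  · obtain ⟨lam, hlam⟩ := Char.exists_hom_of_degree_one (Char.irr_isCharacter χ.2) hlin
    rw [hlam]
    simp
  have hP1 : ∀ (z : G) (l m : ℕ), l.Prime → l ≠ p → orderOf z = l ^ m → z ≠ 1 →
      z ∉ (P : Subgroup G) := by
    intro z l m hl hlp hz hz1 hzP
    refine hz1 (orderOf_eq_one_iff.1 (Nat.eq_one_of_dvd_coprimes ?_
      ((P : Subgroup G).orderOf_dvd_natCard hzP) (dvd_of_eq hz)))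
    rw [P.card_eq_multiplicity]
    exact Nat.Coprime.pow _ _ ((Nat.coprime_primes hp.out hl).2 (Ne.symm hlp))
  have hxy : x * y ∉ (P : Subgroup G) := by
    intro hm
    have h1 : QuotientGroup.mk' (P : Subgroup G) x * QuotientGroup.mk' (P : Subgroup G) y = 1 := by
      rw [← map_mul]; exact (QuotientGroup.eq_one_iff _).2 hm
    have h2 : orderOf (QuotientGroup.mk' (P : Subgroup G) x) ∣ s ^ b := by
      rw [eq_inv_of_mul_eq_one_left h1, orderOf_inv, ← hb]
      exact orderOf_map_dvd _ _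
    have h3 : QuotientGroup.mk' (P : Subgroup G) x = 1 := orderOf_eq_one_iff.1
      (Nat.eq_one_of_dvd_coprimes (Nat.Coprime.pow _ _ ((Nat.coprime_primes hr hs).2 hrs))
        (ha ▸ orderOf_map_dvd _ _) h2)
    have hxP : x ∈ (P : Subgroup G) := (QuotientGroup.eq_one_iff x).1 h3
    have hyP : y ∈ (P : Subgroup G) := (mul_mem_cancel_left hxP).1 hm
    rcases eq_or_ne r p with rfl | hrp
    · exact hP1 y s b hs (Ne.symm hrs) hb hy hyP
    · exact hP1 x r a hr hrp ha hx hxP
  rw [hvan χ hlin _ hxy]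
  rcases eq_or_ne r p with rfl | hrp
  · rw [hvan χ hlin y (hP1 y s b hs (Ne.symm hrs) hb hy), mul_zero]
  · rw [hvan χ hlin x (hP1 x r a hr hrp ha hx), zero_mul]

/-- A `p`-group satisfies the hypothesis vacuously. -/
theorem isMult_of_isPGroup {p : ℕ} (hp : p.Prime) (h : IsPGroup p G) : IsMult G := by
  intro x y χ hx hy ⟨r, s, a, b, hr, hs, hrs, ha, hb⟩
  have := Fact.mk hp
  have key : ∀ (z : G) (l m : ℕ), l.Prime → orderOf z = l ^ m → z ≠ 1 → l = p := by
    intro z l m hl hz hz1
    obtain ⟨i, hi⟩ := IsPGroup.iff_orderOf.1 h z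
    rcases Nat.eq_zero_or_pos m with rfl | hm
    · exact absurd (orderOf_eq_one_iff.1 (by rw [hz, pow_zero])) hz1
    · exact (Nat.prime_dvd_prime_iff_eq hl hp).1
        (hl.dvd_of_dvd_pow (hi ▸ hz ▸ dvd_pow_self l hm.ne'))
  exact absurd ((key x r a hr ha hx).trans (key y s b hs hb hy).symm) hrs

/-- An abelian group satisfies the hypothesis. -/
theorem isMult_of_comm (h : IsMulCommutative G) : IsMult G := by
  intro x y χ _ _ _
  obtain ⟨lam, hlam⟩ := Char.exists_hom_of_degree_one (Char.irr_isCharacter χ.2)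
    (Char.irr_degree_one_of_comm h.is_comm.comm χ.2)
  rw [hlam]
  simp

end CfsgLib.BlockB.Multiplicative
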