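import Cfsg.Agent.Lib.BlockB.ItoPSolvable
import Cfsg.Agent.Lib.BlockB.PEltValue
import Cfsg.Agent.Lib.BlockA.DegreeGapBasic
import Cfsg.Agent.Lib.BlockA.ResidualDegree
import Cfsg.Agent.Lib.Char.Induce
import Cfsg.Agent.Lib.Clifford.Constituents
import Mathlib.GroupTheory.PGroup

/-!
# The sum of the squares of the degrees prime to `p` and the Sylow normalizer

With `S(G)` the sum of the squares of the degrees prime to `p` and `N` the normalizer of a Sylow
subgroup `P` one has `|N| ≤ |P'| * S(G)`, with equality exactly when `N` has a normal complement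
(the latter when `N / P` is solvable).
-/

set_option autoImplicit false
set_option linter.unusedSectionVars false

namespace CfsgLib.BlockB.OddDegreeNormalizer

open Module Subgroup CfsgLib
open scoped ComplexConjugate commutatorElement

universe u v

variable {p : ℕ} [hp : Fact p.Prime]

/-- The irreducible characters of degree prime to `p`. -/
noncomputable def primeTo (p : ℕ) (G : Type u) [Group G] [Finite G] :
    Finset (Cfsg.IrrCharacter G) :=
  open scoped Classical in
  (@Finset.univ _ (Fintype.ofFinite _)).filter fun χ => ¬ p ∣ Cfsg.charDegree (χ : G → ℂ)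

/-- The sum of the squares of the degrees prime to `p`. -/
noncomputable def sumSq (p : ℕ) (G : Type u) [Group G] [Finite G] : ℕ :=
  ∑ χ ∈ primeTo p G, Cfsg.charDegree (χ : G → ℂ) ^ 2

variable {G : Type u} [Group G] [Finite G]

theorem mem_primeTo {χ : Cfsg.IrrCharacter G} :
    χ ∈ primeTo p G ↔ ¬ p ∣ Cfsg.charDegree (χ : G → ℂ) := by
  simp [primeTo]

theorem finsum_eq_sumSq :
    (∑ᶠ χ : {χ : Cfsg.IrrCharacter G // ¬ p ∣ Cfsg.charDegree (χ : G → ℂ)},
      Cfsg.charDegree (χ.1 : G → ℂ) ^ 2) = sumSq p G := by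
  classical
  have := Fintype.ofFinite (Cfsg.IrrCharacter G)
  rw [finsum_eq_sum_of_fintype, sumSq]
  exact (Finset.sum_subtype (primeTo p G) (fun χ => mem_primeTo)
    fun χ : Cfsg.IrrCharacter G => Cfsg.charDegree (χ : G → ℂ) ^ 2).symm

/-- A Sylow subgroup that is normal: the degrees prime to `p` are those trivial on `P'`. -/
theorem mem_primeTo_iff (P : Sylow p G) [(P : Subgroup G).Normal] (χ : Cfsg.IrrCharacter G) :
    χ ∈ primeTo p G ↔
      ∀ b ∈ (commutator ↥(P : Subgroup G)).map (P : Subgroup G).subtype,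
        (χ : G → ℂ) b = (χ : G → ℂ) 1 := by
  classical
  have := Fintype.ofFinite G
  have := Fintype.ofFinite (P : Subgroup G)
  rw [mem_primeTo]
  refine ⟨fun hd => ?_, fun hb => ?_⟩
  · obtain ⟨l, hl⟩ := BlockA.DegreeGap.exists_parts
      (φ := fun x : (P : Subgroup G) => (χ : G → ℂ) x)
      (Char.isCharacter_restrict (Char.irr_isCharacter χ.2) (P : Subgroup G))
    rintro _ ⟨b, hb, rfl⟩
    show (fun x : (P : Subgroup G) => (χ : G → ℂ) x) b =
      (fun x : (P : Subgroup G) => (χ : G → ℂ) x) 1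
    rw [hl, Pi.multiset_sum_apply, Pi.multiset_sum_apply, Multiset.map_map, Multiset.map_map]
    refine congrArg Multiset.sum (Multiset.map_congr rfl fun a ha => ?_)
    have h1 : (a : ↥(P : Subgroup G) → ℂ) 1 = 1 := by
      have hne : Cfsg.classInner (fun x : (P : Subgroup G) => (χ : G → ℂ) x)
          (a : ↥(P : Subgroup G) → ℂ) ≠ 0 := by
        rw [hl, BlockA.DegreeGap.inner_parts]
        exact_mod_cast (Multiset.count_pos.mpr ha).ne'
      have h2 := ItoPSolvable.charDegree_dvd_of_constituent (P : Subgroup G) χ.2 a.2 hne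
      obtain ⟨k, hk⟩ := P.2.exists_card_eq
      obtain ⟨j, -, hj⟩ := (Nat.dvd_prime_pow hp.out).1 (hk ▸ BlockB.irr_degree_dvd_card a)
      rw [← BlockB.charDegree_cast (Char.irr_isCharacter a.2), hj]
      rcases j with _ | j
      · simp
      · exact absurd (dvd_trans ⟨p ^ j, by rw [hj, pow_succ, mul_comm]⟩ h2) hd
    obtain ⟨f, hf⟩ := Char.exists_hom_of_degree_one (Char.irr_isCharacter a.2) h1
    simp [hf, MonoidHom.mem_ker.mp (Abelianization.commutator_subset_ker f hb)]
  · set B := (commutator ↥(P : Subgroup G)).map (P : Subgroup G).subtype with hB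
    have : B.Normal := inferInstance
    obtain ⟨ψ, hψ⟩ := (quotIrrEquiv B).surjective ⟨χ, hb⟩
    have hdeg : Cfsg.charDegree (χ : G → ℂ) = Cfsg.charDegree (ψ : G ⧸ B → ℂ) := by
      rw [Cfsg.charDegree, Cfsg.charDegree, ← show ((quotIrrEquiv B ψ).1 : Cfsg.IrrCharacter G) = χ
        from congrArg Subtype.val hψ, quotIrrEquiv_apply]
      rfl
    rw [hdeg]
    set Q := P.mapSurjective (QuotientGroup.mk'_surjective B) with hQ
    refine ItoPSolvable.not_dvd_of_normal_comm Q
      (Normal.map inferInstance _ (QuotientGroup.mk'_surjective B)) ⟨⟨fun x y => ?_⟩⟩ ψ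
    obtain ⟨_, a, ha, rfl⟩ := x
    obtain ⟨_, c, hc, rfl⟩ := y
    refine Subtype.ext ?_
    show QuotientGroup.mk' B a * QuotientGroup.mk' B c = QuotientGroup.mk' B c * QuotientGroup.mk' B a
    rw [← map_mul, ← map_mul, QuotientGroup.mk'_apply, QuotientGroup.mk'_apply, QuotientGroup.eq]
    refine ⟨⁅(⟨c, hc⟩ : (P : Subgroup G))⁻¹, (⟨a, ha⟩ : (P : Subgroup G))⁻¹⁆, ?_, ?_⟩
    · rw [_root_.commutator_def]
      exact commutator_mem_commutator (mem_top _) (mem_top _)
    · simp [commutatorElement_def, mul_assoc]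

/-- The count for a normal Sylow subgroup. -/
theorem card_eq_of_normal (P : Sylow p G) [(P : Subgroup G).Normal] :
    Nat.card G = Nat.card (commutator ↥(P : Subgroup G)) * sumSq p G := by
  classical
  set B := (commutator ↥(P : Subgroup G)).map (P : Subgroup G).subtype with hB
  have : B.Normal := inferInstance
  have := Fintype.ofFinite (G ⧸ B)
  have := Fintype.ofFinite (Cfsg.IrrCharacter (G ⧸ B))
  have := Fintype.ofFinite (Cfsg.IrrCharacter G)
  have hcard : Nat.card B = Nat.card (commutator ↥(P : Subgroup G)) :=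
    (Nat.card_congr ((commutator ↥(P : Subgroup G)).equivMapOfInjective _
      (P : Subgroup G).subtype_injective).toEquiv).symm
  have hsum : Nat.card (G ⧸ B) = sumSq p G := by
    have h1 := Char.sum_irr_sq (G := G ⧸ B)
    have h2 : ((∑ ψ : Cfsg.IrrCharacter (G ⧸ B), Cfsg.charDegree (ψ : G ⧸ B → ℂ) ^ 2 : ℕ) : ℂ) =
        (Nat.card (G ⧸ B) : ℂ) := by
      rw [← h1, Nat.cast_sum]
      refine Finset.sum_congr rfl fun ψ _ => ?_
      rw [Nat.cast_pow, BlockB.charDegree_cast (Char.irr_isCharacter ψ.2)]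
    rw [← (Nat.cast_injective (R := ℂ) h2), sumSq]
    rw [Finset.sum_subtype (primeTo p G) (p := fun χ : Cfsg.IrrCharacter G =>
      ∀ b ∈ B, (χ : G → ℂ) b = (χ : G → ℂ) 1) (fun χ => mem_primeTo_iff P χ)
      fun χ : Cfsg.IrrCharacter G => Cfsg.charDegree (χ : G → ℂ) ^ 2]
    refine Fintype.sum_equiv (quotIrrEquiv B) _ _ fun ψ => ?_
    rw [Cfsg.charDegree, Cfsg.charDegree, quotIrrEquiv_apply]
    rfl
  rw [card_eq_card_quotient_mul_card_subgroup B, hsum, hcard, mul_comm]

theorem deg_eq (χ : Cfsg.IrrCharacter G) :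
    BlockA.DegreeGap.deg χ = Cfsg.charDegree (χ : G → ℂ) := by
  refine Nat.cast_injective (R := ℂ) ?_
  rw [← BlockA.DegreeGap.deg_spec, BlockB.charDegree_cast (Char.irr_isCharacter χ.2)]

theorem charDegree_pos (χ : Cfsg.IrrCharacter G) : 0 < Cfsg.charDegree (χ : G → ℂ) :=
  deg_eq χ ▸ BlockA.DegreeGap.deg_pos χ

/-- The degree is the sum over the constituents. -/
theorem sum_parts_deg {H : Type v} [Group H] [Finite H] {φ : H → ℂ} {d : ℕ} (hd : φ 1 = (d : ℂ))
    {l : Multiset (Cfsg.IrrCharacter H)}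
    (hl : φ = (l.map fun χ : Cfsg.IrrCharacter H => (χ : H → ℂ)).sum) :
    (l.map fun χ : Cfsg.IrrCharacter H => Cfsg.charDegree (χ : H → ℂ)).sum = d := by
  refine Nat.cast_injective (R := ℂ) ?_
  rw [← hd, hl, Pi.multiset_sum_apply, Multiset.map_map, ← Nat.coe_castAddMonoidHom,
    map_multiset_sum, Multiset.map_map]
  exact congrArg Multiset.sum (Multiset.map_congr rfl fun χ _ =>
    BlockB.charDegree_cast (Char.irr_isCharacter χ.2))

/-- Multiplicities in the restriction. -/
theorem exists_mult (H : Subgroup G) [Fintype H] (χ : Cfsg.IrrCharacter G) :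
    ∃ l : Multiset (Cfsg.IrrCharacter H),
      (∀ θ : Cfsg.IrrCharacter H, open scoped Classical in
        Cfsg.classInner (fun x : H => (χ : G → ℂ) x) (θ : H → ℂ) = (l.count θ : ℂ)) ∧
      (fun x : H => (χ : G → ℂ) x) = (l.map fun θ : Cfsg.IrrCharacter H => (θ : H → ℂ)).sum ∧
      (l.map fun θ : Cfsg.IrrCharacter H => Cfsg.charDegree (θ : H → ℂ)).sum =
        Cfsg.charDegree (χ : G → ℂ) := by
  classical
  obtain ⟨l, hl⟩ := BlockA.DegreeGap.exists_parts (φ := fun x : H => (χ : G → ℂ) x)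
    (Char.isCharacter_restrict (Char.irr_isCharacter χ.2) H)
  refine ⟨l, fun θ => by rw [hl, BlockA.DegreeGap.inner_parts], hl, sum_parts_deg ?_ hl⟩
  rw [BlockB.charDegree_cast (Char.irr_isCharacter χ.2)]
  simp

/-- Distinct constituents have total degree at most the degree. -/
theorem sum_deg_le (H : Subgroup G) [Fintype H] (χ : Cfsg.IrrCharacter G)
    (s : Finset (Cfsg.IrrCharacter H))
    (hs : ∀ θ ∈ s, Cfsg.classInner (fun x : H => (χ : G → ℂ) x) (θ : H → ℂ) ≠ 0) :
    ∑ θ ∈ s, Cfsg.charDegree (θ : H → ℂ) ≤ Cfsg.charDegree (χ : G → ℂ) := by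
  classical
  obtain ⟨l, hl, -, hsum⟩ := exists_mult H χ
  rw [← hsum, Finset.sum_multiset_map_count]
  have hmem : ∀ θ ∈ s, θ ∈ l := fun θ hθ => by
    have := hs θ hθ
    rw [hl, Nat.cast_ne_zero, Multiset.count_ne_zero] at this
    exact this
  calc ∑ θ ∈ s, Cfsg.charDegree (θ : H → ℂ)
      ≤ ∑ θ ∈ s, l.count θ • Cfsg.charDegree (θ : H → ℂ) := Finset.sum_le_sum fun θ hθ => by
        rw [smul_eq_mul]; exact Nat.le_mul_of_pos_left _ (Multiset.count_pos.mpr (hmem θ hθ))
    _ ≤ _ := Finset.sum_le_sum_of_subset_of_nonneg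
        (fun θ hθ => Multiset.mem_toFinset.mpr (hmem θ hθ)) fun _ _ _ => Nat.zero_le _

/-- Over a degree prime to `p` of a subgroup of index prime to `p` lies one of the group. -/
theorem exists_over (H : Subgroup G) [Fintype H] (hidx : ¬ p ∣ H.index) {θ : Cfsg.IrrCharacter H}
    (hθ : θ ∈ primeTo p H) :
    ∃ χ ∈ primeTo p G, Cfsg.classInner (fun x : H => (χ : G → ℂ) x) (θ : H → ℂ) ≠ 0 := by
  classical
  have := Fintype.ofFinite G
  obtain ⟨l, hl⟩ := BlockA.DegreeGap.exists_parts (φ := Cfsg.indFun H (θ : H → ℂ))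
    (Char.isCharacter_indFun H (Char.irr_isCharacter θ.2))
  have hsum := sum_parts_deg (d := H.index * Cfsg.charDegree (θ : H → ℂ)) (by
    rw [Char.indFun_apply_one, Nat.cast_mul, BlockB.charDegree_cast (Char.irr_isCharacter θ.2)]) hl
  by_contra hcon
  push Not at hcon
  refine (hp.out.not_dvd_mul hidx (mem_primeTo.mp hθ)) (hsum ▸ Multiset.dvd_sum fun d hd => ?_)
  obtain ⟨χ, hχ, rfl⟩ := Multiset.mem_map.mp hd
  by_contra hnd
  have h0 := hcon χ (mem_primeTo.mpr hnd)
  have h1 : Cfsg.classInner (Cfsg.indFun H (θ : H → ℂ)) (χ : G → ℂ) = 0 := by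
    rw [Char.frobenius_reciprocity H _ _ (Char.irr_isClassFunction χ.2),
      ← Char.classInner_conj_symm, h0, map_zero]
  rw [hl, BlockA.DegreeGap.inner_parts, Nat.cast_eq_zero, Multiset.count_eq_zero] at h1
  exact h1 hχ

/-- The sum of squares grows at least by the index over a normal subgroup of index prime to `p`. -/
theorem index_mul_sumSq_le (M : Subgroup G) [M.Normal] (hidx : ¬ p ∣ M.index) :
    M.index * sumSq p M ≤ sumSq p G := by
  classical
  have := Fintype.ofFinite G
  have := Fintype.ofFinite M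
  choose m hm _ hsum using fun χ : Cfsg.IrrCharacter G => exists_mult M χ
  have key : ∀ θ ∈ primeTo p M, M.index * Cfsg.charDegree (θ : M → ℂ) ≤
      ∑ χ ∈ primeTo p G, (m χ).count θ * Cfsg.charDegree (χ : G → ℂ) := by
    intro θ hθ
    obtain ⟨l, hl⟩ := BlockA.DegreeGap.exists_parts (φ := Cfsg.indFun M (θ : M → ℂ))
      (Char.isCharacter_indFun M (Char.irr_isCharacter θ.2))
    have hs := sum_parts_deg (d := M.index * Cfsg.charDegree (θ : M → ℂ)) (by
      rw [Char.indFun_apply_one, Nat.cast_mul, BlockB.charDegree_cast (Char.irr_isCharacter θ.2)]) hl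
    have hcount : ∀ χ : Cfsg.IrrCharacter G, l.count χ = (m χ).count θ := by
      intro χ
      refine Nat.cast_injective (R := ℂ) ?_
      rw [← BlockA.DegreeGap.inner_parts l χ, ← hl,
        Char.frobenius_reciprocity M _ _ (Char.irr_isClassFunction χ.2),
        ← Char.classInner_conj_symm, hm, map_natCast]
    rw [← hs, Finset.sum_multiset_map_count]
    refine le_of_eq_of_le (Finset.sum_congr rfl fun χ _ => by rw [smul_eq_mul, hcount])
      (Finset.sum_le_sum_of_subset_of_nonneg (fun χ hχ => ?_) fun _ _ _ => Nat.zero_le _)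
    rw [mem_primeTo]
    have hne : Cfsg.classInner (fun x : M => (χ : G → ℂ) x) (θ : M → ℂ) ≠ 0 := by
      rw [hm, Nat.cast_ne_zero, ← hcount, Multiset.count_ne_zero]
      exact Multiset.mem_toFinset.mp hχ
    obtain ⟨e, he, hed⟩ := Clifford.degree_quot_dvd_index χ.2 θ.2 hne
    rw [← BlockB.charDegree_cast (Char.irr_isCharacter χ.2),
      ← BlockB.charDegree_cast (Char.irr_isCharacter θ.2), ← Nat.cast_mul, Nat.cast_inj] at he
    rw [he]
    exact hp.out.not_dvd_mul (fun h => hidx (h.trans hed)) (mem_primeTo.mp hθ)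
  rw [sumSq, Finset.mul_sum]
  calc ∑ θ ∈ primeTo p M, M.index * Cfsg.charDegree (θ : M → ℂ) ^ 2
      ≤ ∑ θ ∈ primeTo p M, (∑ χ ∈ primeTo p G, (m χ).count θ * Cfsg.charDegree (χ : G → ℂ)) *
          Cfsg.charDegree (θ : M → ℂ) := Finset.sum_le_sum fun θ hθ => by
        rw [sq, ← mul_assoc]; exact Nat.mul_le_mul_right _ (key θ hθ)
    _ = ∑ χ ∈ primeTo p G, Cfsg.charDegree (χ : G → ℂ) *
          ∑ θ ∈ primeTo p M, (m χ).count θ * Cfsg.charDegree (θ : M → ℂ) := by
        simp_rw [Finset.sum_mul, Finset.mul_sum]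
        rw [Finset.sum_comm]
        exact Finset.sum_congr rfl fun χ _ => Finset.sum_congr rfl fun θ _ => by ring
    _ ≤ sumSq p G := Finset.sum_le_sum fun χ _ => by
        rw [sq]
        refine Nat.mul_le_mul_left _ ?_
        rw [← hsum χ, Finset.sum_multiset_map_count]
        rw [← Finset.sum_filter_of_ne (p := fun θ => θ ∈ m χ) (fun θ _ h0 => by
          by_contra hθ
          exact h0 (by rw [Multiset.count_eq_zero.mpr hθ, zero_mul]))]
        exact Finset.sum_le_sum_of_subset_of_nonneg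
          (fun θ hθ => Multiset.mem_toFinset.mpr (Finset.mem_filter.mp hθ).2)
          fun _ _ _ => Nat.zero_le _

theorem natCard_commutator_congr {A B : Type*} [Group A] [Group B] (e : A ≃* B) :
    Nat.card (commutator A) = Nat.card (commutator B) := by
  have h : (commutator A).map e.toMonoidHom = commutator B := by
    rw [_root_.commutator_def, _root_.commutator_def, map_commutator,
      ← MonoidHom.range_eq_map, MonoidHom.range_eq_top.mpr e.surjective]
  rw [← h]
  exact Nat.card_congr ((commutator A).equivMapOfInjective _ e.injective).toEquiv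

theorem natCard_commutator_subtype (P : Sylow p G) {H : Subgroup G} (hPH : (P : Subgroup G) ≤ H) :
    Nat.card (commutator ↥(P.subtype hPH : Subgroup H)) =
      Nat.card (commutator ↥(P : Subgroup G)) :=
  natCard_commutator_congr (subgroupOfEquivOfLe hPH)

/-- The count in the normalizer. -/
theorem card_normalizer_eq (P : Sylow p G) :
    Nat.card (Subgroup.normalizer ((P : Subgroup G) : Set G)) =
      Nat.card (commutator ↥(P : Subgroup G)) *
        sumSq p (Subgroup.normalizer ((P : Subgroup G) : Set G)) := by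
  have hle : (P : Subgroup G) ≤ Subgroup.normalizer ((P : Subgroup G) : Set G) := le_normalizer
  have : ((P.subtype hle : Subgroup (Subgroup.normalizer ((P : Subgroup G) : Set G)))).Normal :=
    (inferInstance : ((P : Subgroup G).subgroupOf _).Normal)
  rw [card_eq_of_normal (P.subtype hle), natCard_commutator_subtype P hle]

theorem not_dvd_index_normalizer (P : Sylow p G) :
    ¬ p ∣ (Subgroup.normalizer ((P : Subgroup G) : Set G)).index :=
  fun h => P.not_dvd_index (h.trans (index_dvd_of_le le_normalizer))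

/-- The inequality, with the shape of the restriction in the case of equality. -/
theorem main_inequality (P : Sylow p G) :
    Nat.card (Subgroup.normalizer ((P : Subgroup G) : Set G)) ≤
      Nat.card (commutator ↥(P : Subgroup G)) * sumSq p G ∧
    (Nat.card (Subgroup.normalizer ((P : Subgroup G) : Set G)) =
      Nat.card (commutator ↥(P : Subgroup G)) * sumSq p G →
      (∀ χ ∈ primeTo p G, Cfsg.IsIrrCharacter (Subgroup.normalizer ((P : Subgroup G) : Set G))
        fun x => (χ : G → ℂ) x) ∧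
      ∀ ψ ∈ primeTo p (Subgroup.normalizer ((P : Subgroup G) : Set G)),
        ∃ χ ∈ primeTo p G, ∀ x : ↥(Subgroup.normalizer ((P : Subgroup G) : Set G)),
          (χ : G → ℂ) (x : G) =
            (ψ : ↥(Subgroup.normalizer ((P : Subgroup G) : Set G)) → ℂ) x) := by
  classical
  set N := Subgroup.normalizer ((P : Subgroup G) : Set G) with hN
  have := Fintype.ofFinite G
  have := Fintype.ofFinite N
  rw [card_normalizer_eq P]
  have : Nonempty (Cfsg.IrrCharacter G) := ⟨BlockA.DegreeGap.one G⟩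
  choose! f hf hfi using fun (θ : Cfsg.IrrCharacter N) (hθ : θ ∈ primeTo p N) =>
    exists_over N (not_dvd_index_normalizer P) hθ
  have hsum : ∀ χ : Cfsg.IrrCharacter G,
      ∑ θ ∈ (primeTo p N).filter (fun θ => f θ = χ), Cfsg.charDegree (θ : N → ℂ) ≤
        Cfsg.charDegree (χ : G → ℂ) := fun χ => sum_deg_le N χ _ fun θ hθ => by
    obtain ⟨h1, h2⟩ := Finset.mem_filter.mp hθ
    exact h2 ▸ hfi θ h1
  have hfib : ∀ χ ∈ primeTo p G,
      ∑ θ ∈ (primeTo p N).filter (fun θ => f θ = χ), Cfsg.charDegree (θ : N → ℂ) ^ 2 ≤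
        Cfsg.charDegree (χ : G → ℂ) ^ 2 := fun χ _ =>
    (Finset.sum_sq_le_sq_sum_of_nonneg fun _ _ => Nat.zero_le _).trans
      (Nat.pow_le_pow_left (hsum χ) 2)
  have hS : sumSq p N = ∑ χ ∈ primeTo p G,
      ∑ θ ∈ (primeTo p N).filter (fun θ => f θ = χ), Cfsg.charDegree (θ : N → ℂ) ^ 2 :=
    (Finset.sum_fiberwise_of_maps_to (fun θ hθ => hf θ hθ)
      fun θ : Cfsg.IrrCharacter N => Cfsg.charDegree (θ : N → ℂ) ^ 2).symm
  refine ⟨Nat.mul_le_mul_left _ (hS ▸ Finset.sum_le_sum hfib), fun heq => ?_⟩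
  have heq' : sumSq p N = sumSq p G := Nat.eq_of_mul_eq_mul_left Nat.card_pos heq
  rw [hS] at heq'
  have heach := (Finset.sum_eq_sum_iff_of_le hfib).mp heq'
  have hirr : ∀ χ ∈ primeTo p G, ∃ θ : Cfsg.IrrCharacter N,
      (fun x : N => (χ : G → ℂ) x) = (θ : N → ℂ) := by
    intro χ hχ
    set F := (primeTo p N).filter (fun θ => f θ = χ) with hF
    have hpos := charDegree_pos χ
    have hne : F.Nonempty := by
      rw [Finset.nonempty_iff_ne_empty]
      intro e
      have h := heach χ hχ
      rw [← hF, e, Finset.sum_empty] at h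
      exact absurd h.symm (pow_ne_zero 2 hpos.ne')
    obtain ⟨θ, hθ, hmax⟩ := F.exists_max_image (fun θ => Cfsg.charDegree (θ : N → ℂ)) hne
    have h1 : Cfsg.charDegree (χ : G → ℂ) ≤ Cfsg.charDegree (θ : N → ℂ) := by
      refine Nat.le_of_mul_le_mul_right ?_ hpos
      rw [← sq, ← heach χ hχ]
      calc ∑ η ∈ F, Cfsg.charDegree (η : N → ℂ) ^ 2
          ≤ ∑ η ∈ F, Cfsg.charDegree (θ : N → ℂ) * Cfsg.charDegree (η : N → ℂ) :=
            Finset.sum_le_sum fun η hη => by rw [sq]; exact Nat.mul_le_mul_right _ (hmax η hη)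
        _ = Cfsg.charDegree (θ : N → ℂ) * ∑ η ∈ F, Cfsg.charDegree (η : N → ℂ) :=
            (Finset.mul_sum _ _ _).symm
        _ ≤ _ := Nat.mul_le_mul_left _ (hsum χ)
    refine ⟨θ, ?_⟩
    obtain ⟨l, hl, hle', hd⟩ := exists_mult N χ
    obtain ⟨hθp, hθf⟩ := Finset.mem_filter.mp hθ
    have hmem : θ ∈ l := by
      have h2 := hθf ▸ hfi θ hθp
      rw [hl, Nat.cast_ne_zero, Multiset.count_ne_zero] at h2
      exact h2
    obtain ⟨t, rfl⟩ := Multiset.exists_cons_of_mem hmem
    rcases Multiset.empty_or_exists_mem t with rfl | ⟨η, hη⟩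
    · rw [hle', Multiset.map_cons, Multiset.map_zero, Multiset.sum_cons, Multiset.sum_zero, add_zero]
    · obtain ⟨t', rfl⟩ := Multiset.exists_cons_of_mem hη
      simp only [Multiset.map_cons, Multiset.sum_cons] at hd
      have := charDegree_pos η
      omega
  refine ⟨fun χ hχ => ?_, fun ψ hψ => ⟨f ψ, hf ψ hψ, fun x => ?_⟩⟩
  · obtain ⟨θ, hθ⟩ := hirr χ hχ
    rw [hθ]; exact θ.2
  · obtain ⟨θ, hθ⟩ := hirr (f ψ) (hf ψ hψ)
    have hne := hfi ψ hψ
    rw [hθ] at hne
    have : θ = ψ := by
      by_contra hne'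
      exact hne (Char.irr_classInner_ne θ.2 ψ.2 fun e => hne' (Subtype.ext e))
    subst this
    exact congrFun hθ x

/-- A normal subgroup of order prime to `p` on which a Sylow subgroup fixes only the identity
is in the kernel of every character of degree prime to `p`. -/
theorem trivial_on_complement (P : Sylow p G) (K : Subgroup G) [K.Normal]
    (hfix : ∀ k ∈ K, (∀ z ∈ (P : Subgroup G), z * k = k * z) → k = 1)
    {χ : Cfsg.IrrCharacter G} (hχ : χ ∈ primeTo p G) {k : G} (hk : k ∈ K) :
    (χ : G → ℂ) k = (χ : G → ℂ) 1 := by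
  classical
  have := Fintype.ofFinite G
  have := Fintype.ofFinite K
  let : MulAction (P : Subgroup G) K :=
    { smul := fun z x => ⟨(z : G) * (x : G) * (z : G)⁻¹, (inferInstance : K.Normal).conj_mem _ x.2 _⟩
      one_smul := fun x => Subtype.ext (show (1 : G) * x * 1⁻¹ = x by simp)
      mul_smul := fun a b x => Subtype.ext (show
        ((a : G) * b) * x * ((a : G) * b)⁻¹ = a * (b * x * (b : G)⁻¹) * (a : G)⁻¹ by group) }
  have hinv : ∀ (z : (P : Subgroup G)) (x : K), (χ : G → ℂ) ((z • x : K) : G) = (χ : G → ℂ) x :=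
    fun z x => Char.irr_isClassFunction χ.2 (x : G) (z : G)
  -- the sum over the orbits
  have := Fintype.ofFinite (MulAction.orbitRel.Quotient (P : Subgroup G) K)
  set r : MulAction.orbitRel.Quotient (P : Subgroup G) K → K := Quotient.out with hr
  set ω₀ : MulAction.orbitRel.Quotient (P : Subgroup G) K :=
    Quotient.mk (MulAction.orbitRel (P : Subgroup G) K) 1 with hω₀
  have hsum : ∑ x : K, (χ : G → ℂ) x =
      ∑ ω, (Finset.univ.filter fun x : K =>
        Quotient.mk (MulAction.orbitRel (P : Subgroup G) K) x = ω).card • (χ : G → ℂ) (r ω) := by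
    rw [← Finset.sum_fiberwise Finset.univ (Quotient.mk (MulAction.orbitRel (P : Subgroup G) K))]
    refine Finset.sum_congr rfl fun ω _ => ?_
    rw [← Finset.sum_const]
    refine Finset.sum_congr rfl fun x hx => ?_
    obtain ⟨z, hz⟩ := MulAction.orbitRel_apply.mp
      (Quotient.exact ((Finset.mem_filter.mp hx).2.trans (Quotient.out_eq ω).symm))
    rw [← hz]
    exact hinv z (r ω)
  have hcard : ∀ ω, (Finset.univ.filter fun x : K =>
      Quotient.mk (MulAction.orbitRel (P : Subgroup G) K) x = ω).card =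
        Nat.card (MulAction.orbit (P : Subgroup G) (r ω)) := by
    intro ω
    rw [← Nat.card_eq_finsetCard]
    refine Nat.card_congr (Equiv.subtypeEquivRight fun x => ?_)
    rw [Finset.mem_filter, ← MulAction.orbitRel_apply, and_iff_right (Finset.mem_univ _)]
    conv_lhs => rw [← Quotient.out_eq ω, Quotient.eq]
  have hdvd : ∀ ω ∈ (Finset.univ.erase ω₀), p ∣ Nat.card (MulAction.orbit (P : Subgroup G) (r ω)) := by
    intro ω hω
    obtain ⟨n, hn⟩ := P.2.card_orbit (r ω)
    rcases n with _ | n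
    · exfalso
      rw [pow_zero, Nat.card_eq_one_iff_unique] at hn
      have := hn.1
      have h1 : r ω = 1 := Subtype.ext (hfix _ (r ω).2 fun z hz => by
        have h2 : (⟨z, hz⟩ : (P : Subgroup G)) • r ω = r ω := congrArg Subtype.val
          (Subsingleton.elim (⟨_, MulAction.mem_orbit (r ω) (⟨z, hz⟩ : (P : Subgroup G))⟩ :
            MulAction.orbit (P : Subgroup G) (r ω)) ⟨_, MulAction.mem_orbit_self _⟩)
        exact mul_inv_eq_iff_eq_mul.mp (congrArg Subtype.val h2))
      refine Finset.ne_of_mem_erase hω ?_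
      rw [hω₀, ← h1]
      exact (Quotient.out_eq ω).symm
    · exact hn ▸ dvd_pow_self p n.succ_ne_zero
  choose! c hc using hdvd
  have hsum2 : ∑ x : K, (χ : G → ℂ) x =
      (χ : G → ℂ) 1 + (p : ℂ) * ∑ ω ∈ Finset.univ.erase ω₀, (c ω : ℂ) * (χ : G → ℂ) (r ω) := by
    rw [hsum, ← Finset.add_sum_erase _ _ (Finset.mem_univ ω₀), Finset.mul_sum]
    have h1 : MulAction.orbit (P : Subgroup G) (r ω₀) = {1} := by
      have h2 : r ω₀ ∈ MulAction.orbit (P : Subgroup G) (1 : K) :=
        MulAction.orbitRel_apply.mp (Quotient.exact (Quotient.out_eq ω₀))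
      have h3 : MulAction.orbit (P : Subgroup G) (1 : K) = {1} := by
        refine Set.eq_singleton_iff_unique_mem.mpr ⟨MulAction.mem_orbit_self _, ?_⟩
        rintro _ ⟨z, rfl⟩
        exact Subtype.ext (show (z : G) * 1 * (z : G)⁻¹ = 1 by simp)
      rw [MulAction.orbit_eq_iff.mpr h2, h3]
    congr 1
    · have h4 : r ω₀ = 1 := Set.mem_singleton_iff.mp (h1 ▸ MulAction.mem_orbit_self (r ω₀))
      rw [hcard, h1, Nat.card_coe_set_eq, Set.ncard_singleton, one_smul, h4, Subgroup.coe_one]
    · refine Finset.sum_congr rfl fun ω hω => ?_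
      rw [hcard, hc ω hω, nsmul_eq_mul, Nat.cast_mul, mul_assoc]
  by_contra hne
  -- the multiplicity of the trivial character
  obtain ⟨l, hl, hle, -⟩ := exists_mult K χ
  have h0 : Cfsg.classInner (fun x : K => (χ : G → ℂ) x) (fun _ => (1 : ℂ)) = 0 := by
    by_contra h1
    apply hne
    obtain ⟨a, ha⟩ : ∃ a, a = (⟨fun _ => 1, Char.isIrrCharacter_one⟩ : Cfsg.IrrCharacter K) := ⟨_, rfl⟩
    have hall : ∀ θ ∈ l, θ = a := fun θ hθ => by
      obtain ⟨g, hg⟩ := Clifford.exists_conj_of_constituents (N := K) χ.2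
        Char.isIrrCharacter_one θ.2 h1
        (by rw [hl]; exact_mod_cast (Multiset.count_pos.mpr hθ).ne')
      rw [ha]
      exact Subtype.ext (hg.symm.trans rfl)
    show (fun x : K => (χ : G → ℂ) x) ⟨k, hk⟩ = (fun x : K => (χ : G → ℂ) x) 1
    rw [hle, Pi.multiset_sum_apply, Pi.multiset_sum_apply, Multiset.map_map, Multiset.map_map]
    exact congrArg Multiset.sum (Multiset.map_congr rfl fun θ hθ => by rw [hall θ hθ, ha]; rfl)
  rw [Char.classInner_def] at h0
  simp only [map_one, mul_one] at h0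
  rw [hsum2] at h0
  have hz := (mul_eq_zero.mp h0).resolve_left
    (inv_ne_zero (Nat.cast_ne_zero.mpr Nat.card_pos.ne'))
  set a := ∑ ω ∈ Finset.univ.erase ω₀, (c ω : ℂ) * (χ : G → ℂ) (r ω) with ha
  have hint : IsIntegral ℤ a := IsIntegral.sum _ fun ω _ => by
    refine IsIntegral.mul (isIntegral_algebraMap (R := ℤ) (A := ℂ) (x := (c ω : ℤ)) |> fun h => by
      simpa using h) ?_
    obtain ⟨n, ρ, -, he⟩ := χ.2
    rw [← he]
    exact Char.char_isIntegral ρ _
  rw [← BlockB.charDegree_cast (Char.irr_isCharacter χ.2)] at hz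
  set d := Cfsg.charDegree (χ : G → ℂ) with hd
  have ha' : a = algebraMap ℚ ℂ (-(d : ℚ) / p) := by
    have hp0 : (p : ℂ) ≠ 0 := Nat.cast_ne_zero.mpr hp.out.ne_zero
    rw [map_div₀, map_neg, map_natCast, map_natCast, eq_div_iff hp0]
    linear_combination hz
  rw [ha', isIntegral_algebraMap_iff (algebraMap ℚ ℂ).injective,
    IsIntegrallyClosed.isIntegral_iff] at hint
  obtain ⟨y, hy⟩ := hint
  refine mem_primeTo.mp hχ (Int.natCast_dvd_natCast.mp ⟨-y, ?_⟩)
  have hp0 : (p : ℚ) ≠ 0 := Nat.cast_ne_zero.mpr hp.out.ne_zero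
  have h5 : ((d : ℤ) : ℚ) = (((p : ℤ) * -y : ℤ) : ℚ) := by
    push_cast
    rw [eq_intCast, eq_div_iff hp0] at hy
    linear_combination hy
  exact_mod_cast h5

/-- A normal complement of the normalizer gives equality. -/
theorem eq_of_complement (P : Sylow p G) (K : Subgroup G) [K.Normal]
    (hinf : K ⊓ Subgroup.normalizer ((P : Subgroup G) : Set G) = ⊥)
    (hsup : K ⊔ Subgroup.normalizer ((P : Subgroup G) : Set G) = ⊤) :
    Nat.card (Subgroup.normalizer ((P : Subgroup G) : Set G)) =
      Nat.card (commutator ↥(P : Subgroup G)) * sumSq p G := by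
  classical
  refine le_antisymm (main_inequality P).1 ?_
  set N := Subgroup.normalizer ((P : Subgroup G) : Set G) with hN
  rw [card_normalizer_eq P]
  refine Nat.mul_le_mul_left _ ?_
  have hfix : ∀ k ∈ K, (∀ z ∈ (P : Subgroup G), z * k = k * z) → k = 1 := by
    intro k hk hc
    refine (mem_bot.mp (hinf ▸ ⟨hk, ?_⟩))
    show k ∈ N
    rw [hN, mem_normalizer_iff]
    intro z
    constructor
    · intro hz
      rwa [← hc z hz, mul_inv_cancel_right]
    · intro hz
      have h1 := hc _ hz
      have : z = k * z * k⁻¹ := by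
        calc z = k⁻¹ * ((k * z * k⁻¹) * k) := by group
          _ = k * z * k⁻¹ := by rw [h1]; group
      rwa [this]
  have htriv : ∀ χ ∈ primeTo p G, ∀ k ∈ K, (χ : G → ℂ) k = (χ : G → ℂ) 1 :=
    fun χ hχ k hk => trivial_on_complement P K hfix hχ hk
  have hmul : ∀ g : G, ∃ n : N, QuotientGroup.mk' K (n : G) = QuotientGroup.mk' K g := by
    intro g
    have hg : g ∈ ((N ⊔ K : Subgroup G) : Set G) := by rw [sup_comm, hsup]; trivial
    rw [Subgroup.mul_normal] at hg
    obtain ⟨n, hn, k, hk, rfl⟩ := hg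
    exact ⟨⟨n, hn⟩, by rw [map_mul, (QuotientGroup.eq_one_iff (N := K) k).mpr hk |>
      (fun h => show QuotientGroup.mk' K k = 1 from h), mul_one]⟩
  have hres : ∀ χ : Cfsg.IrrCharacter G, ∃ θ : Cfsg.IrrCharacter N, χ ∈ primeTo p G →
      (θ : N → ℂ) = fun x : N => (χ : G → ℂ) x := by
    intro χ
    by_cases hχ : χ ∈ primeTo p G
    · obtain ⟨ψ, hψ⟩ := (quotIrrEquiv K).surjective ⟨χ, htriv χ hχ⟩
      refine ⟨⟨_, Char.isIrrCharacter_comp_surjective ψ.2 ((QuotientGroup.mk' K).comp N.subtype)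
        fun y => ?_⟩, fun _ => funext fun x => ?_⟩
      · obtain ⟨g, rfl⟩ := QuotientGroup.mk'_surjective K y
        exact hmul g
      · exact congrFun (congrArg Subtype.val (congrArg Subtype.val hψ)) (x : G)
    · exact ⟨⟨fun _ => 1, Char.isIrrCharacter_one⟩, fun h => absurd h hχ⟩
  choose r hr using hres
  have hdeg : ∀ χ ∈ primeTo p G, Cfsg.charDegree (r χ : N → ℂ) = Cfsg.charDegree (χ : G → ℂ) := by
    intro χ hχ
    rw [hr χ hχ, Cfsg.charDegree, Cfsg.charDegree]
    rfl
  calc sumSq p G = ∑ χ ∈ primeTo p G, Cfsg.charDegree (r χ : N → ℂ) ^ 2 :=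
        Finset.sum_congr rfl fun χ hχ => by rw [hdeg χ hχ]
    _ = ∑ θ ∈ (primeTo p G).image r, Cfsg.charDegree (θ : N → ℂ) ^ 2 := by
        refine (Finset.sum_image (f := fun θ : Cfsg.IrrCharacter N => Cfsg.charDegree (θ : N → ℂ) ^ 2)
          fun a ha b hb hab => ?_).symm
        obtain ⟨a', ha'⟩ := (quotIrrEquiv K).surjective ⟨a, htriv a ha⟩
        obtain ⟨b', hb'⟩ := (quotIrrEquiv K).surjective ⟨b, htriv b hb⟩
        refine Subtype.ext (funext fun g => ?_)
        obtain ⟨n, hn⟩ := hmul g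
        have e1 : ∀ x : G, (a : G → ℂ) x = (a' : G ⧸ K → ℂ) (QuotientGroup.mk' K x) := fun x =>
          (congrFun (congrArg Subtype.val (congrArg Subtype.val ha')) x).symm
        have e2 : ∀ x : G, (b : G → ℂ) x = (b' : G ⧸ K → ℂ) (QuotientGroup.mk' K x) := fun x =>
          (congrFun (congrArg Subtype.val (congrArg Subtype.val hb')) x).symm
        rw [e1, e2, ← hn, ← e1, ← e2]
        have h1 := congrArg (fun θ : Cfsg.IrrCharacter N => (θ : N → ℂ) n) hab
        simp only [hr a ha, hr b hb] at h1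
        exact h1
    _ ≤ sumSq p N := Finset.sum_le_sum_of_subset_of_nonneg (fun θ hθ => by
        obtain ⟨χ, hχ, rfl⟩ := Finset.mem_image.mp hθ
        rw [mem_primeTo, hdeg χ hχ]
        exact mem_primeTo.mp hχ) fun _ _ _ => Nat.zero_le _

/-- Two normal complements of a Sylow normalizer coincide. -/
theorem complement_le (P : Sylow p G) (K L : Subgroup G) [K.Normal] [L.Normal]
    (hK : Subgroup.IsComplement' K (Subgroup.normalizer ((P : Subgroup G) : Set G)))
    (hL : Subgroup.IsComplement' L (Subgroup.normalizer ((P : Subgroup G) : Set G))) :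
    L ≤ K := by
  classical
  set N := Subgroup.normalizer ((P : Subgroup G) : Set G) with hN
  have hcop : ¬ p ∣ Nat.card L := by
    rw [← hL.index_eq_card]; exact not_dvd_index_normalizer P
  set τ := QuotientGroup.mk' K with hτ
  have hinj : ∀ y ∈ N, τ y = 1 → y = 1 := fun y hy h => by
    refine mem_bot.mp (hK.disjoint.le_bot ⟨?_, hy⟩)
    exact (QuotientGroup.eq_one_iff y).mp h
  intro l hl
  -- the class of `l` is centralised by `P`
  have hcomm : ∀ z ∈ (P : Subgroup G), τ z * τ l = τ l * τ z := by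
    intro z hz
    obtain ⟨⟨k, y⟩, hky⟩ := hK.2 l
    have hly : τ l = τ (y : G) := by
      rw [← hky]
      show τ ((k : G) * (y : G)) = _
      rw [map_mul, show τ (k : G) = 1 from (QuotientGroup.eq_one_iff _).mpr k.2, one_mul]
    have hc : ⁅z, (y : G)⁆ ∈ (P : Subgroup G) := by
      rw [commutatorElement_def, mul_assoc z, mul_assoc z]
      exact mul_mem hz ((mem_normalizer_iff.mp y.2 _).mp (inv_mem hz))
    have heq : τ ⁅z, (y : G)⁆ = τ ⁅z, l⁆ := by
      rw [map_commutatorElement, map_commutatorElement, hly]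
    have h1 : ⁅z, l⁆ ∈ L := by
      rw [commutatorElement_def]
      exact mul_mem ((inferInstance : L.Normal).conj_mem _ hl z) (inv_mem hl)
    have hone : ⁅z, (y : G)⁆ = 1 := by
      obtain ⟨i, hi⟩ := IsPGroup.iff_orderOf.mp P.2 ⟨_, hc⟩
      rw [Subgroup.orderOf_mk] at hi
      refine hinj _ (le_normalizer hc) (orderOf_eq_one_iff.mp ?_)
      refine Nat.eq_one_of_dvd_coprimes
        (Nat.Coprime.pow_left i (hp.out.coprime_iff_not_dvd.mpr hcop))
        (hi ▸ orderOf_map_dvd τ _) ?_
      rw [heq]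
      exact (orderOf_map_dvd τ _).trans (Subgroup.orderOf_dvd_natCard L h1)
    rw [hly, ← commutatorElement_eq_one_iff_mul_comm, ← map_commutatorElement, hone, map_one]
  let X := {w : G // w ∈ L ∧ τ w = τ l}
  let : MulAction (P : Subgroup G) X :=
    { smul := fun z w => ⟨(z : G) * w.1 * (z : G)⁻¹, (inferInstance : L.Normal).conj_mem _ w.2.1 _, by
        rw [map_mul, map_mul, w.2.2, hcomm _ z.2, map_inv, mul_inv_cancel_right]⟩
      one_smul := fun w => Subtype.ext (show (1 : G) * w.1 * 1⁻¹ = w.1 by simp)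
      mul_smul := fun a b w => Subtype.ext (show
        ((a : G) * b) * w.1 * ((a : G) * b)⁻¹ = a * (b * w.1 * (b : G)⁻¹) * (a : G)⁻¹ by group) }
  have hX : Nat.card X = Nat.card (L ⊓ K : Subgroup G) := by
    refine Nat.card_congr
      { toFun := fun w => ⟨l⁻¹ * w.1, L.mul_mem (L.inv_mem hl) w.2.1, QuotientGroup.eq.mp w.2.2.symm⟩
        invFun := fun m => ⟨l * m.1, L.mul_mem hl m.2.1, by
          rw [map_mul, show τ (m.1 : G) = 1 from (QuotientGroup.eq_one_iff _).mpr m.2.2, mul_one]⟩
        left_inv := fun w => Subtype.ext (mul_inv_cancel_left _ _)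
        right_inv := fun m => Subtype.ext (inv_mul_cancel_left _ _) }
  obtain ⟨w, hw⟩ := P.2.nonempty_fixed_point_of_prime_not_dvd_card X
    (by rw [hX]; exact fun h => hcop (h.trans (card_dvd_of_le inf_le_left)))
  have hwN : w.1 ∈ N := by
    rw [hN, mem_normalizer_iff]
    have hc : ∀ z ∈ (P : Subgroup G), z * w.1 = w.1 * z := fun z hz =>
      mul_inv_eq_iff_eq_mul.mp (congrArg Subtype.val (hw ⟨z, hz⟩))
    intro z
    constructor
    · intro hz; rwa [← hc z hz, mul_inv_cancel_right]
    · intro hz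
      have h1 := hc _ hz
      have : z = w.1 * z * w.1⁻¹ := by
        calc z = w.1⁻¹ * ((w.1 * z * w.1⁻¹) * w.1) := by group
          _ = w.1 * z * w.1⁻¹ := by rw [h1]; group
      rwa [this]
  have h1 : w.1 = 1 := mem_bot.mp (hL.disjoint.le_bot ⟨w.2.1, hwN⟩)
  exact (QuotientGroup.eq_one_iff l).mp (by rw [← map_one τ, ← h1, w.2.2]; rfl)

/-- The self-normalizing case: all degrees prime to `p` are one. -/
theorem complement_of_self_normalizing (P : Sylow p G)
    (hPN : Subgroup.normalizer ((P : Subgroup G) : Set G) = (P : Subgroup G))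
    (hres : ∀ χ ∈ primeTo p G, Cfsg.IsIrrCharacter (Subgroup.normalizer ((P : Subgroup G) : Set G))
      fun x => (χ : G → ℂ) x) :
    ∃ K : Subgroup G, K.Normal ∧
      Subgroup.IsComplement' K (Subgroup.normalizer ((P : Subgroup G) : Set G)) := by
  have hNp : IsPGroup p ↥(Subgroup.normalizer ((P : Subgroup G) : Set G)) := by
    rw [hPN]; exact P.2
  have hdeg : ∀ χ : Cfsg.IrrCharacter G, Cfsg.charDegree (χ : G → ℂ) ≠ 1 →
      p ∣ Cfsg.charDegree (χ : G → ℂ) := by
    intro χ hne
    by_contra hnd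
    obtain ⟨k, hk⟩ := hNp.exists_card_eq
    set θ : Cfsg.IrrCharacter (Subgroup.normalizer ((P : Subgroup G) : Set G)) :=
      ⟨_, hres χ (mem_primeTo.mpr hnd)⟩ with hθ
    obtain ⟨j, -, hj⟩ := (Nat.dvd_prime_pow hp.out).1 (hk ▸ BlockB.irr_degree_dvd_card θ)
    have heq : Cfsg.charDegree (θ : ↥(Subgroup.normalizer ((P : Subgroup G) : Set G)) → ℂ) =
        Cfsg.charDegree (χ : G → ℂ) := by
      rw [Cfsg.charDegree, Cfsg.charDegree]; rfl
    rcases j with _ | j
    · rw [heq, pow_zero] at hj; exact hne hj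
    · rw [heq] at hj; exact hnd (hj ▸ dvd_pow_self p j.succ_ne_zero)
  have hc := BlockA.coprime_card_pResidual hdeg
  refine ⟨Cfsg.pResidual p G, Transfer.pResidual_normal, ?_⟩
  obtain ⟨k, hk⟩ := Transfer.pResidual_index_eq_pow (G := G) (p := p)
  obtain ⟨i, hi⟩ := IsPGroup.iff_card.mp P.2
  have hmul := (Cfsg.pResidual p G).card_mul_index
  rw [hk] at hmul
  have hcard : i = k := by
    have h1 := P.card_eq_multiplicity
    rw [hi, ← hmul, Nat.factorization_mul Nat.card_pos.ne' (pow_ne_zero k hp.out.ne_zero),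
      Finsupp.add_apply, Nat.Prime.factorization_pow hp.out,
      Nat.factorization_eq_zero_of_not_dvd ((hp.out.coprime_iff_not_dvd).mp hc.symm)] at h1
    simpa using Nat.pow_right_injective hp.out.two_le h1
  rw [hPN]
  refine Subgroup.isComplement'_of_coprime ?_ (by rw [hi]; exact hc.pow_right i)
  rw [hi, hcard, hmul]

/-- Equality gives a normal complement. -/
theorem exists_complement
    (hsolv : ∀ (X : Type u) [Group X] [Finite X], ¬ p ∣ Nat.card X → Group.IsSolvable X) :
    ∀ (n : ℕ) (G : Type u) [Group G] [Finite G], Nat.card G ≤ n → ∀ P : Sylow p G,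
      Nat.card (Subgroup.normalizer ((P : Subgroup G) : Set G)) =
        Nat.card (commutator ↥(P : Subgroup G)) * sumSq p G →
      ∃ K : Subgroup G, K.Normal ∧
        Subgroup.IsComplement' K (Subgroup.normalizer ((P : Subgroup G) : Set G)) := by
  intro n
  induction n with
  | zero => intro G _ _ hc; exact absurd hc (by have := Nat.card_pos (α := G); omega)
  | succ n ih =>
    intro G _ _ hc P heq
    classical
    obtain ⟨hres, hsurj⟩ := (main_inequality P).2 heq
    set N := Subgroup.normalizer ((P : Subgroup G) : Set G) with hN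
    by_cases hPN : N = (P : Subgroup G)
    · exact complement_of_self_normalizing P hPN hres
    have hle : (P : Subgroup G) ≤ N := le_normalizer
    set PN := (P : Subgroup G).subgroupOf N with hPNdef
    have : PN.Normal := inferInstance
    have hXnt : Nontrivial (N ⧸ PN) := QuotientGroup.nontrivial_iff.mpr fun e =>
      hPN (le_antisymm (subgroupOf_eq_top.mp e) hle)
    have : Group.IsSolvable (N ⧸ PN) := hsolv _ (by
      rw [← index_eq_card]
      exact fun h => (P.subtype hle).not_dvd_index h)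
    obtain ⟨l, hl⟩ : ∃ l : N ⧸ PN →* ℂˣ, l ≠ 1 := by
      have h1 : 1 < Nat.card (N ⧸ PN →* ℂˣ) := by
        rw [Char.natCard_linear]
        exact Nat.one_lt_iff_ne_zero_and_ne_one.mpr ⟨Subgroup.index_ne_zero_of_finite,
          fun e => (Group.IsSolvable.commutator_lt_top_of_nontrivial (N ⧸ PN)).ne (index_eq_one.mp e)⟩
      have : Finite (N ⧸ PN →* ℂˣ) := Nat.finite_of_card_ne_zero (by omega)
      have := Finite.one_lt_card_iff_nontrivial.mp h1
      exact exists_ne 1
    set ψ : Cfsg.IrrCharacter N :=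
      ⟨_, Char.isIrrCharacter_linear (l.comp (QuotientGroup.mk' PN))⟩ with hψ
    have hψ1 : Cfsg.charDegree (ψ : N → ℂ) = 1 := by
      simp [Cfsg.charDegree, hψ]
    obtain ⟨χ, hχ, hχψ⟩ := hsurj ψ (mem_primeTo.mpr (by rw [hψ1]; exact hp.out.not_dvd_one))
    have hval : ∀ x : N, (χ : G → ℂ) x = (l (QuotientGroup.mk' PN x) : ℂ) := hχψ
    have hχ1 : (χ : G → ℂ) 1 = 1 := by
      have := hval 1
      simpa using this
    obtain ⟨Λ, hΛ⟩ := Char.exists_hom_of_degree_one (Char.irr_isCharacter χ.2) hχ1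
    have hΛN : ∀ x : N, Λ (x : G) = l (QuotientGroup.mk' PN x) := fun x => by
      refine Units.ext ?_
      rw [← hval x, hΛ]
    set M := Λ.ker with hM
    have hPM : (P : Subgroup G) ≤ M := fun z hz => by
      rw [hM, MonoidHom.mem_ker, hΛN ⟨z, hle hz⟩, show QuotientGroup.mk' PN ⟨z, hle hz⟩ = 1 from
        (QuotientGroup.eq_one_iff _).mpr hz, map_one]
    have hidx : ¬ p ∣ M.index := fun h => P.not_dvd_index (h.trans (index_dvd_of_le hPM))
    have hM1 : M.index ≠ 1 := by
      intro e
      apply hl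
      refine MonoidHom.ext fun y => ?_
      obtain ⟨x, rfl⟩ := QuotientGroup.mk'_surjective PN y
      rw [← hΛN, MonoidHom.one_apply, ← MonoidHom.mem_ker, ← hM, index_eq_one.mp e]
      exact mem_top _
    have hMN : N ⊔ M = ⊤ := by
      have h := Sylow.normalizer_sup_eq_top (N := M) (P.subtype hPM)
      rwa [show ((P.subtype hPM : Subgroup M)).map M.subtype = (P : Subgroup G) from
        map_subgroupOf_eq_of_le hPM] at h
    set PM := P.subtype hPM with hPMdef
    set NM := Subgroup.normalizer ((PM : Subgroup M) : Set M) with hNMdef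
    have hNM : NM = N.subgroupOf M :=
      ((P : Subgroup G).subgroupOf_normalizer_eq hPM).symm
    have hNcard : Nat.card N = M.index * Nat.card NM := by
      rw [hNM, show Nat.card (N.subgroupOf M) = Nat.card (M.subgroupOf N) from by
          rw [← inf_subgroupOf_right N M, ← inf_subgroupOf_right M N,
            Nat.card_congr (subgroupOfEquivOfLe (inf_le_right : N ⊓ M ≤ M)).toEquiv,
            Nat.card_congr (subgroupOfEquivOfLe (inf_le_right : M ⊓ N ≤ N)).toEquiv, inf_comm]]
      rw [show M.index = M.relIndex N by rw [← relIndex_sup_right, hMN, relIndex_top_right]]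
      rw [Subgroup.relIndex, index_mul_card]
    have hcomm := natCard_commutator_subtype P hPM
    have hMcard : Nat.card M ≤ n := by
      have h1 := M.card_mul_index
      have h2 : 2 ≤ M.index := by have := M.index_ne_zero_of_finite; omega
      have h3 : 0 < Nat.card M := Nat.card_pos
      nlinarith
    have heqM : Nat.card NM = Nat.card (commutator ↥(PM : Subgroup M)) * sumSq p M := by
      refine le_antisymm (main_inequality PM).1 ?_
      refine Nat.le_of_mul_le_mul_left ?_ (Nat.pos_of_ne_zero M.index_ne_zero_of_finite)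
      rw [← hNcard, heq, hPMdef, hcomm, mul_left_comm]
      exact Nat.mul_le_mul_left _ (index_mul_sumSq_le M hidx)
    obtain ⟨K₀, hK₀n, hK₀⟩ := ih M hMcard PM heqM
    have hinv : ∀ g : G, ∀ x ∈ K₀, (MulAut.conjNormal g x : M) ∈ K₀ := by
      intro g x hx
      have hg : g ∈ ((N ⊔ M : Subgroup G) : Set G) := by rw [hMN]; trivial
      rw [Subgroup.mul_normal] at hg
      obtain ⟨y, hy, m, hm, rfl⟩ := hg
      have hm' : (MulAut.conjNormal m x : M) ∈ K₀ := by
        have := hK₀n.conj_mem x hx ⟨m, hm⟩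
        convert this using 1
        exact Subtype.ext (by simp [MulAut.conjNormal_apply])
      rw [map_mul, MulAut.mul_apply]
      set a : M ≃* M := MulAut.conjNormal y with ha
      have : (K₀.map a.toMonoidHom).Normal := hK₀n.map _ a.surjective
      refine complement_le PM K₀ (K₀.map a.toMonoidHom) hK₀ ?_ (mem_map_of_mem _ hm')
      have hmapN : NM.map a.toMonoidHom = NM := by
        refine Subgroup.eq_of_le_of_card_ge ?_
          (Nat.card_congr (NM.equivMapOfInjective _ a.injective).toEquiv).le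
        rintro _ ⟨z, hz, rfl⟩
        rw [hNM, SetLike.mem_coe, mem_subgroupOf] at hz
        rw [hNM, mem_subgroupOf]
        show ((a z : M) : G) ∈ N
        rw [ha, MulAut.conjNormal_apply]
        exact mul_mem (mul_mem hy hz) (inv_mem hy)
      refine Subgroup.isComplement'_of_disjoint_and_mul_eq_univ ?_ ?_
      · rw [disjoint_iff]
        show _ ⊓ NM = ⊥
        rw [← hmapN, ← map_inf K₀ NM a.toMonoidHom a.injective]
        rw [show K₀ ⊓ NM = ⊥ from hK₀.disjoint.eq_bot, Subgroup.map_bot]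
      · refine Set.eq_univ_of_forall fun w => ?_
        obtain ⟨⟨k, z⟩, hkz⟩ := hK₀.2 (a.symm w)
        refine ⟨a k, mem_map_of_mem _ k.2, a z, ?_, ?_⟩
        · show a z ∈ NM
          rw [← hmapN]
          exact mem_map_of_mem _ z.2
        · show a k * a z = w
          rw [← map_mul, show (k : M) * z = a.symm w from hkz, MulEquiv.apply_symm_apply]
    set K := K₀.map M.subtype with hK
    have hKn : K.Normal := ⟨by
      rintro _ ⟨x, hx, rfl⟩ g
      exact ⟨_, hinv g x hx, by simp [MulAut.conjNormal_apply]⟩⟩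
    refine ⟨K, hKn, Subgroup.isComplement'_of_card_mul_and_disjoint ?_ ?_⟩
    · rw [hK, ← Nat.card_congr (K₀.equivMapOfInjective _ M.subtype_injective).toEquiv, hNcard,
        ← mul_assoc, mul_comm (Nat.card K₀), mul_assoc, hK₀.card_mul_card, mul_comm, card_mul_index]
    · rw [disjoint_iff_inf_le]
      rintro _ ⟨⟨x, hx, rfl⟩, hxN⟩
      have : x ∈ K₀ ⊓ NM := ⟨hx, by show x ∈ NM; rw [hNM, mem_subgroupOf]; exact hxN⟩
      rw [hK₀.disjoint.eq_bot, mem_bot] at this
      rw [mem_bot, this]
      rfl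

end CfsgLib.BlockB.OddDegreeNormalizer
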