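import Cfsg.Agent.Lib.BlockA.RestrictPrincipal
import Cfsg.Agent.Lib.Char.Monomial
import Cfsg.Agent.Lib.Char.Column
import Cfsg.Agent.Lib.Clifford.Extension
import Cfsg.Agent.Lib.Block.ResidueSpan
import Mathlib.Algebra.CharP.Reduced
import Mathlib.RingTheory.RootsOfUnity.Lemmas

/-!
Orbit sums of a normal subgroup act as scalars in a representation that stays irreducible on it.
When the restriction lies in the principal block, these scalars define a character of the quotient
modulo `M`, and twisting by its inverse moves the representation into the principal block.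
-/

set_option autoImplicit false
set_option linter.unusedSectionVars false
set_option linter.style.haveILetI false

namespace CfsgLib.BlockB.OrbitScalar

open Cfsg CfsgLib.Block
open CfsgLib.BlockA (subOrbit mem_subOrbit subOrbit_conj mk_subOrbit)

universe u

variable {E : Type u} [Group E] [Fintype E] (N : Subgroup E) [N.Normal] [Fintype N]

theorem self_mem_subOrbit (g : E) : g ∈ subOrbit N g := (mem_subOrbit N).2 ⟨1, by simp⟩

theorem subOrbit_eq_of_mem {x a : E} (h : a ∈ subOrbit N x) : subOrbit N a = subOrbit N x := by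
  obtain ⟨n, rfl⟩ := (mem_subOrbit N).1 h
  ext b
  simp only [mem_subOrbit]
  exact ⟨fun ⟨m, hm⟩ => ⟨m * n, by rw [← hm]; simp [mul_assoc]⟩,
    fun ⟨m, hm⟩ => ⟨m * n⁻¹, by rw [← hm]; simp [mul_assoc]⟩⟩

theorem subOrbit_one : subOrbit N (1 : E) = {1} := by
  ext a
  simp [mem_subOrbit, eq_comm]

/-- Conjugation by an element of the group carries orbits to orbits. -/
theorem sum_subOrbit_conj {β : Type*} [AddCommMonoid β] (e g : E) (F : E → β) :
    ∑ a ∈ subOrbit N (e * g * e⁻¹), F a = ∑ a ∈ subOrbit N g, F (e * a * e⁻¹) := by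
  have key : ∀ e g a : E, a ∈ subOrbit N g → e * a * e⁻¹ ∈ subOrbit N (e * g * e⁻¹) := by
    intro e g a ha
    obtain ⟨n, rfl⟩ := (mem_subOrbit N).1 ha
    exact (mem_subOrbit N).2 ⟨⟨e * n * e⁻¹, (inferInstance : N.Normal).conj_mem _ n.2 e⟩,
      by simp [mul_assoc]⟩
  refine (Finset.sum_bij' (fun a _ => e * a * e⁻¹) (fun a _ => e⁻¹ * a * e)
    (fun a ha => key e g a ha) (fun a ha => ?_) (fun a _ => by group) (fun a _ => by group)
    fun a _ => rfl).symm
  have := key e⁻¹ _ a ha
  simpa [mul_assoc] using this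

theorem card_subOrbit_conj (e g : E) :
    (subOrbit N (e * g * e⁻¹)).card = (subOrbit N g).card := by
  rw [Finset.card_eq_sum_ones, Finset.card_eq_sum_ones, sum_subOrbit_conj]

/-- An element centralising a Sylow subgroup of `N` has orbit of size prime to `p`. -/
theorem not_dvd_card {p : ℕ} [Fact p.Prime] (P : Sylow p N) {c : E}
    (hc : ∀ x ∈ (P : Subgroup N), (x : E) * c = c * x) : ¬ p ∣ (subOrbit N c).card := by
  classical
  set S : Subgroup N := (Subgroup.centralizer ({c} : Set E)).subgroupOf N with hS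
  have hle : (P : Subgroup N) ≤ S := fun x hx => by
    rw [hS, Subgroup.mem_subgroupOf, Subgroup.mem_centralizer_singleton_iff]
    exact hc x hx
  have e : {a // a ∈ subOrbit N c} ≃ N ⧸ S := by
    refine (Equiv.ofBijective (Quotient.lift
      (fun n : N => (⟨(n : E) * c * (n : E)⁻¹, (mem_subOrbit N).2 ⟨n, rfl⟩⟩ :
        {a // a ∈ subOrbit N c})) ?_) ⟨?_, ?_⟩).symm
    · intro a b hab
      have h : a⁻¹ * b ∈ S := QuotientGroup.leftRel_apply.1 hab
      rw [hS, Subgroup.mem_subgroupOf, Subgroup.mem_centralizer_singleton_iff] at h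
      simp only [Subgroup.coe_mul, Subgroup.coe_inv] at h
      refine Subtype.ext ?_
      calc (a : E) * c * (a : E)⁻¹ = (a : E) * (c * ((a : E)⁻¹ * b)) * (b : E)⁻¹ := by group
        _ = (a : E) * ((a : E)⁻¹ * b * c) * (b : E)⁻¹ := by rw [h]
        _ = (b : E) * c * (b : E)⁻¹ := by group
    · rintro ⟨a⟩ ⟨b⟩ h
      refine Quotient.sound (QuotientGroup.leftRel_apply.2 ?_)
      have h' : (a : E) * c * (a : E)⁻¹ = (b : E) * c * (b : E)⁻¹ := congrArg Subtype.val h
      rw [hS, Subgroup.mem_subgroupOf, Subgroup.mem_centralizer_singleton_iff, Subgroup.coe_mul,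
        Subgroup.coe_inv]
      calc (a : E)⁻¹ * b * c = (a : E)⁻¹ * ((b : E) * c * (b : E)⁻¹) * b := by group
        _ = (a : E)⁻¹ * ((a : E) * c * (a : E)⁻¹) * b := by rw [h']
        _ = c * ((a : E)⁻¹ * b) := by group
    · rintro ⟨a, ha⟩
      obtain ⟨n, rfl⟩ := (mem_subOrbit N).1 ha
      exact ⟨QuotientGroup.mk n, rfl⟩
  rw [← Nat.card_eq_finsetCard, Nat.card_congr e, ← Subgroup.index_eq_card]
  exact fun h => P.not_dvd_index (h.trans (Subgroup.index_dvd_of_le hle))

/-- The scalar by which an orbit sum acts. -/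
noncomputable def A (ψ : E → ℂ) (g : E) : ℂ := (∑ a ∈ subOrbit N g, ψ a) / ψ 1

theorem A_conj {ψ : E → ℂ} (hψ : IsCharacter E ψ) (e g : E) : A N ψ (e * g * e⁻¹) = A N ψ g := by
  rw [A, A, sum_subOrbit_conj]
  congr 1
  exact Finset.sum_congr rfl fun a _ => CfsgLib.Char.isCharacter_isClassFunction hψ a e

theorem A_smul (ψ : E → ℂ) (lam : E → ℂ) (h1 : lam 1 = 1) {g : E}
    (hc : ∀ a ∈ subOrbit N g, lam a = lam g) :
    A N (fun x => lam x * ψ x) g = lam g * A N ψ g := by
  rw [A, A, h1, one_mul, ← mul_div_assoc, Finset.mul_sum]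
  congr 1
  exact Finset.sum_congr rfl fun a ha => by rw [hc a ha]

section Scalars

variable {n : ℕ} (ρ : Representation ℂ E (Fin n → ℂ))
  (hirr : IsIrrCharacter N fun x : N => ρ.character x)
include hirr

theorem isIrreducible_restrict :
    Representation.IsIrreducible (ρ.comp N.subtype : Representation ℂ N (Fin n → ℂ)) :=
  Clifford.isIrreducible_of_classInner_self _ (CfsgLib.Char.irr_classInner_self hirr)

theorem sum_rho_eq (g : E) :
    ∑ a ∈ subOrbit N g, ρ a = A N ρ.character g • (LinearMap.id : (Fin n → ℂ) →ₗ[ℂ] Fin n → ℂ) := by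
  have := isIrreducible_restrict N ρ hirr
  obtain ⟨c, hc⟩ := CfsgLib.Char.exists_scalar_of_commute
    (ρ.comp N.subtype : Representation ℂ N (Fin n → ℂ)) (∑ a ∈ subOrbit N g, ρ a) fun x => by
      show (∑ a ∈ subOrbit N g, ρ a) * ρ (x : E) = ρ (x : E) * ∑ a ∈ subOrbit N g, ρ a
      rw [Finset.sum_mul, Finset.mul_sum]
      refine Finset.sum_bij' (fun a _ => (x : E)⁻¹ * a * x) (fun a _ => (x : E) * a * (x : E)⁻¹)
        (fun a ha => by simpa using subOrbit_conj N x⁻¹ ha) (fun a ha => subOrbit_conj N x ha)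
        (fun a _ => by group) (fun a _ => by group) fun a _ => ?_
      rw [← map_mul, ← map_mul]
      congr 1
      group
  rw [hc]
  have h1 : ρ.character 1 ≠ 0 := by
    simpa using CfsgLib.Char.irr_apply_one_ne_zero hirr
  have h2 : ∑ a ∈ subOrbit N g, ρ.character a = c * ρ.character 1 := by
    simp only [Representation.character]
    rw [← map_sum, hc, map_smul, map_one, Module.End.one_eq_id, smul_eq_mul]
  congr 1
  rw [A, h2, mul_div_cancel_right₀ _ h1]

theorem isIntegral_A (g : E) : IsIntegral ℤ (A N ρ.character g) := by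
  have := isIrreducible_restrict N ρ hirr
  have : Nontrivial (Fin n → ℂ) :=
    CfsgLib.Char.nontrivial_of_isIrreducible (ρ.comp N.subtype : Representation ℂ N (Fin n → ℂ))
  let φ : MonoidAlgebra ℤ E →ₐ[ℤ] Module.End ℂ (Fin n → ℂ) :=
    MonoidAlgebra.lift ℤ (Module.End ℂ (Fin n → ℂ)) E ρ
  have h : IsIntegral ℤ (φ (∑ a ∈ subOrbit N g, MonoidAlgebra.of ℤ E a)) :=
    (IsIntegral.of_finite ℤ _).map φ
  rw [map_sum] at h
  simp only [φ, MonoidAlgebra.lift_of] at h
  rw [sum_rho_eq N ρ hirr] at h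
  rw [← isIntegral_algebraMap_iff
    (FaithfulSMul.algebraMap_injective ℂ (Module.End ℂ (Fin n → ℂ)))]
  convert h using 1
  rw [Algebra.algebraMap_eq_smul_one, Module.End.one_eq_id]

theorem prod_three (g h k : E) :
    A N ρ.character g * A N ρ.character h * A N ρ.character k * ρ.character 1 =
      ∑ a ∈ subOrbit N g, ∑ b ∈ subOrbit N h, ∑ c ∈ subOrbit N k, ρ.character (a * b * c) := by
  simp only [Representation.character, ← map_sum, map_mul, ← Finset.mul_sum]
  simp only [← Finset.sum_mul, ← Finset.mul_sum, sum_rho_eq N ρ hirr]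
  rw [map_one, Module.End.one_eq_id, smul_mul_smul_comm, smul_mul_smul_comm, map_smul, smul_eq_mul]
  congr 1

end Scalars

variable {N} {p : ℕ} [Fact p.Prime] {M : Ideal AlgInt} {ψ : E → ℂ} (hψ : IsCharacter E ψ)
  {θ : IrrCharacter N} (hres : ∀ x : N, ψ x = (θ : N → ℂ) x)

include hψ hres

theorem memLocalRing_A [M.IsPrime] (g : E) : MemLocalRing M (A N ψ g) := by
  obtain ⟨n, ρ, rfl⟩ := hψ
  exact memLocalRing_of_isIntegral (isIntegral_A N ρ (by rw [funext hres]; exact θ.2) g)

/-- Products of three scalars whose orbits multiply into `N`. -/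
theorem memLocalIdeal_three (hM : IsPModular p M) (hθ : θ ∈ principalBlock M N) {g h k : E}
    (hmem : g * h * k ∈ N) :
    MemLocalIdeal M (A N ψ g * A N ψ h * A N ψ k -
      ((subOrbit N g).card : ℂ) * (subOrbit N h).card * (subOrbit N k).card) := by
  classical
  have := hM.2.1.isPrime
  obtain ⟨n, ρ, rfl⟩ := hψ
  have hirr : IsIrrCharacter N fun x : N => ρ.character x := by rw [funext hres]; exact θ.2
  let Y : N → ℂ := fun x => ∑ a ∈ subOrbit N g, ∑ b ∈ subOrbit N h, ∑ c ∈ subOrbit N k,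
    if a * b * c = (x : E) then 1 else 0
  have hin : ∀ a ∈ subOrbit N g, ∀ b ∈ subOrbit N h, ∀ c ∈ subOrbit N k, a * b * c ∈ N := by
    intro a ha b hb c hc
    rw [← QuotientGroup.eq_one_iff, QuotientGroup.mk_mul, QuotientGroup.mk_mul, mk_subOrbit N ha,
      mk_subOrbit N hb, mk_subOrbit N hc, ← QuotientGroup.mk_mul, ← QuotientGroup.mk_mul,
      QuotientGroup.eq_one_iff]
    exact hmem
  have hYR : ∀ x, MemLocalRing M (Y x) := fun x =>
    memLocalRing_sum _ _ fun a _ => memLocalRing_sum _ _ fun b _ => memLocalRing_sum _ _ fun c _ =>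
      by split_ifs
         · exact (lring M).one_mem
         · exact (lring M).zero_mem
  have hY : IsClassFunction N Y := by
    intro x y
    simp only [Y]
    refine Finset.sum_bij' (fun a _ => (y : E)⁻¹ * a * y) (fun a _ => (y : E) * a * (y : E)⁻¹)
      (fun a ha => by simpa using subOrbit_conj N y⁻¹ ha) (fun a ha => subOrbit_conj N y ha)
      (fun a _ => by group) (fun a _ => by group) fun a _ => ?_
    refine Finset.sum_bij' (fun a _ => (y : E)⁻¹ * a * y) (fun a _ => (y : E) * a * (y : E)⁻¹)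
      (fun a ha => by simpa using subOrbit_conj N y⁻¹ ha) (fun a ha => subOrbit_conj N y ha)
      (fun a _ => by group) (fun a _ => by group) fun b _ => ?_
    refine Finset.sum_bij' (fun a _ => (y : E)⁻¹ * a * y) (fun a _ => (y : E) * a * (y : E)⁻¹)
      (fun a ha => by simpa using subOrbit_conj N y⁻¹ ha) (fun a ha => subOrbit_conj N y ha)
      (fun a _ => by group) (fun a _ => by group) fun c _ => ?_
    refine if_congr ?_ rfl rfl
    rw [show (y : E)⁻¹ * a * y * ((y : E)⁻¹ * b * y) * ((y : E)⁻¹ * c * y) =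
      (y : E)⁻¹ * (a * b * c) * y by group]
    simp only [Subgroup.coe_mul, Subgroup.coe_inv]
    constructor
    · intro h; rw [h]; group
    · intro h; rw [← mul_right_inj (y : E)⁻¹, ← mul_left_inj (y : E)] at h ⊢
      rw [← mul_right_inj (y : E), ← mul_left_inj (y : E)⁻¹] at h
      simpa [mul_assoc] using h
  have hcollapse : ∀ F : N → ℂ, ∑ x : N, Y x * F x = ∑ a ∈ subOrbit N g, ∑ b ∈ subOrbit N h,
      ∑ c ∈ subOrbit N k, (if hm : a * b * c ∈ N then F ⟨_, hm⟩ else 0) := by
    intro F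
    simp only [Y, Finset.sum_mul]
    rw [Finset.sum_comm]
    refine Finset.sum_congr rfl fun a ha => ?_
    rw [Finset.sum_comm]
    refine Finset.sum_congr rfl fun b hb => ?_
    rw [Finset.sum_comm]
    refine Finset.sum_congr rfl fun c hc => ?_
    rw [Finset.sum_eq_single ⟨_, hin a ha b hb c hc⟩ (fun x _ hx => by
      rw [if_neg fun e => hx (Subtype.ext e.symm), zero_mul]) (by simp), if_pos rfl, one_mul,
      dif_pos (hin a ha b hb c hc)]
  have h0 := BlockA.memLocalIdeal_sum_sub N hM hY hYR hθ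
  have h1 : ∑ x : N, Y x * (θ : N → ℂ) x =
      A N ρ.character g * A N ρ.character h * A N ρ.character k * ρ.character 1 := by
    rw [prod_three N ρ hirr, hcollapse]
    refine Finset.sum_congr rfl fun a ha => Finset.sum_congr rfl fun b hb =>
      Finset.sum_congr rfl fun c hc => ?_
    rw [dif_pos (hin a ha b hb c hc)]
    exact (hres _).symm
  have h2 : ∑ x : N, Y x =
      ((subOrbit N g).card : ℂ) * (subOrbit N h).card * (subOrbit N k).card := by
    have h := hcollapse fun _ => 1
    simp only [mul_one] at h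
    rw [h, Finset.sum_congr rfl fun a ha => Finset.sum_congr rfl fun b hb =>
      Finset.sum_congr rfl fun c hc => dif_pos (hin a ha b hb c hc)]
    simp only [Finset.sum_const, nsmul_eq_mul, mul_one, mul_assoc]
  have h3 : ρ.character 1 = (θ : N → ℂ) 1 := by simpa using hres 1
  rw [h1, h2, ← h3, mul_div_cancel_right₀ _
    (by rw [h3]; exact CfsgLib.Char.irr_apply_one_ne_zero θ.2)] at h0
  exact h0

theorem redC_three [M.IsPrime] (hM : IsPModular p M) (hθ : θ ∈ principalBlock M N) {g h k : E}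
    (hmem : g * h * k ∈ N) :
    redC M (A N ψ g) * redC M (A N ψ h) * redC M (A N ψ k) =
      ((subOrbit N g).card : kres M) * (subOrbit N h).card * (subOrbit N k).card := by
  have hR := memLocalRing_A (M := M) hψ hres
  rw [← redC_mul (hR g) (hR h), ← redC_mul (memLocalRing_mul (hR g) (hR h)) (hR k),
    (redC_eq_iff (memLocalRing_mul (memLocalRing_mul (hR g) (hR h)) (hR k))
      (memLocalRing_mul (memLocalRing_mul (memLocalRing_natCast _) (memLocalRing_natCast _))
        (memLocalRing_natCast _))).2 (memLocalIdeal_three hψ hres hM hθ hmem),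
    redC_mul (memLocalRing_mul (memLocalRing_natCast _) (memLocalRing_natCast _))
      (memLocalRing_natCast _), redC_mul (memLocalRing_natCast _) (memLocalRing_natCast _),
    Block.redC_natCast, Block.redC_natCast, Block.redC_natCast]

theorem redC_A_one [M.IsPrime] : redC M (A N ψ 1) = 1 := by
  have h : ψ 1 = (θ : N → ℂ) 1 := by simpa using hres 1
  rw [A, subOrbit_one, Finset.sum_singleton,
    div_self (by rw [h]; exact CfsgLib.Char.irr_apply_one_ne_zero θ.2), redC_one]

theorem redC_two [M.IsPrime] (hM : IsPModular p M) (hθ : θ ∈ principalBlock M N) {g h : E}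
    (hmem : g * h ∈ N) :
    redC M (A N ψ g) * redC M (A N ψ h) =
      ((subOrbit N g).card : kres M) * (subOrbit N h).card := by
  have := redC_three (k := 1) hψ hres hM hθ (by rwa [mul_one])
  simpa [redC_A_one hψ hres, subOrbit_one] using this

/-- **The twist into the principal block.** -/
theorem exists_twist (hM : IsPModular p M) (hθ : θ ∈ principalBlock M N) (P : Sylow p N)
    (H : Subgroup E)
    (hH : ∀ h : H, ∃ c : H, (∀ x ∈ (P : Subgroup N), (x : E) * c = c * x) ∧ (h : E)⁻¹ * c ∈ N) :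
    ∃ lam : H →* ℂˣ, (∀ h : H, (h : E) ∈ N → lam h = 1) ∧ ¬ p ∣ orderOf lam ∧
      (∀ (e : E) (h h' : H), (h' : E) = e * h * e⁻¹ → lam h' = lam h) ∧
      ∀ h : H, MemLocalIdeal M ((lam h : ℂ) * A N ψ h - ((subOrbit N (h : E)).card : ℂ)) := by
  classical
  have := hM.2.1.isPrime
  have := charP_kres hM
  have hp : p.Prime := Fact.out
  choose c hcP hcN using hH
  set r : E → kres M := fun g => redC M (A N ψ g) with hr
  set s : E → kres M := fun g => ((subOrbit N g).card : kres M) with hs
  have hs0 : ∀ h : H, s (c h) ≠ 0 := fun h hz =>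
    not_dvd_card N P (hcP h) ((CharP.cast_eq_zero_iff (kres M) p _).1 hz)
  have hinv : ∀ h : H, (h : E) * (c h⁻¹ : H) ∈ N := fun h => by simpa using hcN h⁻¹
  have hr0 : ∀ h : H, r (c h⁻¹) ≠ 0 := by
    intro h hz
    have hm : (c h : E) * (c h⁻¹ : H) ∈ N := by
      have e : (c h : E) * (c h⁻¹ : H) =
          ((h : E) * ((h : E)⁻¹ * c h) * (h : E)⁻¹) * ((h : E) * (c h⁻¹ : H)) := by group
      rw [e]
      exact N.mul_mem ((inferInstance : N.Normal).conj_mem _ (hcN h) _) (hinv h)
    have h2 := redC_two hψ hres hM hθ hm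
    rw [show redC M (A N ψ (c h⁻¹ : H)) = 0 from hz, mul_zero] at h2
    exact mul_ne_zero (hs0 h) (hs0 h⁻¹) h2.symm
  set b : H → kres M := fun h => s (c h⁻¹) / r (c h⁻¹) with hb
  have key : ∀ (x : E) (h : H), x * (c h⁻¹ : H) ∈ N → r x = b h * s x := by
    intro x h hm
    have h2 := redC_two hψ hres hM hθ hm
    rw [hb]
    simp only
    rw [div_mul_eq_mul_div, eq_div_iff (hr0 h)]
    rw [mul_comm (s _)]
    exact h2
  have hcc : ∀ h : H, (c h : E) * (c h⁻¹ : H) ∈ N := by
    intro h
    have e : (c h : E) * (c h⁻¹ : H) =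
        ((h : E) * ((h : E)⁻¹ * c h) * (h : E)⁻¹) * ((h : E) * (c h⁻¹ : H)) := by group
    rw [e]
    exact N.mul_mem ((inferInstance : N.Normal).conj_mem _ (hcN h) _) (hinv h)
  have hbc : ∀ h : H, r (c h) = b h * s (c h) := fun h => key _ h (hcc h)
  have hbinv : ∀ h : H, b h * b h⁻¹ = 1 := by
    intro h
    have h2 := redC_two hψ hres hM hθ (hcc h)
    change r _ * r _ = s _ * s _ at h2
    rw [hbc, hbc] at h2
    refine mul_right_cancel₀ (mul_ne_zero (hs0 h) (hs0 h⁻¹)) ?_
    linear_combination h2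
  have hb1 : ∀ h : H, (h : E) ∈ N → b h = 1 := by
    intro h hh
    have h1 : (1 : E) * (c h⁻¹ : H) ∈ N := by
      rw [one_mul]
      have := N.mul_mem (N.inv_mem hh) (hinv h)
      simpa using this
    have h2 := key 1 h h1
    simpa [hr, hs, redC_A_one hψ hres, subOrbit_one] using h2.symm
  have hbmul : ∀ a a' : H, b (a * a') = b a * b a' := by
    intro a a'
    have hm : (c a : E) * (c a' : H) * (c (a * a')⁻¹ : H) ∈ N := by
      rw [← QuotientGroup.eq_one_iff, QuotientGroup.mk_mul, QuotientGroup.mk_mul]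
      have e : ∀ h : H, ((c h : E) : E ⧸ N) = ((h : E) : E ⧸ N) := fun h =>
        (QuotientGroup.eq.2 (hcN h)).symm
      rw [e, e, e, ← QuotientGroup.mk_mul, ← QuotientGroup.mk_mul, ← Subgroup.coe_mul,
        ← Subgroup.coe_mul, mul_inv_cancel, OneMemClass.coe_one, QuotientGroup.mk_one]
    have h3 := redC_three hψ hres hM hθ hm
    change r _ * r _ * r _ = s _ * s _ * s _ at h3
    rw [hbc, hbc, hbc] at h3
    have h4 : b a * b a' * b (a * a')⁻¹ = 1 := by
      refine mul_right_cancel₀
        (mul_ne_zero (mul_ne_zero (hs0 a) (hs0 a')) (hs0 (a * a')⁻¹)) ?_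
      linear_combination h3
    calc b (a * a') = b a * b a' * b (a * a')⁻¹ * b (a * a') := by rw [h4, one_mul]
      _ = b a * b a' := by rw [mul_assoc, mul_comm (b _⁻¹), hbinv, mul_one]
  let bh : H →* kres M :=
    { toFun := b, map_one' := hb1 1 (by simp), map_mul' := hbmul }
  set m := Nat.card H / p ^ (Nat.card H).factorization p with hm
  have hmp : ¬ p ∣ m := Nat.not_dvd_ordCompl hp Nat.card_pos.ne'
  have hm0 : 0 < m := Nat.pos_of_ne_zero fun h => hmp (h ▸ dvd_zero p)
  have hbm : ∀ h : H, b h ^ m = 1 := by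
    intro h
    have h1 : b h ^ (p ^ (Nat.card H).factorization p * m) = 1 := by
      rw [hm, Nat.ordProj_mul_ordCompl_eq_self]
      show bh h ^ _ = 1
      rw [← map_pow, pow_card_eq_one', map_one]
    exact (ExpChar.pow_prime_pow_mul_eq_one_iff p _ m (b h)).1 h1
  obtain ⟨ζ, hζ⟩ : ∃ ζ : ℂ, IsPrimitiveRoot ζ m := ⟨_, Complex.isPrimitiveRoot_exp m hm0.ne'⟩
  have hζR : MemLocalRing M ζ := memLocalRing_of_isIntegral (hζ.isIntegral hm0)
  set z := redC M ζ with hzdef
  have hzpow : ∀ j : ℕ, redC M (ζ ^ j) = z ^ j := by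
    intro j
    induction j with
    | zero => rw [pow_zero, pow_zero, redC_one]
    | succ j ih =>
      rw [pow_succ, pow_succ, redC_mul
        (memLocalRing_of_isIntegral ((hζ.isIntegral hm0).pow j)) hζR, ih]
  have hz : IsPrimitiveRoot z m := by
    refine (IsPrimitiveRoot.iff hm0).2 ⟨by rw [← hzpow, hζ.pow_eq_one, redC_one], fun l hl0 hl => ?_⟩
    intro h1
    obtain ⟨m', hm'⟩ : ∃ m', m = m' + 1 := ⟨m - 1, by omega⟩
    have hprod := IsPrimitiveRoot.prod_one_sub_pow_eq_order (hm' ▸ hζ)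
    have hmem : MemLocalIdeal M (1 - ζ ^ l) := by
      rw [← redC_eq_iff (lring M).one_mem (memLocalRing_of_isIntegral ((hζ.isIntegral hm0).pow l)),
        hzpow, h1, redC_one]
    refine hmp ((memLocalIdeal_natCast_iff hM m).1 ?_)
    rw [hm']
    push_cast
    rw [← hprod]
    have hl' : l - 1 ∈ Finset.range m' := Finset.mem_range.2 (by omega)
    rw [← Finset.mul_prod_erase _ _ hl', show l - 1 + 1 = l by omega]
    refine memLocalIdeal_mul_right ((lring M).prod_mem fun k _ =>
      (lring M).sub_mem (lring M).one_mem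
        (memLocalRing_of_isIntegral ((hζ.isIntegral hm0).pow _))) hmem
  have hex : ∀ h : H, ∃ i : ℕ, z ^ i = b h⁻¹ := fun h => by
    have : NeZero m := ⟨hm0.ne'⟩
    obtain ⟨i, -, hi⟩ := hz.eq_pow_of_pow_eq_one (hbm h⁻¹)
    exact ⟨i, hi⟩
  choose i hi using hex
  have htrans : ∀ j k : ℕ, z ^ j = z ^ k → ζ ^ j = ζ ^ k := fun j k h => by
    have hu := hζ.isUnit hm0.ne'
    have hu' := hz.isUnit hm0.ne'
    have h1 : hu'.unit ^ j = hu'.unit ^ k := Units.ext (by simpa using h)
    rw [pow_eq_pow_iff_modEq, ← (hz.isUnit_unit hm0.ne').eq_orderOf] at h1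
    have h2 : hu.unit ^ j = hu.unit ^ k := by
      rw [pow_eq_pow_iff_modEq, ← (hζ.isUnit_unit hm0.ne').eq_orderOf]
      exact h1
    simpa using congrArg Units.val h2
  let lam : H →* ℂˣ :=
    { toFun := fun h => Units.mk0 (ζ ^ i h) (pow_ne_zero _ (hζ.ne_zero hm0.ne'))
      map_one' := Units.ext (by
        have := htrans (i 1) 0 (by rw [hi, inv_one, hb1 1 (by simp), pow_zero])
        simpa using this)
      map_mul' := fun a a' => Units.ext (by
        have := htrans (i (a * a')) (i a + i a') (by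
          rw [pow_add, hi, hi, hi, mul_inv_rev, hbmul, mul_comm])
        simpa [pow_add] using this) }
  have hlam : ∀ h, (lam h : ℂ) = ζ ^ i h := fun h => rfl
  refine ⟨lam, fun h hh => ?_, fun hd => hmp (hd.trans (orderOf_dvd_of_pow_eq_one ?_)),
    fun e h h' he => ?_, fun h => ?_⟩
  · refine Units.ext ?_
    have := htrans (i h) 0 (by
      rw [hi, pow_zero, hb1 h⁻¹ (by simpa using N.inv_mem hh)])
    simpa [hlam] using this
  · refine MonoidHom.ext fun h => Units.ext ?_
    rw [MonoidHom.pow_apply, Units.val_pow_eq_pow_val, hlam, ← pow_mul, mul_comm, pow_mul,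
      hζ.pow_eq_one, one_pow]
    rfl
  · refine Units.ext ?_
    rw [hlam, hlam]
    refine htrans _ _ ?_
    rw [hi, hi]
    have e1 : b h' = b h := by
      have hm : e * (c h : E) * e⁻¹ * (c h'⁻¹ : H) ∈ N := by
        have e2 : e * (c h : E) * e⁻¹ * (c h'⁻¹ : H) =
            (e * ((h : E) * ((h : E)⁻¹ * c h) * (h : E)⁻¹) * e⁻¹) *
              (e * h * e⁻¹ * (c h'⁻¹ : H)) := by group
        rw [e2, ← he]
        exact N.mul_mem ((inferInstance : N.Normal).conj_mem _
          ((inferInstance : N.Normal).conj_mem _ (hcN h) _) _) (hinv h')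
      have h1 := key _ h' hm
      have h2 := hbc h
      simp only [hr, hs] at h1 h2
      rw [A_conj N hψ, card_subOrbit_conj] at h1
      exact mul_right_cancel₀ (hs0 h) (h1.symm.trans h2)
    calc b h'⁻¹ = b h'⁻¹ * (b h * b h⁻¹) := by rw [hbinv, mul_one]
      _ = (b h' * b h'⁻¹) * b h⁻¹ := by rw [e1]; ring
      _ = b h⁻¹ := by rw [hbinv, one_mul]
  · have hR := memLocalRing_A (M := M) hψ hres (h : E)
    rw [hlam, ← redC_eq_iff (memLocalRing_mul
        (memLocalRing_of_isIntegral ((hζ.isIntegral hm0).pow _)) hR) (memLocalRing_natCast _),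
      redC_mul (memLocalRing_of_isIntegral ((hζ.isIntegral hm0).pow _)) hR, hzpow, hi,
      Block.redC_natCast]
    have h1 := key (h : E) h (hinv h)
    simp only [hr, hs] at h1
    rw [h1, ← mul_assoc, mul_comm (b h⁻¹), hbinv, one_mul]

omit hψ hres in
/-- A power map carries orbits to orbits. -/
theorem sum_subOrbit_pow {k : ℕ} (hk : k.Coprime (Nat.card E)) (g : E) (F : E → ℂ) :
    ∑ a ∈ subOrbit N (g ^ k), F a = ∑ a ∈ subOrbit N g, F (a ^ k) := by
  classical
  have e : subOrbit N (g ^ k) = (subOrbit N g).image (fun a => a ^ k) := by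
    ext a
    simp only [mem_subOrbit, Finset.mem_image]
    exact ⟨fun ⟨n, hn⟩ => ⟨_, ⟨n, rfl⟩, by rw [conj_pow, hn]⟩,
      fun ⟨_, ⟨n, rfl⟩, h⟩ => ⟨n, by rw [← h, conj_pow]⟩⟩
  rw [e]
  exact Finset.sum_image fun a _ b _ h => (powCoprime hk.symm).injective h

/-- The congruence on a subgroup puts the restriction into its principal block. -/
theorem mem_principalBlock {J : Type u} [Group J] [Fintype J] (hM : IsPModular p M) (f : J →* E)
    (hf : Function.Injective f) (hNf : N ≤ f.range)
    (hgood : ∀ j : J, MemLocalIdeal M (A N ψ (f j) - ((subOrbit N (f j)).card : ℂ)))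
    {χ : IrrCharacter J} (hχ : ∀ j, (χ : J → ℂ) j = ψ (f j)) : χ ∈ principalBlock M J := by
  classical
  have := hM.2.1.isPrime
  intro g
  set KJ : Finset J := Finset.univ.filter fun j => IsConj g j with hKJ
  set K : Finset E := KJ.image f with hK
  have hcard : ((Subgroup.centralizer ({g} : Set J)).index : ℂ) = (K.card : ℂ) := by
    rw [hK, Finset.card_image_of_injective _ hf, ← CfsgLib.Char.natCard_carrier_eq_index,
      ← Nat.card_eq_finsetCard]
    congr 1
    refine Nat.card_congr (Equiv.subtypeEquivRight fun j => ?_)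
    rw [hKJ, Finset.mem_filter, ConjClasses.mem_carrier_iff_mk_eq,
      ConjClasses.mk_eq_mk_iff_isConj]
    exact ⟨fun h => ⟨Finset.mem_univ _, h.symm⟩, fun h => h.2.symm⟩
  have hclosed : ∀ x ∈ K, subOrbit N x ⊆ K := by
    intro x hx a ha
    obtain ⟨j, hj, rfl⟩ := Finset.mem_image.1 hx
    obtain ⟨n, rfl⟩ := (mem_subOrbit N).1 ha
    obtain ⟨jn, hjn⟩ := hNf n.2
    refine Finset.mem_image.2 ⟨jn * j * jn⁻¹, Finset.mem_filter.2 ⟨Finset.mem_univ _, ?_⟩,
      by rw [map_mul, map_mul, map_inv, hjn]⟩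
    exact (Finset.mem_filter.1 hj).2.trans (isConj_iff.2 ⟨jn, rfl⟩)
  have hsplit : ∀ F : E → ℂ,
      ∑ a ∈ K, F a = ∑ O ∈ K.image (subOrbit N), ∑ a ∈ O, F a := by
    intro F
    rw [← Finset.sum_fiberwise_of_maps_to (g := subOrbit N) fun x hx =>
      Finset.mem_image_of_mem _ hx]
    refine Finset.sum_congr rfl fun O hO => Finset.sum_congr ?_ fun _ _ => rfl
    obtain ⟨x, hx, rfl⟩ := Finset.mem_image.1 hO
    ext a
    rw [Finset.mem_filter]
    exact ⟨fun h => h.2 ▸ self_mem_subOrbit N a,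
      fun h => ⟨hclosed x hx h, subOrbit_eq_of_mem N h⟩⟩
  have hω : centralChar (χ : J → ℂ) g = (∑ a ∈ K, ψ a) / ψ 1 := by
    rw [centralChar, hχ, hχ, map_one, hcard]
    congr 1
    rw [hK, Finset.sum_image fun a _ b _ h => hf h, Finset.card_image_of_injective _ hf,
      Finset.sum_congr rfl (g := fun _ => ψ (f g)) fun j hj => ?_, Finset.sum_const, nsmul_eq_mul]
    obtain ⟨x, rfl⟩ := isConj_iff.1 (Finset.mem_filter.1 hj).2
    rw [map_mul, map_mul, map_inv]
    exact CfsgLib.Char.isCharacter_isClassFunction hψ (f g) (f x)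
  have h1 : centralChar (fun _ : J => (1 : ℂ)) g = ∑ a ∈ K, (1 : ℂ) := by
    rw [centralChar, hcard]
    simp
  rw [h1, hω, hsplit, hsplit, Finset.sum_div, ← Finset.sum_sub_distrib]
  refine memLocalIdeal_sum _ _ fun O hO => ?_
  obtain ⟨x, hx, rfl⟩ := Finset.mem_image.1 hO
  obtain ⟨j, -, rfl⟩ := Finset.mem_image.1 hx
  have := memLocalIdeal_neg (hgood j)
  rw [neg_sub] at this
  simpa [A] using this

theorem isIrr_comp {J : Type u} [Group J] [Fintype J] (f : J →* E) (hf : Function.Injective f)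
    (hNf : N ≤ f.range) : IsIrrCharacter J (fun j => ψ (f j)) := by
  obtain ⟨n, ρ, rfl⟩ := hψ
  have := isIrreducible_restrict N ρ (by rw [funext hres]; exact θ.2)
  let f' : N →* J := (MonoidHom.ofInjective hf).symm.toMonoidHom.comp (Subgroup.inclusion hNf)
  refine ⟨n, ρ.comp f, Clifford.isIrreducible_of_comp (ρ.comp f) f' ?_, rfl⟩
  have e : ((ρ.comp f).comp f' : Representation ℂ N (Fin n → ℂ)) = ρ.comp N.subtype := by
    ext1 x
    show ρ (f (f' x)) = ρ (x : E)
    congr 1
    exact congrArg Subtype.val ((MonoidHom.ofInjective hf).apply_symm_apply (Subgroup.inclusion hNf x))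
  rw [e]
  assumption

end CfsgLib.BlockB.OrbitScalar
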