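import Cfsg.Agent.Lib.BlockA.Regular
import Cfsg.Agent.Lib.BlockB.DefectCount

/-!
The indicator of the `p`-elements is, up to a factor prime to `p`, a generalized character.
-/

set_option autoImplicit false

namespace CfsgLib.BlockB

open CfsgLib.BlockA (regInd)

variable {G : Type*} [Group G] [Finite G]

open scoped Classical in
/-- The indicator of the `p`-elements. -/
noncomputable def pEltInd (p : ℕ) (g : G) : ℂ := if IsPElt p g then 1 else 0

theorem pEltInd_isClassFunction (p : ℕ) : Cfsg.IsClassFunction G (pEltInd (G := G) p) := by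
  classical
  intro g h
  simp only [pEltInd, isPElt_conj]

theorem exists_isGeneralized_pEltInd {p : ℕ} (hp : p.Prime) :
    ∃ N : ℕ, ¬ p ∣ N ∧ Cfsg.IsGeneralizedCharacter G (fun g => (N : ℂ) * pEltInd p g) := by
  classical
  set S := (Nat.card G).primeFactors.erase p with hS
  have hgen : ∀ T ⊆ S, Cfsg.IsGeneralizedCharacter G
      (fun g => ∏ q ∈ T, ((q ^ (Nat.card G).factorization q : ℕ) : ℂ) * regInd q g) := by
    intro T hT
    induction T using Finset.induction_on with
    | empty =>
      simpa using CfsgLib.Char.isGeneralized_of_isCharacter (CfsgLib.Char.isCharacter_one (G := G))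
    | insert q T hq ih =>
      have hqS := hT (Finset.mem_insert_self q T)
      have := Fact.mk (Nat.prime_of_mem_primeFactors (Finset.mem_of_mem_erase hqS))
      have h := CfsgLib.Char.isGeneralized_mul (CfsgLib.BlockA.isGeneralized_regInd (G := G) (p := q))
        (ih ((Finset.subset_insert q T).trans hT))
      simp only [Finset.prod_insert hq]
      exact h
  refine ⟨∏ q ∈ S, q ^ (Nat.card G).factorization q, fun hd => ?_, ?_⟩
  · obtain ⟨q, hq, hd'⟩ := (hp.prime.dvd_finsetProd_iff _).1 hd
    exact (Finset.mem_erase.1 hq).1 ((Nat.prime_dvd_prime_iff_eq hp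
      (Nat.prime_of_mem_primeFactors (Finset.mem_of_mem_erase hq))).1 (hp.dvd_of_dvd_pow hd')).symm
  · convert hgen S subset_rfl using 1
    funext g
    rw [Nat.cast_prod, Finset.prod_mul_distrib]
    congr 1
    unfold pEltInd
    split_ifs with hg
    · refine (Finset.prod_eq_one fun q hq => ?_).symm
      obtain ⟨k, hk⟩ := hg
      have hnd : ¬ q ∣ orderOf g := fun hd =>
        (Finset.mem_erase.1 hq).1 ((Nat.prime_dvd_prime_iff_eq
          (Nat.prime_of_mem_primeFactors (Finset.mem_of_mem_erase hq)) hp).1
          ((Nat.prime_of_mem_primeFactors (Finset.mem_of_mem_erase hq)).dvd_of_dvd_pow (hk ▸ hd)))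
      simp [regInd, hnd]
    · obtain ⟨q, hqd, hqp⟩ : ∃ q, (q.Prime ∧ q ∣ orderOf g) ∧ q ≠ p := by
        by_contra hcon
        push Not at hcon
        exact hg ⟨(orderOf g).primeFactorsList.length,
          Nat.eq_prime_pow_of_unique_prime_dvd (orderOf_pos g).ne'
            (fun {d} hd hdd => hcon d ⟨hd, hdd⟩)⟩
      refine (Finset.prod_eq_zero (i := q) ?_ ?_).symm
      · exact Finset.mem_erase.2 ⟨hqp, Nat.mem_primeFactors.2
          ⟨hqd.1, hqd.2.trans (orderOf_dvd_natCard g), Nat.card_pos.ne'⟩⟩
      · simp [regInd, hqd.2]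

end CfsgLib.BlockB
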