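import Cfsg.Agent.Lib.BlockB.RealOverOdd
import Cfsg.Agent.Lib.Char.Linear
import Cfsg.Agent.Lib.Solvable.MinNormal
import Mathlib.GroupTheory.Sylow
import Mathlib.GroupTheory.Solvable

/-!
Groups all of whose real irreducible characters have degree prime to `p`: the Sylow `p`-subgroup
of the subgroup generated by the `2`-elements, and of any normal subgroup lying over it with
`p`-power index, is normal.
-/

set_option autoImplicit false
set_option linter.unusedSectionVars false

namespace CfsgLib.BlockB.PPrimeReal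

open CfsgLib CfsgLib.Clifford
open scoped ComplexConjugate

universe u

variable {G : Type u} [Group G]

/-- The subgroup generated by the `p`-elements. -/
abbrev pGen (G : Type u) [Group G] (p : ℕ) : Subgroup G :=
  Subgroup.closure {g : G | ∃ k : ℕ, orderOf g = p ^ k}

/-- All real irreducible characters have degree prime to `p`. -/
def RealPPrime (G : Type u) [Group G] (p : ℕ) : Prop :=
  ∀ χ : Cfsg.IrrCharacter G, (∀ g : G, ((χ : G → ℂ) g).im = 0) →
    ¬ p ∣ Cfsg.charDegree (χ : G → ℂ)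

theorem pGen_normal (p : ℕ) : (pGen G p).Normal := by
  refine ⟨fun n hn g => ?_⟩
  have h : (pGen G p).map (MulAut.conj g).toMonoidHom ≤ pGen G p := by
    rw [pGen, MonoidHom.map_closure]
    refine Subgroup.closure_mono ?_
    rintro _ ⟨x, ⟨k, hk⟩, rfl⟩
    exact ⟨k, by rw [MulEquiv.coe_toMonoidHom, MulEquiv.orderOf_eq, hk]⟩
  exact h ⟨n, hn, rfl⟩

theorem map_pGen {H : Type u} [Group H] [Finite G] (f : G →* H) (hf : Function.Surjective f)
    (p : ℕ) [Fact p.Prime] : (pGen G p).map f = pGen H p := by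
  have hp : p.Prime := Fact.out
  refine le_antisymm ?_ ?_
  · rw [pGen, MonoidHom.map_closure]
    refine Subgroup.closure_mono ?_
    rintro _ ⟨x, ⟨k, hk⟩, rfl⟩
    obtain ⟨j, -, hj⟩ := (Nat.dvd_prime_pow hp).1 (hk ▸ orderOf_map_dvd f x)
    exact ⟨j, hj⟩
  · rw [Subgroup.closure_le]
    rintro z ⟨k, hk⟩
    obtain ⟨y, rfl⟩ := hf z
    obtain ⟨a, m, hm, hy⟩ :=
      Nat.exists_eq_pow_mul_and_not_dvd (orderOf_pos y).ne' p hp.ne_one
    have hco : m.Coprime (p ^ k) := (((hp.coprime_iff_not_dvd).2 hm).symm).pow_right k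
    obtain ⟨j, hj⟩ : ∃ j, m * j ≡ 1 [MOD p ^ k] := by
      have h0 : 0 < (p ^ k).totient := Nat.totient_pos.2 (pow_pos hp.pos k)
      refine ⟨m ^ ((p ^ k).totient - 1), ?_⟩
      rw [← pow_succ', Nat.sub_add_cancel h0]
      exact Nat.ModEq.pow_totient hco
    refine ⟨y ^ (m * j), Subgroup.subset_closure ?_, ?_⟩
    · have h1 : (y ^ (m * j)) ^ p ^ a = 1 := by
        rw [← pow_mul, show m * j * p ^ a = orderOf y * j by rw [hy]; ring, pow_mul,
          pow_orderOf_eq_one, one_pow]
      obtain ⟨i, -, hi⟩ := (Nat.dvd_prime_pow hp).1 (orderOf_dvd_of_pow_eq_one h1)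
      exact ⟨i, hi⟩
    · rw [map_pow]
      conv_rhs => rw [← pow_one (f y)]
      exact pow_eq_pow_iff_modEq.2 (by rw [hk]; exact hj)

theorem solvable_map {H : Type u} [Group H] [Finite G] (f : G →* H) (hf : Function.Surjective f)
    (p : ℕ) [Fact p.Prime] (hs : Group.IsSolvable (pGen G p)) : Group.IsSolvable (pGen H p) := by
  rw [← map_pGen f hf p]
  exact Group.isSolvable_of_surjective (f.subgroupMap_surjective (pGen G p))

theorem realPPrime_map {H : Type u} [Group H] [Finite G] [Finite H] (f : G →* H)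
    (hf : Function.Surjective f) {p : ℕ} (h : RealPPrime G p) : RealPPrime H p := by
  intro χ hre hdvd
  have hirr : Cfsg.IsIrrCharacter G ((χ : H → ℂ) ∘ f) :=
    Char.isIrrCharacter_comp_surjective χ.2 f hf
  refine h ⟨_, hirr⟩ (fun g => hre (f g)) ?_
  have e : Cfsg.charDegree ((χ : H → ℂ) ∘ f) = Cfsg.charDegree (χ : H → ℂ) := by
    have e1 := BlockB.charDegree_cast (Char.irr_isCharacter hirr)
    rw [Function.comp_apply, map_one, ← BlockB.charDegree_cast (Char.irr_isCharacter χ.2)] at e1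
    exact_mod_cast e1
  exact e.symm ▸ hdvd

/-- The number of real classes grows along a complemented quotient with an involution in the
kernel, so some real character is nontrivial on the kernel. -/
theorem exists_real_not_ker [Fintype G] (N L : Subgroup G) [N.Normal] (hNL : N ⊔ L = ⊤)
    (hdisj : Disjoint N L) {n : G} (hn : n ∈ N) (hn1 : n ≠ 1) (hn2 : n ^ 2 = 1) :
    ∃ χ : Cfsg.IrrCharacter G, (∀ g : G, ((χ : G → ℂ) g).im = 0) ∧
      ∃ m ∈ N, (χ : G → ℂ) m ≠ (χ : G → ℂ) 1 := by
  classical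
  have : Finite (ConjClasses G) := Finite.of_surjective _ ConjClasses.mk_surjective
  have hninv : n⁻¹ = n := inv_eq_of_mul_eq_one_left (by rwa [pow_two] at hn2)
  let RC (H : Type u) [Group H] := {C : ConjClasses H // ∀ g, ConjClasses.mk g = C → IsConj g g⁻¹}
  have hreal : ∀ (H : Type u) [Group H] (y : H), IsConj y y⁻¹ →
      ∀ g : H, ConjClasses.mk g = ConjClasses.mk y → IsConj g g⁻¹ := by
    intro H _ y hy g hg
    obtain ⟨c, hc⟩ := isConj_iff.1 (ConjClasses.mk_eq_mk_iff_isConj.1 hg)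
    exact (isConj_iff.2 ⟨c, hc⟩).trans (hy.trans (isConj_iff.2 ⟨c, by rw [← conj_inv, hc]⟩).symm)
  let F : RC G → RC (G ⧸ N) := fun C => ⟨ConjClasses.map (QuotientGroup.mk' N) C.1, by
    obtain ⟨⟨C⟩, hC⟩ := C
    intro g hg
    refine hreal _ (QuotientGroup.mk' N C) ?_ g hg
    have := (QuotientGroup.mk' N).map_isConj (hC C rfl)
    rwa [map_inv] at this⟩
  have hlift : ∀ q : G ⧸ N, ∃ l ∈ L, (l : G ⧸ N) = q := by
    intro q
    obtain ⟨g, rfl⟩ := QuotientGroup.mk_surjective q
    obtain ⟨a, ha, l, hl, rfl⟩ :=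
      Subgroup.mem_sup_of_normal_left.1 (show g ∈ N ⊔ L by rw [hNL]; trivial)
    exact ⟨l, hl, by rw [QuotientGroup.mk_mul, (QuotientGroup.eq_one_iff a).2 ha, one_mul]⟩
  have hsurj : Function.Surjective F := by
    rintro ⟨⟨q⟩, hq⟩
    obtain ⟨l, hl, rfl⟩ := hlift q
    obtain ⟨x', hx'⟩ := isConj_iff.1 (hq _ rfl)
    obtain ⟨x, hx, rfl⟩ := hlift x'
    have hxl : x * l * x⁻¹ * l ∈ N := by
      rw [← QuotientGroup.eq_one_iff]
      simp only [QuotientGroup.mk_mul, QuotientGroup.mk_inv, hx', inv_mul_cancel]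
    have hc : IsConj l l⁻¹ := isConj_iff.2 ⟨x, mul_eq_one_iff_eq_inv.1
      (Subgroup.disjoint_def.1 hdisj hxl (mul_mem (mul_mem (mul_mem hx hl) (inv_mem hx)) hl))⟩
    exact ⟨⟨ConjClasses.mk l, hreal _ l hc⟩, rfl⟩
  have hlt : Nat.card (RC (G ⧸ N)) < Nat.card (RC G) := by
    rcases (Nat.card_le_card_of_surjective F hsurj).lt_or_eq with h | h
    · exact h
    · exfalso
      have hinj := ((Nat.bijective_iff_surjective_and_card F).2 ⟨hsurj, h.symm⟩).1
      have e : F ⟨ConjClasses.mk n, hreal _ n (by rw [hninv])⟩ =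
          F ⟨ConjClasses.mk 1, hreal _ 1 (by rw [inv_one])⟩ := by
        refine Subtype.ext ?_
        show ConjClasses.mk (n : G ⧸ N) = ConjClasses.mk ((1 : G) : G ⧸ N)
        rw [(QuotientGroup.eq_one_iff n).2 hn, QuotientGroup.mk_one]
      exact hn1 (isConj_one_left.1
        (ConjClasses.mk_eq_mk_iff_isConj.1 (congrArg Subtype.val (hinj e))))
  by_contra hno
  push Not at hno
  have hl : ∀ χ : {χ : Cfsg.IrrCharacter G // ∀ g : G, ((χ : G → ℂ) g).im = 0},
      ∃ ψ : {ψ : Cfsg.IrrCharacter (G ⧸ N) // ∀ g, ((ψ : G ⧸ N → ℂ) g).im = 0},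
        (χ.1 : G → ℂ) = (ψ.1 : G ⧸ N → ℂ) ∘ QuotientGroup.mk' N := by
    intro χ
    obtain ⟨ψ, hψ, he⟩ := Char.isIrr_quotient_lift N χ.1.2 (hno χ.1 χ.2)
    refine ⟨⟨⟨ψ, hψ⟩, fun q => ?_⟩, he⟩
    obtain ⟨g, rfl⟩ := QuotientGroup.mk'_surjective N q
    have h := χ.2 g
    rwa [he] at h
  choose J hJ using hl
  have hle := Nat.card_le_card_of_injective J fun a b hab =>
    Subtype.ext (Subtype.ext ((hJ a).trans ((congrArg (fun ψ : {ψ : Cfsg.IrrCharacter (G ⧸ N) //
      ∀ g, ((ψ : G ⧸ N → ℂ) g).im = 0} => (ψ.1 : G ⧸ N → ℂ) ∘ QuotientGroup.mk' N) hab).trans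
      (hJ b).symm)))
  rw [Char.natCard_real_irr, Char.natCard_real_irr] at hle
  exact absurd hlt (not_lt.2 hle)

/-- A character that is not trivial on a normal subgroup has a nontrivial constituent there. -/
theorem exists_constituent_ne_one [Fintype G] (N : Subgroup G) [Fintype N] {χ : G → ℂ}
    (hχ : Cfsg.IsIrrCharacter G χ) {m : G} (hm : m ∈ N) (hne : χ m ≠ χ 1) :
    ∃ θ : Cfsg.IrrCharacter N, (θ : N → ℂ) ≠ (fun _ => 1) ∧
      Cfsg.classInner (fun n : N => χ n) (θ : N → ℂ) ≠ 0 := by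
  classical
  have := Fintype.ofFinite (Cfsg.IrrCharacter N)
  by_contra hno
  push Not at hno
  have h := Char.classFunction_eq_sum
    (Char.isCharacter_isClassFunction (Char.isCharacter_restrict (Char.irr_isCharacter hχ) N))
  have he : ∀ x : N, χ x = ∑ θ : Cfsg.IrrCharacter N,
      Cfsg.classInner (fun n : N => χ n) (θ : N → ℂ) := by
    intro x
    have h1 := congrFun h x
    simp only [Finset.sum_apply, Pi.smul_apply, smul_eq_mul] at h1
    rw [h1]
    refine Finset.sum_congr rfl fun θ _ => ?_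
    by_cases hθ : (θ : N → ℂ) = fun _ => 1
    · rw [congrFun hθ x, mul_one]
    · rw [hno θ hθ, zero_mul]
  exact hne ((he ⟨m, hm⟩).trans (he 1).symm)

theorem sylow_normal_aux {p : ℕ} [Fact p.Prime] :
    ∀ (n : ℕ) (G : Type u) [Group G] [Finite G], Nat.card G ≤ n →
      Group.IsSolvable (pGen G p) → RealPPrime G p → ∀ U : Subgroup G, U.Normal → pGen G 2 ≤ U →
      (∃ a : ℕ, (pGen G 2).relIndex U = p ^ a) → ∀ P0 : Subgroup G, P0 ≤ U →
      IsPGroup p P0 → ¬ p ∣ P0.relIndex U → P0.Normal := by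
  have hp : p.Prime := Fact.out
  intro n
  induction n with
  | zero => intro G _ _ hle; exact absurd (Nat.le_zero.mp hle) Nat.card_pos.ne'
  | succ n ih =>
    intro G _ _ hcard hsolv hreal U hU hKU hUp P0 hP0U hP0 hidx
    classical
    have := Fintype.ofFinite G
    by_cases hbot : P0 = ⊥
    · rw [hbot]; infer_instance
    have := pGen_normal (G := G) 2
    have := pGen_normal (G := G) p
    have hP0R : P0 ≤ pGen G p := fun y hy => Subgroup.subset_closure (by
      obtain ⟨k, hk⟩ := IsPGroup.iff_orderOf.1 hP0 ⟨y, hy⟩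
      exact ⟨k, by rwa [Subgroup.orderOf_mk] at hk⟩)
    obtain ⟨N, hN, hNne, hNle, hmin⟩ := Solvable.exists_minimal_normal_le
      (N := U ⊓ pGen G p) inferInstance
      (fun h => hbot (le_bot_iff.1 (h ▸ le_inf hP0U hP0R)))
    have : Group.IsSolvable N :=
      Group.isSolvable_of_isSolvable_injective
        (Subgroup.inclusion_injective (hNle.trans inf_le_right))
    obtain ⟨r, hr, hrN, hrpow, hcomm⟩ := Solvable.exists_isPGroup_of_minimal_normal hNne hmin
    have hab : ∀ a ∈ N, ∀ b ∈ N, a * b = b * a := fun a ha b hb =>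
      congrArg Subtype.val (hcomm.is_comm.comm ⟨a, ha⟩ ⟨b, hb⟩)
    -- the quotient
    set f := QuotientGroup.mk' N with hf
    have hfs : Function.Surjective f := QuotientGroup.mk'_surjective N
    have hNU : N ≤ U := hNle.trans inf_le_left
    have : Fact (Nat.Prime 2) := ⟨Nat.prime_two⟩
    have hqcard : Nat.card (G ⧸ N) ≤ n := by
      have h1 := N.card_mul_index
      have h2 : 1 < Nat.card N := (Subgroup.one_lt_card_iff_ne_bot N).2 hNne
      have h3 : 0 < N.index := Nat.pos_of_ne_zero N.index_ne_zero_of_finite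
      rw [← Subgroup.index_eq_card]
      nlinarith
    have hbarN : (P0.map f).Normal := by
      refine ih (G ⧸ N) hqcard (solvable_map f hfs p hsolv) (realPPrime_map f hfs hreal) _
        (hU.map f hfs) ?_ ?_ _ (Subgroup.map_mono hP0U) (hP0.map f) ?_
      · rw [← map_pGen f hfs 2]; exact Subgroup.map_mono hKU
      · obtain ⟨a, ha⟩ := hUp
        have hd : (pGen (G ⧸ N) 2).relIndex (U.map f) ∣ p ^ a := by
          rw [← map_pGen f hfs 2, Subgroup.relIndex_map_map, hf, QuotientGroup.ker_mk',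
            sup_eq_left.2 hNU, ← ha]
          exact Subgroup.relIndex_dvd_of_le_left _ le_sup_left
        obtain ⟨b, -, hb⟩ := (Nat.dvd_prime_pow hp).1 hd
        exact ⟨b, hb⟩
      · rw [Subgroup.relIndex_map_map, hf, QuotientGroup.ker_mk', sup_eq_left.2 hNU]
        exact fun h => hidx (h.trans (Subgroup.relIndex_dvd_of_le_left _ le_sup_left))
    set L1 := P0 ⊔ N with hL1
    have : L1.Normal := by
      have e : L1 = (P0.map f).comap f := by
        rw [Subgroup.comap_map_eq, hf, QuotientGroup.ker_mk']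
      rw [e]; exact hbarN.comap f
    have hL1U : L1 ≤ U := sup_le hP0U hNU
    have hidx1 : ¬ p ∣ P0.relIndex L1 := fun h => hidx
      (h.trans (Dvd.intro _ (Subgroup.relIndex_mul_relIndex _ _ _ le_sup_left hL1U)))
    by_cases hrp : r = p
    · subst hrp
      have hL1p : IsPGroup r L1 := hP0.to_sup_of_normal_right hrN
      obtain ⟨a, ha⟩ := IsPGroup.iff_card.1 hL1p
      have hd : P0.relIndex L1 ∣ r ^ a := ha ▸ Subgroup.relIndex_dvd_card _ _
      obtain ⟨j, -, hj⟩ := (Nat.dvd_prime_pow hp).1 hd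
      rcases Nat.eq_zero_or_pos j with hj0 | hj0
      · rw [hj0, pow_zero, Subgroup.relIndex_eq_one] at hj
        rwa [le_antisymm le_sup_left hj]
      · exact absurd (hj ▸ dvd_pow_self r hj0.ne') hidx1
    have : Fact r.Prime := ⟨hr⟩
    have hNK : N ≤ pGen G 2 := by
      intro x hx
      rw [← QuotientGroup.eq_one_iff, ← orderOf_eq_one_iff]
      obtain ⟨a, ha⟩ := hUp
      have h1 : orderOf (x : G ⧸ pGen G 2) ∣ p ^ a := by
        refine orderOf_dvd_of_pow_eq_one ?_
        rw [← QuotientGroup.mk_pow, QuotientGroup.eq_one_iff, ← ha]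
        exact Subgroup.mem_subgroupOf.1 (((pGen G 2).subgroupOf U).pow_index_mem ⟨x, hNU hx⟩)
      have h2 : orderOf (x : G ⧸ pGen G 2) ∣ r ^ 1 := by
        refine orderOf_dvd_of_pow_eq_one ?_
        rw [← QuotientGroup.mk_pow, pow_one, hrpow x hx, QuotientGroup.mk_one]
      exact Nat.eq_one_of_dvd_coprimes
        (((Nat.coprime_primes hp hr).2 (Ne.symm hrp)).pow a 1) h1 h2
    set L := Subgroup.normalizer (P0 : Set G) with hL
    have hsup : N ⊔ L = ⊤ := by
      have hidx2 : ¬ p ∣ (P0.subgroupOf L1).index := hidx1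
      have h := Sylow.normalizer_sup_eq_top
        ((hP0.of_equiv (Subgroup.subgroupOfEquivOfLe le_sup_left).symm).toSylow hidx2)
      rw [IsPGroup.toSylow_coe, Subgroup.map_subgroupOf_eq_of_le le_sup_left] at h
      rw [eq_top_iff, ← h]
      exact sup_le le_sup_right (sup_le (Subgroup.le_normalizer.trans le_sup_right) le_sup_left)
    have hnormal : ∀ D : Subgroup G, D ≤ N →
        (∀ l ∈ L, ∀ d ∈ D, l * d * l⁻¹ ∈ D) → D.Normal := by
      intro D hD hl
      refine ⟨fun d hd g => ?_⟩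
      obtain ⟨a, ha, l, hl', rfl⟩ :=
        Subgroup.mem_sup_of_normal_left.1 (show g ∈ N ⊔ L by rw [hsup]; trivial)
      have h2 := hl l hl' d hd
      rw [show a * l * d * (a * l)⁻¹ = a * (l * d * l⁻¹) * a⁻¹ by group,
        hab a ha _ (hD h2), mul_inv_cancel_right]
      exact h2
    have hCbot : N ⊓ Subgroup.centralizer (P0 : Set G) = ⊥ ∨ P0.Normal := by
      have hn : (N ⊓ Subgroup.centralizer (P0 : Set G)).Normal := by
        refine hnormal _ inf_le_left fun l hl d hd => ?_
        obtain ⟨hd1, hd2⟩ := Subgroup.mem_inf.1 hd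
        refine Subgroup.mem_inf.2 ⟨hN.conj_mem d hd1 l, Subgroup.mem_centralizer_iff.2 ?_⟩
        intro y hy
        have hy' : l⁻¹ * y * l ∈ P0 := by
          have h := (Subgroup.mem_normalizer_iff.1 hl (l⁻¹ * y * l)).2
          exact h (by rwa [show l * (l⁻¹ * y * l) * l⁻¹ = y by group])
        have h := Subgroup.mem_centralizer_iff.1 hd2 _ hy'
        calc y * (l * d * l⁻¹) = l * ((l⁻¹ * y * l) * d) * l⁻¹ := by group
          _ = l * d * l⁻¹ * y := by rw [h]; group
      rcases hmin _ hn inf_le_left with h | h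
      · exact Or.inl h
      · refine Or.inr ?_
        have hNL : N ≤ L := by
          intro a ha
          have hc := Subgroup.mem_centralizer_iff.1 ((inf_eq_left.1 h) ha)
          refine Subgroup.mem_normalizer_iff.2 fun y => ⟨fun hy => ?_, fun hy => ?_⟩
          · rw [← hc y hy, mul_inv_cancel_right]; exact hy
          · have := hc _ hy
            rw [show a * y * a⁻¹ * a = a * y by group] at this
            rwa [← mul_left_cancel this, ] at hy
        exact Subgroup.normalizer_eq_top_iff.1 (eq_top_iff.2 (hsup ▸ sup_le hNL le_rfl))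
    rcases hCbot with hCbot | h
    swap
    · exact h
    exfalso
    have hdNP : Disjoint N P0 := IsPGroup.disjoint_of_ne r p hrp N P0 hrN hP0
    have hdisj : Disjoint N L := by
      rw [Subgroup.disjoint_def]
      intro a ha haL
      have hc : a ∈ Subgroup.centralizer (P0 : Set G) := by
        refine Subgroup.mem_centralizer_iff.2 fun y hy => ?_
        have h1 : a * y * a⁻¹ * y⁻¹ ∈ P0 :=
          mul_mem ((Subgroup.mem_normalizer_iff.1 haL y).1 hy) (inv_mem hy)
        have h2 : a * y * a⁻¹ * y⁻¹ ∈ N := by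
          rw [show a * y * a⁻¹ * y⁻¹ = a * (y * a⁻¹ * y⁻¹) by group]
          exact mul_mem ha (hN.conj_mem _ (inv_mem ha) y)
        have h3 := Subgroup.disjoint_def.1 hdNP h2 h1
        rw [mul_inv_eq_one, mul_inv_eq_iff_eq_mul] at h3
        exact h3.symm
      exact Subgroup.mem_bot.1 (hCbot ▸ Subgroup.mem_inf.2 ⟨ha, hc⟩)
    have := Fintype.ofFinite N
    obtain ⟨θ, hθ1, χ, hre, hover⟩ : ∃ θ : Cfsg.IrrCharacter N, (θ : N → ℂ) ≠ (fun _ => 1) ∧
        ∃ χ : Cfsg.IrrCharacter G, (∀ g : G, ((χ : G → ℂ) g).im = 0) ∧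
          Cfsg.classInner (fun m : N => (χ : G → ℂ) m) (θ : N → ℂ) ≠ 0 := by
      rcases hr.eq_two_or_odd' with h2 | hodd
      · obtain ⟨x, hx, hx1⟩ := (Subgroup.ne_bot_iff_exists_ne_one.1 hNne) |>.elim
          fun x hx => (⟨x.1, x.2, fun e => hx (Subtype.ext e)⟩ : ∃ x, x ∈ N ∧ x ≠ 1)
        obtain ⟨χ, hre, m, hm, hne⟩ :=
          exists_real_not_ker N L hsup hdisj hx hx1 (h2 ▸ hrpow x hx)
        obtain ⟨θ, h1, h2⟩ := exists_constituent_ne_one N χ.2 hm hne
        exact ⟨θ, h1, χ, hre, h2⟩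
      · obtain ⟨t, ⟨k, hk⟩, ht⟩ : ∃ t ∈ {g : G | ∃ k : ℕ, orderOf g = 2 ^ k},
            t ∉ Subgroup.centralizer (N : Set G) := by
          by_contra hno
          push Not at hno
          have hKc : pGen G 2 ≤ Subgroup.centralizer (N : Set G) :=
            (Subgroup.closure_le _).2 hno
          have hKL : pGen G 2 ≤ L := by
            rw [Subgroup.closure_le]
            rintro y ⟨k, hk⟩
            obtain ⟨a, ha, l, hl, rfl⟩ :=
              Subgroup.mem_sup_of_normal_left.1 (show y ∈ N ⊔ L by rw [hsup]; trivial)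
            have hlK : l ∈ pGen G 2 := by
              rw [show l = a⁻¹ * (a * l) by group]
              exact mul_mem (inv_mem (hNK ha)) (Subgroup.subset_closure ⟨k, hk⟩)
            have hcm : Commute a l := Subgroup.mem_centralizer_iff.1 (hKc hlK) a ha
            have h1 : a ^ 2 ^ k * l ^ 2 ^ k = 1 := by
              rw [← hcm.mul_pow, ← hk, pow_orderOf_eq_one]
            have h2 : a ^ 2 ^ k = 1 := Subgroup.disjoint_def.1 hdisj (pow_mem ha _)
              ((eq_inv_of_mul_eq_one_left h1).symm ▸ inv_mem (pow_mem hl _))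
            have h3 : a = 1 := by
              rw [← orderOf_eq_one_iff]
              exact Nat.eq_one_of_dvd_coprimes (((Nat.coprime_two_left.2 hodd).pow_left k))
                (orderOf_dvd_of_pow_eq_one h2) (orderOf_dvd_of_pow_eq_one (hrpow a ha))
            rw [h3, one_mul]; exact hl
          exact hNne (le_bot_iff.1 (hdisj le_rfl (hNK.trans hKL)))
        obtain ⟨i, x, hx, hsx⟩ := RealOverOdd.exists_inverted N hk ht
        obtain ⟨θ, h1, hθ⟩ := RealOverOdd.exists_irr_ne_one_conj N _ hx hsx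
        have hNodd : Odd (Nat.card N) := by
          obtain ⟨a, ha⟩ := IsPGroup.iff_card.1 hrN
          rw [ha]; exact hodd.pow
        exact ⟨θ, h1, RealOverOdd.exists_real_over_of_conj N hNodd θ.2 _ hθ⟩
    have hdvd := Degrees.index_inertia_mul_dvd N θ.2 χ.2 hover
    set T := inertia (G := G) (θ : N → ℂ) with hT
    have hNT : N ≤ T := le_inertia (Char.irr_isClassFunction θ.2)
    have hTidx : ¬ p ∣ T.index := fun h => hreal χ hre (h.trans (dvd_of_mul_right_dvd hdvd))
    have hP0T : P0 ≤ T := by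
      let P' : Sylow p T := default
      have h1 : IsPGroup p ((P' : Subgroup T).map T.subtype) := P'.2.map _
      have h2 : ¬ p ∣ ((P' : Subgroup T).map T.subtype).index := by
        rw [Subgroup.index_map_subtype]
        exact hp.not_dvd_mul P'.not_dvd_index hTidx
      obtain ⟨S, hS⟩ := hP0.exists_le_sylow
      obtain ⟨g, hg⟩ := MulAction.exists_smul_eq G (h1.toSylow h2) S
      obtain ⟨a, ha, l, hl, hgal⟩ :=
        Subgroup.mem_sup_of_normal_left.1 (show g⁻¹ ∈ N ⊔ L by rw [hsup]; trivial)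
      intro y hy
      have hy' : l⁻¹ * y * l ∈ P0 := by
        have h := (Subgroup.mem_normalizer_iff.1 hl (l⁻¹ * y * l)).2
        exact h (by rwa [show l * (l⁻¹ * y * l) * l⁻¹ = y by group])
      have h3 : g⁻¹ * (l⁻¹ * y * l) * g ∈ T := by
        have h4 : l⁻¹ * y * l ∈ ((g • h1.toSylow h2 : Sylow p G) : Subgroup G) := hg ▸ hS hy'
        rw [Sylow.coe_subgroup_smul] at h4
        obtain ⟨z, hz, hze⟩ := h4
        have hzT : z ∈ T := Subgroup.map_subtype_le _ hz
        rw [← hze]
        simpa [MulAut.smul_def, mul_assoc] using hzT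
      rw [show g = (a * l)⁻¹ by rw [hgal, inv_inv], inv_inv,
        show a * l * (l⁻¹ * y * l) * (a * l)⁻¹ = a * y * a⁻¹ by group] at h3
      have h5 := mul_mem (mul_mem (inv_mem (hNT ha)) h3) (hNT ha)
      rwa [show a⁻¹ * (a * y * a⁻¹) * a = y by group] at h5
    have hl1 : (θ : N → ℂ) 1 = 1 := Char.irr_degree_one_of_comm
      (fun a b => Subtype.ext (hab _ a.2 _ b.2)) θ.2
    obtain ⟨μ, hμ⟩ := Char.exists_hom_of_degree_one (Char.irr_isCharacter θ.2) hl1
    set D : Subgroup G := ⁅P0, N⁆ with hD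
    have hDN : D ≤ N := Subgroup.commutator_le_right P0 N
    have hDn : D.Normal := by
      refine hnormal D hDN fun l hl d hd => ?_
      have h : D.map (MulAut.conj l).toMonoidHom ≤ D := by
        rw [hD, Subgroup.map_commutator]
        refine Subgroup.commutator_mono ?_ ?_
        · rintro _ ⟨y, hy, rfl⟩; exact (Subgroup.mem_normalizer_iff.1 hl y).1 hy
        · rintro _ ⟨y, hy, rfl⟩; exact hN.conj_mem y hy l
      exact h ⟨d, hd, rfl⟩
    rcases hmin D hDn hDN with h | h
    · refine hNne (le_bot_iff.1 (hCbot ▸ le_inf le_rfl ?_))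
      exact Subgroup.le_centralizer_iff.1 (Subgroup.commutator_eq_bot_iff_le_centralizer.1 h)
    · have hker : D ≤ μ.ker.map N.subtype := by
        rw [hD, Subgroup.commutator_le]
        intro y hy a ha
        refine ⟨conjN y ⟨a, ha⟩ * ⟨a, ha⟩⁻¹, MonoidHom.mem_ker.2 ?_, ?_⟩
        · have e : (μ (conjN y ⟨a, ha⟩) : ℂ) = μ ⟨a, ha⟩ := by
            have h := hP0T hy ⟨a, ha⟩
            rwa [congrFun hμ, congrFun hμ] at h
          rw [map_mul, map_inv, Units.ext e, mul_inv_cancel]
        · simp [commutatorElement_def]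
      refine hθ1 (funext fun a => ?_)
      obtain ⟨b, hb, hba⟩ := hker (le_of_eq h.symm a.2)
      rw [congrFun hμ, show a = b from Subtype.ext hba.symm, MonoidHom.mem_ker.1 hb, Units.val_one]

/-- The Sylow `p`-subgroup of the subgroup generated by the `2`-elements is normal. -/
theorem two_gen_sylow_normal [Finite G] {p : ℕ} [Fact p.Prime]
    (hsolv : Group.IsSolvable (pGen G p)) (hreal : RealPPrime G p)
    (Q : Sylow p (pGen G 2)) : ((Q : Subgroup (pGen G 2)).map (pGen G 2).subtype).Normal := by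
  refine sylow_normal_aux (Nat.card G) G le_rfl hsolv hreal _ (pGen_normal 2) le_rfl
    ⟨0, by rw [Subgroup.relIndex_self, pow_zero]⟩ _ (Subgroup.map_subtype_le _) (Q.2.map _) ?_
  rw [Subgroup.relIndex, Subgroup.subgroupOf,
    Subgroup.comap_map_eq_self_of_injective (Subgroup.subtype_injective _)]
  exact Q.not_dvd_index

/-- The Sylow `p`-subgroups of a normal subgroup over `pGen G 2` of `p`-power index are normal. -/
theorem over_sylow_normal [Finite G] {p : ℕ} [Fact p.Prime]
    (hsolv : Group.IsSolvable (pGen G p)) (hreal : RealPPrime G p) (U : Subgroup G) (hU : U.Normal)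
    (hKU : pGen G 2 ≤ U) (hUp : ∃ a : ℕ, (pGen G 2).relIndex U = p ^ a)
    (Q : Sylow p U) : ((Q : Subgroup U).map U.subtype).Normal := by
  refine sylow_normal_aux (Nat.card G) G le_rfl hsolv hreal U hU hKU hUp _
    (Subgroup.map_subtype_le _) (Q.2.map _) ?_
  rw [Subgroup.relIndex, Subgroup.subgroupOf,
    Subgroup.comap_map_eq_self_of_injective (Subgroup.subtype_injective _)]
  exact Q.not_dvd_index

end CfsgLib.BlockB.PPrimeReal
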