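import Cfsg.Agent.Lib.BlockB.PPrimeRealCorr

/-!
Groups whose real irreducible characters have degree prime to `p`: the normalizer of a Sylow
`p`-subgroup meets every real class.
-/

set_option autoImplicit false
set_option linter.unusedSectionVars false

namespace CfsgLib.BlockB.PPrimeRealCorr

open CfsgLib CfsgLib.BlockB.RealOrbits

universe u

variable {p : ℕ} [Fact p.Prime]

theorem meets_real_class_of_coprime {H : Type u} [Group H] [Finite H] (P : Sylow p H)
    (hsolv : Group.IsSolvable (PPrimeReal.pGen H p)) (hreal : PPrimeReal.RealPPrime H p)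
    (hdisj : (P : Subgroup H) ⊓ PPrimeReal.pGen H 2 = ⊥) {x : H} (hx : IsConj x x⁻¹) :
    ∃ y ∈ Nrm P, IsConj x y := by
  classical
  have := Fintype.ofFinite H
  have := PPrimeReal.pGen_normal (G := H) 2
  set K := PPrimeReal.pGen H 2 with hK
  have := Fintype.ofFinite K
  have := Fintype.ofFinite (Nrm P)
  have : Finite (ConjClasses H) := Finite.of_surjective _ ConjClasses.mk_surjective
  have : Finite (ConjClasses (Nrm P)) := Finite.of_surjective _ ConjClasses.mk_surjective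
  have hodd : Odd K.index := pGen_two_index_odd
  obtain ⟨f, hf, -⟩ := exists_bijection K P hodd (inf_pGen_normal P hsolv hreal) hreal
  have hle : Nat.card {C : ConjClasses H // ∀ g : H, ConjClasses.mk g = C → IsConj g g⁻¹} ≤
      Nat.card {C : ConjClasses (Nrm P) // ∀ g, ConjClasses.mk g = C → IsConj g g⁻¹} := by
    rw [← Char.natCard_real_irr, ← Char.natCard_real_irr]
    exact (Nat.card_eq_of_bijective f hf).trans_le (Nat.card_le_card_of_injective
      (fun ξ => (⟨ξ.1, ξ.2.1⟩ : {ξ : Cfsg.IrrCharacter (Nrm P) // ∀ n, ((ξ : Nrm P → ℂ) n).im = 0}))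
      fun a b h => Subtype.ext (congrArg Subtype.val h :))
  let F : {C : ConjClasses (Nrm P) // ∀ g, ConjClasses.mk g = C → IsConj g g⁻¹} →
      {C : ConjClasses H // ∀ g : H, ConjClasses.mk g = C → IsConj g g⁻¹} := fun C =>
    ⟨ConjClasses.map (Nrm P).subtype C.1, fun g hg => by
      obtain ⟨c, hc⟩ := ConjClasses.mk_surjective C.1
      rw [← hc] at hg
      have h1 : IsConj g (c : H) := ConjClasses.mk_eq_mk_iff_isConj.1 hg
      have h2 : IsConj (c : H) (c : H)⁻¹ := by simpa using (Nrm P).subtype.map_isConj (C.2 c hc)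
      obtain ⟨z, hz⟩ := isConj_iff.1 h1
      exact h1.trans (h2.trans (isConj_iff.2 ⟨z, by rw [← conj_inv, hz]⟩).symm)⟩
  have hcen : ∀ a : Nrm P, IsConj a a⁻¹ →
      (a : H) ∈ Subgroup.centralizer ((P : Subgroup H) : Set H) := by
    intro a ha
    obtain ⟨hak, -⟩ := real_mem (K.subgroupOf (Nrm P))
      (hodd.of_dvd_nat (Subgroup.relIndex_dvd_index_of_normal K (Nrm P))) ha
    have haK : (a : H) ∈ K := Subgroup.mem_subgroupOf.1 hak
    refine Subgroup.mem_centralizer_iff.2 fun s hs => ?_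
    have h1 : s * a * s⁻¹ * (a : H)⁻¹ ∈ (P : Subgroup H) ⊓ K := by
      refine Subgroup.mem_inf.2 ⟨?_, mul_mem ((inferInstance : K.Normal).conj_mem _ haK s)
        (inv_mem haK)⟩
      rw [show s * a * s⁻¹ * (a : H)⁻¹ = s * (a * s⁻¹ * (a : H)⁻¹) by group]
      exact mul_mem hs ((Subgroup.mem_normalizer_iff.1 a.2 _).1 (inv_mem hs))
    rw [hdisj, Subgroup.mem_bot, mul_inv_eq_one, mul_inv_eq_iff_eq_mul] at h1
    exact h1
  have hinj : Function.Injective F := by
    intro A B hAB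
    obtain ⟨a, ha⟩ := ConjClasses.mk_surjective A.1
    obtain ⟨b, hb⟩ := ConjClasses.mk_surjective B.1
    have h := congrArg Subtype.val hAB
    simp only [F, ← ha, ← hb] at h
    obtain ⟨g, hg⟩ := isConj_iff.1 (ConjClasses.mk_eq_mk_iff_isConj.1 h.symm :
      IsConj (b : H) (a : H))
    have hg' : g⁻¹ * a * g = (b : H) := by rw [← hg]; group
    obtain ⟨n, hn, hna⟩ := P.conj_eq_normalizer_conj_of_mem_centralizer (a : H) g
      (hcen a (A.2 a ha)) (hg'.symm ▸ hcen b (B.2 b hb))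
    refine Subtype.ext ?_
    rw [← ha, ← hb]
    refine ConjClasses.mk_eq_mk_iff_isConj.2 (isConj_iff.2 ⟨⟨n, hn⟩⁻¹, Subtype.ext ?_⟩)
    rw [hg'] at hna
    simpa [mul_assoc] using hna.symm
  have hsurj := ((Nat.bijective_iff_injective_and_card F).2
    ⟨hinj, le_antisymm (Nat.card_le_card_of_injective F hinj) hle⟩).2
  obtain ⟨C, hC⟩ := hsurj ⟨ConjClasses.mk x, fun g hg => by
    obtain ⟨z, hz⟩ := isConj_iff.1 (ConjClasses.mk_eq_mk_iff_isConj.1 hg)
    exact (isConj_iff.2 ⟨z, hz⟩).trans (hx.trans (isConj_iff.2 ⟨z, by rw [← conj_inv, hz]⟩).symm)⟩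
  obtain ⟨c, hc⟩ := ConjClasses.mk_surjective C.1
  have h := congrArg Subtype.val hC
  simp only [F, ← hc] at h
  exact ⟨c, c.2, ConjClasses.mk_eq_mk_iff_isConj.1 h.symm⟩

/-- **Every real class meets the normalizer of a Sylow `p`-subgroup.** -/
theorem meets_real_class {H : Type u} [Group H] [Finite H] (P : Sylow p H)
    (hsolv : Group.IsSolvable (PPrimeReal.pGen H p)) (hreal : PPrimeReal.RealPPrime H p)
    {x : H} (hx : IsConj x x⁻¹) : ∃ y ∈ Nrm P, IsConj x y := by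
  classical
  have := Fintype.ofFinite H
  have : Fact (Nat.Prime 2) := ⟨Nat.prime_two⟩
  have := inf_pGen_normal P hsolv hreal
  set K := PPrimeReal.pGen H 2 with hK
  set P0 := (P : Subgroup H) ⊓ K with hP0
  set f := QuotientGroup.mk' P0 with hf
  have hfs : Function.Surjective f := QuotientGroup.mk'_surjective P0
  let Pq : Sylow p (H ⧸ P0) := P.mapSurjective hfs
  have hPq : (Pq : Subgroup (H ⧸ P0)) = (P : Subgroup H).map f := Sylow.coe_mapSurjective hfs P
  have hdisj : (Pq : Subgroup (H ⧸ P0)) ⊓ PPrimeReal.pGen (H ⧸ P0) 2 = ⊥ := by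
    rw [hPq, ← PPrimeReal.map_pGen f hfs 2, eq_bot_iff]
    rintro _ ⟨⟨s, hs, rfl⟩, ⟨k, hk, hks⟩⟩
    have h1 : k⁻¹ * s ∈ P0 := QuotientGroup.eq.1 hks
    have h2 : k ∈ (P : Subgroup H) := by
      rw [show k = s * (k⁻¹ * s)⁻¹ by group]
      exact mul_mem hs (inv_mem (Subgroup.mem_inf.1 h1).1)
    rw [Subgroup.mem_bot, ← hks]
    exact (QuotientGroup.eq_one_iff k).2 (Subgroup.mem_inf.2 ⟨h2, hk⟩)
  have hxq : IsConj (f x) (f x)⁻¹ := by simpa using f.map_isConj hx
  obtain ⟨y, hy, hxy⟩ := meets_real_class_of_coprime Pq (PPrimeReal.solvable_map f hfs p hsolv)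
    (PPrimeReal.realPPrime_map f hfs hreal) hdisj hxq
  obtain ⟨g, hg⟩ := isConj_iff.1 hxy
  obtain ⟨a, rfl⟩ := hfs g
  refine ⟨a * x * a⁻¹, ?_, isConj_iff.2 ⟨a, rfl⟩⟩
  refine Subgroup.mem_normalizer_fintype fun s hs => ?_
  have h1 : f (a * x * a⁻¹ * s * (a * x * a⁻¹)⁻¹) ∈ (Pq : Subgroup (H ⧸ P0)) := by
    simp only [map_mul, map_inv, hg]
    exact (Subgroup.mem_normalizer_iff.1 hy (f s)).1 (by rw [hPq]; exact ⟨s, hs, rfl⟩)
  rw [hPq] at h1
  obtain ⟨t, ht, hts⟩ := h1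
  have h2 := QuotientGroup.eq.1 hts
  rw [show a * x * a⁻¹ * s * (a * x * a⁻¹)⁻¹ = t * (t⁻¹ * (a * x * a⁻¹ * s * (a * x * a⁻¹)⁻¹)) by
    group]
  exact mul_mem ht (Subgroup.mem_inf.1 h2).1

end CfsgLib.BlockB.PPrimeRealCorr
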