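import Cfsg.Agent.Lib.BlockB.RealOrbits
import Cfsg.Agent.Lib.Clifford.Constituents
import Cfsg.Agent.Lib.Char.Orthogonality
import Mathlib.Data.ZMod.Basic
import Mathlib.Algebra.BigOperators.Group.Finset.Basic

/-!
Over each real irreducible character of a normal subgroup of odd index there is exactly one real
irreducible character, and the Frobenius-Schur indicators agree.
-/

set_option autoImplicit false
set_option linter.unusedSectionVars false
set_option linter.style.haveILetI false

namespace CfsgLib.BlockB.RealAbove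

open CfsgLib CfsgLib.Clifford CfsgLib.BlockB.RealOrbits
open scoped ComplexConjugate

universe u

variable {G : Type u} [Group G] [Fintype G] (K : Subgroup G) [K.Normal] [Fintype K]

/-- Some real irreducible character lies over a given real one. -/
theorem exists_real_over (hodd : Odd K.index) (θ : RealIrr K) :
    ∃ χ : Cfsg.IrrCharacter G, (∀ g : G, ((χ : G → ℂ) g).im = 0) ∧
      Cfsg.classInner (fun k : K => (χ : G → ℂ) k) (θ.1 : K → ℂ) ≠ 0 := by
  classical
  have := Fintype.ofFinite (Cfsg.IrrCharacter G)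
  have hex : ∀ χ : Cfsg.IrrCharacter G, ∃ e : ℕ,
      Cfsg.classInner (fun k : K => (χ : G → ℂ) k) (θ.1 : K → ℂ) = e := fun χ =>
    Char.classInner_isCharacter_nat (Char.isCharacter_restrict (Char.irr_isCharacter χ.2) K)
      (Char.irr_isCharacter θ.1.2)
  choose e he using hex
  -- the norm of the induced character is odd
  set n := Nat.card {x : G // conjFn x (θ.1 : K → ℂ) = (θ.1 : K → ℂ)} with hn
  have hsum : n = Nat.card K * ∑ χ, e χ ^ 2 := by
    have h1 := classInner_indFun_indFun (N := K) θ.1.2 θ.1.2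
    have h2 : ∀ χ : Cfsg.IrrCharacter G,
        Cfsg.classInner (Cfsg.indFun K (θ.1 : K → ℂ)) (χ : G → ℂ) = e χ := fun χ => by
      rw [Char.frobenius_reciprocity K _ _ (Char.irr_isClassFunction χ.2),
        ← Char.classInner_conj_symm, he, map_natCast]
    have h3 : Cfsg.classInner (Cfsg.indFun K (θ.1 : K → ℂ)) (Cfsg.indFun K (θ.1 : K → ℂ)) =
        ∑ χ : Cfsg.IrrCharacter G, (e χ : ℂ) ^ 2 := by
      conv_lhs => arg 1; rw [Char.classFunction_eq_sum (Char.indFun_isClassFunction K (θ.1 : K → ℂ))]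
      rw [Char.classInner_sum_left]
      refine Finset.sum_congr rfl fun χ _ => ?_
      rw [Char.classInner_smul_left, h2, ← Char.classInner_conj_symm, h2, map_natCast, sq]
    rw [h1, ← hn] at h3
    have h4 : (Nat.card K : ℂ) ≠ 0 := by exact_mod_cast Nat.card_pos.ne'
    field_simp at h3
    exact_mod_cast h3
  have hodd2 : Odd (∑ χ, e χ ^ 2) := by
    have h1 : n = Nat.card (inertia (θ.1 : K → ℂ)) :=
      Nat.card_congr (Equiv.subtypeEquivRight fun x => mem_inertia_iff_conjFn.symm)
    have hle := le_inertia (G := G) (Char.irr_isClassFunction θ.1.2)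
    have h2 : Nat.card (inertia (θ.1 : K → ℂ)) =
        K.relIndex (inertia (θ.1 : K → ℂ)) * Nat.card K := by
      rw [← (K.subgroupOf (inertia (θ.1 : K → ℂ))).index_mul_card,
        Nat.card_congr (Subgroup.subgroupOfEquivOfLe hle).toEquiv]
      rfl
    rw [h1, h2, mul_comm] at hsum
    rw [← Nat.eq_of_mul_eq_mul_left Nat.card_pos hsum]
    exact hodd.of_dvd_nat (Subgroup.relIndex_dvd_index_of_normal K _)
  by_contra hno
  push Not at hno
  let σ : Cfsg.IrrCharacter G → Cfsg.IrrCharacter G := fun χ =>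
    ⟨fun g => conj ((χ : G → ℂ) g), Char.isIrrCharacter_conj χ.2⟩
  have hσe : ∀ χ, e (σ χ) = e χ := by
    intro χ
    have h1 := he (σ χ)
    rw [show (fun k : K => (σ χ : G → ℂ) k) = fun k : K => conj ((χ : G → ℂ) k) from rfl] at h1
    have h2 : Cfsg.classInner (fun k : K => conj ((χ : G → ℂ) k)) (θ.1 : K → ℂ) =
        conj (Cfsg.classInner (fun k : K => (χ : G → ℂ) k) (θ.1 : K → ℂ)) := by
      rw [Char.classInner_def, Char.classInner_def, map_mul, map_inv₀, map_natCast, map_sum]
      congr 1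
      refine Finset.sum_congr rfl fun k _ => ?_
      rw [map_mul, Complex.conj_conj, Complex.conj_eq_iff_im.2 (θ.2 k)]
    rw [h2, he, map_natCast] at h1
    exact_mod_cast h1.symm
  have hzero : ∑ χ, ((e χ ^ 2 : ℕ) : ZMod 2) = 0 := by
    refine Finset.sum_involution (fun χ _ => σ χ) (fun χ _ => ?_) (fun χ _ hne hfix => hne ?_)
      (fun χ _ => Finset.mem_univ _) (fun χ _ => ?_)
    · rw [hσe]; exact CharTwo.add_self_eq_zero _
    · have hr : ∀ g, ((χ : G → ℂ) g).im = 0 := fun g =>
        Complex.conj_eq_iff_im.1 (congrArg (fun x : Cfsg.IrrCharacter G => (x : G → ℂ) g) hfix)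
      have h0 := hno χ hr
      rw [he, Nat.cast_eq_zero] at h0
      simp [h0]
    · exact Subtype.ext (funext fun g => Complex.conj_conj _)
  rw [← Nat.cast_sum, ZMod.natCast_eq_zero_iff_even] at hzero
  exact (Nat.not_even_iff_odd.2 hodd2) hzero

/-- The constituents of a real irreducible character include a real one. -/
theorem exists_real_below (hodd : Odd K.index) (χ : Cfsg.IrrCharacter G)
    (hr : ∀ g : G, ((χ : G → ℂ) g).im = 0) :
    ∃ θ : RealIrr K, Cfsg.classInner (fun k : K => (χ : G → ℂ) k) (θ.1 : K → ℂ) ≠ 0 := by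
  classical
  obtain ⟨θ₀, hθ₀, hne₀⟩ := exists_irr_constituent_restrict (N := K) χ.2
  by_contra hno
  push Not at hno
  let X := {θ : Cfsg.IrrCharacter K // Cfsg.classInner (fun k : K => (χ : G → ℂ) k) (θ : K → ℂ) ≠ 0}
  have := Fintype.ofFinite X
  have hconj : ∀ θ : K → ℂ, Cfsg.classInner (fun k : K => (χ : G → ℂ) k) (fun k => conj (θ k)) =
      conj (Cfsg.classInner (fun k : K => (χ : G → ℂ) k) θ) := by
    intro θ
    rw [Char.classInner_def, Char.classInner_def, map_mul, map_inv₀, map_natCast, map_sum]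
    congr 1
    refine Finset.sum_congr rfl fun k _ => ?_
    rw [map_mul, Complex.conj_conj, Complex.conj_eq_iff_im.2 (hr _)]
  let σ : X → X := fun θ => ⟨⟨fun k => conj ((θ.1 : K → ℂ) k), Char.isIrrCharacter_conj θ.1.2⟩, by
    rw [hconj]; simpa using θ.2⟩
  have heven : ∑ _θ : X, (1 : ZMod 2) = 0 := by
    refine Finset.sum_involution (fun θ _ => σ θ) (fun θ _ => CharTwo.add_self_eq_zero _)
      (fun θ _ _ hfix => θ.2 (hno ⟨θ.1, fun k => Complex.conj_eq_iff_im.1
        (congrArg (fun x : X => (x.1 : K → ℂ) k) hfix)⟩))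
      (fun θ _ => Finset.mem_univ _) (fun θ _ => ?_)
    exact Subtype.ext (Subtype.ext (funext fun k => Complex.conj_conj _))
  -- the constituents form an orbit of odd length
  set I := inertia (G := G) θ₀ with hI
  have hconstit : ∀ g : G, Cfsg.classInner (fun k : K => (χ : G → ℂ) k) (conjFn g θ₀) ≠ 0 := by
    intro g
    rw [show Cfsg.classInner (fun k : K => (χ : G → ℂ) k) (conjFn g θ₀) =
      Cfsg.classInner (fun k : K => (χ : G → ℂ) k) θ₀ from ?_]
    · exact hne₀
    conv_lhs => arg 1; rw [← isCharacter_restrict_conj (N := K) (Char.irr_isClassFunction χ.2) g]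
    rw [Char.classInner_def, Char.classInner_def]
    congr 1
    exact Fintype.sum_equiv
      ⟨conjN g, conjN g⁻¹, fun n => by rw [← conjN_mul, inv_mul_cancel, conjN_one],
        fun n => by rw [← conjN_mul, mul_inv_cancel, conjN_one]⟩ _ _ fun n => rfl
  let F : G ⧸ I → X := Quotient.lift
    (fun g : G => (⟨⟨conjFn g⁻¹ θ₀, isIrrCharacter_conjFn hθ₀ g⁻¹⟩, hconstit g⁻¹⟩ : X)) (by
      intro a b hab
      have hab' : a⁻¹ * b ∈ I := QuotientGroup.leftRel_apply.1 hab
      refine Subtype.ext (Subtype.ext ?_)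
      show conjFn a⁻¹ θ₀ = conjFn b⁻¹ θ₀
      conv_rhs => rw [show b⁻¹ = (a⁻¹ * b)⁻¹ * a⁻¹ by group, ← conjFn_conjFn,
        mem_inertia_iff_conjFn.1 (I.inv_mem hab')])
  have hF : Function.Bijective F := by
    constructor
    · intro x y hxy
      induction x using Quotient.inductionOn with
      | _ a =>
        induction y using Quotient.inductionOn with
        | _ b =>
          have h : conjFn a⁻¹ θ₀ = conjFn b⁻¹ θ₀ :=
            congrArg (fun φ : X => ((φ.1 : Cfsg.IrrCharacter K) : K → ℂ)) hxy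
          refine Quotient.sound (QuotientGroup.leftRel_apply.2 (mem_inertia_iff_conjFn.2 ?_))
          have h2 := congrArg (conjFn b) h
          rw [conjFn_conjFn, conjFn_conjFn, inv_mul_cancel, conjFn_one] at h2
          exact h2
    · rintro ⟨⟨φ, hφ⟩, hne⟩
      obtain ⟨g, hg⟩ := exists_conj_of_constituents χ.2 hθ₀ hφ hne₀ hne
      exact ⟨Quotient.mk _ g⁻¹, Subtype.ext (Subtype.ext (by
        show conjFn g⁻¹⁻¹ θ₀ = φ
        rw [inv_inv, hg]))⟩
  rw [Finset.sum_const, Finset.card_univ, nsmul_eq_mul, mul_one, ← Nat.card_eq_fintype_card,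
    ← Nat.card_congr (Equiv.ofBijective F hF), ← Subgroup.index_eq_card,
    ZMod.natCast_eq_zero_iff_even] at heven
  exact (Nat.not_even_iff_odd.2 (hodd.of_dvd_nat (Subgroup.index_dvd_of_le
    (le_inertia (Char.irr_isClassFunction hθ₀))))) heven

/-- Exactly one real irreducible character lies over a given real one. -/
theorem existsUnique_real_over (hodd : Odd K.index) (θ : RealIrr K) :
    ∃! χ : Cfsg.IrrCharacter G, (∀ g : G, ((χ : G → ℂ) g).im = 0) ∧
      Cfsg.classInner (fun k : K => (χ : G → ℂ) k) (θ.1 : K → ℂ) ≠ 0 := by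
  classical
  let R := {χ : Cfsg.IrrCharacter G // ∀ g : G, ((χ : G → ℂ) g).im = 0}
  let f : R → MulAction.orbitRel.Quotient G (RealIrr K) := fun χ =>
    Quotient.mk _ (exists_real_below K hodd χ.1 χ.2).choose
  have hf : ∀ (χ : R) (η : RealIrr K),
      Cfsg.classInner (fun k : K => (χ.1 : G → ℂ) k) (η.1 : K → ℂ) ≠ 0 →
      f χ = Quotient.mk _ η := by
    intro χ η hne
    obtain ⟨g, hg⟩ := exists_conj_of_constituents χ.1.2 η.1.2
      ((exists_real_below K hodd χ.1 χ.2).choose).1.2 hne
      (exists_real_below K hodd χ.1 χ.2).choose_spec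
    refine Quotient.sound (a := (exists_real_below K hodd χ.1 χ.2).choose) ?_
    refine ⟨g⁻¹, Subtype.ext (Subtype.ext ?_)⟩
    show conjFn g⁻¹⁻¹ (η.1 : K → ℂ) = _
    rw [inv_inv, hg]
  have hsurj : Function.Surjective f := by
    intro o
    induction o using Quotient.inductionOn with
    | _ η =>
      obtain ⟨χ, hr, hne⟩ := exists_real_over K hodd η
      exact ⟨⟨χ, hr⟩, hf ⟨χ, hr⟩ η hne⟩
  have hinj : Function.Injective f := by
    have : Finite (MulAction.orbitRel.Quotient G (RealIrr K)) := Quotient.finite _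
    refine ((Nat.bijective_iff_surjective_and_card f).2 ⟨hsurj, ?_⟩).1
    rw [natCard_orbits_real K hodd, natCard_orbits_class K hodd]
    exact Char.natCard_real_irr
  obtain ⟨χ, hr, hne⟩ := exists_real_over K hodd θ
  refine ⟨χ, ⟨hr, hne⟩, fun ψ hψ => ?_⟩
  exact congrArg Subtype.val (hinj (a₁ := ⟨ψ, hψ.1⟩) (a₂ := ⟨χ, hr⟩)
    ((hf ⟨ψ, hψ.1⟩ θ hψ.2).trans (hf ⟨χ, hr⟩ θ hne).symm))

/-- The Frobenius-Schur indicators sum to the one below. -/
theorem sum_fs_mul_inner [Fintype (Cfsg.IrrCharacter G)] (hodd : Odd K.index) {φ : K → ℂ}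
    (hφ : Cfsg.IsIrrCharacter K φ) :
    ∑ χ : Cfsg.IrrCharacter G, ((Nat.card G : ℂ)⁻¹ * ∑ s : G, (χ : G → ℂ) (s * s)) *
        Cfsg.classInner (fun k : K => (χ : G → ℂ) k) φ =
      (Nat.card K : ℂ)⁻¹ * ∑ k : K, φ (k * k) := by
  classical
  have hcol : ∀ a b : G, ∑ χ : Cfsg.IrrCharacter G, (χ : G → ℂ) a * conj ((χ : G → ℂ) b) =
      ∑ g : G, if g * b * g⁻¹ = a then (1 : ℂ) else 0 := by
    intro a b
    rw [Char.column_orthogonality, Finset.sum_boole, ← Nat.card_eq_finsetCard]
    split_ifs with h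
    · congr 1
      obtain ⟨x, hx⟩ := isConj_iff.1 h.symm
      refine Nat.card_congr
        { toFun := fun c => ⟨c.1 * x, Finset.mem_filter.2 ⟨Finset.mem_univ _, by
            have hc := Subgroup.mem_centralizer_singleton_iff.1 c.2
            calc c.1 * x * b * (c.1 * x)⁻¹ = c.1 * (x * b * x⁻¹) * c.1⁻¹ := by group
              _ = a := by rw [hx, hc, mul_inv_cancel_right]⟩⟩
          invFun := fun g => ⟨g.1 * x⁻¹, Subgroup.mem_centralizer_singleton_iff.2 (by
            have hg := (Finset.mem_filter.1 g.2).2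
            calc g.1 * x⁻¹ * a = g.1 * x⁻¹ * (x * b * x⁻¹) := by rw [hx]
              _ = (g.1 * b * g.1⁻¹) * (g.1 * x⁻¹) := by group
              _ = a * (g.1 * x⁻¹) := by rw [hg])⟩
          left_inv := fun c => Subtype.ext (mul_inv_cancel_right _ _)
          right_inv := fun g => Subtype.ext (inv_mul_cancel_right _ _) }
    · rw [eq_comm, Nat.cast_eq_zero, Nat.card_eq_zero]
      exact Or.inl ⟨fun g => h (isConj_iff.2 ⟨g.1, (Finset.mem_filter.1 g.2).2⟩).symm⟩
  have hsq : ∀ s : G, s * s ∈ K → s ∈ K := by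
    intro s hs
    obtain ⟨t, ht⟩ := hodd
    have h1 : s ^ K.index ∈ K := K.pow_index_mem s
    rw [ht, pow_succ', ← pow_two] at *
    have h2 : s ^ (2 * t) ∈ K := by rw [pow_mul]; exact pow_mem hs t
    have := K.mul_mem h1 (K.inv_mem h2)
    rwa [mul_inv_cancel_right] at this
  calc ∑ χ : Cfsg.IrrCharacter G, ((Nat.card G : ℂ)⁻¹ * ∑ s : G, (χ : G → ℂ) (s * s)) *
        Cfsg.classInner (fun k : K => (χ : G → ℂ) k) φ
      = (Nat.card G : ℂ)⁻¹ * (Nat.card K : ℂ)⁻¹ * ∑ s : G, ∑ k : K,
          φ k * ∑ χ : Cfsg.IrrCharacter G, (χ : G → ℂ) (s * s) * conj ((χ : G → ℂ) (k : G)) := by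
        simp only [Char.classInner_def, Finset.mul_sum, Finset.sum_mul]
        rw [Finset.sum_comm]
        conv_rhs => rw [Finset.sum_comm]
        refine Fintype.sum_equiv (Equiv.inv K) _ _ fun k => ?_
        rw [Finset.sum_comm]
        refine Finset.sum_congr rfl fun s _ => Finset.sum_congr rfl fun χ _ => ?_
        simp only [Equiv.inv_apply, InvMemClass.coe_inv]
        rw [Char.char_inv (Char.irr_isCharacter χ.2), Char.char_inv (Char.irr_isCharacter hφ),
          Complex.conj_conj]
        ring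
    _ = (Nat.card G : ℂ)⁻¹ * (Nat.card K : ℂ)⁻¹ * ∑ g : G, ∑ k : K, φ (k * k) := by
        congr 1
        simp only [hcol, Finset.mul_sum, mul_ite, mul_one, mul_zero]
        conv_lhs => enter [2, s]; rw [Finset.sum_comm]
        rw [Finset.sum_comm]
        refine Finset.sum_congr rfl fun g _ => ?_
        rw [← Finset.sum_subset (Finset.subset_univ (Finset.univ.filter fun s : G => s ∈ K))]
        · rw [Finset.sum_subtype (Finset.univ.filter fun s : G => s ∈ K) (p := fun s => s ∈ K)
            (by simp)]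
          refine Fintype.sum_equiv (MulAut.conjNormal (H := K) g⁻¹).toEquiv _ _ fun s => ?_
          rw [Finset.sum_eq_single (MulAut.conjNormal (H := K) g⁻¹ (s * s))]
          · rw [if_pos (by simp [mul_assoc]), map_mul]; rfl
          · intro k _ hk
            refine if_neg fun h => hk (Subtype.ext ?_)
            rw [MulAut.conjNormal_apply, Subgroup.coe_mul, ← h]
            group
          · exact fun h => absurd (Finset.mem_univ _) h
        · intro s _ hs
          refine Finset.sum_eq_zero fun k _ => if_neg fun h => hs ?_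
          exact Finset.mem_filter.2 ⟨Finset.mem_univ _, hsq s
            (h ▸ (inferInstance : K.Normal).conj_mem _ k.2 g)⟩
    _ = _ := by
        rw [Finset.sum_const, Finset.card_univ, nsmul_eq_mul, ← Nat.card_eq_fintype_card]
        have h1 : (Nat.card G : ℂ) ≠ 0 := by exact_mod_cast Nat.card_pos.ne'
        field_simp

end CfsgLib.BlockB.RealAbove
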