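import Cfsg.Agent.Lib.BlockB.PPrimeReal
import Cfsg.Agent.Lib.BlockB.RealAbove
import Cfsg.Agent.Lib.BlockB.RelGlauberman
import Cfsg.Agent.Lib.BlockB.GlaubermanChain

/-!
Groups whose real irreducible characters have degree prime to `p`: correspondence of the real
characters with those of the normalizer of a Sylow `p`-subgroup.
-/

set_option autoImplicit false
set_option linter.unusedSectionVars false

namespace CfsgLib.BlockB.PPrimeRealCorr

open CfsgLib CfsgLib.Clifford CfsgLib.BlockB.RealOrbits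
open scoped ComplexConjugate

universe u

variable {G : Type u} [Group G] [Fintype G] {p : ℕ} [Fact p.Prime] (K : Subgroup G) [K.Normal]
  [Fintype K] (P : Sylow p G)

/-- The normalizer of the Sylow subgroup. -/
abbrev Nrm : Subgroup G := Subgroup.normalizer ((P : Subgroup G) : Set G)

/-- The part of `K` inside the normalizer. -/
abbrev Kn : Subgroup (Nrm P) := K.subgroupOf (Nrm P)

/-- The inclusion into `K`. -/
def inc : Kn K P →* K where
  toFun k := ⟨((k : Nrm P) : G), Subgroup.mem_subgroupOf.1 k.2⟩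
  map_one' := rfl
  map_mul' _ _ := rfl

theorem coe_inc (k : Kn K P) : ((inc K P k : K) : G) = ((k : Nrm P) : G) := rfl

variable [Fintype (Kn K P)]

/-- `φ` is a constituent of `θ` of multiplicity prime to `p`. -/
def Rel (θ : K → ℂ) (φ : Kn K P → ℂ) : Prop :=
  ∃ m : ℕ, Cfsg.classInner (θ ∘ inc K P) φ = m ∧ ¬ p ∣ m

theorem rel_conjFn {θ : K → ℂ} {φ : Kn K P → ℂ} (h : Rel K P θ φ) (n : Nrm P) :
    Rel K P (conjFn (n : G) θ) (conjFn n φ) := by
  obtain ⟨m, hm, hm'⟩ := h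
  refine ⟨m, ?_, hm'⟩
  rw [← hm, Char.classInner_def, Char.classInner_def]
  congr 1
  refine Fintype.sum_equiv
    ⟨conjN n, conjN n⁻¹, fun x => by rw [← conjN_mul, inv_mul_cancel, conjN_one],
      fun x => by rw [← conjN_mul, mul_inv_cancel, conjN_one]⟩ _ _ fun x => ?_
  rfl

theorem rel_conj {θ : K → ℂ} {φ : Kn K P → ℂ} (h : Rel K P θ φ) :
    Rel K P (fun k => conj (θ k)) (fun k => conj (φ k)) := by
  obtain ⟨m, hm, hm'⟩ := h
  refine ⟨m, ?_, hm'⟩
  rw [← Complex.conj_natCast m, ← hm, Char.classInner_def, Char.classInner_def, map_mul, map_inv₀,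
    Complex.conj_natCast, map_sum]
  simp only [Function.comp_apply, map_mul]

/-- The intersection with a normal subgroup has index prime to `p` there. -/
theorem not_dvd_relIndex : ¬ p ∣ (P : Subgroup G).relIndex K := by
  intro h
  have h1 : (P : Subgroup G).relIndex K ∣ (P : Subgroup G).index := by
    refine Dvd.intro ((P : Subgroup G) ⊔ K).index ?_
    rw [← Subgroup.relIndex_mul_index (le_sup_left : (P : Subgroup G) ≤ (P : Subgroup G) ⊔ K)]
    congr 1
    have e1 := Nat.card_pos (α := ((P : Subgroup G) ⊓ K : Subgroup G))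
    have a1 := Subgroup.relIndex_mul_relIndex ((P : Subgroup G) ⊓ K) K ((P : Subgroup G) ⊔ K)
      inf_le_right le_sup_right
    have a2 := Subgroup.relIndex_mul_relIndex ((P : Subgroup G) ⊓ K) (P : Subgroup G)
      ((P : Subgroup G) ⊔ K) inf_le_left le_sup_left
    rw [Subgroup.relIndex_sup_right, Subgroup.inf_relIndex_right, ← a2,
      show ((P : Subgroup G) ⊓ K).relIndex (P : Subgroup G) = K.relIndex (P : Subgroup G) from
        Subgroup.inf_relIndex_left _ _, mul_comm] at a1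
    exact (Nat.eq_of_mul_eq_mul_left (Nat.pos_of_ne_zero Subgroup.index_ne_zero_of_finite) a1)
  exact P.not_dvd_index (h.trans h1)

theorem exists_corr (hP0 : ((P : Subgroup G) ⊓ K).Normal) :
    ∃ Φ : {θ : Cfsg.IrrCharacter K // (P : Subgroup G) ≤ inertia (θ : K → ℂ)} →
        {φ : Cfsg.IrrCharacter (Kn K P) //
          (P : Subgroup G).subgroupOf (Nrm P) ≤ inertia (φ : Kn K P → ℂ)},
      Function.Bijective Φ ∧ ∀ θ,
        ((Cfsg.charDegree ((Φ θ).1 : Kn K P → ℂ) : ZMod p) =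
            (Cfsg.charDegree (θ.1 : K → ℂ) : ZMod p) ∨
          (Cfsg.charDegree ((Φ θ).1 : Kn K P → ℂ) : ZMod p) =
            -(Cfsg.charDegree (θ.1 : K → ℂ) : ZMod p)) ∧
        ∀ φ, Rel K P (θ.1 : K → ℂ) (φ.1 : Kn K P → ℂ) ↔ φ = Φ θ := by
  classical
  have hp : p.Prime := Fact.out
  have hSK : (P : Subgroup G) ≤ Subgroup.normalizer (K : Set G) := by
    rw [Subgroup.normalizer_eq_top]; exact le_top
  letI := McKay.conjAct (P : Subgroup G) K hSK
  set N0 : Subgroup K := ((P : Subgroup G) ⊓ K).subgroupOf K with hN0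
  set C : Subgroup K := (Nrm P).subgroupOf K with hC
  have : N0.Normal := inferInstance
  have := Fintype.ofFinite C
  have := Fintype.ofFinite N0
  have hNS : ∀ (s : (P : Subgroup G)) (n : K), n ∈ N0 → s • n ∈ N0 := fun s n hn =>
    Subgroup.mem_subgroupOf.2 (by
      rw [McKay.coe_conjAct]
      exact hP0.conj_mem _ (Subgroup.mem_subgroupOf.1 hn) _)
  have hidx : ¬ p ∣ N0.index := by
    rw [hN0, ← Subgroup.relIndex, Subgroup.inf_relIndex_right]
    exact not_dvd_relIndex K P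
  have hNp : IsPGroup p N0 :=
    (P.2.to_le inf_le_left).of_equiv (Subgroup.subgroupOfEquivOfLe inf_le_right).symm
  have hCmem : ∀ g : K, g ∈ C ↔ ∀ s : (P : Subgroup G), (s • g) * g⁻¹ ∈ N0 := by
    intro g
    simp only [hC, hN0, Subgroup.mem_subgroupOf, Subgroup.coe_mul, InvMemClass.coe_inv,
      McKay.coe_conjAct, Subgroup.mem_inf]
    constructor
    · intro hg s
      refine ⟨?_, mul_mem ((inferInstance : K.Normal).conj_mem _ g.2 _) (inv_mem g.2)⟩
      rw [show (s : G) * g * (s : G)⁻¹ * (g : G)⁻¹ = s * (g * (s : G)⁻¹ * (g : G)⁻¹) by group]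
      exact mul_mem s.2 ((Subgroup.mem_normalizer_iff.1 hg _).1 (inv_mem s.2))
    · intro h
      refine Subgroup.mem_normalizer_fintype fun s hs => ?_
      have h1 := (h ⟨s⁻¹, inv_mem hs⟩).1
      have h2 := mul_mem hs h1
      rwa [show s * (s⁻¹ * (g : G) * s⁻¹⁻¹ * (g : G)⁻¹) = g * s * (g : G)⁻¹ by group] at h2
  obtain ⟨f, hf, hprop⟩ := RelGlauberman.exists_bijection N0 C P.2 hNS hidx hNp hCmem
  let e : Kn K P ≃* C :=
    { toFun := fun k => ⟨inc K P k, (k : Nrm P).2⟩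
      invFun := fun c => ⟨⟨((c : K) : G), c.2⟩, (c : K).2⟩
      left_inv := fun _ => rfl
      right_inv := fun _ => rfl
      map_mul' := fun _ _ => rfl }
  let T1 : {θ : Cfsg.IrrCharacter K // (P : Subgroup G) ≤ inertia (θ : K → ℂ)} ≃
      {θ : Cfsg.IrrCharacter K // BlockA.IsInv (P : Subgroup G) (θ : K → ℂ)} :=
    Equiv.subtypeEquivRight fun θ => ⟨fun h s k => h s.2 k, fun h s hs k => h ⟨s, hs⟩ k⟩
  let E : Cfsg.IrrCharacter (Kn K P) ≃ Cfsg.IrrCharacter C :=
    { toFun := fun φ => ⟨(φ : Kn K P → ℂ) ∘ e.symm,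
        Char.isIrrCharacter_comp_surjective φ.2 e.symm.toMonoidHom e.symm.surjective⟩
      invFun := fun ξ => ⟨(ξ : C → ℂ) ∘ e,
        Char.isIrrCharacter_comp_surjective ξ.2 e.toMonoidHom e.surjective⟩
      left_inv := fun _ => rfl
      right_inv := fun _ => rfl }
  let T2 : {φ : Cfsg.IrrCharacter (Kn K P) //
        (P : Subgroup G).subgroupOf (Nrm P) ≤ inertia (φ : Kn K P → ℂ)} ≃
      {ξ : Cfsg.IrrCharacter C // ∀ (s : (P : Subgroup G)) (c c' : C), (c' : K) = s • (c : K) →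
        (ξ : C → ℂ) c' = (ξ : C → ℂ) c} :=
    E.subtypeEquiv fun φ => by
      constructor
      · intro h s c c' hc
        have h2 := h (x := (⟨(s : G), Subgroup.le_normalizer s.2⟩ : Nrm P))
          (Subgroup.mem_subgroupOf.2 s.2) (e.symm c)
        show (φ : Kn K P → ℂ) (e.symm c') = (φ : Kn K P → ℂ) (e.symm c)
        rw [← h2]
        refine congrArg (φ : Kn K P → ℂ) (Subtype.ext (Subtype.ext ?_))
        exact congrArg (fun x : K => (x : G)) hc
      · intro h s hs k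
        exact h ⟨(s : G), Subgroup.mem_subgroupOf.1 hs⟩ (e k) (e (conjN s k)) (Subtype.ext rfl)
  refine ⟨fun θ => T2.symm (f (T1 θ)), T2.symm.bijective.comp (hf.comp T1.bijective), fun θ => ?_⟩
  obtain ⟨hm, hdeg⟩ := hprop (T1 θ)
  have hdegE : ∀ ξ : Cfsg.IrrCharacter C,
      Cfsg.charDegree ((E.symm ξ : Cfsg.IrrCharacter (Kn K P)) : Kn K P → ℂ) =
        Cfsg.charDegree (ξ : C → ℂ) := by
    intro ξ
    have e1 := BlockB.charDegree_cast (Char.irr_isCharacter (E.symm ξ).2)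
    rw [show ((E.symm ξ : Cfsg.IrrCharacter (Kn K P)) : Kn K P → ℂ) 1 = (ξ : C → ℂ) 1 from rfl,
      ← BlockB.charDegree_cast (Char.irr_isCharacter ξ.2)] at e1
    exact_mod_cast e1
  refine ⟨?_, fun φ => ?_⟩
  · show _ ∨ _
    rw [show ((T2.symm (f (T1 θ))).1 : Cfsg.IrrCharacter (Kn K P)) = E.symm (f (T1 θ)).1 from rfl,
      hdegE]
    exact hdeg
  · obtain ⟨m, hm1, heq, hne⟩ := hm (T2 φ)
    have hinner : Cfsg.classInner ((θ.1 : K → ℂ) ∘ inc K P) (φ.1 : Kn K P → ℂ) = m := by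
      rw [← hm1, ← OverTheta.classInner_comp_surjective e.toMonoidHom e.surjective]
      rfl
    constructor
    · rintro ⟨m', hm', hnd⟩
      rw [hinner, Nat.cast_inj] at hm'
      subst hm'
      by_contra h
      exact hnd (hne fun e => h (by
        show φ = T2.symm (f (T1 θ))
        rw [← e, Equiv.symm_apply_apply]))
    · intro h
      refine ⟨m, hinner, fun hd => ?_⟩
      have h0 : (m : ZMod p) = 0 := (ZMod.natCast_eq_zero_iff _ _).2 hd
      rcases heq (by rw [h]; exact Equiv.apply_symm_apply _ _) with h1 | h1 <;> rw [h0] at h1 <;>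
        simp at h1

omit [Fintype (Kn K P)]

/-- If the Sylow subgroup and a conjugate lie in `T`, the conjugating element may be chosen in
the normalizer. -/
theorem exists_normalizing (T : Subgroup G) (hP : (P : Subgroup G) ≤ T) (g : G)
    (hg : ∀ s ∈ (P : Subgroup G), g * s * g⁻¹ ∈ T) : ∃ t ∈ T, t * g ∈ Nrm P := by
  have hg' : ((g • P : Sylow p G) : Subgroup G) ≤ T := by
    rw [Sylow.coe_subgroup_smul]
    rintro _ ⟨s, hs, rfl⟩
    simpa [MulAut.smul_def] using hg s hs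
  obtain ⟨t, ht⟩ := MulAction.exists_smul_eq T ((g • P).subtype hg') (P.subtype hP)
  refine ⟨t, t.2, Subgroup.mem_normalizer_fintype fun s hs => ?_⟩
  have hsT : g * s * g⁻¹ ∈ T := hg s hs
  have h1 : (⟨g * s * g⁻¹, hsT⟩ : T) ∈ ((g • P).subtype hg' : Subgroup T) := by
    rw [Sylow.coe_subtype, Subgroup.mem_subgroupOf, Sylow.coe_subgroup_smul]
    exact ⟨s, hs, by simp [MulAut.smul_def]⟩
  have h2 : t * ⟨g * s * g⁻¹, hsT⟩ * t⁻¹ ∈ (P.subtype hP : Subgroup T) := by
    rw [← ht, Sylow.coe_subgroup_smul]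
    exact ⟨_, h1, by simp [MulAut.smul_def]⟩
  rw [Sylow.coe_subtype, Subgroup.mem_subgroupOf] at h2
  rw [show (t : G) * g * s * ((t : G) * g)⁻¹ = (t : G) * (g * s * g⁻¹) * (t : G)⁻¹ by group]
  exact h2

/-- The index of a subgroup containing a Sylow `p`-subgroup is congruent to its index in the
normalizer. -/
theorem index_modEq (T : Subgroup G) (hP : (P : Subgroup G) ≤ T) :
    T.index ≡ (T.subgroupOf (Nrm P)).index [MOD p] := by
  have h := P.2.card_modEq_card_fixedPoints (G ⧸ T)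
  rw [← Subgroup.index_eq_card] at h
  suffices heq : Nat.card (MulAction.fixedPoints (P : Subgroup G) (G ⧸ T)) =
      (T.subgroupOf (Nrm P)).index by rwa [heq] at h
  rw [Subgroup.index_eq_card]
  let F : Nrm P ⧸ T.subgroupOf (Nrm P) → MulAction.fixedPoints (P : Subgroup G) (G ⧸ T) :=
    Quotient.lift (fun n => ⟨((n : G) : G ⧸ T), fun s => by
      show ((((s : G) * n : G)) : G ⧸ T) = ((n : G) : G ⧸ T)
      refine QuotientGroup.eq.2 ?_
      rw [show ((s : G) * n)⁻¹ * (n : G) = (n : G)⁻¹ * (s : G)⁻¹ * (n : G) by group]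
      refine hP ?_
      have h := (Subgroup.mem_normalizer_iff.1 (Nrm P |>.inv_mem n.2) (s : G)⁻¹).1 (inv_mem s.2)
      rwa [inv_inv] at h⟩) fun a b hab => Subtype.ext (by
        have h' := QuotientGroup.leftRel_apply.1 hab
        exact QuotientGroup.eq.2 (by simpa [Subgroup.mem_subgroupOf] using h'))
  refine (Nat.card_congr (Equiv.ofBijective F ⟨?_, ?_⟩)).symm
  · intro a b hab
    induction a using Quotient.inductionOn with
    | _ a =>
      induction b using Quotient.inductionOn with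
      | _ b =>
        have h' := QuotientGroup.eq.1 (congrArg Subtype.val hab : ((a : G) : G ⧸ T) = ((b : G) : G ⧸ T))
        exact Quotient.sound (QuotientGroup.leftRel_apply.2 (Subgroup.mem_subgroupOf.2 (by simpa using h')))
  · rintro ⟨q, hq⟩
    obtain ⟨g, rfl⟩ := QuotientGroup.mk_surjective q
    have hg : ∀ s ∈ (P : Subgroup G), g⁻¹ * s * g⁻¹⁻¹ ∈ T := fun s hs => by
      have h' := QuotientGroup.eq.1 (hq ⟨s⁻¹, inv_mem hs⟩ : (((s⁻¹ * g : G)) : G ⧸ T) = _)
      rwa [inv_inv, ← show (s⁻¹ * g)⁻¹ * g = g⁻¹ * s * g by group]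
    obtain ⟨t, ht, htn⟩ := exists_normalizing P T hP g⁻¹ hg
    refine ⟨Quotient.mk _ ⟨(t * g⁻¹)⁻¹, inv_mem htn⟩, Subtype.ext (QuotientGroup.eq.2 ?_)⟩
    rw [inv_inv, show t * g⁻¹ * g = t by group]
    exact ht

theorem le_inertia_conjFn_normalizer {θ : K → ℂ} (h : (P : Subgroup G) ≤ inertia θ) {n : G}
    (hn : n ∈ Nrm P) : (P : Subgroup G) ≤ inertia (conjFn n θ) := by
  intro s hs
  rw [mem_inertia_iff_conjFn, conjFn_conjFn, show n * s = n * s * n⁻¹ * n by group,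
    ← conjFn_conjFn, mem_inertia_iff_conjFn.1 (h ((Subgroup.mem_normalizer_iff.1 hn s).1 hs))]

/-- A character whose inertia index is prime to `p` has a conjugate fixed by the Sylow
subgroup. -/
theorem exists_fixed_conjFn {θ : K → ℂ} (h : ¬ p ∣ (inertia (G := G) θ).index) :
    ∃ g : G, (P : Subgroup G) ≤ inertia (conjFn g θ) := by
  set T := inertia (G := G) θ with hT
  let P' : Sylow p T := default
  have h1 : IsPGroup p ((P' : Subgroup T).map T.subtype) := P'.2.map _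
  have h2 : ¬ p ∣ ((P' : Subgroup T).map T.subtype).index := by
    rw [Subgroup.index_map_subtype]
    exact (Fact.out : p.Prime).not_dvd_mul P'.not_dvd_index h
  obtain ⟨g, hg⟩ := MulAction.exists_smul_eq G P (h1.toSylow h2)
  refine ⟨g, fun s hs => ?_⟩
  have hsT : g * s * g⁻¹ ∈ T := by
    have h3 : g * s * g⁻¹ ∈ ((g • P : Sylow p G) : Subgroup G) := by
      rw [Sylow.coe_subgroup_smul]
      exact ⟨s, hs, by simp [MulAut.smul_def]⟩
    rw [hg] at h3
    exact Subgroup.map_subtype_le _ h3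
  rw [mem_inertia_iff_conjFn, conjFn_conjFn, show g * s = g * s * g⁻¹ * g by group,
    ← conjFn_conjFn, mem_inertia_iff_conjFn.1 hsT]

/-- Conjugate fixed characters are conjugate under the normalizer. -/
theorem exists_normalizer_conjFn {θ : K → ℂ} (g : G) (h : (P : Subgroup G) ≤ inertia θ)
    (hg : (P : Subgroup G) ≤ inertia (conjFn g θ)) :
    ∃ n : Nrm P, conjFn g θ = conjFn (n : G) θ := by
  obtain ⟨t, ht, htn⟩ := exists_normalizing P (inertia θ) h g (fun s hs => by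
    have h1 := mem_inertia_iff_conjFn.1 (hg hs)
    rw [conjFn_conjFn] at h1
    rw [mem_inertia_iff_conjFn, show g * s * g⁻¹ = g * s * g⁻¹ by rfl, ← conjFn_conjFn g⁻¹,
      h1, conjFn_conjFn, mul_inv_cancel, conjFn_one])
  refine ⟨⟨t * g, htn⟩, ?_⟩
  show conjFn g θ = conjFn (t * g) θ
  rw [← conjFn_conjFn, mem_inertia_iff_conjFn.1 ht]

theorem conjFn_real {θ : K → ℂ} (h : ∀ k, (θ k).im = 0) (g : G) :
    ∀ k, (conjFn g θ k).im = 0 := fun k => h _

theorem over_conjFn {χ : G → ℂ} (hχ : Cfsg.IsClassFunction G χ) (θ : K → ℂ) (g : G) :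
    Cfsg.classInner (fun k : K => χ k) (conjFn g θ) =
      Cfsg.classInner (fun k : K => χ k) θ := by
  conv_lhs => arg 1; rw [← isCharacter_restrict_conj (N := K) hχ g]
  rw [Char.classInner_def, Char.classInner_def]
  congr 1
  exact Fintype.sum_equiv
    ⟨conjN g, conjN g⁻¹, fun n => by rw [← conjN_mul, inv_mul_cancel, conjN_one],
      fun n => by rw [← conjN_mul, mul_inv_cancel, conjN_one]⟩ _ _ fun n => rfl

theorem fs_real {H : Type u} [Group H] [Fintype H] (χ : Cfsg.IrrCharacter H) :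
    ((Nat.card H : ℂ)⁻¹ * ∑ s : H, (χ : H → ℂ) (s * s) = 0 ∨
      (Nat.card H : ℂ)⁻¹ * ∑ s : H, (χ : H → ℂ) (s * s) = 1 ∨
      (Nat.card H : ℂ)⁻¹ * ∑ s : H, (χ : H → ℂ) (s * s) = -1) ∧
    ((Nat.card H : ℂ)⁻¹ * ∑ s : H, (χ : H → ℂ) (s * s) = 0 ↔
      ∃ s : H, ((χ : H → ℂ) s).im ≠ 0) := by
  obtain ⟨n, ρ, hρ, he⟩ := χ.2
  rw [← he]
  exact Char.fs_indicator ρ

/-- The degree of the real character over a real one. -/
theorem real_degree (hodd : Odd K.index) (χ : Cfsg.IrrCharacter G)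
    (hre : ∀ g : G, ((χ : G → ℂ) g).im = 0) (θ : RealIrr K)
    (hne : Cfsg.classInner (fun k : K => (χ : G → ℂ) k) (θ.1 : K → ℂ) ≠ 0) :
    Cfsg.charDegree (χ : G → ℂ) =
      (inertia (G := G) (θ.1 : K → ℂ)).index * Cfsg.charDegree (θ.1 : K → ℂ) := by
  classical
  have := Fintype.ofFinite (Cfsg.IrrCharacter G)
  obtain ⟨k, hk⟩ := Char.classInner_isCharacter_nat
    (Char.isCharacter_restrict (Char.irr_isCharacter χ.2) K) (Char.irr_isCharacter θ.1.2)
  have hk1 : k = 1 := by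
    have h := RealAbove.sum_fs_mul_inner (G := G) K hodd θ.1.2
    rw [Finset.sum_eq_single χ (fun ψ _ hψ => ?_) (by simp), hk] at h
    · have hθν : (Nat.card K : ℂ)⁻¹ * ∑ s : K, (θ.1 : K → ℂ) (s * s) = 1 ∨
          (Nat.card K : ℂ)⁻¹ * ∑ s : K, (θ.1 : K → ℂ) (s * s) = -1 := by
        refine (fs_real θ.1).1.resolve_left fun h0 => ?_
        obtain ⟨s, hs⟩ := (fs_real θ.1).2.1 h0
        exact hs (θ.2 s)
      rcases (fs_real χ).1 with h1 | h1 | h1
      · obtain ⟨s, hs⟩ := (fs_real χ).2.1 h1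
        exact absurd (hre s) hs
      all_goals
        rw [h1] at h
        rcases hθν with h2 | h2 <;> rw [h2] at h
        all_goals
          have h3 : ((k : ℤ) : ℂ) = ((1 : ℤ) : ℂ) ∨ ((k : ℤ) : ℂ) = ((-1 : ℤ) : ℂ) := by
            first
              | (left; push_cast; linear_combination h)
              | (left; push_cast; linear_combination -h)
              | (right; push_cast; linear_combination h)
              | (right; push_cast; linear_combination -h)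
          rcases h3 with h3 | h3 <;> (have h4 := Int.cast_inj.1 h3; omega)
    · by_cases hr : ∀ g : G, ((ψ : G → ℂ) g).im = 0
      · rw [show Cfsg.classInner (fun k : K => (ψ : G → ℂ) k) (θ.1 : K → ℂ) = 0 from
          not_not.1 fun h0 => hψ ((RealAbove.existsUnique_real_over K hodd θ).unique ⟨hr, h0⟩
            ⟨hre, hne⟩), mul_zero]
      · push Not at hr
        rw [((fs_real ψ).2).2 hr, zero_mul]
  have hNT : K ≤ inertia (G := G) (θ.1 : K → ℂ) := le_inertia (Char.irr_isClassFunction θ.1.2)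
  set T := inertia (G := G) (θ.1 : K → ℂ) with hT
  have := Fintype.ofFinite T
  obtain ⟨ψ, hψ, hind, hm⟩ := exists_indFun_inertia T hNT θ.1.2
    (fun g => mem_inertia_iff_conjFn) χ.2 hne
  have h1 := congrFun (restrict_eq_smul_inertia T hNT θ.1.2 (fun g => mem_inertia_iff_conjFn) hψ
    (by rw [hm]; exact hne)) 1
  rw [hm, hk, hk1, Nat.cast_one, Pi.smul_apply, one_smul] at h1
  have h2 : (χ : G → ℂ) 1 = (T.index : ℂ) * (θ.1 : K → ℂ) 1 := by
    rw [← hind, Char.indFun_apply_one, ← h1]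
    rfl
  rw [← BlockB.charDegree_cast (Char.irr_isCharacter χ.2),
    ← BlockB.charDegree_cast (Char.irr_isCharacter θ.1.2)] at h2
  exact_mod_cast h2

/-- A real character of degree prime to `p` has a real constituent fixed by the Sylow
subgroup. -/
theorem exists_fixed_below (hodd : Odd K.index) (χ : Cfsg.IrrCharacter G)
    (hre : ∀ g : G, ((χ : G → ℂ) g).im = 0) (hdeg : ¬ p ∣ Cfsg.charDegree (χ : G → ℂ)) :
    ∃ θ : RealIrr K, (P : Subgroup G) ≤ inertia (θ.1 : K → ℂ) ∧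
      Cfsg.classInner (fun k : K => (χ : G → ℂ) k) (θ.1 : K → ℂ) ≠ 0 := by
  obtain ⟨θ, hθ⟩ := RealAbove.exists_real_below K hodd χ hre
  rw [real_degree K hodd χ hre θ hθ] at hdeg
  obtain ⟨g, hg⟩ := exists_fixed_conjFn K P fun h => hdeg (h.mul_right _)
  exact ⟨⟨⟨conjFn g (θ.1 : K → ℂ), isIrrCharacter_conjFn θ.1.2 g⟩, conjFn_real K θ.2 g⟩, hg,
    by rw [over_conjFn K (Char.irr_isClassFunction χ.2)]; exact hθ⟩

set_option maxHeartbeats 2000000 in
/-- **The correspondence.** -/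
theorem exists_bijection (hodd : Odd K.index) (hP0 : ((P : Subgroup G) ⊓ K).Normal)
    (hreal : PPrimeReal.RealPPrime G p) :
    ∃ f : {χ : Cfsg.IrrCharacter G // ∀ g : G, ((χ : G → ℂ) g).im = 0} →
        {ξ : Cfsg.IrrCharacter (Nrm P) // (∀ n, ((ξ : Nrm P → ℂ) n).im = 0) ∧
          ¬ p ∣ Cfsg.charDegree (ξ : Nrm P → ℂ)},
      Function.Bijective f ∧ ∀ χ,
        ((Cfsg.charDegree ((f χ).1 : Nrm P → ℂ) : ZMod p) =
            (Cfsg.charDegree (χ.1 : G → ℂ) : ZMod p) ∨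
          (Cfsg.charDegree ((f χ).1 : Nrm P → ℂ) : ZMod p) =
            -(Cfsg.charDegree (χ.1 : G → ℂ) : ZMod p)) := by
  classical
  have := Fintype.ofFinite (Nrm P)
  have := Fintype.ofFinite (Kn K P)
  have hoddN : Odd (Kn K P).index :=
    hodd.of_dvd_nat (Subgroup.relIndex_dvd_index_of_normal K (Nrm P))
  obtain ⟨Φ, hΦ, hΦp⟩ := exists_corr K P hP0
  have hrelΦ : ∀ θ, Rel K P (θ.1 : K → ℂ) ((Φ θ).1 : Kn K P → ℂ) := fun θ =>
    ((hΦp θ).2 (Φ θ)).2 rfl
  have hPn : ∀ (φ : Kn K P → ℂ) (n : Nrm P), (P : Subgroup G).subgroupOf (Nrm P) ≤ inertia φ →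
      (P : Subgroup G).subgroupOf (Nrm P) ≤ inertia (conjFn n φ) := by
    intro φ n h s hs
    have hs' : n * s * n⁻¹ ∈ (P : Subgroup G).subgroupOf (Nrm P) :=
      Subgroup.mem_subgroupOf.2 ((Subgroup.mem_normalizer_iff.1 n.2 (s : G)).1 hs)
    rw [mem_inertia_iff_conjFn, conjFn_conjFn, show n * s = n * s * n⁻¹ * n by group,
      ← conjFn_conjFn, mem_inertia_iff_conjFn.1 (h hs')]
  -- compatibility with conjugation
  have hequiv : ∀ θ θ' (n : Nrm P), (θ'.1 : K → ℂ) = conjFn (n : G) (θ.1 : K → ℂ) →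
      ((Φ θ').1 : Kn K P → ℂ) = conjFn n ((Φ θ).1 : Kn K P → ℂ) := by
    intro θ θ' n h
    have h1 := rel_conjFn K P (hrelΦ θ) n
    rw [← h] at h1
    exact congrArg (fun x => (x.1 : Kn K P → ℂ)) (((hΦp θ').2
      ⟨⟨_, isIrrCharacter_conjFn (Φ θ).1.2 n⟩, hPn _ n (Φ θ).2⟩).1 h1).symm
  have hequiv' : ∀ θ θ' (n : Nrm P),
      ((Φ θ').1 : Kn K P → ℂ) = conjFn n ((Φ θ).1 : Kn K P → ℂ) →
      (θ'.1 : K → ℂ) = conjFn (n : G) (θ.1 : K → ℂ) := by
    intro θ θ' n h
    have h2 := hequiv θ ⟨⟨_, isIrrCharacter_conjFn θ.1.2 _⟩,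
      le_inertia_conjFn_normalizer K P θ.2 n.2⟩ n rfl
    rw [← h] at h2
    exact congrArg (fun x => (x.1 : K → ℂ)) (hΦ.1 (Subtype.ext (Subtype.ext h2.symm)))
  have hinertia : ∀ θ, inertia (G := Nrm P) ((Φ θ).1 : Kn K P → ℂ) =
      (inertia (G := G) (θ.1 : K → ℂ)).subgroupOf (Nrm P) := fun θ => by
    ext n
    rw [Subgroup.mem_subgroupOf, mem_inertia_iff_conjFn, mem_inertia_iff_conjFn]
    exact ⟨fun h => (hequiv' θ θ n h.symm).symm, fun h => (hequiv θ θ n h.symm).symm⟩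
  -- compatibility with complex conjugation
  have hconjK : ∀ θ : {θ : Cfsg.IrrCharacter K // (P : Subgroup G) ≤ inertia (θ : K → ℂ)},
      (P : Subgroup G) ≤ inertia (fun k => conj ((θ.1 : K → ℂ) k)) := fun θ s hs k =>
    congrArg conj (θ.2 hs k)
  have hconjN : ∀ φ : {φ : Cfsg.IrrCharacter (Kn K P) //
      (P : Subgroup G).subgroupOf (Nrm P) ≤ inertia (φ : Kn K P → ℂ)},
      (P : Subgroup G).subgroupOf (Nrm P) ≤ inertia (fun k => conj ((φ.1 : Kn K P → ℂ) k)) :=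
    fun φ s hs k => congrArg conj (φ.2 hs k)
  have hreal1 : ∀ θ : {θ : Cfsg.IrrCharacter K // (P : Subgroup G) ≤ inertia (θ : K → ℂ)},
      (∀ k, ((θ.1 : K → ℂ) k).im = 0) ↔ ∀ k, (((Φ θ).1 : Kn K P → ℂ) k).im = 0 := by
    intro θ
    have key : Φ ⟨⟨_, Char.isIrrCharacter_conj θ.1.2⟩, hconjK θ⟩ =
        ⟨⟨_, Char.isIrrCharacter_conj (Φ θ).1.2⟩, hconjN (Φ θ)⟩ :=
      (((hΦp ⟨⟨_, Char.isIrrCharacter_conj θ.1.2⟩, hconjK θ⟩).2
        ⟨⟨_, Char.isIrrCharacter_conj (Φ θ).1.2⟩, hconjN (Φ θ)⟩).1 (rel_conj K P (hrelΦ θ))).symm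
    constructor
    · intro h k
      have e : (⟨⟨_, Char.isIrrCharacter_conj θ.1.2⟩, hconjK θ⟩ :
          {θ : Cfsg.IrrCharacter K // (P : Subgroup G) ≤ inertia (θ : K → ℂ)}) = θ :=
        Subtype.ext (Subtype.ext (funext fun x => Complex.conj_eq_iff_im.2 (h x)))
      rw [e] at key
      exact Complex.conj_eq_iff_im.1 (congrFun (congrArg (fun x => (x.1 : Kn K P → ℂ)) key) k).symm
    · intro h k
      have e : (⟨⟨_, Char.isIrrCharacter_conj (Φ θ).1.2⟩, hconjN (Φ θ)⟩ :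
          {φ : Cfsg.IrrCharacter (Kn K P) //
            (P : Subgroup G).subgroupOf (Nrm P) ≤ inertia (φ : Kn K P → ℂ)}) = Φ θ :=
        Subtype.ext (Subtype.ext (funext fun x => Complex.conj_eq_iff_im.2 (h x)))
      rw [e] at key
      exact Complex.conj_eq_iff_im.1
        (congrFun (congrArg (fun x => (x.1 : K → ℂ)) (hΦ.1 key)) k)
  -- the map
  choose θ hθfix hθne using fun χ : {χ : Cfsg.IrrCharacter G // ∀ g : G, ((χ : G → ℂ) g).im = 0} =>
    exists_fixed_below K P hodd χ.1 χ.2 (hreal χ.1 χ.2)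
  let th : {χ : Cfsg.IrrCharacter G // ∀ g : G, ((χ : G → ℂ) g).im = 0} →
      {θ : Cfsg.IrrCharacter K // (P : Subgroup G) ≤ inertia (θ : K → ℂ)} :=
    fun χ => ⟨(θ χ).1, hθfix χ⟩
  let ph : {χ : Cfsg.IrrCharacter G // ∀ g : G, ((χ : G → ℂ) g).im = 0} → RealIrr (Kn K P) :=
    fun χ => ⟨(Φ (th χ)).1, (hreal1 (th χ)).1 (θ χ).2⟩
  choose ψ hψ hψu using fun χ => RealAbove.existsUnique_real_over (Kn K P) hoddN (ph χ)
  have hdeg : ∀ χ, (Cfsg.charDegree (ψ χ : Nrm P → ℂ) : ZMod p) =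
        (Cfsg.charDegree (χ.1 : G → ℂ) : ZMod p) ∨
      (Cfsg.charDegree (ψ χ : Nrm P → ℂ) : ZMod p) =
        -(Cfsg.charDegree (χ.1 : G → ℂ) : ZMod p) := by
    intro χ
    rw [real_degree K hodd χ.1 χ.2 (θ χ) (hθne χ),
      real_degree (Kn K P) hoddN (ψ χ) (hψ χ).1 (ph χ) (hψ χ).2]
    have e1 := hinertia (th χ)
    have e2 := (ZMod.natCast_eq_natCast_iff _ _ p).2 (index_modEq P _ (hθfix χ))
    rw [show inertia (G := Nrm P) ((ph χ).1 : Kn K P → ℂ) =
      (inertia (G := G) ((θ χ).1 : K → ℂ)).subgroupOf (Nrm P) from e1, Nat.cast_mul, Nat.cast_mul,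
      ← e2]
    have h0 := (hΦp (th χ)).1
    rcases h0 with h | h
    · exact Or.inl (congrArg _ h)
    · exact Or.inr ((congrArg _ h).trans (mul_neg _ _))
  have hpd : ∀ χ, ¬ p ∣ Cfsg.charDegree (ψ χ : Nrm P → ℂ) := fun χ hd => hreal χ.1 χ.2 (by
    rw [← ZMod.natCast_eq_zero_iff] at hd ⊢
    rcases hdeg χ with h | h <;> rw [hd] at h
    · exact h.symm
    · exact neg_eq_zero.1 h.symm)
  refine ⟨fun χ => ⟨ψ χ, (hψ χ).1, hpd χ⟩, ⟨fun a b hab => ?_, fun ξ => ?_⟩, hdeg⟩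
  · have hab' : ψ a = ψ b := congrArg Subtype.val hab
    obtain ⟨n, hn⟩ := exists_conj_of_constituents (ψ b).2 (ph a).1.2 (ph b).1.2
      (hab' ▸ (hψ a).2) (hψ b).2
    have h1 := hequiv' (th a) (th b) n hn.symm
    have h2 : Cfsg.classInner (fun k : K => (b.1 : G → ℂ) k) ((θ a).1 : K → ℂ) ≠ 0 := by
      have := hθne b
      rwa [show ((θ b).1 : K → ℂ) = conjFn (n : G) ((θ a).1 : K → ℂ) from h1,
        over_conjFn K (Char.irr_isClassFunction b.1.2)] at this
    exact Subtype.ext ((RealAbove.existsUnique_real_over K hodd (θ a)).unique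
      ⟨a.2, hθne a⟩ ⟨b.2, h2⟩)
  · let P' : Sylow p (Nrm P) := P.subtype Subgroup.le_normalizer
    obtain ⟨φ, hφfix, hφne⟩ := exists_fixed_below (Kn K P) P' hoddN ξ.1 ξ.2.1 ξ.2.2
    rw [show (P' : Subgroup (Nrm P)) = (P : Subgroup G).subgroupOf (Nrm P) from
      Sylow.coe_subtype P Subgroup.le_normalizer] at hφfix
    obtain ⟨θ₀, hθ₀⟩ := hΦ.2 ⟨φ.1, hφfix⟩
    have hθ₀r : ∀ k, ((θ₀.1 : K → ℂ) k).im = 0 := (hreal1 θ₀).2 (by rw [hθ₀]; exact φ.2)
    obtain ⟨χ, ⟨hχr, hχne⟩, -⟩ := RealAbove.existsUnique_real_over K hodd ⟨θ₀.1, hθ₀r⟩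
    refine ⟨⟨χ, hχr⟩, Subtype.ext (hψu ⟨χ, hχr⟩ ξ.1 ⟨ξ.2.1, ?_⟩).symm⟩
    obtain ⟨g, hg⟩ := exists_conj_of_constituents χ.2 θ₀.1.2 (θ ⟨χ, hχr⟩).1.2 hχne
      (hθne ⟨χ, hχr⟩)
    obtain ⟨n, hn⟩ := exists_normalizer_conjFn K P g θ₀.2 (hg ▸ hθfix ⟨χ, hχr⟩)
    have h1 := hequiv θ₀ (th ⟨χ, hχr⟩) n (hg.symm.trans hn)
    rw [hθ₀] at h1
    show Cfsg.classInner (fun k : Kn K P => (ξ.1 : Nrm P → ℂ) k)
      ((Φ (th ⟨χ, hχr⟩)).1 : Kn K P → ℂ) ≠ 0
    rw [h1, over_conjFn (Kn K P) (Char.irr_isClassFunction ξ.1.2)]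
    exact hφne

/-- The subgroup generated by the `2`-elements has odd index. -/
theorem pGen_two_index_odd {H : Type u} [Group H] [Finite H] : Odd (PPrimeReal.pGen H 2).index := by
  have : Fact (Nat.Prime 2) := ⟨Nat.prime_two⟩
  let S : Sylow 2 H := default
  have hle : (S : Subgroup H) ≤ PPrimeReal.pGen H 2 := fun y hy => Subgroup.subset_closure (by
    obtain ⟨k, hk⟩ := IsPGroup.iff_orderOf.1 S.2 ⟨y, hy⟩
    exact ⟨k, by rwa [Subgroup.orderOf_mk] at hk⟩)
  refine Nat.not_even_iff_odd.1 fun h => S.not_dvd_index ?_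
  exact (even_iff_two_dvd.1 h).trans (Subgroup.index_dvd_of_le hle)

/-- The Sylow subgroup meets the subgroup generated by the `2`-elements in a normal subgroup. -/
theorem inf_pGen_normal {H : Type u} [Group H] [Finite H] (Q : Sylow p H)
    (hsolv : Group.IsSolvable (PPrimeReal.pGen H p)) (hreal : PPrimeReal.RealPPrime H p) :
    ((Q : Subgroup H) ⊓ PPrimeReal.pGen H 2).Normal := by
  classical
  have := Fintype.ofFinite H
  have := PPrimeReal.pGen_normal (G := H) 2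
  have := Fintype.ofFinite (PPrimeReal.pGen H 2)
  have h1 : ¬ p ∣ (((Q : Subgroup H) ⊓ PPrimeReal.pGen H 2).subgroupOf
      (PPrimeReal.pGen H 2)).index := by
    rw [← Subgroup.relIndex, Subgroup.inf_relIndex_right]
    exact not_dvd_relIndex (PPrimeReal.pGen H 2) Q
  have h2 := PPrimeReal.two_gen_sylow_normal hsolv hreal
    (((Q.2.to_le inf_le_left).of_equiv
      (Subgroup.subgroupOfEquivOfLe (inf_le_right :
        (Q : Subgroup H) ⊓ PPrimeReal.pGen H 2 ≤ _)).symm).toSylow h1)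
  rwa [IsPGroup.toSylow_coe, Subgroup.map_subgroupOf_eq_of_le inf_le_right] at h2

end CfsgLib.BlockB.PPrimeRealCorr
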