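import Cfsg.Agent.Lib.BlockB.BlockPermTrace
import Cfsg.Agent.Lib.BlockA.SubsectionCount
import Cfsg.Agent.Lib.BlockA.Galois
import Mathlib.RingTheory.ZMod.UnitsCyclic

/-!
For odd `p` a block has at least as many `p`-rational characters as its rank.
-/

set_option autoImplicit false
set_option linter.unusedSectionVars false
set_option maxHeartbeats 1000000

namespace CfsgLib.BlockB.PRationalCount

open Cfsg CfsgLib.Block CfsgLib.BlockA
open scoped ComplexConjugate

universe u

variable {G : Type u} [Group G] [Fintype G] {p : ℕ} [hp : Fact p.Prime] {M : Ideal AlgInt}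
  [M.IsPrime] (hM : IsPModular p M)

section Section

variable {x : G} (hx : ∃ k : ℕ, orderOf x = p ^ k)
include hM hx

local notation "C" => Subgroup.centralizer (Singleton.singleton x : Set G)

open Classical in
/-- Products of values at two points of one section. -/
theorem sum_section {B : Set (IrrCharacter G)} (hB : IsPBlock M B) {y z : C}
    (hy : ¬ p ∣ orderOf y) (hz : ¬ p ∣ orderOf z) :
    ∑ χ ∈ B.toFinite.toFinset, (χ : G → ℂ) (x * (z : G)) * conj ((χ : G → ℂ) (x * (y : G))) =
      ∑ b ∈ (allBlocks M C).filter (fun b => IsInducedBlock M C b B),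
        ∑ φ ∈ b.toFinite.toFinset, (φ : C → ℂ) z * conj ((φ : C → ℂ) y) := by
  have := Fintype.ofFinite (IrrCharacter G)
  have := Fintype.ofFinite (IrrCharacter C)
  calc ∑ χ ∈ B.toFinite.toFinset, (χ : G → ℂ) (x * (z : G)) * conj ((χ : G → ℂ) (x * (y : G)))
      = ∑ χ : IrrCharacter G, conj ((χ : G → ℂ) (x * (y : G))) *
          ∑ b ∈ (allBlocks M C).filter (fun b => IsInducedBlock M C b B),
            blockPart b (fun c : C => (χ : G → ℂ) (x * (c : G))) z := by
        simp only [sum_inducing_blockPart hM hx hB _ hz, mul_ite, mul_zero]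
        rw [← Finset.sum_filter]
        refine Finset.sum_congr (by ext; simp) fun χ _ => mul_comm _ _
    _ = ∑ b ∈ (allBlocks M C).filter (fun b => IsInducedBlock M C b B),
          blockPart b (fun w : C => ∑ χ : IrrCharacter G,
            conj ((χ : G → ℂ) (x * (y : G))) * (χ : G → ℂ) (x * (w : G))) z := by
        simp only [Finset.mul_sum, blockPart_sum_smul]
        exact Finset.sum_comm
    _ = ∑ b ∈ (allBlocks M C).filter (fun b => IsInducedBlock M C b B),
          blockPart b (fun w : C => ∑ φ : IrrCharacter C,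
            conj ((φ : C → ℂ) y) * (φ : C → ℂ) w) z := by
        refine Finset.sum_congr rfl fun b hb => ?_
        refine blockPart_congr_regular hM (mem_allBlocks.1 (Finset.mem_filter.1 hb).1)
          (fun w hw => ?_) hz
        simpa only [mul_comm] using column_section hM hx hy hw
    _ = _ := by
        refine Finset.sum_congr rfl fun b _ => ?_
        rw [blockPart_sum_smul]
        simp only [blockPart_irr, mul_ite, mul_zero]
        rw [← Finset.sum_filter]
        refine Finset.sum_congr (by ext; simp) fun φ _ => mul_comm _ _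

end Section

include hM in
/-- An automorphism has a natural number as trace on every block. -/
theorem exists_nat_twisted {b : Set (IrrCharacter G)} (hb : IsPBlock M b) (α : G ≃* G) :
    ∃ n : ℕ, ∑ φ ∈ b.toFinite.toFinset,
      classInner (fun x => regInd p x * (φ : G → ℂ) (α x)) (φ : G → ℂ) = (n : ℂ) := by
  classical
  have := Fintype.ofFinite (IrrCharacter G)
  by_cases hα : ∀ φ, φ ∈ b → pullIrr α φ ∈ b
  · exact BlockPermTrace.exists_nat_trace hM hb α hα
  · refine ⟨0, ?_⟩
    push Not at hα
    obtain ⟨φ₀, h0, h0'⟩ := hα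
    obtain ⟨χb, rfl⟩ := hb
    have hb' : IsPBlock M (blockOf M (χb : G → ℂ)) := ⟨χb, rfl⟩
    rw [Nat.cast_zero]
    refine Finset.sum_eq_zero fun φ hφ => ?_
    rw [Set.Finite.mem_toFinset] at hφ
    have hnot : pullIrr α φ ∉ blockOf M (χb : G → ℂ) := by
      intro h
      apply h0'
      have h1 : pullIrr α φ₀ ∈ blockOf M (pullIrr α φ : G → ℂ) := by
        have h2 : φ₀ ∈ blockOf M (φ : G → ℂ) := by rw [blockOf_eq_of_mem hφ]; exact h0
        exact (sameBlock_pullIrr_iff α φ φ₀).2 h2
      rwa [blockOf_eq_of_mem h] at h1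
    have hexp : (fun x => regInd p x * (φ : G → ℂ) x) = fun g => ∑ ψ ∈
        (blockOf M (χb : G → ℂ)).toFinite.toFinset,
        classInner (fun x => regInd p x * (φ : G → ℂ) x) (ψ : G → ℂ) * (ψ : G → ℂ) g :=
      funext fun g => by
        rw [regInd_mul_eq_sum hM hb' hφ g, finsum_mem_eq_finite_toFinset_sum _
          (blockOf M (χb : G → ℂ)).toFinite]
    have h3 : classInner (fun x => regInd p x * (φ : G → ℂ) x) (pullIrr α φ : G → ℂ) = 0 := by
      rw [hexp]
      rw [show (fun g => ∑ ψ ∈ (blockOf M (χb : G → ℂ)).toFinite.toFinset,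
          classInner (fun x => regInd p x * (φ : G → ℂ) x) (ψ : G → ℂ) * (ψ : G → ℂ) g) =
        ∑ ψ ∈ (blockOf M (χb : G → ℂ)).toFinite.toFinset,
          classInner (fun x => regInd p x * (φ : G → ℂ) x) (ψ : G → ℂ) • (ψ : G → ℂ) from
        funext fun g => by simp [Finset.sum_apply], CfsgLib.Char.classInner_sum_left]
      refine Finset.sum_eq_zero fun ψ hψ => ?_
      rw [CfsgLib.Char.classInner_smul_left, CfsgLib.Char.irr_classInner ψ.2 (pullIrr α φ).2,
        if_neg, mul_zero]
      intro e
      rw [Set.Finite.mem_toFinset] at hψ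
      exact hnot (by rw [← show ψ = pullIrr α φ from Subtype.ext e]; exact hψ)
    have h4 : classInner (fun x => regInd p x * (φ : G → ℂ) (α x)) (φ : G → ℂ) =
        conj (classInner (fun x => regInd p x * (φ : G → ℂ) x) (pullIrr α φ : G → ℂ)) := by
      simp only [CfsgLib.Char.classInner_def, map_mul, map_sum, map_inv₀, Complex.conj_natCast,
        pullIrr_apply, Complex.conj_conj]
      congr 1
      refine Finset.sum_congr rfl fun g _ => ?_
      unfold regInd
      split_ifs <;> simp [mul_comm]
    rw [h4, h3, map_zero]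

include hM in
/-- Fixed characters under a power map trivial on `p`-regular elements. -/
theorem rank_le_fixed {B : Set (IrrCharacter G)} (hB : IsPBlock M B) {k : ℕ}
    (hk : k.Coprime (Nat.card G))
    (hk1 : k ≡ 1 [MOD Nat.card G / p ^ (Nat.card G).factorization p]) :
    blockRank p B ≤ Nat.card {χ : IrrCharacter G // χ ∈ B ∧
      (fun g => (χ : G → ℂ) (g ^ k)) = (χ : G → ℂ)} := by
  classical
  have := Fintype.ofFinite (IrrCharacter G)
  have : Finite (ConjClasses G) := Finite.of_surjective ConjClasses.mk ConjClasses.mk_surjective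
  let F : G → ℂ := fun g => ∑ χ ∈ B.toFinite.toFinset, (χ : G → ℂ) (g ^ k) * conj ((χ : G → ℂ) g)
  have hF : IsClassFunction G F := fun g h => by
    simp only [F, conj_pow]
    exact Finset.sum_congr rfl fun χ _ => by
      rw [CfsgLib.Char.irr_isClassFunction χ.2, CfsgLib.Char.irr_isClassFunction χ.2]
  have hfix : (Nat.card {χ : IrrCharacter G // χ ∈ B ∧
      (fun g => (χ : G → ℂ) (g ^ k)) = (χ : G → ℂ)} : ℂ) * (Nat.card G : ℂ) = ∑ g : G, F g := by
    simp only [F]
    rw [Finset.sum_comm, Nat.card_eq_fintype_card, Fintype.card_subtype, ← Finset.sum_boole,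
      Finset.sum_mul, ← Finset.sum_subset (Finset.subset_univ B.toFinite.toFinset)
        (fun χ _ hχ => by rw [Set.Finite.mem_toFinset] at hχ; simp [hχ])]
    refine Finset.sum_congr rfl fun χ hχ => ?_
    rw [Set.Finite.mem_toFinset] at hχ
    have h := CfsgLib.Char.irr_classInner (isIrrCharacter_comp_pow hk χ.2) χ.2
    rw [CfsgLib.Char.classInner_def, inv_mul_eq_iff_eq_mul₀ CfsgLib.Char.natCard_ne_zero] at h
    rw [h]
    by_cases hc : (fun g => (χ : G → ℂ) (g ^ k)) = (χ : G → ℂ)
    · rw [if_pos ⟨hχ, hc⟩, if_pos hc]; ring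
    · rw [if_neg (fun h => hc h.2), if_neg hc]; ring
  let X : Finset G := (Finset.univ.filter fun c : ConjClasses G =>
    ∃ j : ℕ, orderOf c.out = p ^ j).image Quotient.out
  have hout : ∀ z : G, IsConj (ConjClasses.mk z).out z := fun z =>
    ConjClasses.mk_eq_mk_iff_isConj.1 (Quotient.out_eq _)
  have hX : ∀ u ∈ X, ∃ j : ℕ, orderOf u = p ^ j := by
    intro u hu
    obtain ⟨c, hc, rfl⟩ := Finset.mem_image.1 hu
    exact (Finset.mem_filter.1 hc).2
  have hXrep : ∀ g : G, (∃ j : ℕ, orderOf g = p ^ j) → ∃! u, u ∈ X ∧ IsConj g u := by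
    intro g ⟨j, hj⟩
    refine ⟨(ConjClasses.mk g).out, ⟨Finset.mem_image.2 ⟨ConjClasses.mk g, ?_, rfl⟩,
      (hout g).symm⟩, ?_⟩
    · refine Finset.mem_filter.2 ⟨Finset.mem_univ (α := ConjClasses G) _, j, ?_⟩
      obtain ⟨a, ha⟩ := isConj_iff.1 (hout g)
      have h := orderOf_injective (MulAut.conj a).toMonoidHom (MulAut.conj a).injective
        (ConjClasses.mk g).out
      rw [← hj]
      exact h.symm.trans (congrArg orderOf ha)
    · rintro u ⟨hu, hgu⟩
      obtain ⟨c, -, rfl⟩ := Finset.mem_image.1 hu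
      rw [ConjClasses.mk_eq_mk_iff_isConj.2 hgu]
      exact (congrArg Quotient.out (Quotient.out_eq c)).symm
  rw [sum_eq_sum_sections hM.1 X hX hXrep hF, mul_comm (Nat.card G : ℂ),
    mul_left_inj' CfsgLib.Char.natCard_ne_zero] at hfix
  have hreg : ∀ y : G, ¬ p ∣ orderOf y → y ^ k = y := by
    intro y hy
    conv_rhs => rw [← pow_one y]
    rw [pow_eq_pow_iff_modEq]
    refine hk1.of_dvd ?_
    refine ((hp.out.coprime_iff_not_dvd.2 hy).pow_left ((Nat.card G).factorization p)).symm.dvd_of_dvd_mul_left ?_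
    rw [Nat.ordProj_mul_ordCompl_eq_self]
    exact orderOf_dvd_natCard y
  have hnat : ∀ u ∈ X, ∃ n : ℕ, (Nat.card (Subgroup.centralizer ({u} : Set G)) : ℂ)⁻¹ *
      ∑ y : Subgroup.centralizer ({u} : Set G) with ¬ p ∣ orderOf y, F (u * (y : G)) = (n : ℂ) ∧
      (u = 1 → blockRank p B ≤ n) := by
    intro u hu
    set C := Subgroup.centralizer ({u} : Set G) with hC
    by_cases hu1 : u = 1
    · subst hu1
      refine ⟨blockRank p B, ?_, fun _ => le_rfl⟩
      have hCtop : ∀ g : G, g ∈ C := fun g => Subgroup.mem_centralizer_singleton_iff.2 (by simp)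
      have hcard : Nat.card C = Nat.card G :=
        Nat.card_congr (Equiv.subtypeUnivEquiv hCtop)
      rw [blockRank_eq_sum hM hB, hcard, Finset.sum_filter]
      simp only [CfsgLib.Char.classInner_def, ← Finset.mul_sum]
      congr 1
      rw [Finset.sum_comm]
      refine Fintype.sum_equiv (Equiv.subtypeUnivEquiv hCtop) _ _ fun y => ?_
      have hy0 : (Equiv.subtypeUnivEquiv hCtop) y = (y : G) := rfl
      simp only [hy0, one_mul, F, regInd, Subgroup.orderOf_coe]
      by_cases hy : p ∣ orderOf y
      · simp [hy]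
      · simp [hy, hreg _ (by rwa [Subgroup.orderOf_coe] : ¬ p ∣ orderOf (y : G))]
    · have hval : ∀ y : C, ¬ p ∣ orderOf y → F (u * (y : G)) =
          ∑ χ ∈ B.toFinite.toFinset, (χ : G → ℂ) (u ^ k * (y : G)) *
            conj ((χ : G → ℂ) (u * (y : G))) := by
        intro y hy
        have hc : Commute u (y : G) :=
          (Subgroup.mem_centralizer_singleton_iff.1 y.2).symm
        simp only [F, hc.mul_pow, hreg _ (by rwa [Subgroup.orderOf_coe] : ¬ p ∣ orderOf (y : G))]
      by_cases hcj : IsConj u (u ^ k)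
      · obtain ⟨n, hn⟩ := isConj_iff.1 hcj
        have hnC : ∀ y : C, n⁻¹ * (y : G) * n ∈ C := fun y => by
          have hy := Subgroup.mem_centralizer_singleton_iff.1 y.2
          rw [Subgroup.mem_centralizer_singleton_iff]
          have h2 : Commute (y : G) (u ^ k) := (show Commute (y : G) u from hy).pow_right k
          have h3 : n⁻¹ * u ^ k * n = u := by rw [← hn]; group
          calc n⁻¹ * (y : G) * n * u = n⁻¹ * ((y : G) * u ^ k) * n := by
                conv_lhs => rw [← h3]
                group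
            _ = n⁻¹ * (u ^ k * (y : G)) * n := by rw [h2.eq]
            _ = u * (n⁻¹ * (y : G) * n) := by
                conv_rhs => rw [← h3]
                group
        let α0 : C →* C :=
          { toFun := fun y => ⟨n⁻¹ * (y : G) * n, hnC y⟩
            map_one' := Subtype.ext (by simp)
            map_mul' := fun y w => Subtype.ext (by push_cast; group) }
        have hinj : Function.Injective α0 := fun y w h => by
          have h' := congrArg Subtype.val h
          exact Subtype.ext (mul_left_cancel (mul_right_cancel h'))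
        let α : C ≃* C := MulEquiv.ofBijective α0 (Finite.injective_iff_bijective.1 hinj)
        choose m hm using fun (b : {b : Set (IrrCharacter C) // IsPBlock M b}) =>
          exists_nat_twisted hM b.2 α
        refine ⟨∑ b ∈ (allBlocks M C).filter (fun b => IsInducedBlock M C b B),
          if hb : IsPBlock M b then m ⟨b, hb⟩ else 0, ?_, fun h => absurd h hu1⟩
        have hsec : ∀ y : C, ¬ p ∣ orderOf y → F (u * (y : G)) =
            ∑ b ∈ (allBlocks M C).filter (fun b => IsInducedBlock M C b B),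
              ∑ φ ∈ b.toFinite.toFinset, (φ : C → ℂ) (α y) * conj ((φ : C → ℂ) y) := by
          intro y hy
          rw [hval y hy, ← sum_section hM (hX u hu) hB hy (z := α y)
            (by rwa [MulEquiv.orderOf_eq])]
          refine Finset.sum_congr rfl fun χ _ => ?_
          congr 1
          rw [← CfsgLib.Char.irr_isClassFunction χ.2 (u * ((α y : C) : G)) n]
          refine congrArg _ ?_
          rw [← hn]
          show _ = n * (u * (n⁻¹ * (y : G) * n)) * n⁻¹
          group
        rw [Finset.sum_congr rfl fun y hy => hsec y (Finset.mem_filter.1 hy).2, Finset.sum_comm,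
          Finset.mul_sum, Nat.cast_sum]
        refine Finset.sum_congr rfl fun b hb => ?_
        have hb' := mem_allBlocks.1 (Finset.mem_filter.1 hb).1
        rw [dif_pos hb', ← hm ⟨b, hb'⟩, Finset.sum_comm, Finset.mul_sum]
        refine Finset.sum_congr rfl fun φ _ => ?_
        rw [CfsgLib.Char.classInner_def, Finset.sum_filter]
        congr 1
        refine Finset.sum_congr (by ext; simp) fun y _ => ?_
        unfold regInd
        split_ifs <;> simp
      · refine ⟨0, ?_, fun h => absurd h hu1⟩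
        rw [Nat.cast_zero, Finset.sum_eq_zero, mul_zero]
        intro y hy
        have hy' := (Finset.mem_filter.1 hy).2
        rw [hval y hy']
        have hc : Commute u (y : G) :=
          (Subgroup.mem_centralizer_singleton_iff.1 y.2).symm
        have hyr : ¬ p ∣ orderOf (y : G) := by rwa [Subgroup.orderOf_coe]
        obtain ⟨j, hj⟩ := hX u hu
        have hukp : ∃ i, orderOf (u ^ k) = p ^ i := by
          obtain ⟨i, -, hi⟩ := (Nat.dvd_prime_pow hp.out).1 (hj ▸ orderOf_pow_dvd k)
          exact ⟨i, hi⟩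
        have h := sum_block_eq_zero hM hB (isPPart_mul (hc.pow_left k) hukp hyr)
          (isPPart_mul hc ⟨j, hj⟩ hyr) (fun h => hcj h.symm)
        rw [finsum_mem_eq_finite_toFinset_sum _ B.toFinite] at h
        exact h
  choose n hn hn1 using hnat
  obtain ⟨u₀, ⟨hu₀, hu1⟩, -⟩ := hXrep 1 ⟨0, by rw [orderOf_one, pow_zero]⟩
  have hu₀1 : u₀ = 1 := isConj_one_right.1 hu1
  rw [← Finset.sum_attach X, Finset.sum_congr rfl fun u _ => hn u.1 u.2, ← Nat.cast_sum] at hfix
  have h : Nat.card {χ : IrrCharacter G // χ ∈ B ∧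
      (fun g => (χ : G → ℂ) (g ^ k)) = (χ : G → ℂ)} = _ := Nat.cast_inj.1 hfix
  rw [h]
  exact (hn1 u₀ hu₀ hu₀1).trans
    (Finset.single_le_sum (f := fun u : X => n u.1 u.2) (fun _ _ => Nat.zero_le _)
      (Finset.mem_attach X ⟨u₀, hu₀⟩))

/-- A generator of the exponents congruent to one modulo the `p'`-part. -/
theorem exists_generator (hodd : p ≠ 2) (n : ℕ) (hn : n ≠ 0) :
    ∃ k₀ : ℕ, k₀.Coprime n ∧ k₀ ≡ 1 [MOD n / p ^ n.factorization p] ∧
      ∀ k : ℕ, k.Coprime n → k ≡ 1 [MOD n / p ^ n.factorization p] →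
        ∃ j : ℕ, k₀ ^ j ≡ k [MOD n] := by
  set a := n.factorization p with ha
  set q := n / p ^ a with hq
  have hpq : (p ^ a).Coprime q := (Nat.coprime_ordCompl hp.out hn).pow_left a
  have hmul : p ^ a * q = n := Nat.ordProj_mul_ordCompl_eq_self n p
  have : NeZero (p ^ a) := ⟨pow_ne_zero _ hp.out.ne_zero⟩
  have : IsCyclic (ZMod (p ^ a))ˣ := ZMod.isCyclic_units_of_prime_pow p hp.out hodd a
  obtain ⟨g, hg⟩ := IsCyclic.exists_generator (α := (ZMod (p ^ a))ˣ)
  obtain ⟨k₀, hk1, hk2⟩ := Nat.chineseRemainder hpq (g : ZMod (p ^ a)).val 1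
  refine ⟨k₀, ?_, hk2, fun k hk hk' => ?_⟩
  · rw [← hmul]
    refine Nat.Coprime.mul_right ?_ ?_
    · unfold Nat.Coprime
      rw [hk1.gcd_eq]
      exact ZMod.val_coe_unit_coprime g
    · unfold Nat.Coprime
      rw [hk2.gcd_eq]
      exact Nat.gcd_one_left q
  · have hkp : k.Coprime (p ^ a) := hk.coprime_dvd_right ⟨q, hmul.symm⟩
    obtain ⟨j, hj⟩ := mem_powers_iff_mem_zpowers.2 (hg (ZMod.unitOfCoprime k hkp))
    refine ⟨j, ?_⟩
    rw [← hmul, ← Nat.modEq_and_modEq_iff_modEq_mul hpq]
    refine ⟨?_, ((hk2.pow j).trans (by rw [one_pow])).trans hk'.symm⟩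
    rw [← ZMod.natCast_eq_natCast_iff] at hk1 ⊢
    rw [Nat.cast_pow, hk1, ZMod.natCast_zmod_val, ← Units.val_pow_eq_pow_val]
    exact congrArg Units.val hj

include hM in
/-- **The count of `p`-rational characters.** -/
theorem blockRank_le_pRational (hodd : p ≠ 2) {B : Set (IrrCharacter G)} (hB : IsPBlock M B) :
    blockRank p B ≤ Nat.card {χ : IrrCharacter G // χ ∈ B ∧ ∀ k : ℕ, Nat.Coprime k (Nat.card G) →
      k ≡ 1 [MOD Nat.card G / p ^ (Nat.card G).factorization p] →
        ∀ g : G, (χ : G → ℂ) (g ^ k) = (χ : G → ℂ) g} := by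
  obtain ⟨k₀, hc, h1, hgen⟩ := exists_generator hodd (Nat.card G) Nat.card_pos.ne'
  refine (rank_le_fixed hM hB hc h1).trans (le_of_eq ?_)
  refine Nat.card_congr (Equiv.subtypeEquivRight fun χ => ?_)
  refine and_congr_right fun _ => ⟨fun hfix k hk hk' g => ?_, fun h => funext (h k₀ hc h1)⟩
  obtain ⟨j, hj⟩ := hgen k hk hk'
  rw [show g ^ k = g ^ k₀ ^ j from
    pow_eq_pow_iff_modEq.2 (hj.symm.of_dvd (orderOf_dvd_natCard g))]
  clear hj
  induction j generalizing g with
  | zero => rw [pow_zero, pow_one]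
  | succ j ih =>
    rw [pow_succ', pow_mul, ih (g ^ k₀)]
    exact congrFun hfix g

end CfsgLib.BlockB.PRationalCount
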