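import Cfsg.Agent.Lib.BlockB.OrbitScalar
import Cfsg.Agent.Lib.BlockB.GaloisValues
import Cfsg.Agent.Lib.BlockB.PrincipalLambda
import Cfsg.Agent.Lib.Clifford.ExtensionDet
import Mathlib.RingTheory.RootsOfUnity.Complex

/-!
Extensions of invariant characters of degree prime to `p` into the principal block, through the
central extension given by intertwiners with determinant of order prime to `p`.
-/

set_option autoImplicit false
set_option linter.unusedSectionVars false
set_option linter.style.haveILetI false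

namespace CfsgLib.BlockB.PRationalExt

open Cfsg CfsgLib.Block CfsgLib.Clifford
open CfsgLib.BlockA (subOrbit mem_subOrbit)
open CfsgLib.BlockB.OrbitScalar (A)

universe u

variable {p : ℕ} [Fact p.Prime] {M : Ideal AlgInt}

/-- A root of unity of order prime to `p` congruent to one is one. -/
theorem eq_one_of_congr (hM : IsPModular p M) {x : ℂ} {m : ℕ} (hm : ¬ p ∣ m) (hx : x ^ m = 1)
    (h : MemLocalIdeal M (x - 1)) : x = 1 := by
  have := hM.2.1.isPrime
  by_contra hne
  have hm0 : m ≠ 0 := fun h0 => hm (h0 ▸ dvd_zero p)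
  have hd := orderOf_dvd_of_pow_eq_one hx
  have hdpos : 0 < orderOf x := Nat.pos_of_dvd_of_pos hd (Nat.pos_of_ne_zero hm0)
  have hd1 : orderOf x ≠ 1 := fun h1 => hne (orderOf_eq_one_iff.1 h1)
  obtain ⟨d, hd'⟩ : ∃ d, orderOf x = d + 1 := ⟨orderOf x - 1, by omega⟩
  have hprim : IsPrimitiveRoot x (d + 1) := hd' ▸ IsPrimitiveRoot.orderOf x
  have hprod := hprim.prod_one_sub_pow_eq_order
  refine hm (dvd_trans ((memLocalIdeal_natCast_iff hM (d + 1)).1 ?_) (hd' ▸ hd))
  push_cast
  rw [← hprod, ← Finset.mul_prod_erase (a := 0) _ _ (Finset.mem_range.2 (by omega))]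
  refine memLocalIdeal_mul_right ((lring M).prod_mem fun k _ =>
    (lring M).sub_mem (lring M).one_mem
      (memLocalRing_of_isIntegral ((hprim.isIntegral (by omega)).pow _))) ?_
  have := memLocalIdeal_neg h
  simpa using this

/-- An exponent congruent to `2` modulo the `p`-part and to one modulo the rest. -/
theorem exists_two_one {n : ℕ} (hn : n ≠ 0) (hp : p ≠ 2) :
    ∃ k : ℕ, k.Coprime n ∧ k ≡ 1 [MOD n / p ^ n.factorization p] ∧
      k ≡ 2 [MOD p ^ n.factorization p] := by
  have hpr : p.Prime := Fact.out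
  have hco : (p ^ n.factorization p).Coprime (n / p ^ n.factorization p) :=
    Nat.Coprime.pow_left _ (hpr.coprime_iff_not_dvd.2 (Nat.not_dvd_ordCompl hpr hn))
  obtain ⟨k, hk1, hk2⟩ := Nat.chineseRemainder hco 2 1
  refine ⟨k, ?_, hk2, hk1⟩
  rw [← Nat.ordProj_mul_ordCompl_eq_self n p]
  refine Nat.Coprime.mul_right ?_ ?_
  · rw [Nat.coprime_iff_gcd_eq_one, hk1.gcd_eq]
    exact Nat.Coprime.pow_right _ ((Nat.coprime_primes Nat.prime_two hpr).2 (Ne.symm hp))
  · rw [Nat.coprime_iff_gcd_eq_one, hk2.gcd_eq, Nat.gcd_one_left]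

/-- A rational-at-`p` character has determinant of order prime to `p`. -/
theorem det_pow_eq_one {H : Type u} [Group H] [Finite H] (hp : p ≠ 2) {n : ℕ}
    (σ : Representation ℂ H (Fin n → ℂ))
    (h : ∀ k : ℕ, k.Coprime (Nat.card H) →
      k ≡ 1 [MOD Nat.card H / p ^ (Nat.card H).factorization p] →
      ∀ g : H, σ.character (g ^ k) = σ.character g) (x : H) :
    LinearMap.det (σ x) ^ (Nat.card H / p ^ (Nat.card H).factorization p) = 1 := by
  obtain ⟨k, hk, hk1, hk2⟩ := exists_two_one (p := p) (n := Nat.card H) Nat.card_pos.ne' hp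
  set m := Nat.card H / p ^ (Nat.card H).factorization p with hm
  set y := x ^ m with hy
  have hyp : y ^ p ^ (Nat.card H).factorization p = 1 := by
    rw [hy, ← pow_mul, mul_comm, hm, Nat.ordProj_mul_ordCompl_eq_self, pow_card_eq_one']
  have h1 := GaloisValues.det_pow_of_galois σ y k 1 fun j => by rw [one_pow, one_mul, h k hk hk1]
  rw [one_pow, one_mul, ← map_pow, ← map_pow] at h1
  have h2 : y ^ k = y ^ 2 := pow_eq_pow_iff_modEq.2 (hk2.of_dvd (orderOf_dvd_of_pow_eq_one hyp))
  rw [h2, map_pow, map_pow, sq] at h1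
  have h3 : LinearMap.det (σ y) ≠ 0 := by
    have e : LinearMap.det (σ y) * LinearMap.det (σ y⁻¹) = 1 := by
      rw [← map_mul, ← map_mul, mul_inv_cancel, map_one, map_one]
    exact left_ne_zero_of_mul_eq_one e
  have h4 : LinearMap.det (σ y) = 1 := mul_right_cancel₀ h3 (by rw [one_mul]; exact h1)
  rw [hy, map_pow, map_pow] at h4
  exact h4

variable {G : Type u} [Group G] [Fintype G] (N : Subgroup G) [N.Normal] [Fintype N]

/-- The twist of an extension into the principal block, over a normal subgroup of `p`-power index. -/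
theorem exists_good_twist (hM : IsPModular p M) {θ : IrrCharacter N}
    (hθ : θ ∈ principalBlock M N) {n : ℕ} (σ : Representation ℂ G (Fin n → ℂ))
    (hres : ∀ x : N, σ.character x = (θ : N → ℂ) x) {O : ℕ} (hO : ¬ p ∣ O)
    (hdet : ∀ g, LinearMap.det (σ g) ^ O = 1) (P : Sylow p N) (H : Subgroup G) [H.Normal]
    (hNH : N ≤ H) {a : ℕ} (hidx : H.index = p ^ a)
    (hH : ∀ h : H, ∃ c : H, (∀ x ∈ (P : Subgroup N), (x : G) * c = c * x) ∧ (h : G)⁻¹ * c ∈ N) :
    ∃ (μ : G →* ℂˣ) (τ : Representation ℂ G (Fin n → ℂ)),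
      (∀ g, τ g = (μ g : ℂ) • σ g) ∧ (∀ x : N, μ x = 1) ∧
      (∀ x : N, τ.character x = (θ : N → ℂ) x) ∧
      (∃ O' : ℕ, ¬ p ∣ O' ∧ ∀ g, LinearMap.det (τ g) ^ O' = 1) ∧
      ∀ h ∈ H, MemLocalIdeal M (A N τ.character h - ((subOrbit N h).card : ℂ)) := by
  have hpr : p.Prime := Fact.out
  obtain ⟨lam, hlN, hlo, hlinv, hgood⟩ :=
    OrbitScalar.exists_twist ⟨n, σ, rfl⟩ hres hM hθ P H hH
  obtain ⟨μ, hμ, hμo, -⟩ := Clifford.exists_linear_extension lam
    (fun g h => hlinv g h _ (coe_conjN g h))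
    (by rw [hidx]; exact Nat.Coprime.pow_left _ (hpr.coprime_iff_not_dvd.2 hlo))
  let τ : Representation ℂ G (Fin n → ℂ) :=
    { toFun := fun g => (μ g : ℂ) • σ g
      map_one' := by simp
      map_mul' := fun a b => by rw [map_mul, map_mul, Units.val_mul, smul_mul_smul_comm] }
  have hτ : ∀ g, τ g = (μ g : ℂ) • σ g := fun g => rfl
  have hchar : τ.character = fun g => (μ g : ℂ) * σ.character g := funext fun g => by
    simp only [Representation.character, hτ, map_smul, smul_eq_mul]
  have hμN : ∀ x : N, μ (x : G) = 1 := fun x =>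
    (hμ ⟨x, hNH x.2⟩).trans (hlN ⟨x, hNH x.2⟩ x.2)
  refine ⟨μ, τ, hτ, hμN, fun x => by rw [congr_fun hchar x, hμN, Units.val_one, one_mul, hres],
    ⟨O * orderOf lam, fun hd => (hpr.dvd_mul.1 hd).elim hO hlo, fun g => ?_⟩, fun h hh => ?_⟩
  · have e1 : μ g ^ orderOf lam = 1 := by
      rw [← hμo, ← MonoidHom.pow_apply, pow_orderOf_eq_one]; rfl
    rw [hτ, LinearMap.det_smul, Module.finrank_fin_fun, mul_pow, pow_mul (LinearMap.det _), hdet,
      one_pow, mul_one, ← pow_mul, mul_comm O, mul_comm n, mul_assoc, pow_mul,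
      ← Units.val_pow_eq_pow_val, e1, Units.val_one, one_pow]
  · have hc : ∀ b ∈ subOrbit N h, (μ b : ℂ) = μ h := by
      intro b hb
      obtain ⟨x, rfl⟩ := (mem_subOrbit N).1 hb
      rw [map_mul, map_mul, map_inv, hμN]
      simp
    rw [hchar, OrbitScalar.A_smul N σ.character (fun g => (μ g : ℂ)) (by simp) hc,
      show μ h = lam ⟨h, hh⟩ from hμ ⟨h, hh⟩]
    exact hgood ⟨h, hh⟩

/-- Transport of principal block membership along an isomorphism. -/
theorem mem_principalBlock_equiv {A B : Type u} [Group A] [Group B] [Fintype A] [Fintype B]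
    (hM : IsPModular p M) (e : A ≃* B) {χ : IrrCharacter B} {χ' : IrrCharacter A}
    (hχ : ∀ a, (χ' : A → ℂ) a = (χ : B → ℂ) (e a)) (h : χ ∈ principalBlock M B) :
    χ' ∈ principalBlock M A := by
  rw [mem_principalBlock_iff_regTotal hM] at h ⊢
  suffices regTotal p (χ' : A → ℂ) = regTotal p (χ : B → ℂ) by rwa [this]
  unfold regTotal
  refine Fintype.sum_equiv e.toEquiv _ _ fun a => ?_
  show _ = BlockA.regInd p (e a) * (χ : B → ℂ) (e a)
  rw [hχ]
  simp [BlockA.regInd, e.orderOf_eq]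

/-- **Existence of an extension with determinant of order prime to `p`.** -/
theorem exists_extension (hM : IsPModular p M) {n : ℕ} (ρ : Representation ℂ N (Fin n → ℂ))
    [ρ.IsIrreducible] (hn : ¬ p ∣ n) {θ : IrrCharacter N} (hρ : ρ.character = (θ : N → ℂ))
    (hθ : θ ∈ principalBlock M N)
    (hinv : ∀ (g : G) (x : N), ρ.character (conjN g x) = ρ.character x)
    {o : ℕ} (ho : ¬ p ∣ o) (hdet : ∀ x, LinearMap.det (ρ x) ^ o = 1) (P : Sylow p N)
    (H : Subgroup G) [H.Normal] (hNH : N ≤ H) {a : ℕ} (hidx : H.index = p ^ a)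
    (hH : ∀ h : H, ∃ c : H, (∀ x ∈ (P : Subgroup N), (x : G) * c = c * x) ∧ (h : G)⁻¹ * c ∈ N) :
    ∃ σ : Representation ℂ G (Fin n → ℂ), (∀ x : N, σ x = ρ x) ∧
      ∃ O : ℕ, ¬ p ∣ O ∧ ∀ g, LinearMap.det (σ g) ^ O = 1 := by
  classical
  have := hM.2.1.isPrime
  have hpr : p.Prime := Fact.out
  have ho0 : 0 < o := Nat.pos_of_ne_zero fun h => ho (h ▸ dvd_zero p)
  have hn0 : 0 < n := Nat.pos_of_ne_zero fun h => hn (h ▸ dvd_zero p)
  have := Char.nontrivial_of_isIrreducible ρ
  let δ : intertwiners ρ →* ℂˣ := (Units.map LinearMap.det).comp (opUnits ρ)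
  let E : Subgroup (intertwiners ρ) := ((powMonoidHom o).comp δ).ker
  have hmemE : ∀ e, e ∈ E ↔ δ e ^ o = 1 := fun e => Iff.rfl
  have hδz : ∀ z : ℂˣ, δ (scalarEmb ρ z) = z ^ n := fun z => Units.ext (by
    show LinearMap.det (((opUnits ρ (scalarEmb ρ z)) : (Module.End ℂ (Fin n → ℂ))ˣ) :
      Module.End ℂ (Fin n → ℂ)) = _
    rw [opUnits_scalarEmb, coe_scalarUnits, Algebra.algebraMap_eq_smul_one, LinearMap.det_smul,
      Module.finrank_fin_fun, Module.End.one_eq_id, LinearMap.det_id, mul_one,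
      Units.val_pow_eq_pow_val])
  let pr : E →* G := (proj ρ).comp E.subtype
  have hsurj : Function.Surjective pr := by
    intro g
    obtain ⟨e, he⟩ := proj_surjective ρ hinv g
    obtain ⟨w, hw⟩ := IsAlgClosed.exists_pow_nat_eq (((δ e)⁻¹ : ℂˣ) : ℂ) hn0
    have hw0 : w ≠ 0 := fun h => (δ e)⁻¹.ne_zero (by rw [← hw, h, zero_pow hn0.ne'])
    refine ⟨⟨scalarEmb ρ (Units.mk0 w hw0) * e, ?_⟩, ?_⟩
    · rw [hmemE, map_mul, hδz, show (Units.mk0 w hw0) ^ n = (δ e)⁻¹ from
        Units.ext (by simpa using hw), inv_mul_cancel, one_pow]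
    · show proj ρ (scalarEmb ρ (Units.mk0 w hw0) * e) = g
      rw [map_mul, proj_scalarEmb, one_mul, he]
  have hkerpr : ∀ e : E, pr e = 1 → ∃ z : ℂˣ, (e : intertwiners ρ) = scalarEmb ρ z ∧
      z ^ (n * o) = 1 := by
    intro e he
    obtain ⟨z, hz⟩ := (proj_eq_one_iff ρ (e : intertwiners ρ)).1 he
    refine ⟨z, hz, ?_⟩
    have h := (hmemE e).1 e.2
    rwa [hz, hδz, ← pow_mul] at h
  choose s hs using hsurj
  have : NeZero (n * o) := ⟨(Nat.mul_pos hn0 ho0).ne'⟩
  have : Finite E := by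
    have hz : ∀ e : E, ∃ z : rootsOfUnity (n * o) ℂ,
        (e : intertwiners ρ) = scalarEmb ρ (z : ℂˣ) * (s (pr e) : intertwiners ρ) := by
      intro e
      obtain ⟨z, hz, hz'⟩ := hkerpr (e * (s (pr e))⁻¹) (by rw [map_mul, map_inv, hs, mul_inv_cancel])
      refine ⟨⟨z, hz'⟩, ?_⟩
      rw [← hz, Subgroup.coe_mul, Subgroup.coe_inv, inv_mul_cancel_right]
    choose z hz using hz
    refine Finite.of_injective (fun e => (pr e, z e)) fun e e' h => Subtype.ext ?_
    obtain ⟨h1, h2⟩ := Prod.ext_iff.1 h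
    simp only at h1 h2
    rw [hz e, hz e', h1, h2]
  have := Fintype.ofFinite E
  have hιmem : ∀ x : N, normalEmb ρ x ∈ E := fun x => by
    rw [hmemE]
    refine Units.ext ?_
    rw [Units.val_pow_eq_pow_val]
    exact hdet x
  let ι : N →* E := (normalEmb ρ).codRestrict E hιmem
  have hprι : ∀ x : N, pr (ι x) = x := fun x => rfl
  have hι : Function.Injective ι := fun x y h =>
    Subtype.ext (by rw [← hprι x, ← hprι y, h])
  let N' : Subgroup E := ι.range
  have hN' : N'.Normal := ⟨by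
    rintro _ ⟨x, rfl⟩ e
    exact ⟨conjN (pr e) x, Subtype.ext (conj_normalEmb ρ (e : intertwiners ρ) x).symm⟩⟩
  have := Fintype.ofFinite N'
  let eN : N ≃* N' := MonoidHom.ofInjective hι
  let R : Representation ℂ E (Fin n → ℂ) := (Units.coeHom _).comp ((opUnits ρ).comp E.subtype)
  have hRι : ∀ x : N, R (ι x) = ρ x := fun x => rfl
  let θ' : IrrCharacter N' := ⟨(θ : N → ℂ) ∘ eN.symm,
    Char.isIrrCharacter_comp_surjective θ.2 eN.symm.toMonoidHom eN.symm.surjective⟩
  have hθ' : θ' ∈ principalBlock M N' :=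
    mem_principalBlock_equiv hM eN.symm (fun _ => rfl) hθ
  have hres : ∀ x : N', R.character x = (θ' : N' → ℂ) x := by
    intro x
    obtain ⟨y, rfl⟩ := eN.surjective x
    show R.character (ι y) = (θ : N → ℂ) (eN.symm (eN y))
    rw [MulEquiv.symm_apply_apply, ← hρ]
    simp only [Representation.character, hRι]
  have hdetR : ∀ e : E, LinearMap.det (R e) ^ o = 1 := fun e => by
    have h := congrArg Units.val ((hmemE e).1 e.2)
    rw [Units.val_pow_eq_pow_val] at h
    exact h
  let P' : Sylow p N' := P.mapSurjective (f := eN.toMonoidHom) eN.surjective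
  let H' : Subgroup E := H.comap pr
  have hidx' : H'.index = p ^ a := by
    rw [← hidx]
    exact H.index_comap_of_surjective fun g => ⟨s g, hs g⟩
  have hH' : ∀ h : H', ∃ c : H', (∀ x ∈ (P' : Subgroup N'), (x : E) * c = c * x) ∧
      (h : E)⁻¹ * c ∈ N' := by
    intro h
    obtain ⟨c, hcP, hcN⟩ := hH ⟨pr h, h.2⟩
    have hprc : pr ((h : E) * ι ⟨_, hcN⟩) = (c : G) := by
      rw [map_mul, hprι]
      exact mul_inv_cancel_left (pr h) (c : G)
    refine ⟨⟨(h : E) * ι ⟨_, hcN⟩, by rw [Subgroup.mem_comap, hprc]; exact c.2⟩, fun x hx => ?_, ?_⟩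
    · rw [show (P' : Subgroup N') = (P : Subgroup N).map eN.toMonoidHom from rfl] at hx
      obtain ⟨y, hy, rfl⟩ := hx
      show ι y * ((h : E) * ι ⟨_, hcN⟩) = (h : E) * ι ⟨_, hcN⟩ * ι y
      rw [← mul_inv_eq_iff_eq_mul]
      set c' := (h : E) * ι ⟨_, hcN⟩ with hc'
      refine Eq.trans ?_ (rfl : c' = c')
      have e : c' * ι y * c'⁻¹ = ι y := by
        refine Subtype.ext ?_
        show (c' : intertwiners ρ) * normalEmb ρ y * (c' : intertwiners ρ)⁻¹ = normalEmb ρ y
        rw [conj_normalEmb]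
        congr 1
        refine Subtype.ext ?_
        rw [coe_conjN, show proj ρ (c' : intertwiners ρ) = (c : G) from hprc, ← hcP y hy,
          mul_inv_cancel_right]
      calc ι y * c' * (ι y)⁻¹ = (c' * ι y * c'⁻¹) * c' * (ι y)⁻¹ := by rw [e]
        _ = c' := by group
    · exact ⟨⟨_, hcN⟩, (inv_mul_cancel_left _ _).symm⟩
  obtain ⟨μ, τ, hτ, hμN, -, ⟨O, hO, hdetτ⟩, hgood⟩ := exists_good_twist N' hM hθ' R hres ho hdetR
    P' H' (by rintro _ ⟨x, rfl⟩; exact Subgroup.mem_comap.2 (by rw [hprι]; exact hNH x.2))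
    hidx' hH'
  have hscal : ∀ e : E, pr e = 1 → τ e = 1 := by
    intro e he
    obtain ⟨z, hz, -⟩ := hkerpr e he
    set w : ℂ := (μ e : ℂ) * z with hw
    have hτe : τ e = w • LinearMap.id := by
      rw [hτ, hw, mul_smul]
      congr 1
      show (((opUnits ρ (e : intertwiners ρ)) : (Module.End ℂ (Fin n → ℂ))ˣ) :
        Module.End ℂ (Fin n → ℂ)) = _
      rw [hz, opUnits_scalarEmb, coe_scalarUnits, Algebra.algebraMap_eq_smul_one,
        Module.End.one_eq_id]
    have hwpow : w ^ (n * O) = 1 := by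
      have h := hdetτ e
      rwa [hτe, LinearMap.det_smul, Module.finrank_fin_fun, LinearMap.det_id, mul_one,
        ← pow_mul] at h
    have horb : subOrbit N' e = {e} := by
      ext b
      rw [mem_subOrbit, Finset.mem_singleton]
      have key : ∀ x : N', (x : E) * e * (x : E)⁻¹ = e := fun x => by
        rw [mul_inv_eq_iff_eq_mul]
        refine Subtype.ext ?_
        rw [Subgroup.coe_mul, Subgroup.coe_mul, hz, scalarEmb_comm]
      exact ⟨fun ⟨x, hx⟩ => by rw [← hx, key], fun hb => ⟨1, by rw [hb, key]⟩⟩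
    have h1 := hgood e (Subgroup.mem_comap.2 (by rw [he]; exact H.one_mem))
    rw [A, horb, Finset.sum_singleton, Finset.card_singleton, Nat.cast_one,
      show τ.character e = w * τ.character 1 by
        simp only [Representation.character, hτe, map_smul, smul_eq_mul, map_one,
          Module.End.one_eq_id],
      mul_div_cancel_right₀ _ (by
        rw [Representation.char_one, Module.finrank_fin_fun]; exact_mod_cast hn0.ne')] at h1
    rw [hτe, eq_one_of_congr hM (fun hd => (hpr.dvd_mul.1 hd).elim hn hO) hwpow h1, one_smul]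
    rfl
  let U : E →* (Module.End ℂ (Fin n → ℂ))ˣ := MonoidHom.toHomUnits τ
  have hker : pr.ker ≤ U.ker := fun e he => MonoidHom.mem_ker.2 (Units.ext (hscal e he))
  have hps : Function.Surjective pr := fun g => ⟨s g, hs g⟩
  let U' : G →* (Module.End ℂ (Fin n → ℂ))ˣ := pr.liftOfSurjective hps ⟨U, hker⟩
  have hU : ∀ e : E, ((U' (pr e) : (Module.End ℂ (Fin n → ℂ))ˣ) : Module.End ℂ (Fin n → ℂ)) = τ e :=
    fun e => congrArg Units.val (MonoidHom.liftOfRightInverse_comp_apply _ _ _ _ e)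
  refine ⟨(Units.coeHom _).comp U', fun x => ?_, O, hO, fun g => ?_⟩
  · show ((U' (x : G) : (Module.End ℂ (Fin n → ℂ))ˣ) : Module.End ℂ (Fin n → ℂ)) = ρ x
    rw [← hprι x, hU, hτ, show μ (ι x) = 1 from hμN ⟨ι x, x, rfl⟩, Units.val_one, one_smul, hRι]
  · show LinearMap.det ((U' g : (Module.End ℂ (Fin n → ℂ))ˣ) : Module.End ℂ (Fin n → ℂ)) ^ O = 1
    rw [← hs g, hU, hdetτ]

/-- **Invariant `p`-rational characters of the principal block extend `p`-rationally.** -/
theorem exists_pRational_ext (hM : IsPModular p M) (hp : p ≠ 2) (θ : IrrCharacter N)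
    (hinv : ∀ g : G, ∀ x : N, (θ : N → ℂ) (conjN g x) = (θ : N → ℂ) x)
    (hdeg : ¬ p ∣ charDegree (θ : N → ℂ)) (hθ : θ ∈ principalBlock M N)
    (hrat : ∀ k : ℕ, k.Coprime (Nat.card G) →
      k ≡ 1 [MOD Nat.card G / p ^ (Nat.card G).factorization p] →
      ∀ x : N, (θ : N → ℂ) (x ^ k) = (θ : N → ℂ) x)
    (hdet : ∀ {n : ℕ} (ρ : Representation ℂ N (Fin n → ℂ)), ρ.character = (θ : N → ℂ) →
      ∃ o : ℕ, ¬ p ∣ o ∧ ∀ x, LinearMap.det (ρ x) ^ o = 1)
    (P : Sylow p N) (H : Subgroup G) [H.Normal] (hNH : N ≤ H) {a : ℕ} (hidx : H.index = p ^ a)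
    (hH : ∀ h : H, ∃ c : H, (∀ x ∈ (P : Subgroup N), (x : G) * c = c * x) ∧ (h : G)⁻¹ * c ∈ N) :
    ∃ χ : IrrCharacter G, χ ∈ principalBlock M G ∧ (∀ x : N, (χ : G → ℂ) x = (θ : N → ℂ) x) ∧
      ∀ k : ℕ, k.Coprime (Nat.card G) →
        k ≡ 1 [MOD Nat.card G / p ^ (Nat.card G).factorization p] →
        ∀ g : G, (χ : G → ℂ) (g ^ k) = (χ : G → ℂ) g := by
  classical
  have := hM.2.1.isPrime
  have hpr : p.Prime := Fact.out
  obtain ⟨n, ρ, hirr, hρ⟩ := id θ.2
  have hn : ¬ p ∣ n := by
    have e := BlockB.irr_degree_cast θ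
    rw [← hρ, Representation.char_one, Module.finrank_fin_fun] at e
    rw [show n = charDegree (θ : N → ℂ) by rw [← hρ]; exact_mod_cast e.symm]
    exact hdeg
  obtain ⟨o, ho, hdet⟩ := hdet ρ hρ
  obtain ⟨σ, hσ, O, hO, hdetσ⟩ := exists_extension N hM ρ hn hρ hθ
    (fun g x => by rw [hρ]; exact hinv g x) ho hdet P H hNH hidx hH
  have hres : ∀ x : N, σ.character x = (θ : N → ℂ) x := fun x => by
    rw [← hρ]; simp [Representation.character, hσ]
  obtain ⟨μ, τ, hτ, hμN, hτN, ⟨O', hO', hdetτ⟩, hgood⟩ :=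
    exists_good_twist N hM hθ σ hres hO hdetσ P H hNH hidx hH
  have hτρ : ∀ x : N, τ x = ρ x := fun x => by rw [hτ, hμN, Units.val_one, one_smul, hσ]
  have hτc : IsCharacter G τ.character := ⟨n, τ, rfl⟩
  let χ : IrrCharacter G := ⟨τ.character, (isIrrCharacter_extension ρ τ hτρ).1⟩
  refine ⟨χ, ?_, hτN, fun k hk hk1 => ?_⟩
  · have := Fintype.ofFinite H
    have hf : N ≤ H.subtype.range := fun x hx => ⟨⟨x, hNH hx⟩, rfl⟩
    let χH : IrrCharacter H :=
      ⟨_, OrbitScalar.isIrr_comp hτc hτN H.subtype H.subtype_injective hf⟩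
    have hmem : χH ∈ principalBlock M H :=
      OrbitScalar.mem_principalBlock hτc hτN hM H.subtype H.subtype_injective hf
        (fun h => hgood h h.2) fun _ => rfl
    rw [mem_principalBlock_iff_regTotal hM] at hmem ⊢
    suffices regTotal p τ.character = regTotal p (χH : H → ℂ) by
      show regTotal p τ.character ≠ 0
      rwa [this]
    unfold regTotal
    rw [← Finset.sum_filter_add_sum_filter_not Finset.univ (fun g => g ∈ H),
      Finset.sum_subtype (Finset.univ.filter fun g => g ∈ H) (p := fun g => g ∈ H) (by simp),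
      Finset.sum_eq_zero (s := Finset.univ.filter fun g => g ∉ H), add_zero]
    · refine Finset.sum_congr rfl fun h _ => ?_
      show _ = BlockA.regInd p h * τ.character (h : G)
      simp [BlockA.regInd, Subgroup.orderOf_coe]
    · intro g hg
      have hgn := (Finset.mem_filter.1 hg).2
      have : p ∣ orderOf g := by
        by_contra hd
        refine hgn ?_
        rw [← QuotientGroup.eq_one_iff, ← orderOf_eq_one_iff]
        refine Nat.eq_one_of_dvd_coprimes ((hpr.coprime_iff_not_dvd.2 hd).pow_left a)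
          ?_ (orderOf_map_dvd (QuotientGroup.mk' H) g)
        rw [← hidx, Subgroup.index_eq_card]
        exact orderOf_dvd_natCard _
      simp [BlockA.regInd, this]
  · -- the Galois conjugate is the same extension
    set m := Nat.card G / p ^ (Nat.card G).factorization p with hm
    have hmp : ¬ p ∣ m := Nat.not_dvd_ordCompl hpr Nat.card_pos.ne'
    have hirr' := BlockA.isIrrCharacter_comp_pow hk χ.2
    obtain ⟨τ', hτ'N, hτ'⟩ := exists_rep_extension_top ρ (Char.irr_isCharacter hirr') fun x => by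
      show τ.character ((x : G) ^ k) = ρ.character x
      rw [← Subgroup.coe_pow, hτN, hρ, hrat k hk hk1]
    obtain ⟨ν, hνN, hν⟩ := exists_twist ρ τ τ' hτρ hτ'N
    have hrel : ∀ g : G, τ.character (g ^ k) = (ν g : ℂ) * τ.character g := fun g => by
      have h := congr_fun hτ' g
      simp only [Representation.character, hν, map_smul, smul_eq_mul] at h
      exact h.symm
    have hνm : ∀ g : G, ν g ^ m = 1 := by
      intro g
      rw [← map_pow]
      set y := g ^ m with hy
      have hyp : y ^ p ^ (Nat.card G).factorization p = 1 := by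
        rw [hy, ← pow_mul, mul_comm, hm, Nat.ordProj_mul_ordCompl_eq_self, pow_card_eq_one']
      have h1 := GaloisValues.det_pow_of_galois τ y k (ν y) fun j => by
        rw [hrel, map_pow, Units.val_pow_eq_pow_val]
      have hdy : LinearMap.det (τ y) = 1 := by
        have hco := (hpr.coprime_iff_not_dvd.2 hO').pow_left ((Nat.card G).factorization p)
        rw [← orderOf_eq_one_iff]
        refine Nat.eq_one_of_dvd_coprimes hco (orderOf_dvd_of_pow_eq_one ?_)
          (orderOf_dvd_of_pow_eq_one (hdetτ y))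
        rw [← map_pow, ← map_pow, hyp, map_one, map_one]
      rw [hdy, one_pow, mul_one] at h1
      have h2 : ν y ^ n = 1 := Units.ext (by simpa using h1.symm)
      rw [← orderOf_eq_one_iff]
      refine Nat.eq_one_of_dvd_coprimes ((hpr.coprime_iff_not_dvd.2 hn).pow_left
        ((Nat.card G).factorization p)) (orderOf_dvd_of_pow_eq_one ?_) (orderOf_dvd_of_pow_eq_one h2)
      rw [← map_pow, hyp, map_one]
    have hνH : ∀ h ∈ H, ν h = 1 := by
      intro h hh
      obtain ⟨c, hcP, hcN⟩ := hH ⟨h, hh⟩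
      have hcoset : ∀ b ∈ subOrbit N (c : G), (ν b : ℂ) = ν (c : G) := by
        intro b hb
        obtain ⟨x, rfl⟩ := (mem_subOrbit N).1 hb
        rw [map_mul, map_mul, map_inv, hνN]
        simp
      have h1 := hgood _ (H.pow_mem c.2 k)
      have hsum : A N τ.character ((c : G) ^ k) = (ν (c : G) : ℂ) * A N τ.character c := by
        rw [A, A, OrbitScalar.sum_subOrbit_pow hk, ← mul_div_assoc, Finset.mul_sum]
        congr 1
        exact Finset.sum_congr rfl fun b hb => by rw [hrel, hcoset b hb]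
      have hcard : (subOrbit N ((c : G) ^ k)).card = (subOrbit N (c : G)).card := by
        have := OrbitScalar.sum_subOrbit_pow (N := N) hk (c : G) fun _ => 1
        simpa using this
      rw [hsum, hcard] at h1
      have h2 := hgood _ c.2
      have hA : MemLocalRing M (A N τ.character (c : G)) :=
        OrbitScalar.memLocalRing_A hτc hτN _
      have hνR : MemLocalRing M (ν (c : G) : ℂ) := memLocalRing_of_isIntegral
        (IsIntegral.of_pow (n := m) (Nat.pos_of_ne_zero fun h0 => hmp (h0 ▸ dvd_zero p))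
          (by rw [← Units.val_pow_eq_pow_val, hνm]; exact isIntegral_one))
      have h3 : MemLocalIdeal M (((ν (c : G) : ℂ) - 1) * ((subOrbit N (c : G)).card : ℂ)) := by
        have := memLocalIdeal_sub h1 (memLocalIdeal_mul_left hνR h2)
        convert this using 1
        ring
      have hsz : ¬ p ∣ (subOrbit N (c : G)).card := OrbitScalar.not_dvd_card N P hcP
      have h4 := memLocalIdeal_mul_right (memLocalRing_inv_natCast hM hsz) h3
      rw [mul_assoc, mul_inv_cancel₀ (Nat.cast_ne_zero.2 fun h0 => hsz (by rw [h0]; exact dvd_zero p)),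
        mul_one] at h4
      have h5 : ν (c : G) = 1 := Units.ext (eq_one_of_congr hM hmp
        (by rw [← Units.val_pow_eq_pow_val, hνm]; rfl) h4)
      have h6 : ν ((h : G)⁻¹ * c) = 1 := hνN ⟨_, hcN⟩
      rw [map_mul, map_inv, h5, mul_one, inv_eq_one] at h6
      exact h6
    intro g
    show τ.character (g ^ k) = τ.character g
    have hνg : ν g = 1 := by
      rw [← orderOf_eq_one_iff]
      refine Nat.eq_one_of_dvd_coprimes ((hpr.coprime_iff_not_dvd.2 hmp).pow_left a)
        (orderOf_dvd_of_pow_eq_one ?_) (orderOf_dvd_of_pow_eq_one (hνm g))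
      rw [← map_pow, ← hidx]
      exact hνH _ (Subgroup.pow_index_mem H g)
    rw [hrel, hνg, Units.val_one, one_mul]

end CfsgLib.BlockB.PRationalExt
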