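import Cfsg.Agent.Lib.BlockB.FrobPrincipal
import Cfsg.Agent.Lib.BlockB.ClassMul
import Cfsg.Agent.Lib.Char.Burnside

/-!
Products of two elements of a conjugacy class and the principal block: impossibility in a simple
group of the configurations in which too few of these products are singular, or too few regular.
-/

set_option autoImplicit false
set_option linter.unusedSectionVars false
set_option maxHeartbeats 1000000

namespace CfsgLib.BlockB.PairProd

open Cfsg CfsgLib.Block CfsgLib.Char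
open scoped ComplexConjugate

universe u

variable {G : Type u} [Group G] [Fintype G] {p : ℕ} [hp : Fact p.Prime] {M : Ideal AlgInt}

/-- The principal block as a finite set. -/
noncomputable def blk (M : Ideal AlgInt) (G : Type u) [Group G] [Finite G] :
    Finset (IrrCharacter G) :=
  (Set.toFinite (principalBlock M G)).toFinset

theorem mem_blk {χ : IrrCharacter G} : χ ∈ blk M G ↔ χ ∈ principalBlock M G :=
  Set.Finite.mem_toFinset _

theorem sum_pairs (S : Finset (IrrCharacter G)) (κ : IrrCharacter G → ℂ) (a b : G) :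
    ∑ t : G, ∑ χ ∈ S, κ χ * (χ : G → ℂ) (a * (t * b * t⁻¹)) =
      (Nat.card G : ℂ) * ∑ χ ∈ S, κ χ * (χ : G → ℂ) a * (χ : G → ℂ) b / (χ : G → ℂ) 1 := by
  rw [Finset.sum_comm, Finset.mul_sum]
  refine Finset.sum_congr rfl fun χ _ => ?_
  rw [← Finset.mul_sum, sum_irr_mul_conj χ a b]
  ring

variable (hM : IsPModular p M)

include hM in
theorem trivIrr_mem_blk : (trivIrr : IrrCharacter G) ∈ blk M G := by
  have := isPrime_of_pmodular hM
  exact mem_blk.2 one_mem_principalBlock

include hM in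
theorem blk_orth {g h u w : G} (hu : IsPPart p g u) (hw : IsPPart p h w) (hne : ¬ IsConj u w) :
    ∑ χ ∈ blk M G, (χ : G → ℂ) g * conj ((χ : G → ℂ) h) = 0 := by
  have := isPrime_of_pmodular hM
  have h1 := sum_block_eq_zero hM (isPBlock_principalBlock (M := M) (G := G)) hu hw hne
  rwa [finsum_mem_eq_finite_toFinset_sum _ (Set.toFinite _)] at h1

include hM in
theorem blk_orth_reg {g h : G} (hg : ¬ p ∣ orderOf g) (hh : p ∣ orderOf h) :
    ∑ χ ∈ blk M G, (χ : G → ℂ) g * conj ((χ : G → ℂ) h) = 0 := by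
  have := isPrime_of_pmodular hM
  have h1 := sum_block_eq_zero_of_regular_singular hM (isPBlock_principalBlock (M := M) (G := G))
    hg hh
  rwa [finsum_mem_eq_finite_toFinset_sum _ (Set.toFinite _)] at h1

include hM in
/-- If no product meets the section of `u`, the block sum of the structure constants vanishes
on it. -/
theorem vanish {z u : G} (hu : IsPPart p z u) (a b : G)
    (h : ∀ t w : G, IsPPart p (a * (t * b * t⁻¹)) w → ¬ IsConj w u) :
    ∑ χ ∈ blk M G, conj ((χ : G → ℂ) z) * (χ : G → ℂ) a * (χ : G → ℂ) b / (χ : G → ℂ) 1 = 0 := by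
  have h0 := sum_pairs (blk M G) (fun χ => conj ((χ : G → ℂ) z)) a b
  rw [Finset.sum_eq_zero (fun t _ => ?_), eq_comm, mul_eq_zero] at h0
  · exact h0.resolve_left natCard_ne_zero
  · obtain ⟨w, hw⟩ := exists_isPPart hp.out (a * (t * b * t⁻¹))
    rw [← blk_orth hM hw hu (h t w hw)]
    exact Finset.sum_congr rfl fun χ _ => mul_comm _ _

include hM in
theorem vanish_regular {z : G} (hz : ¬ p ∣ orderOf z) (a b : G)
    (h : ∀ t : G, p ∣ orderOf (a * (t * b * t⁻¹))) :
    ∑ χ ∈ blk M G, conj ((χ : G → ℂ) z) * (χ : G → ℂ) a * (χ : G → ℂ) b / (χ : G → ℂ) 1 = 0 := by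
  refine vanish hM (isPPart_one_of_regular hz) a b fun t w hw hc => ?_
  rw [isConj_one_left] at hc
  obtain ⟨v, hv, -, -, hv'⟩ := hw
  rw [hc, one_mul] at hv
  exact hv' (hv ▸ h t)

open scoped Classical in
/-- The multiplicity of a character in the indicator of the regular elements. -/
noncomputable def regCoef (p : ℕ) (χ : IrrCharacter G) : ℂ :=
  (Nat.card G : ℂ)⁻¹ * ∑ y ∈ Finset.univ.filter (fun y : G => ¬ p ∣ orderOf y),
    conj ((χ : G → ℂ) y)

open scoped Classical in
/-- The proportion of singular elements. -/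
noncomputable def singFrac (p : ℕ) (G : Type u) [Group G] [Fintype G] : ℂ :=
  (Nat.card G : ℂ)⁻¹ * ((Finset.univ.filter (fun y : G => p ∣ orderOf y)).card : ℂ)

include hM in
open scoped Classical in
theorem regInd (z : G) :
    ∑ χ ∈ blk M G, regCoef p χ * (χ : G → ℂ) z = if p ∣ orderOf z then 0 else 1 := by
  have e : ∑ χ ∈ blk M G, regCoef p χ * (χ : G → ℂ) z = (Nat.card G : ℂ)⁻¹ *
      ∑ y ∈ Finset.univ.filter (fun y : G => ¬ p ∣ orderOf y),
        ∑ χ ∈ blk M G, (χ : G → ℂ) z * conj ((χ : G → ℂ) y) := by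
    simp only [regCoef, mul_assoc, Finset.sum_mul, ← Finset.mul_sum]
    congr 1
    rw [Finset.sum_comm]
    exact Finset.sum_congr rfl fun y _ => Finset.sum_congr rfl fun χ _ => mul_comm _ _
  rw [e]
  split_ifs with hz
  · rw [Finset.sum_eq_zero fun y hy => ?_, mul_zero]
    have h1 := congrArg conj (blk_orth_reg hM (Finset.mem_filter.1 hy).2 hz)
    rw [map_sum, map_zero] at h1
    rw [← h1]
    exact Finset.sum_congr rfl fun χ _ => by rw [map_mul, Complex.conj_conj, mul_comm]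
  · rw [Finset.sum_subset (Finset.filter_subset _ _) (fun y _ hy =>
      blk_orth_reg hM hz (by simpa using hy)), Finset.sum_comm, Finset.mul_sum,
      Finset.sum_eq_single (trivIrr : IrrCharacter G)]
    · simp [trivIrr, Nat.card_eq_fintype_card]
    · intro χ _ hne
      have h1 := irr_classInner_ne (trivIrr : IrrCharacter G).2 χ.2
        (fun e => hne (Subtype.ext e.symm))
      rw [classInner_def] at h1
      simp only [trivIrr, one_mul] at h1
      rw [← Finset.mul_sum, mul_left_comm, h1, mul_zero]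
    · exact fun h => absurd (trivIrr_mem_blk hM) h

include hM in
open scoped Classical in
theorem reg_pairs (a b : G) :
    (Nat.card G : ℂ) * ∑ χ ∈ blk M G, regCoef p χ * (χ : G → ℂ) a * (χ : G → ℂ) b / (χ : G → ℂ) 1 =
      ((Finset.univ.filter fun t : G => ¬ p ∣ orderOf (a * (t * b * t⁻¹))).card : ℂ) := by
  rw [← sum_pairs, Finset.sum_congr rfl fun t _ => regInd hM (a * (t * b * t⁻¹))]
  rw [Finset.card_filter, Nat.cast_sum]
  exact Finset.sum_congr rfl fun t _ => by split_ifs <;> simp_all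

open scoped Classical in
theorem regCoef_eq (χ : IrrCharacter G) {c : ℂ} (hc : ∀ y : G, p ∣ orderOf y → (χ : G → ℂ) y = c) :
    regCoef p χ = (if χ = trivIrr then 1 else 0) - conj c * singFrac p G := by
  have h1 : (Nat.card G : ℂ)⁻¹ * ∑ y : G, conj ((χ : G → ℂ) y) =
      if χ = trivIrr then 1 else 0 := by
    have h := irr_classInner (trivIrr : IrrCharacter G).2 χ.2
    rw [classInner_def] at h
    simp only [trivIrr, one_mul] at h
    rw [h]
    refine if_congr ?_ rfl rfl
    exact ⟨fun h => Subtype.ext h.symm, fun h => (congrArg Subtype.val h).symm⟩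
  rw [← h1, regCoef, singFrac,
    ← Finset.sum_filter_add_sum_filter_not Finset.univ (fun y : G => p ∣ orderOf y)
      (fun y => conj ((χ : G → ℂ) y)),
    Finset.sum_congr (s₁ := Finset.univ.filter fun y : G => p ∣ orderOf y) rfl
      (g := fun _ => conj c) (fun y hy => by rw [hc y (Finset.mem_filter.1 hy).2]), Finset.sum_const,
    nsmul_eq_mul]
  ring

/-- Singular elements have their `p`-part conjugate into a given Sylow subgroup. -/
theorem exists_conj_ppart (P : Sylow p G) {z : G} (hz : p ∣ orderOf z) :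
    ∃ g : G, ∃ y : (P : Subgroup G), y ≠ 1 ∧ IsPPart p (g * z * g⁻¹) (y : G) := by
  obtain ⟨w, hw⟩ := exists_isPPart hp.out z
  obtain ⟨v, hv, -, ⟨k, hk⟩, hv'⟩ := id hw
  obtain ⟨Q, hQ⟩ := (IsPGroup.of_card (p := p) (n := k) (G := Subgroup.zpowers w)
    (by rw [Nat.card_zpowers, hk])).exists_le_sylow
  obtain ⟨g, hg⟩ := MulAction.exists_smul_eq G Q P
  have hmem : g * w * g⁻¹ ∈ (P : Subgroup G) := by
    rw [← hg, Sylow.coe_subgroup_smul]
    exact Subgroup.smul_mem_pointwise_smul w (MulAut.conj g) (Q : Subgroup G)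
      (hQ (Subgroup.mem_zpowers w))
  refine ⟨g, ⟨_, hmem⟩, fun h => ?_, isPPart_conj hw g⟩
  have h1 : g * w * g⁻¹ = 1 := congrArg Subtype.val h
  rw [mul_inv_eq_one, mul_eq_left] at h1
  rw [h1, one_mul] at hv
  exact hv' (hv ▸ hz)

section Simple

variable [IsSimpleGroup G] (hG : ¬ IsMulCommutative G)

include hG in
/-- A nonprincipal irreducible character is faithful. -/
theorem eq_triv_of_apply_eq (χ : IrrCharacter G) {x : G} (hx : x ≠ 1)
    (h : (χ : G → ℂ) x = (χ : G → ℂ) 1) : χ = trivIrr := by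
  obtain ⟨χ, n, ρ, hρ, rfl⟩ := χ
  have hker : (MonoidHom.ker ρ : Subgroup G) = ⊤ :=
    ((MonoidHom.normal_ker ρ).eq_bot_or_eq_top).resolve_left fun hbot =>
      hx (Subgroup.mem_bot.1 (hbot ▸ (mem_ker_iff_char ρ x).2 h))
  refine Subtype.ext ?_
  exact char_eq_one_of_trivial ρ fun g => MonoidHom.mem_ker.1 (hker ▸ Subgroup.mem_top g)

include hG in
theorem eq_triv_of_degree_one (χ : IrrCharacter G) (h : (χ : G → ℂ) 1 = 1) : χ = trivIrr := by
  obtain ⟨f, hf⟩ := exists_hom_of_degree_one (irr_isCharacter χ.2) h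
  have hker : f.ker = ⊤ := by
    refine (f.normal_ker.eq_bot_or_eq_top).resolve_left fun hbot => hG ?_
    exact ⟨⟨fun a b => (MonoidHom.ker_eq_bot_iff f).1 hbot (by rw [map_mul, map_mul, mul_comm])⟩⟩
  refine Subtype.ext (funext fun g => ?_)
  have h1 : f g = 1 := MonoidHom.mem_ker.1 (hker ▸ Subgroup.mem_top g)
  simp only [hf, h1, trivIrr, Units.val_one]

variable {P : Sylow p G} (hab : IsMulCommutative (P : Subgroup G))

include hM hG hab in
open scoped Classical in
/-- No simple group has all nonidentity elements of an abelian Sylow subgroup conjugate, a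
`p`-nilpotent centralizer of one of them, and at least half of the products singular. -/
theorem false_of_one_class (hq : 3 ≤ Nat.card (P : Subgroup G)) {x : (P : Subgroup G)} (hx : x ≠ 1)
    (hcl : ∀ y : (P : Subgroup G), y ≠ 1 → IsConj (x : G) (y : G))
    (hC : HasNormalPComplement p (Subgroup.centralizer ({(x : G)} : Set G)))
    (hhalf : 2 * (Finset.univ.filter fun t : G =>
      ¬ p ∣ orderOf ((x : G) * (t * (x : G) * t⁻¹))).card ≤ Nat.card G) : False := by
  have := isPrime_of_pmodular hM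
  set q : ℕ := Nat.card (P : Subgroup G) with hqdef
  set B := blk M G with hB
  have hsec := principal_section hM (FrobP.isPPow x) hC
  have hconst : ∀ χ ∈ B, ∀ z : G, p ∣ orderOf z → (χ : G → ℂ) z = (χ : G → ℂ) x := by
    intro χ hχ z hz
    obtain ⟨g, y, hy, hyz⟩ := exists_conj_ppart P hz
    obtain ⟨c, hc⟩ := isConj_iff.1 (hcl y hy)
    obtain ⟨v, hv, hvc, -, hv'⟩ := isPPart_conj hyz c⁻¹
    have e : c⁻¹ * (y : G) * c⁻¹⁻¹ = x := by rw [← hc]; group
    rw [e] at hv hvc
    rw [← irr_isClassFunction χ.2 z g, ← irr_isClassFunction χ.2 (g * z * g⁻¹) c⁻¹, ← hv]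
    exact hsec.1 χ (mem_blk.1 hχ) v hvc hv'
  have hval : ∀ χ : IrrCharacter G, χ ∈ B → ∃ (a : ℤ) (d k : ℕ), (χ : G → ℂ) x = a ∧
      (χ : G → ℂ) 1 = d ∧ (d : ℤ) + ((q : ℤ) - 1) * a = q * k := by
    intro χ hχ
    obtain ⟨k, hk⟩ := sum_conj_subgroup_eq (P : Subgroup G) χ
    obtain ⟨d, hd⟩ := char_apply_one_eq_nat (irr_isCharacter χ.2)
    rw [← Finset.add_sum_erase _ _ (Finset.mem_univ (1 : (P : Subgroup G))),
      Finset.sum_congr rfl (g := fun _ => conj ((χ : G → ℂ) x)) (fun y hy => by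
        rw [hconst χ hχ y (FrobP.dvd_orderOf (Finset.mem_erase.1 hy).1)]),
      Finset.sum_const, Finset.card_erase_of_mem (Finset.mem_univ _), Finset.card_univ,
      ← Nat.card_eq_fintype_card, ← hqdef, Subgroup.coe_one, hd, Complex.conj_natCast,
      nsmul_eq_mul, Nat.cast_sub (by omega)] at hk
    push_cast at hk
    have hq1 : ((q : ℂ) - 1) ≠ 0 := by
      have : ((q - 1 : ℕ) : ℂ) ≠ 0 := by exact_mod_cast (show q - 1 ≠ 0 by omega)
      rwa [Nat.cast_sub (by omega), Nat.cast_one] at this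
    have hx' : conj ((χ : G → ℂ) x) = ((((q : ℚ) * k - d) / (q - 1) : ℚ) : ℂ) := by
      push_cast
      rw [eq_div_iff hq1]
      linear_combination hk
    have hx'' : (χ : G → ℂ) x = ((((q : ℚ) * k - d) / (q - 1) : ℚ) : ℂ) := by
      have := congrArg conj hx'
      rwa [Complex.conj_conj, map_ratCast] at this
    obtain ⟨a, ha⟩ := exists_int_of_isIntegral_rat (hx'' ▸ irr_isIntegral χ (x : G))
    refine ⟨a, d, k, ?_, hd, ?_⟩
    · rw [hx'', ha, Rat.cast_intCast]
    · have h2 : ((d : ℤ) + ((q : ℤ) - 1) * a : ℂ) = ((q * k : ℤ) : ℂ) := by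
        have h3 : conj ((χ : G → ℂ) x) = (a : ℂ) := by rw [hx', ha, Rat.cast_intCast]
        rw [h3] at hk
        push_cast
        linear_combination hk
      exact_mod_cast h2
  choose! a d k ha hd hk using hval
  have hB1 : (trivIrr : IrrCharacter G) ∈ B := trivIrr_mem_blk hM
  have ha1 : a (trivIrr : IrrCharacter G) = 1 := by
    have h := (ha _ hB1).symm
    simp only [trivIrr] at h
    exact_mod_cast h
  have hd1 : d (trivIrr : IrrCharacter G) = 1 := by
    have h := (hd _ hB1).symm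
    simp only [trivIrr] at h
    exact_mod_cast h
  have hd0 : ∀ χ ∈ B, 0 < d χ := fun χ hχ => Nat.pos_of_ne_zero fun h =>
    irr_apply_one_ne_zero χ.2 (by rw [hd χ hχ, h, Nat.cast_zero])
  have hnorm : ∑ χ ∈ B, (a χ : ℂ) ^ 2 = (q : ℂ) := by
    have h := hsec.2
    rw [FrobP.card_cen_part hab x, finsum_mem_eq_finite_toFinset_sum _ (Set.toFinite _)] at h
    rw [← h]
    exact Finset.sum_congr rfl fun χ hχ => by rw [ha χ hχ, map_intCast]; ring
  have hκ : ∀ χ ∈ B, regCoef p χ =
      (if χ = trivIrr then 1 else 0) - (a χ : ℂ) * singFrac p G := fun χ hχ => by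
    rw [regCoef_eq χ (fun y hy => hconst χ hχ y hy), ha χ hχ, map_intCast]
  -- evaluation at `x` and at the identity
  have hxs : p ∣ orderOf (x : G) := FrobP.dvd_orderOf hx
  have hs : singFrac p G * q = 1 := by
    have h := regInd hM (x : G)
    rw [if_pos hxs, Finset.sum_congr rfl (g := fun χ =>
      (if χ = trivIrr then (a χ : ℂ) else 0) - singFrac p G * (a χ : ℂ) ^ 2) (fun χ hχ => by
        rw [hκ χ hχ, ha χ hχ]; split_ifs <;> ring), Finset.sum_sub_distrib,
      Finset.sum_ite_eq' B trivIrr, if_pos hB1, ha1, ← Finset.mul_sum, hnorm] at h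
    push_cast at h
    linear_combination -h
  have hlin : ∑ χ ∈ B, (a χ : ℂ) * (d χ : ℂ) = 0 := by
    have h := regInd hM (1 : G)
    rw [if_neg (by rw [orderOf_one]; exact hp.out.not_dvd_one), Finset.sum_congr rfl (g := fun χ =>
      (if χ = trivIrr then (d χ : ℂ) else 0) - singFrac p G * ((a χ : ℂ) * (d χ : ℂ))) (fun χ hχ => by
        rw [hκ χ hχ, hd χ hχ]; split_ifs <;> ring), Finset.sum_sub_distrib,
      Finset.sum_ite_eq' B trivIrr, if_pos hB1, hd1, ← Finset.mul_sum, Nat.cast_one,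
      sub_eq_self] at h
    exact (mul_eq_zero.1 h).resolve_left (fun e => by simp [e] at hs)
  set B' := B.erase trivIrr with hB'
  have hpairs := reg_pairs hM (x : G) (x : G)
  rw [Finset.sum_congr rfl (g := fun χ => (if χ = trivIrr then (a χ : ℂ) ^ 2 / d χ else 0) -
    singFrac p G * ((a χ : ℂ) ^ 3 / d χ)) (fun χ hχ => by
      rw [hκ χ hχ, ha χ hχ, hd χ hχ]; split_ifs <;> ring), Finset.sum_sub_distrib,
    Finset.sum_ite_eq' B trivIrr, if_pos hB1, ha1, hd1, ← Finset.mul_sum,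
    ← Finset.add_sum_erase _ _ hB1, ha1, hd1, ← hB'] at hpairs
  set N := (Finset.univ.filter fun t : G => ¬ p ∣ orderOf ((x : G) * (t * (x : G) * t⁻¹))).card
  have hreal : (Nat.card G : ℝ) * (1 - (1 / (q : ℝ)) *
      (1 + ∑ χ ∈ B', (a χ : ℝ) ^ 3 / (d χ : ℝ))) = (N : ℝ) := by
    have hq0 : (q : ℂ) ≠ 0 := by exact_mod_cast (show q ≠ 0 by omega)
    have hs' : singFrac p G = 1 / (q : ℂ) := by rw [eq_div_iff hq0]; exact hs
    rw [hs'] at hpairs
    apply Complex.ofReal_injective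
    push_cast
    rw [← hpairs]
    push_cast
    ring
  have hsum2 : 1 + ∑ χ ∈ B', (a χ : ℝ) ^ 2 = (q : ℝ) := by
    rw [← Finset.add_sum_erase _ _ hB1, ha1] at hnorm
    apply Complex.ofReal_injective
    push_cast
    rw [← hnorm]
    push_cast
    ring
  have hlin' : 1 + ∑ χ ∈ B', a χ * (d χ : ℤ) = 0 := by
    rw [← Finset.add_sum_erase _ _ hB1, ha1, hd1] at hlin
    push_cast at hlin
    apply Int.cast_injective (α := ℂ)
    push_cast
    linear_combination hlin
  have hterm : ∀ χ ∈ B', (a χ : ℝ) ^ 3 / (d χ : ℝ) ≤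
      if 0 < a χ then (a χ : ℝ) ^ 2 / 3 else 0 := by
    intro χ hχ
    obtain ⟨hne, hχB⟩ := Finset.mem_erase.1 hχ
    have hdpos : (0 : ℝ) < d χ := by exact_mod_cast hd0 χ hχB
    split_ifs with h
    · have hlt : a χ ^ 2 < (q : ℤ) := by
        have h1 : (a χ : ℝ) ^ 2 ≤ ∑ χ ∈ B', (a χ : ℝ) ^ 2 :=
          Finset.single_le_sum (f := fun χ => (a χ : ℝ) ^ 2) (fun i _ => sq_nonneg _) hχ
        have h2 : (a χ : ℝ) ^ 2 < (q : ℝ) := by linarith
        exact_mod_cast h2
      have hqa : 2 * a χ ≤ (q : ℤ) := by nlinarith [sq_nonneg (a χ - 1)]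
      have hda : (d χ : ℤ) ≠ a χ := fun e => hne (eq_triv_of_apply_eq hG χ
        (x := (x : G)) (fun e => hx (Subtype.ext e)) (by rw [ha χ hχB, hd χ hχB, ← e]; simp))
      have hkk := hk χ hχB
      have hkpos : a χ < (k χ : ℤ) := by
        rcases lt_trichotomy (a χ) (k χ : ℤ) with h' | h' | h'
        · exact h'
        · exact absurd (by rw [h'] at hkk ⊢; linarith) hda
        · exfalso
          have : (d χ : ℤ) ≤ a χ - q := by nlinarith
          have : (0 : ℤ) < d χ := by exact_mod_cast hd0 χ hχB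
          nlinarith
      have hdq : 3 * a χ ≤ (d χ : ℤ) := by nlinarith
      rw [div_le_div_iff₀ hdpos (by norm_num)]
      have hdq' : 3 * (a χ : ℝ) ≤ (d χ : ℝ) := by exact_mod_cast hdq
      nlinarith [sq_nonneg (a χ : ℝ)]
    · apply div_nonpos_of_nonpos_of_nonneg _ hdpos.le
      have h' : (a χ : ℝ) ≤ 0 := by exact_mod_cast not_lt.1 h
      nlinarith [sq_nonneg (a χ : ℝ)]
  obtain ⟨χ₀, hχ₀, hneg⟩ : ∃ χ ∈ B', a χ < 0 := by
    by_contra hno
    push Not at hno
    have : 0 ≤ ∑ χ ∈ B', a χ * (d χ : ℤ) :=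
      Finset.sum_nonneg fun χ hχ => mul_nonneg (hno χ hχ) (Int.natCast_nonneg _)
    linarith
  have hpos2 : ∑ χ ∈ B', (if 0 < a χ then (a χ : ℝ) ^ 2 / 3 else 0) ≤ ((q : ℝ) - 2) / 3 := by
    have h1 : ∑ χ ∈ B', (if 0 < a χ then (a χ : ℝ) ^ 2 else 0) + (a χ₀ : ℝ) ^ 2 ≤
        ∑ χ ∈ B', (a χ : ℝ) ^ 2 := by
      have h2 := Finset.single_le_sum (s := B')
        (f := fun χ => (a χ : ℝ) ^ 2 - if 0 < a χ then (a χ : ℝ) ^ 2 else 0)
        (fun i _ => by split_ifs <;> [simp; simpa using sq_nonneg (a i : ℝ)]) hχ₀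
      simp only [if_neg (not_lt.2 hneg.le), sub_zero, Finset.sum_sub_distrib] at h2
      linarith
    have h3 : (1 : ℝ) ≤ (a χ₀ : ℝ) ^ 2 := by
      have : (1 : ℤ) ≤ a χ₀ ^ 2 := by nlinarith
      exact_mod_cast this
    have h4 : ∑ χ ∈ B', (if 0 < a χ then (a χ : ℝ) ^ 2 / 3 else 0) =
        (∑ χ ∈ B', if 0 < a χ then (a χ : ℝ) ^ 2 else 0) / 3 := by
      rw [Finset.sum_div]
      exact Finset.sum_congr rfl fun χ _ => by split_ifs <;> simp
    rw [h4]
    linarith
  have hS := (Finset.sum_le_sum hterm).trans hpos2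
  have hN : 2 * (N : ℝ) ≤ (Nat.card G : ℝ) := by exact_mod_cast hhalf
  have hGpos : (0 : ℝ) < Nat.card G := by exact_mod_cast Nat.card_pos
  have hqR : (3 : ℝ) ≤ q := by exact_mod_cast hq
  have hkey : 1 - (1 / (q : ℝ)) * (1 + ∑ χ ∈ B', (a χ : ℝ) ^ 3 / (d χ : ℝ)) ≤ 1 / 2 := by
    by_contra hc
    push Not at hc
    nlinarith
  have h5 : (q : ℝ) - (1 + ∑ χ ∈ B', (a χ : ℝ) ^ 3 / (d χ : ℝ)) ≤ (q : ℝ) / 2 := by
    have := mul_le_mul_of_nonneg_left hkey (by linarith : (0 : ℝ) ≤ q)
    field_simp at this ⊢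
    linarith
  linarith

include hM hG hab in
open scoped Classical in
/-- No simple group has two elements of order `p` of the Sylow subgroup, with all products of
their conjugates singular. -/
theorem false_of_all_singular (hP1 : Nat.card (P : Subgroup G) ≠ 1)
    (hfrob : ∀ y : G, y ∈ (P : Subgroup G) → y ≠ 1 →
      Subgroup.centralizer ({y} : Set G) ⊓ FrobP.nP P =
        Subgroup.centralizer ((P : Subgroup G) : Set G))
    {m : ℕ} (hCN : (Subgroup.centralizer ((P : Subgroup G) : Set G)).relIndex (FrobP.nP P) = m)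
    (hm1 : 1 < m) (hm2 : m + 1 < Nat.card (P : Subgroup G)) {x y : (P : Subgroup G)} (hx : x ≠ 1)
    (hy : y ≠ 1) (hall : ∀ t : G, p ∣ orderOf ((x : G) * (t * (y : G) * t⁻¹))) : False := by
  have := isPrime_of_pmodular hM
  obtain ⟨r, ε, d, a, ζ, X, Y, D⟩ := FrobP.exists_data hM hab hP1 hfrob hCN hm1 hm2
  set c : IrrCharacter G → ℂ :=
    fun χ => (χ : G → ℂ) x * (χ : G → ℂ) y / (χ : G → ℂ) 1 with hc
  set g : G → ℂ := fun z => ∑ χ ∈ blk M G, c χ * (χ : G → ℂ) z with hg
  have hreg : ∀ z : G, ¬ p ∣ orderOf z → g z = 0 := by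
    intro z hz
    rw [← vanish_regular hM (z := z⁻¹) (by rwa [orderOf_inv]) (x : G) (y : G) hall]
    refine Finset.sum_congr rfl fun χ _ => ?_
    rw [irr_conj_eq χ.2, inv_inv]
    simp only [hc]
    ring
  have hXB : ∀ χ ∈ X, χ ∈ blk M G := fun χ hχ => mem_blk.2 (D.union ▸ Or.inl hχ)
  have hXsing : ∀ χ ∈ X, ∀ z : G, p ∣ orderOf z → (χ : G → ℂ) z = (a χ : ℂ) := by
    intro χ hχ z hz
    obtain ⟨h, w, hw, hwz⟩ := exists_conj_ppart P hz
    rw [← irr_isClassFunction χ.2 z h]
    exact D.val_X χ hχ _ w hwz hw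
  set s : ℂ := (Nat.card G : ℂ)⁻¹ * ∑ z ∈ Finset.univ.filter (fun z : G => p ∣ orderOf z), g z
  have hcX : ∀ χ ∈ X, c χ = (a χ : ℂ) * s := by
    intro χ hχ
    have h1 : classInner g (χ : G → ℂ) = c χ := by
      rw [show g = ∑ φ ∈ blk M G, c φ • (φ : G → ℂ) from funext fun z => by
        simp [hg, Finset.sum_apply], classInner_sum_left, Finset.sum_eq_single χ]
      · rw [classInner_smul_left, irr_classInner_self χ.2, mul_one]
      · intro φ _ hne
        rw [classInner_smul_left, irr_classInner_ne φ.2 χ.2 (fun e => hne (Subtype.ext e)),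
          mul_zero]
      · exact fun h => absurd (hXB χ hχ) h
    have h2 : ∑ z : G, g z * conj ((χ : G → ℂ) z) =
        ∑ z ∈ Finset.univ.filter (fun z : G => p ∣ orderOf z), g z * (a χ : ℂ) := by
      rw [Finset.sum_filter]
      refine Finset.sum_congr rfl fun z _ => ?_
      split_ifs with hz
      · rw [hXsing χ hχ z hz, map_intCast]
      · rw [hreg z hz, zero_mul]
    rw [← h1, classInner_def, h2, ← Finset.sum_mul]
    ring
  have hs : s = 1 := by
    have h := hcX _ D.one_mem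
    rw [D.one_a] at h
    simpa [hc, trivIrr] using h.symm
  have hX1 : X = {trivIrr} := by
    refine Set.eq_singleton_iff_unique_mem.2 ⟨D.one_mem, fun χ hχ => ?_⟩
    refine eq_triv_of_apply_eq hG χ (x := (x : G)) (fun e => hx (Subtype.ext e)) ?_
    have h := hcX χ hχ
    have hxv := hXsing χ hχ _ (FrobP.dvd_orderOf hx)
    rw [hs, mul_one, hc] at h
    simp only [hxv, hXsing χ hχ _ (FrobP.dvd_orderOf hy)] at h
    rw [div_eq_iff (irr_apply_one_ne_zero χ.2)] at h
    rw [hxv]
    exact mul_left_cancel₀ (Int.cast_ne_zero.2 (D.a_ne χ hχ)) h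
  obtain ⟨η, hη⟩ : Y.Nonempty := by
    by_contra h
    rw [Set.not_nonempty_iff_eq_empty] at h
    have h1 := D.card_Y
    have h2 := D.two_le
    rw [h] at h1
    simp at h1
    omega
  have hrel := D.relation η hη 1 (by rw [orderOf_one]; exact hp.out.not_dvd_one)
  rw [hX1, finsum_mem_singleton, D.one_a] at hrel
  obtain ⟨h, hh⟩ := char_apply_one_eq_nat (irr_isCharacter η.2)
  rw [hh] at hrel
  simp only [trivIrr, Int.cast_one, one_mul] at hrel
  have hint : ((r : ℤ) * d - ε) * (h : ℤ) + 1 = 0 := by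
    exact_mod_cast hrel
  have hh1 : h = 1 := by
    have : (h : ℤ) ∣ 1 := ⟨-((r : ℤ) * d - ε), by linarith⟩
    exact_mod_cast Int.eq_one_of_dvd_one (Int.natCast_nonneg h) this
  have hηt : η = trivIrr := eq_triv_of_degree_one hG η (by rw [hh, hh1, Nat.cast_one])
  exact (Set.disjoint_left.1 D.disj D.one_mem) (hηt ▸ hη)

include hM hG hab in
open scoped Classical in
/-- No simple group has a cyclic Sylow subgroup of order more than `p` in which all elements of
order `p` are conjugate, exactly one product in `p - 1` regular, and no product of order divisible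
by `p ^ 2`. -/
theorem false_of_cyclic_full (hP1 : Nat.card (P : Subgroup G) ≠ 1)
    (hfrob : ∀ y : G, y ∈ (P : Subgroup G) → y ≠ 1 →
      Subgroup.centralizer ({y} : Set G) ⊓ FrobP.nP P =
        Subgroup.centralizer ((P : Subgroup G) : Set G))
    (hCN : (Subgroup.centralizer ((P : Subgroup G) : Set G)).relIndex (FrobP.nP P) = p - 1)
    (hp2 : p ≠ 2) (hpq : p < Nat.card (P : Subgroup G))
    {x : (P : Subgroup G)} (hx : orderOf x = p)
    (horb : ∀ w : (P : Subgroup G), IsConj (x : G) (w : G) ↔ ∃ i ∈ Finset.Ico 1 p, w = x ^ i)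
    {y : (P : Subgroup G)} (hy : ¬ y ^ p = 1)
    (hsec : ∀ t : G, ¬ p ^ 2 ∣ orderOf ((x : G) * (t * (x : G) * t⁻¹)))
    (hcount : (p - 1) * (Finset.univ.filter fun t : G =>
      ¬ p ∣ orderOf ((x : G) * (t * (x : G) * t⁻¹))).card = Nat.card G) : False := by
  have := isPrime_of_pmodular hM
  have hp3 : 3 ≤ p := by
    have := hp.out.two_le
    omega
  set q : ℕ := Nat.card (P : Subgroup G) with hqdef
  obtain ⟨r, ε, d, a, ζ, X, Y, D⟩ :=
    FrobP.exists_data hM hab hP1 hfrob hCN (by omega) (by omega)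
  have hxne : x ≠ 1 := fun e => by
    rw [e, orderOf_one] at hx
    exact hp.out.ne_one hx.symm
  have hyne : y ≠ 1 := fun e => hy (by rw [e, one_pow])
  have hyx : ¬ IsConj (x : G) (y : G) := by
    intro h
    obtain ⟨i, -, hi⟩ := (horb y).1 h
    have hpx : x ^ p = 1 := orderOf_dvd_iff_pow_eq_one.1 (dvd_of_eq hx)
    rw [hi, ← pow_mul, mul_comm, pow_mul, hpx, one_pow] at hy
    exact hy rfl
  have := FrobP.finite_lam P
  have := Fintype.ofFinite (FrobP.Lam P)
  have := Fintype.ofFinite (FrobP.nP P)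
  have := Fintype.ofFinite (P : Subgroup G)
  set SX := (Set.toFinite X).toFinset with hSX
  set SY := (Set.toFinite Y).toFinset with hSY
  have hsplit : blk M G = SX ∪ SY := by
    ext χ
    rw [mem_blk, Finset.mem_union, Set.Finite.mem_toFinset, Set.Finite.mem_toFinset, D.union,
      Set.mem_union]
  have hdisj : Disjoint SX SY := Finset.disjoint_left.2 fun χ h h' =>
    Set.disjoint_left.1 D.disj ((Set.Finite.mem_toFinset _).1 h) ((Set.Finite.mem_toFinset _).1 h')
  have hsumB : ∀ f : IrrCharacter G → ℂ,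
      ∑ χ ∈ blk M G, f χ = ∑ χ ∈ SX, f χ + ∑ η ∈ SY, f η := fun f => by
    rw [hsplit, Finset.sum_union hdisj]
  have hYcard : SY.card = r := by
    rw [← D.card_Y, Nat.card_coe_set_eq, Set.ncard_eq_toFinset_card Y (Set.toFinite Y)]
  -- the constant vanishes
  have hq : (r : ℤ) * ((p : ℤ) - 1) + 1 = q := by
    have := D.card_eq
    zify [hp.out.one_le] at this
    exact this
  have hrbig : (p : ℤ) + 1 ≤ r := by
    obtain ⟨n, hn⟩ := IsPGroup.iff_card.1 P.2
    rw [← hqdef] at hn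
    have hn2 : 2 ≤ n := by
      by_contra hlt
      interval_cases n <;> simp at hn <;> omega
    have h2 : ((p : ℤ)) ^ 2 ≤ q := by
      exact_mod_cast hn ▸ Nat.pow_le_pow_right hp.out.pos hn2
    by_contra hlt
    push Not at hlt
    have h3 : (r : ℤ) * ((p : ℤ) - 1) ≤ (p : ℤ) * ((p : ℤ) - 1) :=
      mul_le_mul_of_nonneg_right (by omega) (by omega)
    nlinarith
  have hnorm := D.norm
  rw [finsum_mem_eq_finite_toFinset_sum _ (Set.toFinite X), ← hSX] at hnorm
  have htX : (trivIrr : IrrCharacter G) ∈ SX := (Set.Finite.mem_toFinset _).2 D.one_mem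
  have hX1 : (1 : ℤ) ≤ ∑ χ ∈ SX, a χ ^ 2 := by
    have h := Finset.single_le_sum (f := fun χ => a χ ^ 2) (fun χ _ => sq_nonneg _) htX
    simpa [D.one_a] using h
  have hd : d = 0 := by
    by_contra hd
    have h1 : (1 : ℤ) ≤ d ^ 2 := by nlinarith [mul_self_pos.2 hd]
    rw [Nat.cast_sub hp.out.one_le] at hnorm
    push_cast at hnorm
    nlinarith [sq_nonneg (d - ε), mul_le_mul_of_nonneg_left h1 (by omega : (0:ℤ) ≤ (r : ℤ) - 1)]
  subst hd
  have hε2 : (ε : ℂ) * ε = 1 := by rcases D.sign with h | h <;> simp [h]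
  have hsumX : ∑ χ ∈ SX, a χ ^ 2 = (p : ℤ) - 1 := by
    have : ε ^ 2 = 1 := by rcases D.sign with h | h <;> simp [h]
    rw [Nat.cast_sub hp.out.one_le] at hnorm
    push_cast at hnorm
    nlinarith
  -- the values on the singular elements
  have hXsing : ∀ χ ∈ SX, ∀ z : G, p ∣ orderOf z → (χ : G → ℂ) z = (a χ : ℂ) := by
    intro χ hχ z hz
    obtain ⟨h, w, hw, hwz⟩ := exists_conj_ppart P hz
    rw [← irr_isClassFunction χ.2 z h]
    exact D.val_X χ ((Set.Finite.mem_toFinset _).1 hχ) _ w hwz hw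
  set m : ℂ := ((p - 1 : ℕ) : ℂ) with hm
  have hmp : m = (p : ℂ) - 1 := by rw [hm, Nat.cast_sub hp.out.one_le, Nat.cast_one]
  have hYx : ∀ η ∈ SY, (η : G → ℂ) x = ε * m ∨ (η : G → ℂ) x = -ε := by
    intro η hη
    obtain ⟨ψ, hψ, rfl⟩ := (D.mem_Y η).1 ((Set.Finite.mem_toFinset _).1 hη)
    rw [D.val_Y ψ hψ (x : G) x (isPPart_self (FrobP.isPPow x) hp.out) hxne, Int.cast_zero,
      zero_add]
    have hset : {ψ' : FrobP.Lam P | ∃ n : FrobP.nP P, ψ' = FrobP.cl P n ψ} =
        ((Finset.univ.image fun n : FrobP.nP P => FrobP.cl P n ψ : Finset (FrobP.Lam P)) : Set _) := by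
      ext φ
      simp [eq_comm]
    rw [hset, finsum_mem_coe_finset]
    have hcard := FrobP.orbit_card hab hfrob hCN hψ
    have hsum : (Nat.card (FrobP.cP P) : ℂ) *
        ∑ φ ∈ Finset.univ.image (fun n : FrobP.nP P => FrobP.cl P n ψ), ((φ x : ℂˣ) : ℂ) =
        ∑ n : FrobP.nP P, ((ψ (FrobP.cj P n x) : ℂˣ) : ℂ) := by
      rw [← Finset.sum_fiberwise_of_maps_to (g := fun n => FrobP.cl P n ψ)
        (t := Finset.univ.image (fun n : FrobP.nP P => FrobP.cl P n ψ))
        (fun n hn => Finset.mem_image_of_mem _ hn), Finset.mul_sum]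
      refine Finset.sum_congr rfl fun φ hφ => ?_
      obtain ⟨n₀, -, rfl⟩ := Finset.mem_image.1 hφ
      rw [Finset.sum_congr rfl (g := fun _ => ((FrobP.cl P n₀ ψ x : ℂˣ) : ℂ)) (fun n hn => by
        rw [← FrobP.cl_apply, (Finset.mem_filter.1 hn).2]), Finset.sum_const,
        FrobP.fibre_cl hab hfrob hψ, nsmul_eq_mul]
    have horbsum : (∑ w : (P : Subgroup G), if IsConj (x : G) (w : G) then
        ((ψ w : ℂˣ) : ℂ) else 0) = ∑ i ∈ Finset.Ico 1 p, ((ψ x : ℂˣ) : ℂ) ^ i := by
      rw [← Finset.sum_filter, show (Finset.univ.filter fun w : (P : Subgroup G) =>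
        IsConj (x : G) (w : G)) = (Finset.Ico 1 p).image fun i => x ^ i from by
          ext w
          simp only [Finset.mem_filter, Finset.mem_univ, true_and, Finset.mem_image, horb w]
          exact ⟨fun ⟨i, hi, e⟩ => ⟨i, hi, e.symm⟩, fun ⟨i, hi, e⟩ => ⟨i, hi, e.symm⟩⟩,
        Finset.sum_image]
      · exact Finset.sum_congr rfl fun i _ => by rw [map_pow, Units.val_pow_eq_pow_val]
      · intro i hi j hj hij
        rw [Finset.mem_coe, Finset.mem_Ico] at hi hj
        exact pow_injOn_Iio_orderOf (Set.mem_Iio.2 (hx.symm ▸ hi.2))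
          (Set.mem_Iio.2 (hx.symm ▸ hj.2)) hij
    rw [← FrobP.sum_isConj hab hfrob hxne (fun w => ((ψ w : ℂˣ) : ℂ))] at hsum
    have hs := (mul_left_cancel₀ natCard_ne_zero hsum).trans
      (Eq.trans (by congr!) horbsum)
    rw [hs]
    have hpow : ((ψ x : ℂˣ) : ℂ) ^ p = 1 := by
      rw [← Units.val_pow_eq_pow_val, ← map_pow, orderOf_dvd_iff_pow_eq_one.1 (dvd_of_eq hx),
        map_one, Units.val_one]
    by_cases h1 : ((ψ x : ℂˣ) : ℂ) = 1
    · left
      simp [h1, hm]
    · right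
      have hg := geom_sum_mul ((ψ x : ℂˣ) : ℂ) p
      rw [hpow, sub_self, mul_eq_zero, sub_eq_zero] at hg
      have hg' := hg.resolve_right h1
      rw [Finset.sum_range_eq_add_Ico _ hp.out.pos, pow_zero] at hg'
      rw [eq_neg_of_add_eq_zero_right hg']
      ring
  have hYreal : ∀ η ∈ SY, conj ((η : G → ℂ) x) = (η : G → ℂ) x := by
    intro η hη
    rcases hYx η hη with h | h <;> simp [h, hm]
  have hYsq : ∀ η ∈ SY, (η : G → ℂ) x ^ 2 = ε * (m - 1) * (η : G → ℂ) x + m := by
    intro η hη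
    rcases hYx η hη with h | h <;> rw [h] <;> linear_combination (m : ℂ) * hε2
  -- degrees
  obtain ⟨η₀, hη₀⟩ : SY.Nonempty := by
    rw [← Finset.card_pos, hYcard]
    have := D.two_le
    omega
  obtain ⟨h, hh⟩ := char_apply_one_eq_nat (irr_isCharacter η₀.2)
  have hh0 : (h : ℂ) ≠ 0 := hh ▸ irr_apply_one_ne_zero η₀.2
  have hone : ¬ p ∣ orderOf (1 : G) := by rw [orderOf_one]; exact hp.out.not_dvd_one
  have hY1 : ∀ η ∈ SY, (η : G → ℂ) 1 = h := fun η hη => by
    rw [D.regular η ((Set.Finite.mem_toFinset _).1 hη) η₀ ((Set.Finite.mem_toFinset _).1 hη₀) 1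
      hone, hh]
  have hrel := D.relation η₀ ((Set.Finite.mem_toFinset _).1 hη₀) 1 hone
  rw [finsum_mem_eq_finite_toFinset_sum _ (Set.toFinite X), ← hSX, hh] at hrel
  have hlin : ∑ χ ∈ SX, (a χ : ℂ) * (χ : G → ℂ) 1 = ε * h := by
    push_cast at hrel
    linear_combination hrel
  -- columns
  have hcol1 : ∀ w : (P : Subgroup G), w ≠ 1 → ∑ η ∈ SY, (η : G → ℂ) w = -(ε : ℂ) := by
    intro w hw
    have h1 := blk_orth_reg hM hone (FrobP.dvd_orderOf (y := w⁻¹) (inv_ne_one.2 hw))
    rw [hsumB, Finset.sum_congr rfl (g := fun χ => (a χ : ℂ) * (χ : G → ℂ) 1) (fun χ hχ => by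
      rw [hXsing χ hχ _ (FrobP.dvd_orderOf (y := w⁻¹) (inv_ne_one.2 hw)), map_intCast, mul_comm]),
      hlin, Finset.sum_congr rfl (g := fun η : IrrCharacter G => (h : ℂ) * (η : G → ℂ) w) (fun η hη => by
        rw [hY1 η hη, irr_conj_eq η.2, Subgroup.coe_inv, inv_inv]), ← Finset.mul_sum] at h1
    exact mul_left_cancel₀ hh0 (by linear_combination h1)
  have hcolxy : ∑ η ∈ SY, (η : G → ℂ) x * (η : G → ℂ) y = -m := by
    have h1 := FrobP.column hM hab hfrob hyne (x : G) (FrobP.isPPow x)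
    rw [if_neg (fun e => hyx e.symm), finsum_mem_eq_finite_toFinset_sum _ (Set.toFinite _)] at h1
    change ∑ χ ∈ blk M G, _ = _ at h1
    rw [hsumB, Finset.sum_congr rfl (g := fun χ => ((a χ ^ 2 : ℤ) : ℂ)) (fun χ hχ => by
      rw [hXsing χ hχ _ (FrobP.dvd_orderOf hxne), hXsing χ hχ _ (FrobP.dvd_orderOf hyne),
        map_intCast]; push_cast; ring), ← Int.cast_sum, hsumX,
      Finset.sum_congr rfl (g := fun η : IrrCharacter G => (η : G → ℂ) x * (η : G → ℂ) y) (fun η hη => by
        rw [hYreal η hη, mul_comm])] at h1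
    push_cast at h1
    rw [hmp]
    linear_combination h1
  have hYcol : ∑ η ∈ SY, (η : G → ℂ) x = -(ε : ℂ) := hcol1 x hxne
  have hY2 : ∑ η ∈ SY, (η : G → ℂ) x ^ 2 = (r : ℂ) * m - m + 1 := by
    rw [Finset.sum_congr rfl hYsq, Finset.sum_add_distrib, ← Finset.mul_sum, hYcol,
      Finset.sum_const, hYcard, nsmul_eq_mul]
    linear_combination (-(m - 1)) * hε2
  -- the section of `y`
  set S : ℂ := ∑ χ ∈ SX, (a χ : ℂ) ^ 3 / (χ : G → ℂ) 1 with hS
  have hSid : S = ε * m ^ 2 / h := by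
    have hsec' : ∀ t w : G, IsPPart p ((x : G) * (t * (x : G) * t⁻¹)) w →
        ¬ IsConj w ((y⁻¹ : (P : Subgroup G)) : G) := by
      intro t w hw hc
      apply hsec t
      obtain ⟨j, hj⟩ := FrobP.isPPow y
      have hj2 : 2 ≤ j := by
        by_contra hlt
        apply hy
        refine Subtype.ext ?_
        rw [Subgroup.coe_pow, Subgroup.coe_one, ← orderOf_dvd_iff_pow_eq_one, hj]
        exact (pow_dvd_pow p (by omega : j ≤ 1)).trans (by rw [pow_one])
      obtain ⟨e, he⟩ := isConj_iff.1 hc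
      have hwo : orderOf w = p ^ j := by
        rw [← hj, ← orderOf_inv (y : G), ← Subgroup.coe_inv, ← he]
        exact ((MulAut.conj e).orderOf_eq w).symm
      obtain ⟨v, hv, hvc, -, hv'⟩ := hw
      rw [← hv, hvc.orderOf_mul_eq_mul_orderOf_of_coprime
        (by rw [hwo]; exact Nat.Coprime.pow_left j (hp.out.coprime_iff_not_dvd.2 hv')), hwo]
      exact Dvd.dvd.mul_right (pow_dvd_pow p hj2) _
    have h1 := vanish hM (isPPart_self (FrobP.isPPow y⁻¹) hp.out) (x : G) (x : G) hsec'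
    rw [hsumB, Finset.sum_congr rfl (g := fun χ => (a χ : ℂ) ^ 3 / (χ : G → ℂ) 1) (fun χ hχ => by
      rw [hXsing χ hχ _ (FrobP.dvd_orderOf hxne),
        hXsing χ hχ _ (FrobP.dvd_orderOf (inv_ne_one.2 hyne)), map_intCast]; ring), ← hS,
      Finset.sum_congr rfl (g := fun η : IrrCharacter G => (ε * (m - 1) * ((η : G → ℂ) x * (η : G → ℂ) y) +
        m * (η : G → ℂ) y) / h) (fun η hη => by
        rw [irr_conj_eq η.2, Subgroup.coe_inv, inv_inv, hY1 η hη, mul_assoc, ← sq, hYsq η hη]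
        ring), ← Finset.sum_div, Finset.sum_add_distrib, ← Finset.mul_sum, ← Finset.mul_sum,
      hcolxy, hcol1 y hyne] at h1
    linear_combination h1
  -- the total number of regular products
  obtain ⟨k, hkη⟩ : ∃ k : ℂ, ∀ η ∈ SY, regCoef p η = k :=
    ⟨regCoef p η₀, fun η hη => congrArg ((Nat.card G : ℂ)⁻¹ * ·)
      (Finset.sum_congr rfl fun z hz => by
        rw [D.regular η ((Set.Finite.mem_toFinset _).1 hη) η₀ ((Set.Finite.mem_toFinset _).1 hη₀) z
          (Finset.mem_filter.1 hz).2])⟩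
  set s := singFrac p G
  have hκ : ∀ χ ∈ SX, regCoef p χ =
      (if χ = trivIrr then 1 else 0) - (a χ : ℂ) * s := fun χ hχ => by
    rw [regCoef_eq χ (fun z hz => hXsing χ hχ z hz), map_intCast]
  have hXa : (1 : ℂ) * (a trivIrr : ℂ) = 1 := by rw [D.one_a]; simp
  have e1 : (r : ℂ) * k = s * ε := by
    have h1 := regInd hM (1 : G)
    rw [if_neg hone, hsumB, Finset.sum_congr rfl (g := fun χ =>
      (if χ = trivIrr then (1 : ℂ) else 0) - s * ((a χ : ℂ) * (χ : G → ℂ) 1)) (fun χ hχ => by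
        rw [hκ χ hχ]; split_ifs with he
        · subst he; rw [D.one_a]; simp [trivIrr]
        · ring),
      Finset.sum_sub_distrib, Finset.sum_ite_eq' SX trivIrr, if_pos htX, ← Finset.mul_sum, hlin,
      Finset.sum_congr rfl (g := fun _ => k * h) (fun η hη => by rw [hkη η hη, hY1 η hη]),
      Finset.sum_const, hYcard, nsmul_eq_mul] at h1
    exact mul_left_cancel₀ hh0 (by linear_combination h1)
  have e2 : 1 - s * m + k * (-(ε : ℂ)) = 0 := by
    have h1 := regInd hM (x : G)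
    rw [if_pos (FrobP.dvd_orderOf hxne), hsumB, Finset.sum_congr rfl (g := fun χ =>
      (if χ = trivIrr then (a χ : ℂ) else 0) - s * ((a χ ^ 2 : ℤ) : ℂ)) (fun χ hχ => by
        rw [hκ χ hχ, hXsing χ hχ _ (FrobP.dvd_orderOf hxne)]; push_cast; split_ifs <;> ring),
      Finset.sum_sub_distrib, Finset.sum_ite_eq' SX trivIrr, if_pos htX, ← Finset.mul_sum,
      ← Int.cast_sum, hsumX, D.one_a,
      Finset.sum_congr rfl (g := fun η : IrrCharacter G => k * (η : G → ℂ) (x : G))
        (fun η hη => by rw [hkη η hη]), ← Finset.mul_sum, hYcol] at h1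
    push_cast at h1
    rw [hmp]
    linear_combination h1
  set q' : ℂ := (r : ℂ) * m + 1 with hq'
  have hrC : (r : ℂ) ≠ 0 := by
    have := D.two_le
    exact_mod_cast (show r ≠ 0 by omega)
  have hqC : q' ≠ 0 := by
    rw [hq', hm]
    exact_mod_cast (show r * (p - 1) + 1 ≠ 0 by omega)
  have hsq : s * q' = r := by
    linear_combination (-(r : ℂ)) * e2 + (-(ε : ℂ)) * e1 + (-s) * hε2
  have hkq : k * q' = ε := by
    refine mul_left_cancel₀ hrC ?_
    linear_combination q' * e1 + (ε : ℂ) * hsq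
  have hreg := reg_pairs hM (x : G) (x : G)
  rw [hsumB, Finset.sum_congr rfl (g := fun χ => (if χ = trivIrr then (1 : ℂ) else 0) -
      s * ((a χ : ℂ) ^ 3 / (χ : G → ℂ) 1)) (fun χ hχ => by
        rw [hκ χ hχ, hXsing χ hχ _ (FrobP.dvd_orderOf hxne)]; split_ifs with he
        · subst he; rw [D.one_a]; simp [trivIrr]
        · ring),
    Finset.sum_sub_distrib, Finset.sum_ite_eq' SX trivIrr, if_pos htX, ← Finset.mul_sum, ← hS,
    Finset.sum_congr rfl (g := fun η : IrrCharacter G => k / h * ((η : G → ℂ) x ^ 2)) (fun η hη => by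
      rw [hkη η hη, hY1 η hη]; ring), ← Finset.mul_sum, hY2] at hreg
  have hcC : m * ((Finset.univ.filter fun t : G =>
      ¬ p ∣ orderOf ((x : G) * (t * (x : G) * t⁻¹))).card : ℂ) = (Nat.card G : ℂ) := by
    rw [hm]
    exact_mod_cast congrArg (Nat.cast : ℕ → ℂ) hcount
  rw [← hreg, mul_left_comm, mul_eq_left₀ natCard_ne_zero, hSid] at hcC
  have hfin : (m - 1) * (h : ℂ) = m * (m - 1) * ε := by
    have hh' : (h : ℂ) * (h : ℂ)⁻¹ = 1 := mul_inv_cancel₀ hh0
    have e : m * (q' * h - r * h * S + ε * ((r : ℂ) * m - m + 1)) = q' * h := by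
      calc m * (q' * h - r * h * S + ε * ((r : ℂ) * m - m + 1))
          = q' * h * (m * (1 - s * S + k / h * ((r : ℂ) * m - m + 1))) := by
            field_simp
            linear_combination (h : ℂ) * S * m * hsq - m * ((r : ℂ) * m - m + 1) * hkq
        _ = q' * h := by rw [hSid, hcC, mul_one]
    have e3 : (h : ℂ) * S = ε * m ^ 2 := by
      rw [hSid]
      field_simp
    refine mul_left_cancel₀ hqC ?_
    linear_combination e + m * r * e3
  have hm1 : m - 1 ≠ 0 := by
    rw [hm, sub_ne_zero]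
    exact_mod_cast (show p - 1 ≠ 1 by omega)
  have hhm : (h : ℂ) = m * ε :=
    mul_left_cancel₀ hm1 (by linear_combination hfin)
  obtain ⟨η₁, hη₁, hη₁x⟩ : ∃ η ∈ SY, (η : G → ℂ) x = ε * m := by
    by_contra hno
    push Not at hno
    rw [Finset.sum_congr rfl (g := fun _ => -(ε : ℂ))
      (fun η hη => (hYx η hη).resolve_left (hno η hη)), Finset.sum_const, hYcard,
      nsmul_eq_mul] at hYcol
    have h1 : ((r : ℕ) : ℂ) = ((1 : ℕ) : ℂ) := by
      push_cast
      linear_combination (-(ε : ℂ)) * hYcol + ((1 : ℂ) - r) * hε2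
    have := D.two_le
    have := Nat.cast_injective h1
    omega
  have htriv := eq_triv_of_apply_eq hG η₁ (fun e => hxne (Subtype.ext e))
    (by rw [hη₁x, hY1 η₁ hη₁, hhm, mul_comm])
  exact Finset.disjoint_left.1 hdisj htX (htriv ▸ hη₁)

end Simple

end CfsgLib.BlockB.PairProd
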