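import Cfsg.Agent.Lib.BlockB.CycInt
import Cfsg.Agent.Lib.Perm.PermChar
import Mathlib.LinearAlgebra.Projection
import Mathlib.LinearAlgebra.FiniteDimensional.Lemmas
import Mathlib.LinearAlgebra.FreeModule.Finite.Matrix

/-!
Virtual square roots `ψ` of the character `c ↦ [U : C_U(c)]` of a coprime group acting on an
elementary abelian `p`-group `U`.
-/

set_option autoImplicit false
set_option linter.unusedSectionVars false

open scoped ComplexConjugate

namespace CfsgLib.BlockB.Psi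

open CfsgLib.BlockB.CycInt

universe u v

variable {H : Type u} [Group H] [Fintype H] {p : ℕ} [Fact p.Prime] {N : ℕ} [NeZero N]
  {U : Type v} [AddCommGroup U] [Module (ZMod p) U] [Finite U]
  (ρ : Representation (ZMod p) H U)

/-- The fixed subspace of an element. -/
def fix (c : H) : Submodule (ZMod p) U := LinearMap.ker (ρ c - 1)

theorem mem_fix {c : H} {u : U} : u ∈ fix ρ c ↔ ρ c u = u := by
  rw [fix, LinearMap.mem_ker, LinearMap.sub_apply, Module.End.one_apply, sub_eq_zero]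

theorem fix_one : fix ρ 1 = ⊤ := Submodule.eq_top_iff'.2 fun u => (mem_fix ρ).2 (by simp)

/-- `ψ` is a square root of `c ↦ [D : C_D(c)]` that is divisible by `1 - ζ_p` where `c` moves
`D`. -/
structure IsPsi (N : ℕ) (D : Submodule (ZMod p) U) (ψ : H → ℂ) : Prop where
  inSpan : InSpan N ψ
  one : ψ 1 = 1
  norm : ∀ c, ψ c * conj (ψ c) * (Nat.card (D ⊓ fix ρ c : Submodule (ZMod p) U) : ℂ) =
    (Nat.card D : ℂ)
  div : ∀ c, ¬ D ≤ fix ρ c → Div p (ψ c)

/-- Existence of such a square root. -/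
def HasPsi (N : ℕ) (D : Submodule (ZMod p) U) : Prop := ∃ ψ, IsPsi ρ N D ψ


theorem natCard_sup {A B : Submodule (ZMod p) U} (h : Disjoint A B) :
    Nat.card (A ⊔ B : Submodule (ZMod p) U) = Nat.card A * Nat.card B := by
  rw [← Nat.card_prod]
  refine (Nat.card_congr (Equiv.ofBijective
    (fun x : A × B => (⟨(x.1 : U) + x.2, Submodule.add_mem_sup x.1.2 x.2.2⟩ :
      (A ⊔ B : Submodule (ZMod p) U))) ⟨fun a b hab => ?_, ?_⟩)).symm
  · have e : (a.1 : U) + a.2 = b.1 + b.2 := congrArg Subtype.val hab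
    have e' : (a.1 : U) - b.1 = b.2 - a.2 := by linear_combination (norm := module) e
    have h0 : (a.1 : U) - b.1 = 0 := Submodule.disjoint_def.1 h _
      (A.sub_mem a.1.2 b.1.2) (e' ▸ B.sub_mem b.2.2 a.2.2)
    exact Prod.ext (Subtype.ext (sub_eq_zero.1 h0))
      (Subtype.ext (sub_eq_zero.1 (e'.symm.trans h0)).symm)
  · rintro ⟨x, hx⟩
    obtain ⟨a, ha, b, hb, rfl⟩ := Submodule.mem_sup.1 hx
    exact ⟨(⟨a, ha⟩, ⟨b, hb⟩), rfl⟩

theorem hasPsi_bot : HasPsi ρ N ⊥ := by
  refine ⟨fun _ => 1, ⟨inSpan_of_char CfsgLib.Char.isCharacter_one, rfl, fun c => ?_,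
    fun c h => absurd bot_le h⟩⟩
  rw [bot_inf_eq, map_one, one_mul, one_mul]

theorem hasPsi_sup (hHN : Nat.card H ∣ N) {A B : Submodule (ZMod p) U}
    (hA : ∀ c, ∀ u ∈ A, ρ c u ∈ A) (hB : ∀ c, ∀ u ∈ B, ρ c u ∈ B) (hd : Disjoint A B)
    (h1 : HasPsi ρ N A) (h2 : HasPsi ρ N B) : HasPsi ρ N (A ⊔ B) := by
  obtain ⟨φ, hφ⟩ := h1
  obtain ⟨ψ, hψ⟩ := h2
  refine ⟨fun c => φ c * ψ c, ⟨hφ.inSpan.mul hψ.inSpan, by simp [hφ.one, hψ.one], fun c => ?_,
    fun c hc => ?_⟩⟩
  · have e : (A ⊔ B) ⊓ fix ρ c = (A ⊓ fix ρ c) ⊔ (B ⊓ fix ρ c) := by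
      refine le_antisymm (fun x hx => ?_) (sup_le (inf_le_inf_right _ le_sup_left)
        (inf_le_inf_right _ le_sup_right))
      obtain ⟨hx1, hx2⟩ := Submodule.mem_inf.1 hx
      obtain ⟨a, ha, b, hb, rfl⟩ := Submodule.mem_sup.1 hx1
      rw [mem_fix, map_add] at hx2
      have e' : ρ c a - a = b - ρ c b := by linear_combination (norm := module) hx2
      have h0 : ρ c a - a = 0 := Submodule.disjoint_def.1 hd _
        (A.sub_mem (hA c a ha) ha) (e' ▸ B.sub_mem hb (hB c b hb))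
      exact Submodule.add_mem_sup ⟨ha, (mem_fix ρ).2 (sub_eq_zero.1 h0)⟩
        ⟨hb, (mem_fix ρ).2 (sub_eq_zero.1 (e'.symm.trans h0)).symm⟩
    rw [e, natCard_sup (hd.mono inf_le_left inf_le_left), natCard_sup hd, Nat.cast_mul,
      Nat.cast_mul, ← hφ.norm c, ← hψ.norm c, map_mul]
    ring
  · rcases not_and_or.1 (fun h => hc (sup_le h.1 h.2)) with h | h
    · exact (hφ.div c h).mul_right (isIntegral_of_mem (hψ.inSpan.apply_mem hHN c))
    · exact (hψ.div c h).mul_left (isIntegral_of_mem (hφ.inSpan.apply_mem hHN c))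

/-- The restriction of a representation to an invariant subspace. -/
def sub (D : Submodule (ZMod p) U) (hD : ∀ c, ∀ u ∈ D, ρ c u ∈ D) :
    Representation (ZMod p) H D where
  toFun c := (ρ c).restrict (hD c)
  map_one' := LinearMap.ext fun u => Subtype.ext (by simp)
  map_mul' a b := LinearMap.ext fun u => Subtype.ext (by simp)

theorem sub_apply (D : Submodule (ZMod p) U) (hD : ∀ c, ∀ u ∈ D, ρ c u ∈ D) (c : H) (u : D) :
    (sub ρ D hD c u : U) = ρ c u := rfl

theorem hasPsi_of_sub (D : Submodule (ZMod p) U) (hD : ∀ c, ∀ u ∈ D, ρ c u ∈ D)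
    (h : HasPsi (sub ρ D hD) N ⊤) : HasPsi ρ N D := by
  obtain ⟨ψ, hψ⟩ := h
  refine ⟨ψ, ⟨hψ.inSpan, hψ.one, fun c => ?_, fun c hc => hψ.div c fun h' => hc fun u hu => ?_⟩⟩
  · have e : Nat.card (⊤ ⊓ fix (sub ρ D hD) c : Submodule (ZMod p) D) =
        Nat.card (D ⊓ fix ρ c : Submodule (ZMod p) U) :=
      Nat.card_congr
        { toFun := fun x => ⟨x.1, x.1.2,
            (mem_fix ρ).2 (congrArg Subtype.val ((mem_fix _).1 x.2.2))⟩
          invFun := fun x => ⟨⟨x.1, x.2.1⟩, trivial,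
            (mem_fix _).2 (Subtype.ext ((mem_fix ρ).1 x.2.2))⟩
          left_inv := fun x => rfl
          right_inv := fun x => rfl }
    have := hψ.norm c
    rwa [e, Nat.card_congr Submodule.topEquiv.toEquiv] at this
  · exact (mem_fix ρ).2 (congrArg Subtype.val ((mem_fix _).1 (h' (x := ⟨u, hu⟩) trivial)))

/-- The number of fixed points is a character. -/
theorem isCharacter_fixCount {Ω : Type*} [Fintype Ω] (act : H →* Equiv.Perm Ω) :
    Cfsg.IsCharacter H (fun c => (Nat.card {x : Ω // act c x = x} : ℂ)) := by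
  letI : MulAction H Ω := MulAction.compHom Ω act
  exact CfsgLib.Perm.isCharacter_permChar (G := H) (Ω := Ω)

/-- The action as permutations. -/
def toPerm : H →* Equiv.Perm U where
  toFun c := { toFun := ρ c, invFun := ρ c⁻¹,
               left_inv := fun u => by simp,
               right_inv := fun u => by simp }
  map_one' := by ext u; simp
  map_mul' a b := by ext u; simp

theorem isCharacter_card_fix : Cfsg.IsCharacter H (fun c => (Nat.card (fix ρ c) : ℂ)) := by
  have := Fintype.ofFinite U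
  refine Eq.subst (motive := Cfsg.IsCharacter H) ?_ (isCharacter_fixCount (toPerm ρ))
  funext c
  rw [Nat.card_congr (Equiv.subtypeEquivRight fun u => (mem_fix ρ).symm :
    {u : U // toPerm ρ c u = u} ≃ fix ρ c)]

theorem exists_card_fix (c : H) : ∃ e : ℕ, (Nat.card (fix ρ c) : ℂ) = (p : ℂ) ^ e :=
  ⟨Module.finrank (ZMod p) (fix ρ c), by
    rw [Module.natCard_eq_pow_finrank (K := ZMod p), Nat.card_zmod, Nat.cast_pow]⟩

theorem isCompl_fix_range (hcop : ¬ p ∣ Nat.card H) (c : H) :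
    IsCompl (fix ρ c) (LinearMap.range (ρ c - 1)) := by
  have hd : Disjoint (fix ρ c) (LinearMap.range (ρ c - 1)) := by
    rw [Submodule.disjoint_def]
    rintro x hx ⟨u, rfl⟩
    rw [mem_fix] at hx
    have hu : ρ c u = u + (ρ c - 1) u := by
      rw [LinearMap.sub_apply, Module.End.one_apply, add_sub_cancel]
    have hpow : ∀ k : ℕ, ρ (c ^ k) u = u + k • (ρ c - 1) u := by
      intro k
      induction k with
      | zero => simp
      | succ k ih =>
        rw [pow_succ', map_mul, Module.End.mul_apply, ih, map_add, map_nsmul, hx, succ_nsmul']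
        nth_rewrite 1 [hu]
        rw [add_assoc]
    have h := hpow (orderOf c)
    rw [pow_orderOf_eq_one, map_one, Module.End.one_apply, left_eq_add,
      ← Nat.cast_smul_eq_nsmul (ZMod p)] at h
    refine (smul_eq_zero.1 h).resolve_left fun h0 => hcop ?_
    exact ((ZMod.natCast_eq_zero_iff _ _).1 h0).trans (orderOf_dvd_natCard c)
  refine ⟨hd, codisjoint_iff.2 (Submodule.eq_top_of_disjoint _ _ ?_ hd)⟩
  rw [fix, add_comm, LinearMap.finrank_range_add_finrank_ker]

end CfsgLib.BlockB.Psi
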