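import Cfsg.Agent.Lib.BlockB.RelMcKayTools
import Cfsg.Agent.Lib.BlockB.RelGlauberman
import Cfsg.Agent.Lib.BlockB.HeisenbergPsi
import Cfsg.Agent.Lib.StructC.PSolvableQuot
import Cfsg.Agent.Lib.PLength.Constrained
import Cfsg.Agent.Lib.PLength.DerivedBound
import Cfsg.Agent.Lib.Char.Fixed

/-!
Real-valued irreducible characters of odd degree in solvable groups: as many in the group as in
the normalizer of a Sylow `2`-subgroup.
-/

set_option autoImplicit false
set_option linter.unusedSectionVars false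
set_option linter.style.haveILetI false

namespace CfsgLib.BlockB.RealOddDegree

open CfsgLib.Clifford CfsgLib.BlockB.McKay
open scoped ComplexConjugate

universe u

/-- Real-valued of odd degree. -/
abbrev RO {A : Type u} [Group A] (χ : A → ℂ) : Prop :=
  (∀ g, (χ g).im = 0) ∧ Odd (Cfsg.charDegree χ)

/-- The number of real irreducible characters of odd degree. -/
noncomputable def cnt (A : Type u) [Group A] : ℕ :=
  Nat.card {χ : Cfsg.IrrCharacter A // RO (χ : A → ℂ)}

/-- Those restricting to `M` as a multiple of `θ`. -/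
noncomputable def cntLin {A : Type u} [Group A] (M : Subgroup A) (θ : M → ℂ) : ℕ :=
  Nat.card {χ : Cfsg.IrrCharacter A //
    RO (χ : A → ℂ) ∧ ∀ m : M, (χ : A → ℂ) m = (χ : A → ℂ) 1 * θ m}

theorem ro_comp {A B : Type u} [Group A] [Group B] {π : A →* B} (hπ : Function.Surjective π)
    {γ : B → ℂ} : RO (γ ∘ π) ↔ RO γ := by
  refine and_congr ⟨fun h w => ?_, fun h x => h (π x)⟩ ?_
  · obtain ⟨x, rfl⟩ := hπ w
    exact h x
  · rw [Cfsg.charDegree, Cfsg.charDegree, Function.comp_apply, map_one]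

/-- Inflation along a surjection. -/
theorem card_kills {A B : Type u} [Group A] [Finite A] [Group B] [Finite B] (π : A →* B)
    (hπ : Function.Surjective π) :
    Nat.card {χ : Cfsg.IrrCharacter A //
      RO (χ : A → ℂ) ∧ ∀ a, π a = 1 → (χ : A → ℂ) a = (χ : A → ℂ) 1} = cnt B := by
  let F : {γ : Cfsg.IrrCharacter B // RO (γ : B → ℂ)} →
      {χ : Cfsg.IrrCharacter A //
        RO (χ : A → ℂ) ∧ ∀ a, π a = 1 → (χ : A → ℂ) a = (χ : A → ℂ) 1} :=
    fun γ => ⟨⟨_, CfsgLib.Char.isIrrCharacter_comp_surjective γ.1.2 π hπ⟩, (ro_comp hπ).2 γ.2,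
      fun a ha => by simp [ha]⟩
  refine (Nat.card_congr (Equiv.ofBijective F ⟨fun a b h => ?_, fun χ => ?_⟩)).symm
  · refine Subtype.ext (Subtype.ext (funext fun w => ?_))
    obtain ⟨x, rfl⟩ := hπ w
    exact congr_fun (congrArg (fun z : {χ : Cfsg.IrrCharacter A //
      RO (χ : A → ℂ) ∧ ∀ a, π a = 1 → (χ : A → ℂ) a = (χ : A → ℂ) 1} => (z.1 : A → ℂ)) h) x
  · obtain ⟨χ, hRO, hk⟩ := χ
    have hker : ∀ k t : A, π k = 1 → (χ : A → ℂ) (k * t) = (χ : A → ℂ) t := by
      intro k t hk1
      obtain ⟨n, ρ, hρ, hρe⟩ := χ.2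
      have h1 : ρ k = 1 := MonoidHom.mem_ker.1
        ((CfsgLib.Char.mem_ker_iff_char ρ k).2 (hρe.symm ▸ hk k hk1))
      rw [← hρe, Representation.character, Representation.character, map_mul, h1, one_mul]
    obtain ⟨γ, hγ, hγe⟩ := RelGlauberman.exists_factor π hπ χ.2 hker
    exact ⟨⟨⟨γ, hγ⟩, (ro_comp hπ).1 (hγe ▸ hRO)⟩, Subtype.ext (Subtype.ext hγe.symm)⟩

/-- The normalizer of the image of a Sylow subgroup, by inflation. -/
theorem cnt_norm_quot {A : Type u} [Group A] [Finite A] {p : ℕ} [Fact p.Prime] (P : Sylow p A)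
    (D : Subgroup A) [D.Normal] (N : Subgroup A)
    (hN : N = Subgroup.normalizer ((P : Subgroup A) : Set A)) :
    Nat.card {ψ : Cfsg.IrrCharacter N //
        RO (ψ : N → ℂ) ∧ ∀ n : N, (n : A) ∈ D → (ψ : N → ℂ) n = (ψ : N → ℂ) 1} =
      cnt (Subgroup.normalizer
        (((P.mapSurjective (QuotientGroup.mk'_surjective D) : Sylow p (A ⧸ D)) :
          Subgroup (A ⧸ D)) : Set (A ⧸ D))) := by
  set π := QuotientGroup.mk' D with hπ
  have hπs : Function.Surjective π := QuotientGroup.mk'_surjective D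
  set PQ : Sylow p (A ⧸ D) := P.mapSurjective hπs with hPQ
  set NQ := Subgroup.normalizer (((PQ : Subgroup (A ⧸ D))) : Set (A ⧸ D)) with hNQ
  have hmap : N.map π ≤ NQ := by
    rw [hN]
    exact Subgroup.le_normalizer_map π
  let ν : N →* NQ := (π.comp N.subtype).codRestrict NQ fun n => hmap ⟨n, n.2, rfl⟩
  have hν : Function.Surjective ν := by
    rintro ⟨w, hw⟩
    obtain ⟨g, rfl⟩ := hπs w
    let T := (PQ : Subgroup (A ⧸ D)).comap π
    obtain ⟨t, ht, htg⟩ := exists_mul_mem_normalizer P (T := T) (g := g)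
      (fun s hs => ⟨s, hs, rfl⟩) (fun s hs => by
        show π (g * s * g⁻¹) ∈ (PQ : Subgroup (A ⧸ D))
        rw [map_mul, map_mul, map_inv]
        exact (Subgroup.mem_normalizer_iff.1 hw (π s)).1 ⟨s, hs, rfl⟩)
    obtain ⟨q, hq, hqt⟩ := ht
    have hqN : q ∈ N := hN ▸ Subgroup.le_normalizer hq
    exact ⟨⟨q⁻¹ * (t * g), N.mul_mem (N.inv_mem hqN) (hN ▸ htg)⟩, Subtype.ext (by
      show π (q⁻¹ * (t * g)) = π g
      rw [map_mul, map_mul, map_inv, hqt, inv_mul_cancel_left])⟩
  rw [← card_kills ν hν]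
  refine Nat.card_congr (Equiv.subtypeEquivRight fun ψ => and_congr_right fun _ => ?_)
  exact forall_congr' fun n => imp_congr
    ((QuotientGroup.eq_one_iff (n : A)).symm.trans ⟨fun h => Subtype.ext h,
      fun h => congrArg Subtype.val h⟩) Iff.rfl

section Basic

variable {G : Type u} [Group G] [Fintype G] (K : Subgroup G) [K.Normal] [Fintype K]

/-- A real character of odd degree has a real constituent below. -/
theorem exists_real_constituent {χ : Cfsg.IrrCharacter G} (h : RO (χ : G → ℂ)) :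
    ∃ θ : K → ℂ, Cfsg.IsIrrCharacter K θ ∧ (∀ k, (θ k).im = 0) ∧
      Cfsg.classInner (fun k : K => (χ : G → ℂ) k) θ ≠ 0 := by
  classical
  obtain ⟨θ₀, hθ₀, hne₀⟩ := exists_irr_constituent_restrict (N := K) χ.2
  by_contra hno
  push Not at hno
  let X := {θ : Cfsg.IrrCharacter K //
    Cfsg.classInner (fun k : K => (χ : G → ℂ) k) (θ : K → ℂ) ≠ 0}
  have := Fintype.ofFinite X
  have hconj : ∀ θ : K → ℂ, Cfsg.classInner (fun k : K => (χ : G → ℂ) k) (fun k => conj (θ k)) =
      conj (Cfsg.classInner (fun k : K => (χ : G → ℂ) k) θ) := by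
    intro θ
    rw [CfsgLib.Char.classInner_def, CfsgLib.Char.classInner_def, map_mul, map_inv₀, map_natCast,
      map_sum]
    congr 1
    refine Finset.sum_congr rfl fun k _ => ?_
    rw [map_mul, Complex.conj_conj, Complex.conj_eq_iff_im.2 (h.1 _)]
  let σ : X → X := fun θ => ⟨⟨fun k => conj ((θ.1 : K → ℂ) k),
    CfsgLib.Char.isIrrCharacter_conj θ.1.2⟩, by rw [hconj]; simpa using θ.2⟩
  have heven : ∑ _θ : X, (1 : ZMod 2) = 0 := by
    refine Finset.sum_involution (fun θ _ => σ θ) (fun θ _ => CharTwo.add_self_eq_zero _)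
      (fun θ _ _ hfix => θ.2 (hno _ θ.1.2 fun k => Complex.conj_eq_iff_im.1
        (congrArg (fun x : X => (x.1 : K → ℂ) k) hfix)))
      (fun θ _ => Finset.mem_univ _) (fun θ _ => ?_)
    exact Subtype.ext (Subtype.ext (funext fun k => Complex.conj_conj _))
  set I := inertia (G := G) θ₀ with hI
  have hconstit : ∀ g : G,
      Cfsg.classInner (fun k : K => (χ : G → ℂ) k) (conjFn g θ₀) ≠ 0 := by
    intro g
    rw [show Cfsg.classInner (fun k : K => (χ : G → ℂ) k) (conjFn g θ₀) =
      Cfsg.classInner (fun k : K => (χ : G → ℂ) k) θ₀ from ?_]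
    · exact hne₀
    conv_lhs => arg 1; rw [← isCharacter_restrict_conj (N := K)
      (CfsgLib.Char.irr_isClassFunction χ.2) g]
    rw [CfsgLib.Char.classInner_def, CfsgLib.Char.classInner_def]
    congr 1
    exact Fintype.sum_equiv
      ⟨conjN g, conjN g⁻¹, fun n => by rw [← conjN_mul, inv_mul_cancel, conjN_one],
        fun n => by rw [← conjN_mul, mul_inv_cancel, conjN_one]⟩ _ _ fun n => rfl
  let F : G ⧸ I → X := Quotient.lift
    (fun g : G => (⟨⟨conjFn g⁻¹ θ₀, isIrrCharacter_conjFn hθ₀ g⁻¹⟩, hconstit g⁻¹⟩ : X)) (by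
      intro a b hab
      have hab' : a⁻¹ * b ∈ I := QuotientGroup.leftRel_apply.1 hab
      refine Subtype.ext (Subtype.ext ?_)
      show conjFn a⁻¹ θ₀ = conjFn b⁻¹ θ₀
      conv_rhs => rw [show b⁻¹ = (a⁻¹ * b)⁻¹ * a⁻¹ by group, ← conjFn_conjFn,
        mem_inertia_iff_conjFn.1 (I.inv_mem hab')])
  have hF : Function.Bijective F := by
    constructor
    · intro x y hxy
      induction x using Quotient.inductionOn with
      | _ a =>
        induction y using Quotient.inductionOn with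
        | _ b =>
          have h1 : conjFn a⁻¹ θ₀ = conjFn b⁻¹ θ₀ :=
            congrArg (fun φ : X => ((φ.1 : Cfsg.IrrCharacter K) : K → ℂ)) hxy
          refine Quotient.sound (QuotientGroup.leftRel_apply.2 (mem_inertia_iff_conjFn.2 ?_))
          have h2 := congrArg (conjFn b) h1
          rw [conjFn_conjFn, conjFn_conjFn, inv_mul_cancel, conjFn_one] at h2
          exact h2
    · rintro ⟨⟨φ, hφ⟩, hne⟩
      obtain ⟨g, hg⟩ := exists_conj_of_constituents χ.2 hθ₀ hφ hne₀ hne
      exact ⟨Quotient.mk _ g⁻¹, Subtype.ext (Subtype.ext (by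
        show conjFn g⁻¹⁻¹ θ₀ = φ
        rw [inv_inv, hg]))⟩
  rw [Finset.sum_const, Finset.card_univ, nsmul_eq_mul, mul_one, ← Nat.card_eq_fintype_card,
    ← Nat.card_congr (Equiv.ofBijective F hF), ← Subgroup.index_eq_card,
    ZMod.natCast_eq_zero_iff_even] at heven
  exact (Nat.not_even_iff_odd.2 (h.2.of_dvd_nat ((Dvd.intro _ rfl).trans
    (CfsgLib.Clifford.Degrees.index_inertia_mul_dvd K hθ₀ χ.2 hne₀)))) heven

/-- The inertia index and the degree below divide an odd degree. -/
theorem odd_below {χ : Cfsg.IrrCharacter G} (h : RO (χ : G → ℂ)) {θ : K → ℂ}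
    (hθ : Cfsg.IsIrrCharacter K θ)
    (hne : Cfsg.classInner (fun k : K => (χ : G → ℂ) k) θ ≠ 0) :
    Odd (inertia (G := G) θ).index ∧ Odd (Cfsg.charDegree θ) :=
  ⟨h.2.of_dvd_nat ((Dvd.intro _ rfl).trans
      (CfsgLib.Clifford.Degrees.index_inertia_mul_dvd K hθ χ.2 hne)),
    h.2.of_dvd_nat ((Dvd.intro_left _ rfl).trans
      (CfsgLib.Clifford.Degrees.index_inertia_mul_dvd K hθ χ.2 hne))⟩

/-- Over an invariant linear character, the restriction is scalar. -/
theorem over_invariant_iff {θ : K → ℂ} (hθ : Cfsg.IsIrrCharacter K θ) (h1 : θ 1 = 1)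
    (hinv : ∀ g : G, conjFn g θ = θ) (χ : Cfsg.IrrCharacter G) :
    Cfsg.classInner (fun k : K => (χ : G → ℂ) k) θ ≠ 0 ↔
      ∀ k : K, (χ : G → ℂ) k = (χ : G → ℂ) 1 * θ k := by
  constructor
  · intro h k
    have hr := restrict_eq_smul_of_invariant χ.2 hθ hinv h
    have h0 := congr_fun hr 1
    have hk := congr_fun hr k
    simp only [Pi.smul_apply, smul_eq_mul, h1, mul_one, OneMemClass.coe_one] at h0 hk
    rw [hk, h0]
  · intro h
    rw [show (fun k : K => (χ : G → ℂ) k) = (χ : G → ℂ) 1 • θ from funext h,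
      CfsgLib.Char.classInner_smul_left, CfsgLib.Char.irr_classInner_self hθ, mul_one]
    exact CfsgLib.Char.irr_apply_one_ne_zero χ.2

/-- A normal subgroup of odd order is in the kernel of every real character of odd degree. -/
theorem kills_odd (hK : Odd (Nat.card K)) {χ : Cfsg.IrrCharacter G} (h : RO (χ : G → ℂ)) :
    ∀ k : K, (χ : G → ℂ) k = (χ : G → ℂ) 1 := by
  obtain ⟨θ, hθ, hreal, hne⟩ := exists_real_constituent K h
  have hθ1 := CfsgLib.Char.eq_one_of_real_odd hK hθ hreal
  subst hθ1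
  intro k
  rw [(over_invariant_iff K hθ rfl (fun g => rfl) χ).1 hne k, mul_one]

/-- Below a character of odd degree a normal `2`-subgroup has linear constituents. -/
theorem linear_of_pgroup (hK : IsPGroup 2 K) {χ : Cfsg.IrrCharacter G} (h : RO (χ : G → ℂ))
    {θ : K → ℂ} (hθ : Cfsg.IsIrrCharacter K θ)
    (hne : Cfsg.classInner (fun k : K => (χ : G → ℂ) k) θ ≠ 0) : θ 1 = 1 := by
  obtain ⟨a, ha⟩ := IsPGroup.iff_card.1 hK
  have hd := CfsgLib.Clifford.Degrees.charDegree_dvd_card hθ
  rw [ha] at hd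
  obtain ⟨b, -, hb⟩ := (Nat.dvd_prime_pow Nat.prime_two).1 hd
  have hodd := (odd_below K h hθ hne).2
  rw [hb] at hodd
  rcases Nat.eq_zero_or_pos b with rfl | hb0
  · rw [← charDegree_cast (CfsgLib.Char.irr_isCharacter hθ), hb, pow_zero, Nat.cast_one]
  · exact absurd hodd (Nat.not_odd_iff_even.2 ((Nat.even_pow' hb0.ne').2 even_two))

open scoped Classical in
/-- The Clifford correspondence on real characters of odd degree. -/
theorem card_ro_inertia {θ : K → ℂ} (hθ : Cfsg.IsIrrCharacter K θ) (hreal : ∀ k, (θ k).im = 0)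
    (T : Subgroup G) [Fintype T] (hKT : K ≤ T) (hT : ∀ g, g ∈ T ↔ conjFn g θ = θ)
    (hidx : Odd T.index) :
    Nat.card {χ : Cfsg.IrrCharacter G //
        RO (χ : G → ℂ) ∧ Cfsg.classInner (fun k : K => (χ : G → ℂ) k) θ ≠ 0} =
      Nat.card {ψ : Cfsg.IrrCharacter T //
        RO (ψ : T → ℂ) ∧ Cfsg.classInner (fun k : K => (ψ : T → ℂ) ⟨(k : G), hKT k.2⟩) θ ≠ 0} := by
  have hdeg : ∀ ψ : T → ℂ, Cfsg.IsIrrCharacter T ψ →
      Cfsg.IsIrrCharacter G (Cfsg.indFun T ψ) →
      Cfsg.charDegree (Cfsg.indFun T ψ) = T.index * Cfsg.charDegree ψ := by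
    intro ψ hψ hi
    have h : ((Cfsg.charDegree (Cfsg.indFun T ψ) : ℕ) : ℂ) =
        ((T.index * Cfsg.charDegree ψ : ℕ) : ℂ) := by
      rw [Nat.cast_mul, charDegree_cast (CfsgLib.Char.irr_isCharacter hi),
        charDegree_cast (CfsgLib.Char.irr_isCharacter hψ), CfsgLib.Char.indFun_apply_one]
    exact_mod_cast h
  have hconjind : ∀ (ψ : T → ℂ) (g : G),
      Cfsg.indFun T (fun t => conj (ψ t)) g = conj (Cfsg.indFun T ψ g) := by
    intro ψ g
    rw [CfsgLib.Char.indFun_def, CfsgLib.Char.indFun_def, map_mul, map_inv₀, map_natCast, map_sum]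
    congr 1
    refine Finset.sum_congr rfl fun x _ => ?_
    by_cases hx : x⁻¹ * g * x ∈ T
    · rw [CfsgLib.Char.extendByZero_of_mem _ hx, CfsgLib.Char.extendByZero_of_mem _ hx]
    · rw [CfsgLib.Char.extendByZero_of_not_mem _ hx, CfsgLib.Char.extendByZero_of_not_mem _ hx,
        map_zero]
  let α := {χ : Cfsg.IrrCharacter G //
    RO (χ : G → ℂ) ∧ Cfsg.classInner (fun k : K => (χ : G → ℂ) k) θ ≠ 0}
  let β := {ψ : Cfsg.IrrCharacter T //
    RO (ψ : T → ℂ) ∧ Cfsg.classInner (fun k : K => (ψ : T → ℂ) ⟨(k : G), hKT k.2⟩) θ ≠ 0}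
  have hF : ∀ ψ : β, RO (Cfsg.indFun T (ψ.1 : T → ℂ)) ∧
      Cfsg.classInner (fun k : K => Cfsg.indFun T (ψ.1 : T → ℂ) k) θ ≠ 0 := fun ψ => by
    refine ⟨⟨fun g => ?_, ?_⟩, ?_⟩
    · rw [← Complex.conj_eq_iff_im, ← hconjind,
        show (fun t => conj ((ψ.1 : T → ℂ) t)) = (ψ.1 : T → ℂ) from
          funext fun t => Complex.conj_eq_iff_im.2 (ψ.2.1.1 t)]
    · rw [hdeg _ ψ.1.2 (indFun_inertia T hKT hθ hT ψ.1.2 ψ.2.2).1]
      exact hidx.mul ψ.2.1.2
    · rw [indFun_inertia_restrict T hKT hθ hT ψ.1.2 ψ.2.2]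
      exact ψ.2.2
  let F : β → α := fun ψ => ⟨⟨_, (indFun_inertia T hKT hθ hT ψ.1.2 ψ.2.2).1⟩, hF ψ⟩
  refine (Nat.card_congr (Equiv.ofBijective F ⟨fun ψ ψ' h => ?_, fun χ => ?_⟩)).symm
  · refine Subtype.ext (Subtype.ext ((indFun_inertia T hKT hθ hT ψ.1.2 ψ.2.2).2 _ ψ'.1.2 ψ'.2.2 ?_))
    have e : Cfsg.indFun T (ψ.1 : T → ℂ) = Cfsg.indFun T (ψ'.1 : T → ℂ) :=
      congrArg (fun x : α => ((x.1 : Cfsg.IrrCharacter G) : G → ℂ)) h
    rw [← e, CfsgLib.Char.irr_classInner_self (indFun_inertia T hKT hθ hT ψ.1.2 ψ.2.2).1]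
    exact one_ne_zero
  · obtain ⟨ψ, hψ, he, hm⟩ := exists_indFun_inertia T hKT hθ hT χ.1.2 χ.2.2
    have hne : Cfsg.classInner (fun k : K => ψ ⟨(k : G), hKT k.2⟩) θ ≠ 0 := by rw [hm]; exact χ.2.2
    have hψ' : Cfsg.IsIrrCharacter T (fun t => conj (ψ t)) := CfsgLib.Char.isIrrCharacter_conj hψ
    have hne' : Cfsg.classInner (fun k : K => conj (ψ ⟨(k : G), hKT k.2⟩)) θ ≠ 0 := by
      have e1 : Cfsg.classInner (fun k : K => conj (ψ ⟨(k : G), hKT k.2⟩)) θ =
          conj (Cfsg.classInner (fun k : K => ψ ⟨(k : G), hKT k.2⟩) θ) := by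
        rw [CfsgLib.Char.classInner_def, CfsgLib.Char.classInner_def, map_mul, map_inv₀,
          map_natCast, map_sum]
        congr 1
        exact Finset.sum_congr rfl fun k _ => by
          rw [map_mul, Complex.conj_conj, Complex.conj_eq_iff_im.2 (hreal k)]
      rw [e1]
      simpa using hne
    have heq : Cfsg.indFun T (fun t => conj (ψ t)) = Cfsg.indFun T ψ := funext fun g => by
      rw [hconjind, he]
      exact Complex.conj_eq_iff_im.2 (χ.2.1.1 g)
    have hreq : ψ = fun t => conj (ψ t) :=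
      (indFun_inertia T hKT hθ hT hψ hne).2 _ hψ' hne' (by
        rw [heq, CfsgLib.Char.irr_classInner_self (indFun_inertia T hKT hθ hT hψ hne).1]
        exact one_ne_zero)
    refine ⟨⟨⟨ψ, hψ⟩, ⟨fun t => Complex.conj_eq_iff_im.1 (congr_fun hreq t).symm, ?_⟩, hne⟩,
      Subtype.ext (Subtype.ext he)⟩
    have hd := χ.2.1.2
    rw [← he, hdeg ψ hψ (he ▸ χ.1.2)] at hd
    exact (Nat.odd_mul.1 hd).2

end Basic

/-- Transport along an isomorphism. -/
theorem cntLin_congr {A B : Type u} [Group A] [Group B] [Finite A] [Finite B] (e : A ≃* B)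
    (M : Subgroup A) (M' : Subgroup B) (hM : ∀ a, a ∈ M ↔ e a ∈ M') {θ : M → ℂ} {θ' : M' → ℂ}
    (h : ∀ (m : M) (m' : M'), (m' : B) = e m → θ' m' = θ m) :
    cntLin M θ = cntLin M' θ' := by
  let ψ : Cfsg.IrrCharacter B ≃ Cfsg.IrrCharacter A :=
    { toFun := fun χ => ⟨(χ : B → ℂ) ∘ e,
        CfsgLib.Char.isIrrCharacter_comp_surjective χ.2 e.toMonoidHom e.surjective⟩
      invFun := fun χ => ⟨(χ : A → ℂ) ∘ e.symm,
        CfsgLib.Char.isIrrCharacter_comp_surjective χ.2 e.symm.toMonoidHom e.symm.surjective⟩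
      left_inv := fun χ => Subtype.ext (funext fun x => congrArg (χ : B → ℂ) (e.apply_symm_apply x))
      right_inv := fun χ => Subtype.ext (funext fun x => congrArg (χ : A → ℂ) (e.symm_apply_apply x)) }
  refine (Nat.card_congr (ψ.subtypeEquiv fun χ => ?_)).symm
  refine and_congr (ro_comp (π := e.toMonoidHom) e.surjective).symm ⟨fun hh m => ?_, fun hh m' => ?_⟩
  · show (χ : B → ℂ) (e m) = (χ : B → ℂ) (e 1) * θ m
    rw [map_one, ← h m ⟨e m, (hM m).1 m.2⟩ rfl]
    exact hh ⟨e m, (hM m).1 m.2⟩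
  · have hm : e.symm (m' : B) ∈ M := (hM _).2 (by rw [e.apply_symm_apply]; exact m'.2)
    have h1 : (χ : B → ℂ) (e (e.symm (m' : B))) = (χ : B → ℂ) (e 1) * θ ⟨_, hm⟩ :=
      hh ⟨_, hm⟩
    rw [map_one, e.apply_symm_apply, ← h ⟨_, hm⟩ m' (e.apply_symm_apply _).symm] at h1
    exact h1

/-- Below an invariant real linear character `θ`: in the group and in the normalizer of a Sylow
`2`-subgroup, given the count for the quotients by the kernel of `θ` and by the subgroup. -/
theorem cntLin_step {A : Type u} [Group A] [Fintype A] (P : Sylow 2 A) (M : Subgroup A) [M.Normal]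
    (hMP : M ≤ P) (θ : M →* ℂˣ) (hsq : ∀ m, θ m * θ m = 1)
    (hinv : ∀ (g : A) (m m' : M), (m' : A) = g * m * g⁻¹ → θ m' = θ m)
    (N : Subgroup A) (hN : N = Subgroup.normalizer ((P : Subgroup A) : Set A))
    (IH : ∀ (D : Subgroup A) [D.Normal], D ≤ M → (∀ m ∈ M, ∀ g, g * m * g⁻¹ * m⁻¹ ∈ D) →
      cnt (A ⧸ D) = cnt (Subgroup.normalizer
        (((P.mapSurjective (QuotientGroup.mk'_surjective D) : Sylow 2 (A ⧸ D)) :
          Subgroup (A ⧸ D)) : Set (A ⧸ D)))) :
    cntLin M (fun m => (θ m : ℂ)) =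
      cntLin (M.subgroupOf N) (fun m => (θ ⟨((m : N) : A), m.2⟩ : ℂ)) := by
  classical
  haveI := Fintype.ofFinite N
  have hMN : M ≤ N := hN ▸ hMP.trans Subgroup.le_normalizer
  have hcomm : ∀ D : Subgroup A, (∀ (m : A) (hm : m ∈ M), θ ⟨m, hm⟩ = 1 → m ∈ D) →
      ∀ m ∈ M, ∀ g, g * m * g⁻¹ * m⁻¹ ∈ D := by
    intro D hD m hm g
    have hm' : g * m * g⁻¹ ∈ M := (inferInstance : M.Normal).conj_mem m hm g
    refine hD _ (M.mul_mem hm' (M.inv_mem hm)) ?_
    rw [show (⟨g * m * g⁻¹ * m⁻¹, M.mul_mem hm' (M.inv_mem hm)⟩ : M) =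
      ⟨g * m * g⁻¹, hm'⟩ * ⟨m, hm⟩⁻¹ from rfl, map_mul, map_inv, hinv g ⟨m, hm⟩ ⟨_, hm'⟩ rfl,
      mul_inv_cancel]
  have hM := IH M le_rfl (fun m hm g =>
    M.mul_mem ((inferInstance : M.Normal).conj_mem m hm g) (M.inv_mem hm))
  rw [← card_kills (QuotientGroup.mk' M) (QuotientGroup.mk'_surjective M),
    ← cnt_norm_quot P M N hN] at hM
  simp only [QuotientGroup.mk'_apply, QuotientGroup.eq_one_iff] at hM
  by_cases hθ : ∀ m, θ m = 1
  · -- the trivial character
    refine Eq.trans ?_ (hM.trans ?_)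
    · exact Nat.card_congr (Equiv.subtypeEquivRight fun χ => and_congr_right fun _ =>
        ⟨fun h a ha => by have := h ⟨a, ha⟩; simpa [hθ] using this,
          fun h m => by simp [hθ, h m m.2]⟩)
    · exact Nat.card_congr (Equiv.subtypeEquivRight fun χ => and_congr_right fun _ =>
        ⟨fun h m => by simp [hθ, h (m : N) m.2],
          fun h n hn => by have := h ⟨n, hn⟩; simpa [hθ] using this⟩)
  push Not at hθ
  obtain ⟨m₀, hm₀⟩ := hθ
  set D := θ.ker.map M.subtype with hDdef
  have hDmem : ∀ (a : A) (ha : a ∈ M), a ∈ D ↔ θ ⟨a, ha⟩ = 1 := fun a ha => by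
    constructor
    · rintro ⟨m, hm, rfl⟩
      exact MonoidHom.mem_ker.1 hm
    · exact fun h => ⟨⟨a, ha⟩, MonoidHom.mem_ker.2 h, rfl⟩
  haveI : D.Normal := ⟨by
    rintro _ ⟨m, hm, rfl⟩ g
    have hm' : g * (m : A) * g⁻¹ ∈ M := (inferInstance : M.Normal).conj_mem _ m.2 g
    exact (hDmem _ hm').2 ((hinv g m ⟨_, hm'⟩ rfl).trans (MonoidHom.mem_ker.1 hm))⟩
  have hDM : D ≤ M := Subgroup.map_subtype_le _
  have hD := IH D hDM (hcomm D fun a ha => (hDmem a ha).2)
  rw [← card_kills (QuotientGroup.mk' D) (QuotientGroup.mk'_surjective D),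
    ← cnt_norm_quot P D N hN] at hD
  simp only [QuotientGroup.mk'_apply, QuotientGroup.eq_one_iff] at hD
  -- splitting the characters trivial on the kernel
  have hsplit : ∀ (B : Type u) [Group B] [Fintype B] (f : B →* A) (M' : Subgroup B),
      (∀ b, b ∈ M' ↔ f b ∈ M) → (∀ a ∈ M, ∃ b, f b = a) → Function.Injective f →
      ∀ (θ' : M' → ℂ), (∀ (b : M') (hb : f b ∈ M), θ' b = (θ ⟨f b, hb⟩ : ℂ)) →
      Nat.card {χ : Cfsg.IrrCharacter B //
          RO (χ : B → ℂ) ∧ ∀ b, f b ∈ D → (χ : B → ℂ) b = (χ : B → ℂ) 1} =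
        Nat.card {χ : Cfsg.IrrCharacter B //
          RO (χ : B → ℂ) ∧ ∀ b, f b ∈ M → (χ : B → ℂ) b = (χ : B → ℂ) 1} + cntLin M' θ' := by
    intro B _ _ f M' hM' hsurj hinj θ' hθ'
    obtain ⟨b₀, hb₀⟩ := hsurj m₀ m₀.2
    let P₁ : Cfsg.IrrCharacter B → Prop := fun χ =>
      RO (χ : B → ℂ) ∧ ∀ b, f b ∈ M → (χ : B → ℂ) b = (χ : B → ℂ) 1
    let P₂ : Cfsg.IrrCharacter B → Prop := fun χ =>
      RO (χ : B → ℂ) ∧ ∀ m : M', (χ : B → ℂ) m = (χ : B → ℂ) 1 * θ' m
    have hval : ∀ m : M, θ m = 1 ∨ θ m = -1 := fun m => by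
      rcases mul_self_eq_one_iff.1 (show ((θ m : ℂˣ) : ℂ) * (θ m : ℂˣ) = 1 by
        rw [← Units.val_mul, hsq, Units.val_one]) with h | h
      · exact Or.inl (Units.ext h)
      · exact Or.inr (Units.ext h)
    have hdisj : Disjoint P₁ P₂ := by
      rw [disjoint_iff_inf_le]
      rintro χ ⟨⟨-, h1⟩, -, h2⟩
      have hb : b₀ ∈ M' := (hM' b₀).2 (hb₀ ▸ m₀.2)
      have h3 := h2 ⟨b₀, hb⟩
      rw [h1 b₀ (hb₀ ▸ m₀.2), hθ' _ (hb₀ ▸ m₀.2),
        show (⟨f b₀, hb₀ ▸ m₀.2⟩ : M) = m₀ from Subtype.ext hb₀] at h3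
      exact hm₀ (Units.ext (mul_left_cancel₀ (CfsgLib.Char.irr_apply_one_ne_zero χ.2)
        ((mul_one _).trans h3)).symm)
    refine Eq.trans (Nat.card_congr (Equiv.subtypeEquivRight fun χ => ?_))
      ((Nat.card_congr (subtypeOrEquiv P₁ P₂ hdisj)).trans Nat.card_sum)
    constructor
    · rintro ⟨hRO, hk⟩
      -- modulo the kernel the subgroup is central of order two
      haveI : (D.comap f).Normal := inferInstance
      have hker : ∀ k t : B, QuotientGroup.mk' (D.comap f) k = 1 →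
          (χ : B → ℂ) (k * t) = (χ : B → ℂ) t := by
        intro k t hk1
        obtain ⟨n, ρ, hρ, hρe⟩ := χ.2
        have h1 : ρ k = 1 := MonoidHom.mem_ker.1 ((CfsgLib.Char.mem_ker_iff_char ρ k).2
          (hρe.symm ▸ hk k ((QuotientGroup.eq_one_iff k).1 hk1)))
        rw [← hρe, Representation.character, Representation.character, map_mul, h1, one_mul]
      obtain ⟨γ, hγ, hγe⟩ := RelGlauberman.exists_factor (QuotientGroup.mk' (D.comap f))
        (QuotientGroup.mk'_surjective _) χ.2 hker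
      set x : B ⧸ D.comap f := QuotientGroup.mk' (D.comap f) b₀ with hx
      have hxc : ∀ w, x * w = w * x := by
        intro w
        obtain ⟨g, rfl⟩ := QuotientGroup.mk'_surjective _ w
        rw [hx, ← map_mul, ← map_mul]
        refine (QuotientGroup.eq).2 ?_
        show f ((b₀ * g)⁻¹ * (g * b₀)) ∈ D
        have h1 := hcomm D (fun a ha => (hDmem a ha).2) _ (M.inv_mem (hb₀ ▸ m₀.2 : f b₀ ∈ M))
          ((f g)⁻¹)
        rw [inv_inv, inv_inv] at h1
        simpa [map_mul, map_inv, mul_assoc] using h1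
      obtain ⟨ω, -, hω⟩ := HeisenbergPsi.central_scalar hγ (x := x) hxc
      have hx2 : x * x = 1 := by
        rw [hx, ← map_mul]
        refine (QuotientGroup.eq_one_iff _).2 ?_
        show f (b₀ * b₀) ∈ D
        rw [map_mul, hb₀]
        exact (hDmem _ (M.mul_mem m₀.2 m₀.2)).2 ((map_mul θ m₀ m₀).trans (hsq m₀))
      have hχx : ∀ b, f b ∈ M → (χ : B → ℂ) b =
          (χ : B → ℂ) 1 * (if f b ∈ D then 1 else ω) := by
        intro b hb
        by_cases hbD : f b ∈ D
        · rw [if_pos hbD, mul_one, hk b hbD]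
        rw [if_neg hbD]
        have hq : QuotientGroup.mk' (D.comap f) b = x := by
          rw [hx]
          refine (QuotientGroup.eq).2 ?_
          show f (b⁻¹ * b₀) ∈ D
          rw [map_mul, map_inv, hb₀]
          refine (hDmem _ (M.mul_mem (M.inv_mem hb) m₀.2)).2 ?_
          rw [show (⟨(f b)⁻¹ * (m₀ : A), M.mul_mem (M.inv_mem hb) m₀.2⟩ : M) =
            ⟨f b, hb⟩⁻¹ * m₀ from rfl, map_mul, map_inv]
          rcases hval ⟨f b, hb⟩ with h | h
          · exact absurd ((hDmem _ hb).2 h) hbD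
          · rcases hval m₀ with h' | h'
            · exact absurd h' hm₀
            · rw [h, h', inv_mul_cancel]
        have h2 := hω 1
        rw [mul_one] at h2
        rw [hγe, Function.comp_apply, Function.comp_apply, map_one, hq, h2, mul_comm]
      have hω2 : ω * ω = 1 := by
        have h1 := hω x
        have h2 := hω 1
        rw [mul_one] at h2
        rw [hx2, h2, ← mul_assoc] at h1
        exact mul_right_cancel₀ (CfsgLib.Char.irr_apply_one_ne_zero hγ)
          ((one_mul (γ 1)).trans h1).symm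
      rcases mul_self_eq_one_iff.1 hω2 with hω1 | hω1
      · refine Or.inl ⟨hRO, fun b hb => ?_⟩
        rw [hχx b hb, hω1]; simp
      · refine Or.inr ⟨hRO, fun m => ?_⟩
        have hb : f m ∈ M := (hM' m).1 m.2
        rw [hχx m hb, hθ' m hb, hω1]
        congr 1
        by_cases hbD : f m ∈ D
        · rw [if_pos hbD, (hDmem _ hb).1 hbD, Units.val_one]
        · rw [if_neg hbD]
          rcases hval ⟨f m, hb⟩ with h | h
          · exact absurd ((hDmem _ hb).2 h) hbD
          · rw [h, Units.val_neg, Units.val_one]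
    · rintro (⟨hRO, h⟩ | ⟨hRO, h⟩)
      · exact ⟨hRO, fun b hb => h b (hDM hb)⟩
      · refine ⟨hRO, fun b hb => ?_⟩
        rw [h ⟨b, (hM' b).2 (hDM hb)⟩, hθ' _ (hDM hb), (hDmem _ (hDM hb)).1 hb, Units.val_one,
          mul_one]
  have h1 := hsplit A (MonoidHom.id A) M (fun b => Iff.rfl) (fun a _ => ⟨a, rfl⟩)
    Function.injective_id (fun m => (θ m : ℂ)) (fun b hb => rfl)
  have h2 := hsplit N N.subtype (M.subgroupOf N) (fun b => Iff.rfl)
    (fun a ha => ⟨⟨a, hMN ha⟩, rfl⟩) N.subtype_injective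
    (fun m => (θ ⟨((m : N) : A), m.2⟩ : ℂ)) (fun b hb => rfl)
  simp only [MonoidHom.id_apply, Subgroup.coe_subtype] at h1 h2
  omega

open scoped Classical in
/-- **Real characters of odd degree in a solvable group** are as many as in the normalizer of a
Sylow `2`-subgroup. -/
theorem cnt_eq : ∀ (n : ℕ) (G : Type u) [Group G] [Fintype G], Group.IsSolvable G → Nat.card G < n →
    ∀ P : Sylow 2 G, cnt G = cnt (Subgroup.normalizer ((P : Subgroup G) : Set G)) := by
  intro n
  induction n with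
  | zero => intro G _ _ _ h; exact absurd h (Nat.not_lt_zero _)
  | succ n ih =>
    intro G _ _ hsol hn P
    have h2 : Nat.Prime 2 := Nat.prime_two
    set N := Subgroup.normalizer ((P : Subgroup G) : Set G) with hN
    haveI := Fintype.ofFinite N
    by_cases hNtop : N = ⊤
    · exact (card_kills (N.subtype) (fun g => ⟨⟨g, hNtop ▸ Subgroup.mem_top g⟩, rfl⟩)).symm.trans
        (Nat.card_congr (Equiv.subtypeEquivRight fun χ => ⟨fun h => h.1, fun h => ⟨h, fun a ha => by
          rw [show a = 1 from Subtype.ext ha]⟩⟩))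
    haveI : (Cfsg.pPrimeCore 2 G).Normal := CfsgLib.Solvable.pPrimeCore_normal 2 G
    set K := Cfsg.pPrimeCore 2 G with hKdef
    have hKodd : Odd (Nat.card K) := Nat.coprime_two_right.1 (CfsgLib.Solvable.pPrimeCore_coprime 2)
    by_cases hK : K = ⊥
    swap
    · -- a normal subgroup of odd order is killed
      haveI := Fintype.ofFinite K
      haveI := Fintype.ofFinite (G ⧸ K)
      haveI := Fintype.ofFinite (K.subgroupOf N)
      have hlt : Nat.card (G ⧸ K) < n := by
        have h1 := K.index_mul_card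
        have h3 := Subgroup.one_lt_card_iff_ne_bot K |>.2 hK
        have h4 : K.index < K.index * Nat.card K :=
          lt_mul_of_one_lt_right (Nat.pos_of_ne_zero Subgroup.index_ne_zero_of_finite) h3
        rw [← Subgroup.index_eq_card]
        omega
      have hC : Odd (Nat.card (K.subgroupOf N)) := hKodd.of_dvd_nat (by
        rw [← Subgroup.card_map_of_injective N.subtype_injective, Subgroup.subgroupOf_map_subtype]
        exact Subgroup.card_dvd_of_le inf_le_left)
      have hih := ih (G ⧸ K) inferInstance hlt (P.mapSurjective (QuotientGroup.mk'_surjective K))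
      rw [← card_kills (QuotientGroup.mk' K) (QuotientGroup.mk'_surjective K),
        ← cnt_norm_quot P K N hN] at hih
      refine Eq.trans (Nat.card_congr (Equiv.subtypeEquivRight fun χ =>
          ⟨fun h => ⟨h, fun a ha => kills_odd K hKodd h ⟨a, (QuotientGroup.eq_one_iff a).1 ha⟩⟩,
            fun h => h.1⟩)) (hih.trans ?_)
      exact Nat.card_congr (Equiv.subtypeEquivRight fun χ =>
        ⟨fun h => h.1, fun h => ⟨h, fun a ha => kills_odd (K.subgroupOf N) hC h ⟨a, ha⟩⟩⟩)
    haveI : (Cfsg.pCore 2 G).Normal := CfsgLib.Solvable.pCore_normal 2 G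
    set M := Cfsg.pCore 2 G with hMdef
    have hMp : IsPGroup 2 M := CfsgLib.Solvable.pCore_isPGroup 2
    obtain ⟨k, hk⟩ := CfsgLib.PLength.isPSolvable_of_isSolvable (p := 2) _ G le_rfl hsol
    have hcen := CfsgLib.PLength.centralizer_pCore_le_of_isPSolvable hk.isPSolvable hK
    have hMP : M ≤ P := le_sup_left.trans (P.3 (hMp.to_sup_of_normal_left P.2) le_sup_right).le
    have hMN : M ≤ N := hMP.trans Subgroup.le_normalizer
    haveI := Fintype.ofFinite M
    haveI := Fintype.ofFinite (M.subgroupOf N)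
    let eM : M.subgroupOf N ≃* M := Subgroup.subgroupOfEquivOfLe hMN
    -- the bases
    let Ω : Set (Cfsg.IrrCharacter M) := {θ | (θ : M → ℂ) 1 = 1 ∧ (∀ m, ((θ : M → ℂ) m).im = 0) ∧
      ∀ s ∈ (P : Subgroup G), InvBy M s (θ : M → ℂ)}
    let PN : Sylow 2 N := P.subtype Subgroup.le_normalizer
    let Ω' : Set (Cfsg.IrrCharacter (M.subgroupOf N)) :=
      {θ | (θ : M.subgroupOf N → ℂ) 1 = 1 ∧ (∀ m, ((θ : M.subgroupOf N → ℂ) m).im = 0) ∧
        ∀ s ∈ (PN : Subgroup N), InvBy (M.subgroupOf N) s (θ : M.subgroupOf N → ℂ)}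
    haveI : Fintype Ω := Fintype.ofFinite _
    haveI : Fintype Ω' := Fintype.ofFinite _
    -- fibring over the normal subgroup
    have hfibre : ∀ (A : Type u) [Group A] [Fintype A] (PA : Sylow 2 A) (L : Subgroup A) [L.Normal]
        [Fintype L] (R : Subgroup A), R = Subgroup.normalizer ((PA : Subgroup A) : Set A) →
        IsPGroup 2 L →
        ∀ (Ω₀ : Set (Cfsg.IrrCharacter L)) [Fintype Ω₀],
        Ω₀ = {θ : Cfsg.IrrCharacter L | (θ : L → ℂ) 1 = 1 ∧ (∀ m, ((θ : L → ℂ) m).im = 0) ∧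
          ∀ s ∈ (PA : Subgroup A), InvBy L s (θ : L → ℂ)} →
        Nat.card R * Nat.card ({χ | RO (χ : A → ℂ)} : Set (Cfsg.IrrCharacter A)) = ∑ μ : Ω₀,
          Nat.card {χ : ({χ | RO (χ : A → ℂ)} : Set (Cfsg.IrrCharacter A)) //
              Cfsg.classInner (fun k : L => (χ.1 : A → ℂ) k) (μ.1 : L → ℂ) ≠ 0} *
            Nat.card {r : R // conjFn (r : A) (μ.1 : L → ℂ) = (μ.1 : L → ℂ)} := by
      intro A _ _ PA L _ _ R hR hL Ω₀ _ hΩ
      have hInv : ∀ (θ : L → ℂ) (x : A), InvBy L x θ ↔ conjFn x θ = θ := fun θ x => by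
        refine ⟨fun h => funext fun m => h m _ rfl, fun h k k' hk => ?_⟩
        have h1 := congr_fun h k
        rw [conjFn_apply] at h1
        rw [← h1]
        exact congrArg θ (Subtype.ext hk)
      subst hΩ
      refine fibre_count L R _ _ ?_ ?_ ?_
      · rintro μ ⟨hμ1, hμr, hμP⟩ r hr μ' hμ'
        refine ⟨?_, fun m => ?_, fun s hs => ?_⟩
        · rw [hμ', conjFn_apply, show conjN r (1 : L) = 1 from Subtype.ext (by simp)]
          exact hμ1
        · rw [hμ']; exact hμr _
        · rw [hInv, hμ', conjFn_conjFn]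
          calc conjFn (r * s) (μ : L → ℂ)
              = conjFn r (conjFn (r * s * r⁻¹) (μ : L → ℂ)) := by
                rw [conjFn_conjFn, inv_mul_cancel_right]
            _ = conjFn r (μ : L → ℂ) := by
                rw [(hInv _ _).1 (hμP _ ((Subgroup.mem_normalizer_iff.1 (hR ▸ hr) s).1 hs))]
      · intro χ hχ
        obtain ⟨θ, hθ, hreal, hne⟩ := exists_real_constituent L hχ
        have hθ1 := linear_of_pgroup L hL hχ hθ hne
        obtain ⟨x, -, hx⟩ := exists_conj_mem PA (T := inertia θ) (X := ⊤) le_top le_top (by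
          rw [Subgroup.relIndex_top_right]
          exact fun hd => (Nat.not_even_iff_odd.2 (odd_below L hχ hθ hne).1) (even_iff_two_dvd.2 hd))
        refine ⟨⟨_, isIrrCharacter_conjFn hθ x⟩, ⟨?_, fun m => ?_, fun s hs => ?_⟩, ?_⟩
        · show θ (conjN x 1) = 1
          rw [show conjN x (1 : L) = 1 from Subtype.ext (by simp)]
          exact hθ1
        · exact hreal _
        · rw [hInv]
          show conjFn s (conjFn x θ) = conjFn x θ
          rw [conjFn_conjFn]
          calc conjFn (x * s) θ = conjFn x (conjFn (x * s * x⁻¹) θ) := by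
                rw [conjFn_conjFn, inv_mul_cancel_right]
            _ = conjFn x θ := by rw [mem_inertia_iff_conjFn.1 (hx s hs)]
        · let c : L ≃* L :=
            { toFun := conjN x
              invFun := conjN x⁻¹
              left_inv := fun n => by rw [← conjN_mul, inv_mul_cancel, conjN_one]
              right_inv := fun n => by rw [← conjN_mul, mul_inv_cancel, conjN_one]
              map_mul' := fun a b => Subtype.ext (by simp [mul_assoc]) }
          show Cfsg.classInner (fun k : L => (χ : A → ℂ) k) (conjFn x θ) ≠ 0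
          rw [show (fun k : L => (χ : A → ℂ) k) = conjFn x (fun k : L => (χ : A → ℂ) k) from
            (isCharacter_restrict_conj (CfsgLib.Char.irr_isClassFunction χ.2) x).symm]
          have := OverTheta.classInner_comp_surjective c.toMonoidHom c.surjective
            (fun k : L => (χ : A → ℂ) k) θ
          exact fun h => hne (this.symm.trans h)
      · rintro χ - μ ⟨-, -, hμP⟩ μ' ⟨-, -, hμP'⟩ h h'
        obtain ⟨g, hg⟩ := exists_conj_of_constituents χ.2 μ.2 μ'.2 h h'
        obtain ⟨t, ht, htg⟩ := exists_mul_mem_normalizer PA (T := inertia (μ : L → ℂ))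
          (fun s hs => mem_inertia_iff_conjFn.2 ((hInv _ _).1 (hμP s hs))) (g := g)
          (fun s hs => by
            rw [mem_inertia_iff_conjFn]
            have h1 := (hInv _ _).1 (hμP' s hs)
            rw [← hg, conjFn_conjFn] at h1
            calc conjFn (g * s * g⁻¹) (μ : L → ℂ)
                = conjFn g⁻¹ (conjFn (g * s) (μ : L → ℂ)) := (conjFn_conjFn _ _ _).symm
              _ = (μ : L → ℂ) := by rw [h1, conjFn_conjFn, mul_inv_cancel, conjFn_one])
        exact ⟨t * g, hR ▸ htg, by rw [← hg, ← conjFn_conjFn, mem_inertia_iff_conjFn.1 ht]⟩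
    have hPN : (⊤ : Subgroup N) = Subgroup.normalizer ((PN : Subgroup N) : Set N) := by
      refine (top_le_iff.1 fun x _ => Subgroup.mem_normalizer_fintype fun y hy => ?_).symm
      exact (Subgroup.mem_normalizer_iff.1 x.2 (y : G)).1 hy
    have key₁ := hfibre G P M N hN hMp Ω rfl
    have key₂ := hfibre N PN (M.subgroupOf N) ⊤ hPN (hMp.of_equiv eM.symm) Ω' rfl
    let eΩ : Ω ≃ Ω' :=
      { toFun := fun μ => ⟨⟨(μ.1 : M → ℂ) ∘ eM, CfsgLib.Char.isIrrCharacter_comp_surjective μ.1.2
            eM.toMonoidHom eM.surjective⟩, by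
          refine ⟨?_, fun m => μ.2.2.1 _, fun s hs k k' hk => ?_⟩
          · show (μ.1 : M → ℂ) (eM 1) = 1
            rw [map_one]; exact μ.2.1
          · exact μ.2.2.2 (s : G) hs (eM k) (eM k') (congrArg Subtype.val hk)⟩
        invFun := fun μ => ⟨⟨(μ.1 : M.subgroupOf N → ℂ) ∘ eM.symm,
            CfsgLib.Char.isIrrCharacter_comp_surjective μ.1.2 eM.symm.toMonoidHom
              eM.symm.surjective⟩, by
          refine ⟨?_, fun m => μ.2.2.1 _, fun s hs k k' hk => ?_⟩
          · show (μ.1 : M.subgroupOf N → ℂ) (eM.symm 1) = 1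
            rw [map_one]; exact μ.2.1
          · exact μ.2.2.2 ⟨s, Subgroup.le_normalizer hs⟩ hs (eM.symm k) (eM.symm k')
              (Subtype.ext hk)⟩
        left_inv := fun μ => Subtype.ext (Subtype.ext (funext fun x =>
          congrArg (μ.1 : M → ℂ) (eM.apply_symm_apply x)))
        right_inv := fun μ => Subtype.ext (Subtype.ext (funext fun x =>
          congrArg (μ.1 : M.subgroupOf N → ℂ) (eM.symm_apply_apply x))) }
    refine card_eq_of_fibres M (M.subgroupOf N) N ⊤ _ _ Ω Ω' key₁ key₂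
      Subgroup.card_top.symm eΩ (fun μ => ?_) fun μ => ?_
    · refine Nat.card_congr (Equiv.subtypeEquiv Subgroup.topEquiv.symm.toEquiv fun r => ?_)
      refine ⟨fun h => funext fun m => ?_, fun h => funext fun m => ?_⟩
      · exact (congrArg (μ.1 : M → ℂ) (Subtype.ext rfl)).trans (congr_fun h (eM m))
      · obtain ⟨m, rfl⟩ := eM.surjective m
        exact (congrArg (μ.1 : M → ℂ) (Subtype.ext rfl)).trans (congr_fun h m)
    · -- one fibre
      obtain ⟨⟨μ, hμ⟩, hμ1, hμr, hμP⟩ := μ
      obtain ⟨θ, hθ⟩ := exists_hom_of_linear (CfsgLib.Char.irr_isCharacter hμ) hμ1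
      obtain rfl : μ = fun m => (θ m : ℂ) := funext fun m => (hθ m).symm
      have hsq : ∀ m, θ m * θ m = 1 := fun m => Units.ext (by
        have h1 := CfsgLib.Char.char_inv (CfsgLib.Char.irr_isCharacter hμ) m
        rw [show conj ((θ m : ℂˣ) : ℂ) = (θ m : ℂˣ) from Complex.conj_eq_iff_im.2 (hμr m)] at h1
        rw [Units.val_mul]
        nth_rewrite 1 [← h1]
        rw [← Units.val_mul, ← map_mul, inv_mul_cancel, map_one])
      set T := inertia (fun m : M => (θ m : ℂ)) with hTdef
      haveI := Fintype.ofFinite T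
      have hMT : M ≤ T := le_inertia (CfsgLib.Char.irr_isClassFunction hμ)
      have hT : ∀ g, g ∈ T ↔ conjFn g (fun m : M => (θ m : ℂ)) = fun m => (θ m : ℂ) :=
        fun g => mem_inertia_iff_conjFn
      have hPT : (P : Subgroup G) ≤ T := fun s hs => (hT s).2 (funext fun m => hμP s hs m _ rfl)
      have hTinv : ∀ (g : T) (m m' : M.subgroupOf T), ((m' : T) : G) = g * (m : T) * (g : G)⁻¹ →
          θ ⟨((m' : T) : G), m'.2⟩ = θ ⟨((m : T) : G), m.2⟩ := by
        intro g m m' hm
        refine Units.ext ?_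
        have h1 := congr_fun ((hT g).1 g.2) ⟨((m : T) : G), m.2⟩
        rw [conjFn_apply] at h1
        rw [← h1]
        exact congrArg (fun z : M => (θ z : ℂ)) (Subtype.ext hm)
      let θT : M.subgroupOf T →* ℂˣ := θ.comp (Subgroup.subgroupOfEquivOfLe hMT).toMonoidHom
      let PT : Sylow 2 T := P.subtype hPT
      have hoddT : ∀ X : Subgroup G, (P : Subgroup G) ≤ X → Odd (T.relIndex X) := by
        intro X hX
        refine Nat.not_even_iff_odd.1 fun he => P.not_dvd_index ?_
        refine (even_iff_two_dvd.1 he).trans ((Subgroup.relIndex_dvd_of_le_left X hPT).trans ?_)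
        rw [← Subgroup.relIndex_mul_index hX]
        exact dvd_mul_right _ _
      have hstep := cntLin_step PT (M.subgroupOf T) (fun m hm => hMP hm) θT (fun m => hsq _)
        (fun g m m' hm => hTinv g m m' (congrArg Subtype.val hm)) _ rfl (by
        intro D _ hDM hcomm
        refine ih (T ⧸ D) inferInstance ?_ _
        have hTG : Nat.card T ≤ Nat.card G := Subgroup.card_le_card_group T
        have hpos : 0 < Nat.card D := Nat.card_pos
        have h1 := D.index_mul_card
        rw [← Subgroup.index_eq_card]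
        by_cases hTt : T = ⊤
        · have hD : D ≠ ⊥ := by
            intro hD
            have hMc : ∀ m ∈ M, ∀ g : G, g * m = m * g := by
              intro m hm g
              have := hcomm ⟨m, hMT hm⟩ hm ⟨g, hTt ▸ Subgroup.mem_top g⟩
              rw [hD, Subgroup.mem_bot] at this
              have h3 := congrArg Subtype.val this
              simp only [Subgroup.coe_mul, Subgroup.coe_inv, Subgroup.coe_one] at h3
              exact mul_inv_eq_iff_eq_mul.1 (mul_inv_eq_one.1 h3)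
            refine hNtop (top_le_iff.1 fun g _ => hMN (hcen ?_))
            exact Subgroup.mem_centralizer_iff.2 fun m hm => (hMc m hm g).symm
          have h3 := Subgroup.one_lt_card_iff_ne_bot D |>.2 hD
          have h4 : D.index < D.index * Nat.card D :=
            lt_mul_of_one_lt_right (Nat.pos_of_ne_zero Subgroup.index_ne_zero_of_finite) h3
          omega
        · have h3 : D.index ≤ Nat.card T := Nat.le_of_dvd Nat.card_pos D.index_dvd_card
          have h4 : Nat.card T ≠ Nat.card G := fun e => hTt ((Subgroup.card_eq_iff_eq_top T).mp e)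
          omega)
      -- the group side
      have hG : Nat.card {χ : ({χ | RO (χ : G → ℂ)} : Set (Cfsg.IrrCharacter G)) //
          Cfsg.classInner (fun k : M => (χ.1 : G → ℂ) k) (fun m => (θ m : ℂ)) ≠ 0} =
          cntLin (M.subgroupOf T) (fun m => (θT m : ℂ)) := by
        refine Eq.trans (Nat.card_congr (Equiv.subtypeSubtypeEquivSubtypeInter
          (fun χ : Cfsg.IrrCharacter G => RO (χ : G → ℂ))
          (fun χ : Cfsg.IrrCharacter G =>
            Cfsg.classInner (fun k : M => (χ : G → ℂ) k) (fun m => (θ m : ℂ)) ≠ 0))) ?_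
        rw [card_ro_inertia M hμ hμr T hMT hT (by
            rw [← Subgroup.relIndex_top_right]; exact hoddT ⊤ le_top)]
        haveI := Fintype.ofFinite (M.subgroupOf T)
        refine Nat.card_congr (Equiv.subtypeEquivRight fun ψ => and_congr_right fun _ => ?_)
        rw [← over_invariant_iff (M.subgroupOf T) (θ := fun m => (θT m : ℂ))
          (CfsgLib.Char.isIrrCharacter_linear θT) (by simp [θT])
          (fun g => funext fun m => congrArg Units.val (hTinv g m _ rfl)) ψ,
          ← OverTheta.classInner_comp_surjective (Subgroup.subgroupOfEquivOfLe hMT).toMonoidHom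
            (Subgroup.subgroupOfEquivOfLe hMT).surjective
            (fun k : M => (ψ : T → ℂ) ⟨(k : G), hMT k.2⟩) (fun m : M => (θ m : ℂ))]
        rfl
      -- the normalizer side
      let T' := T.subgroupOf N
      haveI := Fintype.ofFinite T'
      haveI := Fintype.ofFinite ((M.subgroupOf N).subgroupOf T')
      have hMT' : M.subgroupOf N ≤ T' := fun m hm => hMT hm
      set NT := Subgroup.normalizer ((PT : Subgroup T) : Set T) with hNT
      have hNTmem : ∀ t : T, t ∈ NT ↔ (t : G) ∈ N := by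
        intro t
        constructor
        · intro h
          refine Subgroup.mem_normalizer_fintype fun y hy => ?_
          exact (Subgroup.mem_normalizer_iff.1 h ⟨y, hPT hy⟩).1 hy
        · intro h
          refine Subgroup.mem_normalizer_fintype fun y hy => ?_
          exact (Subgroup.mem_normalizer_iff.1 h (y : G)).1 hy
      let sw : NT ≃* T' :=
        { toFun := fun t => ⟨⟨((t : T) : G), (hNTmem _).1 t.2⟩, (t : T).2⟩
          invFun := fun t => ⟨⟨((t : N) : G), t.2⟩, (hNTmem _).2 (t : N).2⟩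
          left_inv := fun t => rfl
          right_inv := fun t => rfl
          map_mul' := fun a b => rfl }
      have hT' : ∀ x : N, x ∈ T' ↔
          conjFn x ((fun m : M => (θ m : ℂ)) ∘ eM) = (fun m : M => (θ m : ℂ)) ∘ eM := by
        intro x
        rw [Subgroup.mem_subgroupOf, hT]
        refine ⟨fun h => funext fun m => ?_, fun h => funext fun m => ?_⟩
        · exact (congrArg (fun z : M => (θ z : ℂ)) (Subtype.ext rfl)).trans (congr_fun h (eM m))
        · obtain ⟨m, rfl⟩ := eM.surjective m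
          exact (congrArg (fun z : M => (θ z : ℂ)) (Subtype.ext rfl)).trans (congr_fun h m)
      have hN' : Nat.card {χ : ({χ | RO (χ : N → ℂ)} : Set (Cfsg.IrrCharacter N)) //
          Cfsg.classInner (fun k : M.subgroupOf N => (χ.1 : N → ℂ) k)
            ((fun m : M => (θ m : ℂ)) ∘ eM) ≠ 0} =
          cntLin ((M.subgroupOf N).subgroupOf T')
            (fun m => (θ (eM ⟨((m : T') : N), m.2⟩) : ℂ)) := by
        refine Eq.trans (Nat.card_congr (Equiv.subtypeSubtypeEquivSubtypeInter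
          (fun χ : Cfsg.IrrCharacter N => RO (χ : N → ℂ))
          (fun χ : Cfsg.IrrCharacter N => Cfsg.classInner (fun k : M.subgroupOf N => (χ : N → ℂ) k)
            ((fun m : M => (θ m : ℂ)) ∘ eM) ≠ 0))) ?_
        rw [card_ro_inertia (M.subgroupOf N) (θ := (fun m : M => (θ m : ℂ)) ∘ eM)
            (CfsgLib.Char.isIrrCharacter_comp_surjective hμ eM.toMonoidHom eM.surjective)
            (fun m => hμr _) T' hMT' hT' (hoddT N Subgroup.le_normalizer)]
        refine Nat.card_congr (Equiv.subtypeEquivRight fun ψ => and_congr_right fun _ => ?_)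
        let e₂ : (M.subgroupOf N).subgroupOf T' ≃* M.subgroupOf N :=
          Subgroup.subgroupOfEquivOfLe hMT'
        refine Iff.trans ?_ (over_invariant_iff ((M.subgroupOf N).subgroupOf T')
          (θ := ((fun m : M => (θ m : ℂ)) ∘ eM) ∘ e₂)
          (CfsgLib.Char.isIrrCharacter_comp_surjective
            (CfsgLib.Char.isIrrCharacter_comp_surjective hμ eM.toMonoidHom eM.surjective)
            e₂.toMonoidHom e₂.surjective)
          (by simp)
          (fun g => funext fun m => by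
            have h1 := congr_fun ((hT' (g : N)).1 g.2) (e₂ m)
            rw [conjFn_apply] at h1
            show (θ (eM (e₂ (conjN g m))) : ℂ) = (θ (eM (e₂ m)) : ℂ)
            exact (congrArg (fun z => (θ z : ℂ)) (Subtype.ext rfl)).trans h1) ψ)
        rw [← OverTheta.classInner_comp_surjective e₂.toMonoidHom e₂.surjective
            (fun k : M.subgroupOf N => (ψ : T' → ℂ) ⟨(k : N), hMT' k.2⟩)
            ((fun m : M => (θ m : ℂ)) ∘ eM)]
        rfl
      show Nat.card {χ : ({χ | RO (χ : G → ℂ)} : Set (Cfsg.IrrCharacter G)) //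
          Cfsg.classInner (fun k : M => (χ.1 : G → ℂ) k) (fun m => (θ m : ℂ)) ≠ 0} =
        Nat.card {χ : ({χ | RO (χ : N → ℂ)} : Set (Cfsg.IrrCharacter N)) //
          Cfsg.classInner (fun k : M.subgroupOf N => (χ.1 : N → ℂ) k)
            ((fun m : M => (θ m : ℂ)) ∘ eM) ≠ 0}
      rw [hG, hN', hstep]
      refine cntLin_congr sw _ _ (fun t => Iff.rfl) fun m m' hm => ?_
      exact congrArg (fun z : M => (θ z : ℂ)) (Subtype.ext (congrArg
        (fun z : T' => ((z : N) : G)) hm))

end CfsgLib.BlockB.RealOddDegree
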