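import Cfsg.Agent.Lib.Char.Fixed
import Cfsg.Agent.Lib.Char.Column
import Cfsg.Agent.Lib.Char.FS
import Cfsg.Agent.Lib.Clifford.Correspondence
import Mathlib.GroupTheory.GroupAction.Quotient
import Mathlib.GroupTheory.GroupAction.ConjAct

/-!
Real characters and real classes of a normal subgroup of odd index: equally many orbits, a unique
real character above each real character, and the Frobenius-Schur indicator.
-/

set_option autoImplicit false
set_option linter.unusedSectionVars false
set_option linter.style.haveILetI false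

namespace CfsgLib.BlockB.RealOrbits

open CfsgLib CfsgLib.Clifford
open scoped ComplexConjugate

universe u

variable {G : Type u} [Group G] [Finite G] (K : Subgroup G) [K.Normal]

/-- Real irreducible characters of `K`. -/
abbrev RealIrr := {θ : Cfsg.IrrCharacter K // ∀ k : K, ((θ : K → ℂ) k).im = 0}

/-- Classes of `K` closed under inversion. -/
abbrev RealClass := {C : ConjClasses K // ∀ k : K, ConjClasses.mk k = C → IsConj k k⁻¹}

noncomputable instance actIrr : MulAction G (RealIrr K) where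
  smul g θ := ⟨⟨conjFn g⁻¹ (θ.1 : K → ℂ), isIrrCharacter_conjFn θ.1.2 g⁻¹⟩, fun k => θ.2 _⟩
  one_smul θ := Subtype.ext (Subtype.ext (by
    show conjFn (1 : G)⁻¹ (θ.1 : K → ℂ) = _; rw [inv_one, conjFn_one]))
  mul_smul a b θ := Subtype.ext (Subtype.ext (by
    show conjFn (a * b)⁻¹ (θ.1 : K → ℂ) = conjFn a⁻¹ (conjFn b⁻¹ (θ.1 : K → ℂ))
    rw [conjFn_conjFn, mul_inv_rev]))

theorem smul_irr_coe (g : G) (θ : RealIrr K) :
    ((g • θ).1 : K → ℂ) = conjFn g⁻¹ (θ.1 : K → ℂ) := rfl

noncomputable instance actClass : MulAction G (RealClass K) where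
  smul g C := ⟨ConjClasses.map (MulAut.conjNormal (H := K) g).toMonoidHom C.1, fun k hk => by
    obtain ⟨c, hc⟩ := ConjClasses.mk_surjective C.1
    rw [← hc] at hk
    have h1 : IsConj k (MulAut.conjNormal (H := K) g c) := ConjClasses.mk_eq_mk_iff_isConj.1 hk
    have h2 := (MulAut.conjNormal (H := K) g).toMonoidHom.map_isConj (C.2 c hc)
    rw [map_inv] at h2
    obtain ⟨x, hx⟩ := isConj_iff.1 h1
    exact h1.trans (h2.trans (isConj_iff.2 ⟨x, by
      show x * k⁻¹ * x⁻¹ = _
      rw [← conj_inv, hx]; rfl⟩).symm)⟩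
  one_smul C := Subtype.ext (by
    obtain ⟨c, hc⟩ := ConjClasses.mk_surjective C.1
    show ConjClasses.map (MulAut.conjNormal (H := K) (1 : G)).toMonoidHom C.1 = C.1
    rw [← hc, map_one]; rfl)
  mul_smul a b C := Subtype.ext (by
    obtain ⟨c, hc⟩ := ConjClasses.mk_surjective C.1
    show ConjClasses.map (MulAut.conjNormal (H := K) (a * b)).toMonoidHom C.1 =
      ConjClasses.map (MulAut.conjNormal (H := K) a).toMonoidHom
        (ConjClasses.map (MulAut.conjNormal (H := K) b).toMonoidHom C.1)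
    rw [← hc, map_mul]; rfl)

theorem smul_class_mk (g : G) (C : RealClass K) (k : K) (hk : ConjClasses.mk k = C.1) :
    (g • C).1 = ConjClasses.mk (MulAut.conjNormal (H := K) g k) := by
  show ConjClasses.map (MulAut.conjNormal (H := K) g).toMonoidHom C.1 = _
  rw [← hk]; rfl

/-- Conjugation followed by inversion. -/
def beta (g : G) (k : K) : K := (MulAut.conjNormal (H := K) g k)⁻¹

theorem beta_eq_conjN (g : G) (k : K) : beta K g k = (conjN g k)⁻¹ := by
  rw [beta]; congr 1

theorem isIrr_comp_beta [Fintype G] [Fintype K] {χ : K → ℂ} (hχ : Cfsg.IsIrrCharacter K χ)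
    (g : G) : Cfsg.IsIrrCharacter K (χ ∘ beta K g) := by
  have h1 := Char.isIrrCharacter_conj (isIrrCharacter_conjFn hχ g)
  convert h1 using 1
  funext k
  rw [Function.comp_apply, beta_eq_conjN, Char.char_inv (Char.irr_isCharacter hχ)]
  rfl

theorem fixed_irr_iff [Fintype K] (hodd : Odd K.index) (g : G) (χ : Cfsg.IrrCharacter K) :
    ((∀ k : K, ((χ : K → ℂ) k).im = 0) ∧ conjFn g (χ : K → ℂ) = (χ : K → ℂ)) ↔
      (χ : K → ℂ) ∘ beta K g = (χ : K → ℂ) := by
  have hβ : ∀ k, (χ : K → ℂ) (beta K g k) = conj ((χ : K → ℂ) (conjN g k)) := fun k => by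
    rw [beta_eq_conjN, Char.char_inv (Char.irr_isCharacter χ.2)]
  constructor
  · rintro ⟨hr, hg⟩
    funext k
    rw [Function.comp_apply, hβ, Complex.conj_eq_iff_im.2 (hr _)]
    exact congr_fun hg k
  · intro h
    have h1 : ∀ k, conj ((χ : K → ℂ) (conjN g k)) = (χ : K → ℂ) k := fun k => by
      rw [← hβ]; exact congr_fun h k
    have h2 : g * g ∈ inertia (χ : K → ℂ) := fun k => by
      have e1 := h1 (conjN g k)
      rw [← conjN_mul] at e1
      rw [← Complex.conj_conj ((χ : K → ℂ) (conjN (g * g) k)), e1]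
      exact h1 k
    obtain ⟨t, ht⟩ := hodd
    have h3 : g ^ K.index ∈ inertia (χ : K → ℂ) :=
      le_inertia (Char.irr_isClassFunction χ.2) (K.pow_index_mem g)
    have h4 : g ∈ inertia (χ : K → ℂ) := by
      have e : g = (g * g) ^ (t + 1) * (g ^ K.index)⁻¹ := by
        rw [ht, ← pow_two, ← pow_mul, show 2 * (t + 1) = 1 + (2 * t + 1) by ring, pow_add,
          mul_inv_cancel_right, pow_one]
      rw [e]
      exact mul_mem (pow_mem h2 _) (inv_mem h3)
    refine ⟨fun k => Complex.conj_eq_iff_im.1 ?_, mem_inertia_iff_conjFn.1 h4⟩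
    have := h1 k
    rwa [h4 k] at this

theorem fixed_class_iff (hodd : Odd K.index) (g : G) (C : ConjClasses K) :
    ((∀ k : K, ConjClasses.mk k = C → IsConj k k⁻¹) ∧
        ConjClasses.map (MulAut.conjNormal (H := K) g).toMonoidHom C = C) ↔
      ∀ k : K, ConjClasses.mk k = C → IsConj (beta K g k) k := by
  obtain ⟨c, rfl⟩ := ConjClasses.mk_surjective C
  set a : MulAut K := MulAut.conjNormal (H := K) g with ha
  have hinv : ∀ {x y : K}, IsConj x y → IsConj x⁻¹ y⁻¹ := fun h => by
    obtain ⟨z, hz⟩ := isConj_iff.1 h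
    exact isConj_iff.2 ⟨z, by rw [← conj_inv, hz]⟩
  constructor
  · rintro ⟨hr, hfix⟩ k hk
    have h1 : IsConj (a c) c := ConjClasses.mk_eq_mk_iff_isConj.1 hfix
    have h2 : IsConj k c := ConjClasses.mk_eq_mk_iff_isConj.1 hk
    exact (hinv ((a.toMonoidHom.map_isConj h2).trans h1)).trans ((hr c rfl).symm.trans h2.symm)
  · intro h
    have h1 : IsConj (a c)⁻¹ c := h c rfl
    have h2 : IsConj (a c) c⁻¹ := by simpa using hinv h1
    have h3 : ∀ n : ℕ, IsConj ((a ^ (2 * n)) c) c := by
      intro n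
      induction n with
      | zero => simpa only [Nat.mul_zero, pow_zero, MulAut.one_apply] using IsConj.refl c
      | succ n ih =>
        have e1 : IsConj (a (a c)) (a c⁻¹) := a.toMonoidHom.map_isConj h2
        rw [map_inv] at e1
        have e2 : IsConj (a (a c)) c := e1.trans h1
        have e3 : IsConj ((a ^ (2 * n)) (a (a c))) ((a ^ (2 * n)) c) :=
          (a ^ (2 * n)).toMonoidHom.map_isConj e2
        rw [show 2 * (n + 1) = 2 * n + 1 + 1 by ring, pow_succ, pow_succ]
        exact e3.trans ih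
    obtain ⟨t, ht⟩ := hodd
    have h4 : IsConj ((a ^ K.index) c) c := by
      rw [ha, ← map_pow]
      exact (isConj_iff.2 ⟨⟨_, K.pow_index_mem g⟩, Subtype.ext (by rw [MulAut.conjNormal_apply]; rfl)⟩).symm
    have h5 : IsConj (a c) c := by
      rw [ht, pow_succ'] at h4
      exact ((a.toMonoidHom.map_isConj (h3 t)).symm).trans h4
    refine ⟨fun k hk => ?_, ConjClasses.mk_eq_mk_iff_isConj.2 h5⟩
    have h6 : IsConj k c := ConjClasses.mk_eq_mk_iff_isConj.1 hk
    have h7 : IsConj c c⁻¹ := h5.symm.trans h2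
    exact h6.trans (h7.trans (hinv h6).symm)

/-- Equally many orbits on real characters and on real classes. -/
theorem natCard_orbits_real (hodd : Odd K.index) :
    Nat.card (MulAction.orbitRel.Quotient G (RealIrr K)) =
      Nat.card (MulAction.orbitRel.Quotient G (RealClass K)) := by
  classical
  have := Fintype.ofFinite G
  have := Fintype.ofFinite K
  have : Finite (ConjClasses K) := Finite.of_surjective _ ConjClasses.mk_surjective
  have := Fintype.ofFinite (RealIrr K)
  have := Fintype.ofFinite (RealClass K)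
  have h : ∀ g : G, Fintype.card (MulAction.fixedBy (RealIrr K) g) =
      Fintype.card (MulAction.fixedBy (RealClass K) g) := by
    intro g
    rw [← Nat.card_eq_fintype_card, ← Nat.card_eq_fintype_card]
    have e0 := Char.natCard_fixed_irr_eq (G := K) (beta K g) fun χ hχ => isIrr_comp_beta K hχ g
    have e1 : Nat.card (MulAction.fixedBy (RealIrr K) g) =
        Nat.card {χ : Cfsg.IrrCharacter K // (χ : K → ℂ) ∘ beta K g = (χ : K → ℂ)} := by
      refine Nat.card_congr
        { toFun := fun θ => ⟨θ.1.1, (fixed_irr_iff K hodd g θ.1.1).1 ⟨θ.1.2, ?_⟩⟩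
          invFun := fun χ => ⟨⟨χ.1, ((fixed_irr_iff K hodd g χ.1).2 χ.2).1⟩, ?_⟩
          left_inv := fun θ => rfl
          right_inv := fun χ => rfl }
      · have h1 : conjFn g⁻¹ (θ.1.1 : K → ℂ) = (θ.1.1 : K → ℂ) :=
          congrArg (fun x : RealIrr K => (x.1 : K → ℂ)) θ.2
        conv_lhs => rw [← h1]
        rw [conjFn_conjFn, inv_mul_cancel, conjFn_one]
      · refine Subtype.ext (Subtype.ext ?_)
        show conjFn g⁻¹ (χ.1 : K → ℂ) = _
        conv_lhs => rw [← ((fixed_irr_iff K hodd g χ.1).2 χ.2).2]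
        rw [conjFn_conjFn, mul_inv_cancel, conjFn_one]
    have e2 : Nat.card (MulAction.fixedBy (RealClass K) g) =
        Nat.card {C : ConjClasses K // ∀ k, ConjClasses.mk k = C → IsConj (beta K g k) k} :=
      Nat.card_congr
        { toFun := fun C => ⟨C.1.1, (fixed_class_iff K hodd g C.1.1).1
            ⟨C.1.2, congrArg Subtype.val C.2⟩⟩
          invFun := fun C => ⟨⟨C.1, ((fixed_class_iff K hodd g C.1).2 C.2).1⟩,
            Subtype.ext ((fixed_class_iff K hodd g C.1).2 C.2).2⟩
          left_inv := fun θ => rfl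
          right_inv := fun χ => rfl }
    rw [e1, e2, e0]
  have := Fintype.ofFinite (MulAction.orbitRel.Quotient G (RealIrr K))
  have := Fintype.ofFinite (MulAction.orbitRel.Quotient G (RealClass K))
  have hX := MulAction.sum_card_fixedBy_eq_card_orbits_mul_card_group G (RealIrr K)
  have hY := MulAction.sum_card_fixedBy_eq_card_orbits_mul_card_group G (RealClass K)
  rw [Finset.sum_congr rfl (fun g _ => h g), hY] at hX
  rw [Nat.card_eq_fintype_card, Nat.card_eq_fintype_card]
  exact (Nat.eq_of_mul_eq_mul_right Fintype.card_pos hX).symm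

/-- A real element lies in a normal subgroup of odd index, and is real there. -/
theorem real_mem (hodd : Odd K.index) {g : G} (hg : IsConj g g⁻¹) :
    ∃ h : g ∈ K, IsConj (⟨g, h⟩ : K) (⟨g, h⟩ : K)⁻¹ := by
  have hq : Odd (Nat.card (G ⧸ K)) := by rwa [← Subgroup.index_eq_card]
  have h1 : (g : G ⧸ K) = 1 := Char.isConj_inv_odd hq (by
    have := (QuotientGroup.mk' K).map_isConj hg
    rwa [map_inv] at this)
  have hgK : g ∈ K := (QuotientGroup.eq_one_iff g).1 h1
  refine ⟨hgK, ?_⟩
  obtain ⟨x, hx⟩ := isConj_iff.1 hg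
  have h2 : x * x ∈ Subgroup.centralizer ({g} : Set G) := by
    have e : x * x * g * (x * x)⁻¹ = g := by
      calc x * x * g * (x * x)⁻¹ = x * (x * g * x⁻¹) * x⁻¹ := by group
        _ = x * g⁻¹ * x⁻¹ := by rw [hx]
        _ = (x * g * x⁻¹)⁻¹ := conj_inv.symm
        _ = g := by rw [hx, inv_inv]
    rw [Subgroup.mem_centralizer_singleton_iff]
    calc x * x * g = x * x * g * (x * x)⁻¹ * (x * x) := by group
      _ = g * (x * x) := by rw [e]
  obtain ⟨t, ht⟩ := hodd
  refine isConj_iff.2 ⟨⟨_, K.pow_index_mem x⟩, Subtype.ext ?_⟩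
  show x ^ K.index * g * (x ^ K.index)⁻¹ = g⁻¹
  have h3 : (x * x) ^ t * g = g * (x * x) ^ t :=
    Subgroup.mem_centralizer_singleton_iff.1 (pow_mem h2 t)
  rw [ht, pow_succ', ← pow_two, ← pow_mul] at *
  calc x * x ^ (2 * t) * g * (x * x ^ (2 * t))⁻¹
      = x * (x ^ (2 * t) * g) * (x ^ (2 * t))⁻¹ * x⁻¹ := by group
    _ = x * g * x⁻¹ := by rw [h3]; group
    _ = g⁻¹ := hx

/-- Orbits of real classes of `K` are the real classes of `G`. -/
theorem natCard_orbits_class (hodd : Odd K.index) :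
    Nat.card (MulAction.orbitRel.Quotient G (RealClass K)) =
      Nat.card {C : ConjClasses G // ∀ g : G, ConjClasses.mk g = C → IsConj g g⁻¹} := by
  classical
  let f0 : RealClass K → {C : ConjClasses G // ∀ g : G, ConjClasses.mk g = C → IsConj g g⁻¹} :=
    fun C => ⟨ConjClasses.map K.subtype C.1, fun g hg => by
      obtain ⟨c, hc⟩ := ConjClasses.mk_surjective C.1
      rw [← hc] at hg
      have h1 : IsConj g (c : G) := ConjClasses.mk_eq_mk_iff_isConj.1 hg
      have h2 : IsConj (c : G) (c : G)⁻¹ := by simpa using K.subtype.map_isConj (C.2 c hc)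
      obtain ⟨x, hx⟩ := isConj_iff.1 h1
      exact h1.trans (h2.trans (isConj_iff.2 ⟨x, by rw [← conj_inv, hx]⟩).symm)⟩
  have hf0 : ∀ a b : RealClass K, f0 a = f0 b ↔ a ∈ MulAction.orbit G b := by
    intro a b
    obtain ⟨x, hx⟩ := ConjClasses.mk_surjective a.1
    obtain ⟨y, hy⟩ := ConjClasses.mk_surjective b.1
    constructor
    · intro h
      have h1 := congrArg Subtype.val h
      simp only [f0, ← hx, ← hy] at h1
      obtain ⟨g, hg⟩ := isConj_iff.1 (ConjClasses.mk_eq_mk_iff_isConj.1 h1.symm :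
        IsConj (y : G) (x : G))
      refine ⟨g, Subtype.ext ?_⟩
      show (g • b).1 = a.1
      rw [smul_class_mk K g b y hy, ← hx]
      exact congrArg ConjClasses.mk (Subtype.ext (by simpa using hg))
    · rintro ⟨g, rfl⟩
      refine Subtype.ext ?_
      show ConjClasses.map K.subtype (g • b).1 = ConjClasses.map K.subtype b.1
      rw [smul_class_mk K g b y hy, ← hy]
      exact ConjClasses.mk_eq_mk_iff_isConj.2 (isConj_iff.2 ⟨g⁻¹, by simp [mul_assoc]⟩)
  refine Nat.card_congr (Equiv.ofBijective (Quotient.lift f0 fun a b hab => (hf0 a b).2 hab) ⟨?_, ?_⟩)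
  · intro p q
    refine Quotient.inductionOn₂ p q fun a b h => Quotient.sound ((hf0 a b).1 h)
  · rintro ⟨C, hC⟩
    obtain ⟨g, rfl⟩ := ConjClasses.mk_surjective C
    obtain ⟨hg, hgc⟩ := real_mem K hodd (hC g rfl)
    refine ⟨Quotient.mk _ ⟨ConjClasses.mk ⟨g, hg⟩, fun k hk => ?_⟩, rfl⟩
    have h1 : IsConj k (⟨g, hg⟩ : K) := ConjClasses.mk_eq_mk_iff_isConj.1 hk
    obtain ⟨x, hx⟩ := isConj_iff.1 h1
    exact h1.trans (hgc.trans (isConj_iff.2 ⟨x, by rw [← conj_inv, hx]⟩).symm)

end CfsgLib.BlockB.RealOrbits
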