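import Cfsg.Agent.Lib.Char.Fixed
import Cfsg.Agent.Lib.Clifford.Degrees
import Cfsg.Agent.Lib.BlockB.RealOrbits
import Cfsg.Agent.Lib.BlockB.ClassMul
import Mathlib.GroupTheory.Sylow
import Mathlib.Algebra.CharP.Two

/-!
Real irreducible characters over a character of an odd-order normal subgroup that is conjugate to
its complex conjugate; linear constituents of characters of p-groups.
-/

set_option autoImplicit false
set_option linter.unusedSectionVars false

namespace CfsgLib.BlockB.RealOverOdd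

open CfsgLib CfsgLib.Clifford
open scoped ComplexConjugate

universe u

variable {G : Type u} [Group G]

/-- A real irreducible character lies over `θ` when `N` has odd order and `θ` is conjugate to
its conjugate. -/
theorem exists_real_over_of_conj [Fintype G] (N : Subgroup G) [N.Normal] [Fintype N]
    (hN : Odd (Nat.card N)) {θ : N → ℂ} (hθ : Cfsg.IsIrrCharacter N θ) (g0 : G)
    (hg0 : ∀ n : N, θ (conjN g0 n) = conj (θ n)) :
    ∃ χ : Cfsg.IrrCharacter G, (∀ g : G, ((χ : G → ℂ) g).im = 0) ∧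
      Cfsg.classInner (fun n : N => (χ : G → ℂ) n) θ ≠ 0 := by
  classical
  have := Fintype.ofFinite (Cfsg.IrrCharacter G)
  have : Fact (Nat.Prime 2) := ⟨Nat.prime_two⟩
  let S : Sylow 2 G := default
  have := Fintype.ofFinite (S : Subgroup G)
  let I : G → ℂ := Cfsg.indFun N θ
  have hIchar : Cfsg.IsCharacter G I := Char.isCharacter_indFun N (Char.irr_isCharacter hθ)
  have hvan : ∀ h ∈ (S : Subgroup G), h ≠ 1 → I h = 0 := by
    intro h hh h1
    refine indFun_eq_zero_of_not_mem θ fun hn => h1 ?_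
    obtain ⟨k, hk⟩ := IsPGroup.iff_orderOf.1 S.2 ⟨h, hh⟩
    rw [Subgroup.orderOf_mk] at hk
    have h2 : orderOf h ∣ Nat.card N := Subgroup.orderOf_dvd_natCard N hn
    refine orderOf_eq_one_iff.1 ?_
    rw [hk] at h2 ⊢
    exact Nat.eq_one_of_dvd_coprimes ((Nat.coprime_two_left.2 hN).pow_left k) (dvd_refl _) h2
  have hIreal : ∀ g : G, conj (I g) = I g := by
    intro g
    show conj (Cfsg.indFun N θ g) = Cfsg.indFun N θ g
    rw [Char.indFun_def, map_mul, map_inv₀, Complex.conj_natCast, map_sum]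
    congr 1
    refine Fintype.sum_equiv (Equiv.mulRight g0⁻¹) _ _ fun x => ?_
    have he : (x * g0⁻¹)⁻¹ * g * (x * g0⁻¹) = g0 * (x⁻¹ * g * x) * g0⁻¹ := by group
    simp only [Equiv.coe_mulRight]
    rw [he]
    by_cases hx : x⁻¹ * g * x ∈ N
    · have hx' : g0 * (x⁻¹ * g * x) * g0⁻¹ ∈ N := (inferInstance : N.Normal).conj_mem _ hx g0
      rw [Char.extendByZero_of_mem _ hx, Char.extendByZero_of_mem _ hx']
      exact (hg0 ⟨_, hx⟩).symm
    · rw [Char.extendByZero_of_not_mem _ hx, map_zero,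
        Char.extendByZero_of_not_mem _ fun hx' => hx ?_]
      have h := (inferInstance : N.Normal).conj_mem _ hx' g0⁻¹
      rwa [show g0⁻¹ * (g0 * (x⁻¹ * g * x) * g0⁻¹) * g0⁻¹⁻¹ = x⁻¹ * g * x by group] at h
  have hm : ∀ χ : Cfsg.IrrCharacter G, ∃ m : ℕ, Cfsg.classInner I (χ : G → ℂ) = m ∧
      Cfsg.classInner (fun n : N => (χ : G → ℂ) n) θ = m := by
    intro χ
    obtain ⟨m, hm⟩ := Char.classInner_isCharacter_nat
      (Char.isCharacter_restrict (Char.irr_isCharacter χ.2) N) (Char.irr_isCharacter hθ)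
    refine ⟨m, ?_, hm⟩
    rw [Char.frobenius_reciprocity N _ _ (Char.irr_isClassFunction χ.2),
      ← Char.classInner_conj_symm, hm, Complex.conj_natCast]
  choose m hmI hmN using hm
  have hn : ∀ χ : Cfsg.IrrCharacter G, ∃ k : ℕ,
      Cfsg.classInner (fun h : (S : Subgroup G) => (χ : G → ℂ) h) (fun _ => 1) = k := fun χ =>
    Char.classInner_isCharacter_nat (Char.isCharacter_restrict (Char.irr_isCharacter χ.2) _)
      Char.isCharacter_one
  choose k hk using hn
  -- the odd number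
  have hcop : (Nat.card (S : Subgroup G)).Coprime (Nat.card N) := by
    obtain ⟨a, ha⟩ := IsPGroup.iff_card.1 S.2
    rw [ha]; exact (Nat.coprime_two_left.2 hN).pow_left a
  have hmul : Nat.card (S : Subgroup G) * (S : Subgroup G).index = Nat.card N * N.index := by
    rw [Subgroup.card_mul_index, Subgroup.card_mul_index]
  obtain ⟨c, hc⟩ : Nat.card (S : Subgroup G) ∣ N.index :=
    hcop.dvd_of_dvd_mul_left ⟨_, hmul.symm⟩
  have hcodd : Odd c := by
    have h1 : ¬ 2 ∣ (S : Subgroup G).index := S.not_dvd_index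
    rw [hc, mul_left_comm] at hmul
    rw [← Nat.not_even_iff_odd, even_iff_two_dvd]
    intro h2
    exact h1 (Nat.eq_of_mul_eq_mul_left Nat.card_pos hmul ▸ h2.mul_left _)
  set d := Cfsg.charDegree θ with hd
  have hdodd : Odd d := hN.of_dvd_nat (BlockB.irr_degree_dvd_card ⟨θ, hθ⟩)
  have hA : Cfsg.classInner (fun h : (S : Subgroup G) => I h) (fun _ => 1) = (c * d : ℕ) := by
    rw [Char.classInner_def]
    simp only [map_one, mul_one]
    rw [Finset.sum_eq_single (1 : (S : Subgroup G))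
      (fun h _ h1 => hvan h h.2 fun e => h1 (Subtype.ext e)) (by simp), OneMemClass.coe_one]
    show (Nat.card (S : Subgroup G) : ℂ)⁻¹ * Cfsg.indFun N θ 1 = _
    rw [Char.indFun_apply_one, hc, Nat.cast_mul, Nat.cast_mul,
      BlockB.charDegree_cast (Char.irr_isCharacter hθ)]
    have h0 : (Nat.card (S : Subgroup G) : ℂ) ≠ 0 := by exact_mod_cast Nat.card_pos.ne'
    field_simp
  have hsum : c * d = ∑ χ : Cfsg.IrrCharacter G, m χ * k χ := by
    have h := Char.classFunction_eq_sum (ψ := I) (Char.isCharacter_isClassFunction hIchar)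
    have h2 : Cfsg.classInner (fun h : (S : Subgroup G) => I h) (fun _ => 1) =
        ∑ χ : Cfsg.IrrCharacter G, (m χ : ℂ) * k χ := by
      simp only [← hk, Char.classInner_def, map_one, mul_one]
      rw [Finset.sum_congr rfl (g := fun h : (S : Subgroup G) =>
        ∑ χ : Cfsg.IrrCharacter G, (m χ : ℂ) * (χ : G → ℂ) h) (fun x _ => by
          conv_lhs => rw [h]
          simp [Finset.sum_apply, hmI]), Finset.sum_comm, Finset.mul_sum]
      refine Finset.sum_congr rfl fun χ _ => ?_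
      rw [← Finset.mul_sum]
      ring
    rw [hA] at h2
    exact_mod_cast h2
  let cj : Cfsg.IrrCharacter G → Cfsg.IrrCharacter G := fun χ =>
    ⟨_, Char.isIrrCharacter_conj χ.2⟩
  have hmc : ∀ χ, m (cj χ) = m χ := by
    intro χ
    have h : Cfsg.classInner I (cj χ : G → ℂ) = conj (Cfsg.classInner I (χ : G → ℂ)) := by
      simp only [Char.classInner_def, map_mul, map_inv₀, Complex.conj_natCast, map_sum, cj,
        hIreal]
    rw [hmI, hmI, Complex.conj_natCast] at h
    exact_mod_cast h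
  have hkc : ∀ χ, k (cj χ) = k χ := by
    intro χ
    have h : Cfsg.classInner (fun h : (S : Subgroup G) => (cj χ : G → ℂ) h) (fun _ => 1) =
        conj (Cfsg.classInner (fun h : (S : Subgroup G) => (χ : G → ℂ) h) (fun _ => 1)) := by
      simp only [Char.classInner_def, map_mul, map_inv₀, Complex.conj_natCast, map_sum, cj,
        map_one]
    rw [hk, hk, Complex.conj_natCast] at h
    exact_mod_cast h
  by_contra hno
  have h0 : ((∑ χ : Cfsg.IrrCharacter G, m χ * k χ : ℕ) : ZMod 2) = 0 := by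
    rw [Nat.cast_sum]
    refine Finset.sum_involution (fun χ _ => cj χ) (fun χ _ => ?_) (fun χ _ hne he => ?_)
      (fun χ _ => Finset.mem_univ _) (fun χ _ => Subtype.ext (funext fun g => by simp [cj]))
    · rw [hmc, hkc, ← two_mul, show (2 : ZMod 2) = 0 from rfl, zero_mul]
    · refine hne ?_
      have hre : ∀ g, ((χ : G → ℂ) g).im = 0 := fun g =>
        Complex.conj_eq_iff_im.1 (congrFun (congrArg Subtype.val he) g)
      have hz : m χ = 0 := by
        by_contra hm0
        exact hno ⟨χ, hre, by rw [hmN]; exact_mod_cast hm0⟩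
      simp [hz]
  rw [← hsum, ZMod.natCast_eq_zero_iff_even] at h0
  exact Nat.not_even_iff_odd.2 (hcodd.mul hdodd) h0

/-- Brauer's permutation lemma: an element inverting a nontrivial element of `N` maps some
nontrivial irreducible character to its conjugate. -/
theorem exists_irr_ne_one_conj [Finite G] (N : Subgroup G) [N.Normal] (s : G) {x : N} (hx : x ≠ 1)
    (hsx : conjN s x = x⁻¹) :
    ∃ θ : Cfsg.IrrCharacter N, (θ : N → ℂ) ≠ (fun _ => 1) ∧
      ∀ n : N, (θ : N → ℂ) (conjN s n) = conj ((θ : N → ℂ) n) := by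
  classical
  have := Fintype.ofFinite G
  have := Fintype.ofFinite N
  have : Finite (ConjClasses N) := Finite.of_surjective _ ConjClasses.mk_surjective
  have hb : ∀ c k : N, conjN s (c * k * c⁻¹) = conjN s c * conjN s k * (conjN s c)⁻¹ :=
    fun c k => Subtype.ext (by simp [mul_assoc])
  have hcls : ∀ y : N, conjN s y = y⁻¹ → ∀ g, ConjClasses.mk g = ConjClasses.mk y →
      IsConj (RealOrbits.beta N s g) g := by
    intro y hy g hg
    obtain ⟨c, hc⟩ := isConj_iff.1 (ConjClasses.mk_eq_mk_iff_isConj.1 hg).symm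
    rw [RealOrbits.beta_eq_conjN, ← hc, hb, hy, conj_inv, inv_inv]
    exact isConj_iff.2 ⟨c * (conjN s c)⁻¹, by group⟩
  have h1 : conjN s (1 : N) = (1 : N)⁻¹ := Subtype.ext (by simp)
  have hlt : 1 < Nat.card {θ : Cfsg.IrrCharacter N //
      (θ : N → ℂ) ∘ RealOrbits.beta N s = (θ : N → ℂ)} := by
    rw [Char.natCard_fixed_irr_eq (G := N) (RealOrbits.beta N s)
      fun χ h => RealOrbits.isIrr_comp_beta N h s, Finite.one_lt_card_iff_nontrivial]
    exact ⟨⟨_, hcls x hsx⟩, ⟨_, hcls 1 h1⟩, fun e => hx (by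
      have e' := congrArg Subtype.val e
      exact isConj_one_left.1 (ConjClasses.mk_eq_mk_iff_isConj.1 e'))⟩
  by_contra hno
  push Not at hno
  have : Subsingleton {θ : Cfsg.IrrCharacter N //
      (θ : N → ℂ) ∘ RealOrbits.beta N s = (θ : N → ℂ)} := by
    have key : ∀ θ : {θ : Cfsg.IrrCharacter N //
        (θ : N → ℂ) ∘ RealOrbits.beta N s = (θ : N → ℂ)}, (θ.1 : N → ℂ) = fun _ => 1 := by
      intro θ
      by_contra hne
      obtain ⟨n, hn⟩ := hno θ.1 hne
      refine hn ?_
      have h := congrFun θ.2 n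
      rw [Function.comp_apply, RealOrbits.beta_eq_conjN, Char.char_inv
        (Char.irr_isCharacter θ.1.2)] at h
      rw [← h, Complex.conj_conj]
    exact ⟨fun a b => Subtype.ext (Subtype.ext ((key a).trans (key b).symm))⟩
  have := Finite.card_le_one_iff_subsingleton.2 this
  omega

/-- A character of a `p`-group of degree prime to `p` has a linear constituent. -/
theorem exists_linear_constituent {P : Type u} [Group P] [Fintype P] {p : ℕ} [Fact p.Prime]
    (hP : IsPGroup p P) {χ : P → ℂ} (hχ : Cfsg.IsCharacter P χ)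
    (hdeg : ¬ p ∣ Cfsg.charDegree χ) :
    ∃ μ : P →* ℂˣ, Cfsg.classInner χ (fun x => (μ x : ℂ)) ≠ 0 := by
  classical
  have := Fintype.ofFinite (Cfsg.IrrCharacter P)
  by_contra hno
  push Not at hno
  have hc : ∀ ξ : Cfsg.IrrCharacter P, ∃ c : ℕ, Cfsg.classInner χ (ξ : P → ℂ) = c := fun ξ =>
    Char.classInner_isCharacter_nat hχ (Char.irr_isCharacter ξ.2)
  choose c hc using hc
  have h1 := congrFun (Char.classFunction_eq_sum (Char.isCharacter_isClassFunction hχ)) 1
  simp only [hc, Finset.sum_apply, Pi.smul_apply, smul_eq_mul] at h1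
  simp only [← BlockB.charDegree_cast (Char.irr_isCharacter (Subtype.prop _)),
    ← BlockB.charDegree_cast hχ] at h1
  have h2 : Cfsg.charDegree χ = ∑ ξ : Cfsg.IrrCharacter P,
      c ξ * Cfsg.charDegree (ξ : P → ℂ) := by exact_mod_cast h1
  refine hdeg (h2 ▸ Finset.dvd_sum fun ξ _ => ?_)
  obtain ⟨a, ha⟩ := IsPGroup.iff_card.1 hP
  obtain ⟨b, -, hb⟩ := (Nat.dvd_prime_pow Fact.out).1 (ha ▸ BlockB.irr_degree_dvd_card ξ)
  rcases Nat.eq_zero_or_pos b with hb0 | hb0
  · rw [hb0, pow_zero] at hb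
    have hl : (ξ : P → ℂ) 1 = 1 := by
      rw [← BlockB.charDegree_cast (Char.irr_isCharacter ξ.2), hb, Nat.cast_one]
    obtain ⟨μ, hμ⟩ := Char.exists_hom_of_degree_one (Char.irr_isCharacter ξ.2) hl
    have h0 := hno μ
    rw [← show (ξ : P → ℂ) = fun x => (μ x : ℂ) from hμ, hc, Nat.cast_eq_zero] at h0
    simp [h0]
  · exact (hb ▸ dvd_pow_self p hb0.ne').mul_left _

/-- An element acting as a nontrivial `2`-element has a power inverting a nontrivial element. -/
theorem exists_inverted (N : Subgroup G) [N.Normal] {t : G} {k : ℕ} (ht : orderOf t = 2 ^ k)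
    (hne : t ∉ Subgroup.centralizer (N : Set G)) :
    ∃ (i : ℕ) (x : N), x ≠ 1 ∧ conjN (t ^ 2 ^ i) x = x⁻¹ := by
  classical
  have hex : ∃ j, t ^ 2 ^ j ∈ Subgroup.centralizer (N : Set G) :=
    ⟨k, by rw [← ht, pow_orderOf_eq_one]; exact one_mem _⟩
  have hpos : Nat.find hex ≠ 0 := fun h0 => hne (by
    have := Nat.find_spec hex
    rwa [h0, pow_zero, pow_one] at this)
  obtain ⟨i, hi⟩ := Nat.exists_eq_succ_of_ne_zero hpos
  have hs : t ^ 2 ^ i ∉ Subgroup.centralizer (N : Set G) := Nat.find_min hex (by omega)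
  have hs2 : t ^ 2 ^ i * t ^ 2 ^ i ∈ Subgroup.centralizer (N : Set G) := by
    rw [← pow_add, ← two_mul, ← pow_succ']
    have h := Nat.find_spec hex
    rwa [hi] at h
  obtain ⟨m, hm, hm'⟩ : ∃ m ∈ N, m * t ^ 2 ^ i ≠ t ^ 2 ^ i * m := by
    rw [Subgroup.mem_centralizer_iff] at hs
    push Not at hs
    exact hs
  refine ⟨i, ⟨m, hm⟩⁻¹ * conjN (t ^ 2 ^ i) ⟨m, hm⟩, fun h => hm' ?_, Subtype.ext ?_⟩
  · have h' := congrArg Subtype.val (inv_mul_eq_one.1 h)
    simp only [coe_conjN] at h'
    conv_lhs => rw [h']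
    group
  · have h2 : m * (t ^ 2 ^ i * t ^ 2 ^ i) = t ^ 2 ^ i * t ^ 2 ^ i * m :=
      Subgroup.mem_centralizer_iff.1 hs2 m hm
    simp only [coe_conjN, Subgroup.coe_mul, InvMemClass.coe_inv, mul_inv_rev, inv_inv]
    calc _ = t ^ 2 ^ i * m⁻¹ * (t ^ 2 ^ i)⁻¹ *
          (t ^ 2 ^ i * t ^ 2 ^ i * m) * (t ^ 2 ^ i * t ^ 2 ^ i)⁻¹ := by group
      _ = _ := by rw [← h2]; group

end CfsgLib.BlockB.RealOverOdd
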