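import Cfsg.Agent.Lib.BlockB.GaussPsi
import Cfsg.Agent.Lib.BlockB.HeisenbergPsi
import Mathlib.LinearAlgebra.Matrix.BilinearForm
import Mathlib.LinearAlgebra.Dual.Lemmas

/-!
A faithful coprime module with an invariant nondegenerate form contains a faithful submodule with
a square root `ψ`.
-/

set_option autoImplicit false
set_option linter.unusedSectionVars false

namespace CfsgLib.BlockB.SelfDualPsi

open CfsgLib.BlockB CfsgLib.BlockB.Psi

universe u

theorem zmod_two_eq_one : ∀ t : ZMod 2, t ≠ 0 → t = 1 := by decide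

theorem zmod_two_sum : ∀ t : ZMod 2, 1 + t + (t + 1) = 0 := by decide

variable {H : Type u} [Group H] [Fintype H] {p : ℕ} [Fact p.Prime] {N : ℕ} [NeZero N]
  {U : Type u} [AddCommGroup U] [Module (ZMod p) U] [Finite U]
  (ρ : Representation (ZMod p) H U)

theorem card_ne_zero (hcop : ¬ p ∣ Nat.card H) : (Fintype.card H : ZMod p) ≠ 0 := fun h =>
  hcop (by rw [Nat.card_eq_fintype_card]; exact (ZMod.natCast_eq_zero_iff _ _).1 h)

/-- An equivariant projection onto an invariant subspace. -/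
theorem exists_proj (hcop : ¬ p ∣ Nat.card H) (K : Submodule (ZMod p) U)
    (hK : ∀ c, ∀ u ∈ K, ρ c u ∈ K) :
    ∃ π : U →ₗ[ZMod p] U, (∀ u, π u ∈ K) ∧ (∀ u ∈ K, π u = u) ∧
      ∀ c u, π (ρ c u) = ρ c (π u) := by
  obtain ⟨π₀, hπ₀⟩ := K.exists_isCompl
  let q : U →ₗ[ZMod p] U := K.subtype.comp (K.linearProjOfIsCompl π₀ hπ₀)
  refine ⟨(Fintype.card H : ZMod p)⁻¹ • ∑ d : H, ρ d ∘ₗ q ∘ₗ ρ d⁻¹, fun u => ?_, fun u hu => ?_,
    fun c u => ?_⟩
  · rw [LinearMap.smul_apply, LinearMap.sum_apply]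
    exact K.smul_mem _ (K.sum_mem fun d _ => hK d _ (Submodule.coe_mem _))
  · rw [LinearMap.smul_apply, LinearMap.sum_apply,
      Finset.sum_congr rfl fun d _ => show (ρ d ∘ₗ q ∘ₗ ρ d⁻¹) u = u from ?_]
    · rw [Finset.sum_const, Finset.card_univ, ← Nat.cast_smul_eq_nsmul (ZMod p), smul_smul,
        inv_mul_cancel₀ (card_ne_zero hcop), one_smul]
    · simp only [LinearMap.comp_apply, q, Submodule.subtype_apply]
      rw [show K.linearProjOfIsCompl π₀ hπ₀ (ρ d⁻¹ u) = ⟨ρ d⁻¹ u, hK d⁻¹ u hu⟩ from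
        Submodule.projectionOnto_apply_left hπ₀ ⟨ρ d⁻¹ u, hK d⁻¹ u hu⟩]
      simp
  · simp only [LinearMap.smul_apply, LinearMap.sum_apply, map_smul, map_sum]
    refine congrArg ((Fintype.card H : ZMod p)⁻¹ • ·) ?_
    refine (Fintype.sum_equiv (Equiv.mulLeft c) _ _ fun d => ?_).symm
    simp [mul_inv_rev]

variable (β : LinearMap.BilinForm (ZMod p) U)
  (hinv : ∀ c x y, β (ρ c x) (ρ c y) = β x y)

include hinv in
theorem inv_apply (c : H) (x y : U) : β (ρ c x) y = β x (ρ c⁻¹ y) := by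
  conv_lhs => rw [show y = ρ c (ρ c⁻¹ y) by simp, hinv]

/-- An invariant bilinear form with antisymmetrisation a given alternating invariant form. -/
theorem exists_refinement (hcop : ¬ p ∣ Nat.card H) (α : LinearMap.BilinForm (ZMod p) U)
    (hα : ∀ c x y, α (ρ c x) (ρ c y) = α x y) (halt : ∀ x, α x x = 0) :
    ∃ b : LinearMap.BilinForm (ZMod p) U, (∀ c x y, b (ρ c x) (ρ c y) = b x y) ∧
      ∀ x y, b x y - b y x = α x y := by
  classical
  let e := Module.finBasis (ZMod p) U
  let b₀ : LinearMap.BilinForm (ZMod p) U :=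
    Matrix.toBilin e (Matrix.of fun i j => if i < j then α (e i) (e j) else 0)
  have hskew : ∀ x y, α y x = -α x y := fun x y => by
    have h := halt (x + y)
    simp only [map_add, LinearMap.add_apply, halt, zero_add, add_zero] at h
    linear_combination h
  have hb₀ : ∀ x y, b₀ x y - b₀ y x = α x y := by
    suffices b₀ - b₀.flip = α from fun x y => by rw [← this]; rfl
    refine LinearMap.BilinForm.ext_basis e fun i j => ?_
    have hm : ∀ i j, b₀ (e i) (e j) = if i < j then α (e i) (e j) else 0 := fun i j => by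
      simp [b₀, Matrix.toBilin_apply, Finsupp.single_apply]
      rw [Finset.sum_eq_single i] <;> simp +contextual [eq_comm]
    simp only [LinearMap.sub_apply, LinearMap.BilinForm.flip_apply, hm]
    rcases lt_trichotomy i j with h | h | h
    · simp [h, h.not_gt]
    · simp [h, halt]
    · simp [h, h.not_gt, hskew (e i) (e j)]
  refine ⟨(Fintype.card H : ZMod p)⁻¹ • ∑ d : H, b₀.comp (ρ d) (ρ d), fun c x y => ?_,
    fun x y => ?_⟩
  · simp only [LinearMap.smul_apply, LinearMap.sum_apply, LinearMap.BilinForm.comp_apply]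
    congr 1
    refine Fintype.sum_equiv (Equiv.mulRight c) _ _ fun d => ?_
    simp
  · simp only [LinearMap.smul_apply, LinearMap.sum_apply, LinearMap.BilinForm.comp_apply,
      smul_eq_mul, ← mul_sub, ← Finset.sum_sub_distrib, hb₀, hα, Finset.sum_const,
      Finset.card_univ, nsmul_eq_mul, ← mul_assoc]
    rw [inv_mul_cancel₀ (card_ne_zero hcop), one_mul]

theorem coe_fix {W : Submodule (ZMod p) U} (hW : ∀ c, ∀ u ∈ W, ρ c u ∈ W) :
    ∀ (c : H) (x y : W), β (sub ρ W hW c x : U) (sub ρ W hW c y : U) =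
      β (ρ c (x : U)) (ρ c (y : U)) := fun c x y => rfl

include hinv in
/-- The piece given by an irreducible nondegenerate subspace. -/
theorem hasPsi_irreducible (hcop : ¬ p ∣ Nat.card H) (hHN : Nat.card H ∣ N) (hpN : p ∣ N)
    (W : Submodule (ZMod p) U) (hW : ∀ c, ∀ u ∈ W, ρ c u ∈ W)
    (hirr : ∀ S : Submodule (ZMod p) U, S ≤ W → (∀ c, ∀ u ∈ S, ρ c u ∈ S) → S = ⊥ ∨ S = W)
    (hnd : ∀ x ∈ W, (∀ y ∈ W, β x y = 0) → x = 0) {c₀ : H} (hmove : ¬ W ≤ fix ρ c₀) :
    HasPsi ρ N W := by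
  classical
  refine hasPsi_of_sub ρ W hW ?_
  let β' : LinearMap.BilinForm (ZMod p) W := β.restrict W
  have hinv' : ∀ c x y, β' (sub ρ W hW c x) (sub ρ W hW c y) = β' x y := fun c x y => hinv c x y
  have hnd' : ∀ x, (∀ y, β' x y = 0) → x = 0 := fun x h =>
    Subtype.ext (hnd x x.2 fun y hy => h ⟨y, hy⟩)
  by_cases hsymm : ∀ x y : W, β' x y = β' y x
  · by_cases hp2 : p = 2
    · subst hp2
      -- the form is alternating
      let K : Submodule (ZMod 2) U :=
        { carrier := {x | x ∈ W ∧ β x x = 0}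
          zero_mem' := ⟨W.zero_mem, by simp⟩
          add_mem' := by
            rintro a b ⟨ha, ha0⟩ ⟨hb, hb0⟩
            refine ⟨W.add_mem ha hb, ?_⟩
            simp only [map_add, LinearMap.add_apply, ha0, hb0, zero_add, add_zero]
            rw [show β b a = β a b from hsymm ⟨b, hb⟩ ⟨a, ha⟩]
            exact CharTwo.add_self_eq_zero _
          smul_mem' := by
            rintro a x ⟨hx, hx0⟩
            exact ⟨W.smul_mem a hx, by simp [hx0]⟩ }
      have halt : ∀ x : W, β' x x = 0 := by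
        rcases hirr K (fun x hx => hx.1) (fun c u hu => ⟨hW c u hu.1, by rw [hinv]; exact hu.2⟩)
          with h | h
        · exfalso
          apply hmove
          intro x hx
          rw [mem_fix]
          by_contra hne
          have hx0 : x ≠ 0 := fun h0 => hne (by rw [h0, map_zero])
          have hone : ∀ y ∈ W, y ≠ 0 → β y y = 1 := fun y hy hy0 => by
            exact zmod_two_eq_one _ fun h1 => hy0 ((Submodule.mem_bot _).1 (h.le ⟨hy, h1⟩))
          have hsum : ρ c₀ x + x ∈ K := by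
            refine ⟨W.add_mem (hW _ _ hx) hx, ?_⟩
            simp only [map_add, LinearMap.add_apply]
            rw [show β x (ρ c₀ x) = β (ρ c₀ x) x from hsymm ⟨x, hx⟩ ⟨_, hW _ _ hx⟩, hinv,
              hone x hx hx0]
            exact zmod_two_sum _
          have h0 := (Submodule.mem_bot _).1 (h.le hsum)
          have : x + x = 0 := by
            rw [← two_smul (ZMod 2) x, show (2 : ZMod 2) = 0 from rfl, zero_smul]
          exact hne ((eq_neg_of_add_eq_zero_left h0).trans (eq_neg_of_add_eq_zero_left this).symm)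
        · exact fun x => (h.ge x.2).2
      obtain ⟨b, hb, hb'⟩ := exists_refinement (sub ρ W hW) hcop β' hinv' halt
      refine HeisenbergPsi.hasPsi _ b hcop hHN hb fun u hu => hnd' u fun w => ?_
      rw [← hb', hu w, sub_self]
    · exact GaussPsi.hasPsi _ hcop hHN hpN hp2 hsymm hnd' hinv'
  · refine HeisenbergPsi.hasPsi _ β' hcop hHN hinv' fun u hu => ?_
    let R : Submodule (ZMod p) U :=
      { carrier := {x | x ∈ W ∧ ∀ y ∈ W, β x y = β y x}
        zero_mem' := ⟨W.zero_mem, fun y _ => by simp⟩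
        add_mem' := by
          rintro a b ⟨ha, ha0⟩ ⟨hb, hb0⟩
          exact ⟨W.add_mem ha hb, fun y hy => by simp [ha0 y hy, hb0 y hy]⟩
        smul_mem' := by
          rintro a x ⟨hx, hx0⟩
          exact ⟨W.smul_mem a hx, fun y hy => by simp [hx0 y hy]⟩ }
    have hR : ∀ c, ∀ x ∈ R, ρ c x ∈ R := fun c x hx => ⟨hW c x hx.1, fun y hy => by
      have hy' := hx.2 _ (hW c⁻¹ y hy)
      rw [inv_apply ρ β hinv, hy']
      conv_rhs => rw [show y = ρ c (ρ c⁻¹ y) by simp, hinv]⟩
    rcases hirr R (fun x hx => hx.1) hR with h | h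
    · exact Subtype.ext ((Submodule.mem_bot _).1
        (h.le ⟨u.2, fun y hy => hu ⟨y, hy⟩⟩))
    · exact absurd (fun x y : W => (h.ge x.2).2 y y.2) hsymm

include hinv in
theorem exists_faithful (hcop : ¬ p ∣ Nat.card H) (hHN : Nat.card H ∣ N) (hpN : p ∣ N)
    (hnd : ∀ x, (∀ y, β x y = 0) → x = 0) (hfaith : ∀ c, fix ρ c = ⊤ → c = 1) :
    ∃ D : Submodule (ZMod p) U, (∀ c, ∀ u ∈ D, ρ c u ∈ D) ∧ HasPsi ρ N D ∧
      ∀ c, c ≠ 1 → ¬ D ≤ fix ρ c := by
  classical
  suffices main : ∀ D : Submodule (ZMod p) U, (∀ c, ∀ u ∈ D, ρ c u ∈ D) → HasPsi ρ N D →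
      ∃ D' : Submodule (ZMod p) U, (∀ c, ∀ u ∈ D', ρ c u ∈ D') ∧ HasPsi ρ N D' ∧
        ∀ c, c ≠ 1 → ¬ D' ≤ fix ρ c from
    main ⊥ (fun c u hu => by simp_all) (hasPsi_bot ρ)
  intro D
  induction D using WellFoundedGT.induction with
  | ind D ih =>
  intro hD hψ
  by_cases hdone : ∀ c, c ≠ 1 → ¬ D ≤ fix ρ c
  · exact ⟨D, hD, hψ, hdone⟩
  push Not at hdone
  obtain ⟨c₀, hc₀, hDc⟩ := hdone
  -- a minimal invariant subspace moved by `c₀`
  have hex : ∃ W, Minimal (fun W : Submodule (ZMod p) U =>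
      (∀ c, ∀ u ∈ W, ρ c u ∈ W) ∧ ¬ W ≤ fix ρ c₀) W :=
    exists_minimal_of_wellFoundedLT _ ⟨⊤, fun c u _ => trivial,
      fun h => hc₀ (hfaith c₀ (top_le_iff.1 h))⟩
  obtain ⟨W, ⟨hW, hWmove⟩, hWmin⟩ := hex
  have hWirr : ∀ S : Submodule (ZMod p) U, S ≤ W → (∀ c, ∀ u ∈ S, ρ c u ∈ S) →
      S = ⊥ ∨ S = W := by
    intro S hSW hS
    obtain ⟨π, hπK, hπid, hπeq⟩ := exists_proj ρ hcop S hS
    let T : Submodule (ZMod p) U := W ⊓ LinearMap.ker π
    have hT : ∀ c, ∀ u ∈ T, ρ c u ∈ T := fun c u hu => ⟨hW c u hu.1, by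
      show π (ρ c u) = 0
      rw [hπeq, show π u = 0 from hu.2, map_zero]⟩
    by_cases hSm : S ≤ fix ρ c₀
    · left
      have hTm : ¬ T ≤ fix ρ c₀ := fun h => hWmove fun x hx => by
        rw [show x = π x + (x - π x) by rw [add_sub_cancel]]
        exact Submodule.add_mem _ (hSm (hπK x)) (h ⟨W.sub_mem hx (hSW (hπK x)), by
          show π (x - π x) = 0
          rw [map_sub, hπid _ (hπK x), sub_self]⟩)
      have hTW : T = W := le_antisymm inf_le_left (hWmin ⟨hT, hTm⟩ inf_le_left)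
      refine (Submodule.eq_bot_iff _).2 fun x hx => ?_
      have h0 : π x = 0 := (hTW.ge (hSW hx)).2
      rwa [hπid x hx] at h0
    · exact Or.inr (le_antisymm hSW (hWmin ⟨hS, hSm⟩ hSW))
  have hWD : Disjoint D W := by
    rw [disjoint_iff]
    rcases hWirr (D ⊓ W) inf_le_right (fun c u hu => ⟨hD c u hu.1, hW c u hu.2⟩) with h | h
    · exact h
    · exact absurd ((inf_eq_right.1 h).trans hDc) hWmove
  have hnle : ¬ W ≤ D := fun h => hWmove (h.trans hDc)
  let K : Submodule (ZMod p) U :=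
    { carrier := {u | ∀ w ∈ W, β u w = 0}
      zero_mem' := fun w _ => by simp
      add_mem' := fun ha hb w hw => by simp [ha w hw, hb w hw]
      smul_mem' := fun a x hx w hw => by simp [hx w hw] }
  have hK : ∀ c, ∀ u ∈ K, ρ c u ∈ K := fun c u hu w hw => by
    rw [inv_apply ρ β hinv]; exact hu _ (hW c⁻¹ w hw)
  rcases hWirr (K ⊓ W) inf_le_right (fun c u hu => ⟨hK c u hu.1, hW c u hu.2⟩) with hiso | hiso
  · -- a nondegenerate piece
    have hnd' : ∀ x ∈ W, (∀ y ∈ W, β x y = 0) → x = 0 := fun x hx h =>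
      (Submodule.mem_bot _).1 (hiso.le ⟨h, hx⟩)
    exact ih (D ⊔ W) (left_lt_sup.2 hnle)
      (fun c u hu => by
        obtain ⟨a, ha, b, hb, rfl⟩ := Submodule.mem_sup.1 hu
        rw [map_add]
        exact Submodule.add_mem_sup (hD c a ha) (hW c b hb))
      (hasPsi_sup ρ hHN hD hW hWD hψ
        (hasPsi_irreducible ρ β hinv hcop hHN hpN W hW hWirr hnd' hWmove))
  · -- a hyperbolic piece
    have hWK : W ≤ K := inf_eq_right.1 hiso
    obtain ⟨π, hπK, hπid, hπeq⟩ := exists_proj ρ hcop K hK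
    let L : Submodule (ZMod p) U := LinearMap.ker π
    have hL : ∀ c, ∀ u ∈ L, ρ c u ∈ L := fun c u hu => by
      show π (ρ c u) = 0
      rw [hπeq, show π u = 0 from hu, map_zero]
    have hdec : ∀ u, u - π u ∈ L := fun u => by
      show π (u - π u) = 0
      rw [map_sub, hπid _ (hπK u), sub_self]
    have hLK : ∀ x ∈ L, x ∈ K → x = 0 := fun x hx hxK => by
      rw [← hπid x hxK]; exact hx
    have hleft : ∀ x ∈ L, (∀ w ∈ W, β x w = 0) → x = 0 := hLK
    have hright : ∀ w ∈ W, (∀ x ∈ L, β x w = 0) → w = 0 := by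
      intro w hw h
      have hinj : Function.Injective β := (injective_iff_map_eq_zero _).2 fun x hx =>
        hnd x fun y => by rw [hx]; rfl
      have hsurj := (LinearMap.injective_iff_surjective_of_finrank_eq_finrank
        Subspace.dual_finrank_eq.symm).1 hinj
      refine (Module.forall_dual_apply_eq_zero_iff (ZMod p) w).1 fun f => ?_
      obtain ⟨u, rfl⟩ := hsurj f
      rw [show u = (u - π u) + π u by rw [sub_add_cancel], map_add, LinearMap.add_apply,
        h _ (hdec u), hπK u w hw, add_zero]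
    have hLmove : ¬ L ≤ fix ρ c₀ := fun h => hWmove fun w hw => by
      rw [mem_fix, ← sub_eq_zero]
      refine hright _ (W.sub_mem (hW _ _ hw) hw) fun x hx => ?_
      rw [map_sub, sub_eq_zero]
      conv_lhs => rw [← (mem_fix ρ).1 (h hx)]
      rw [hinv]
    have hDL : Disjoint D L := by
      rw [disjoint_iff]
      let S := D ⊓ L
      let A : Submodule (ZMod p) U :=
        { carrier := {w | w ∈ W ∧ ∀ s ∈ S, β s w = 0}
          zero_mem' := ⟨W.zero_mem, fun s _ => by simp⟩
          add_mem' := fun ha hb => ⟨W.add_mem ha.1 hb.1, fun s hs => by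
            simp [ha.2 s hs, hb.2 s hs]⟩
          smul_mem' := fun a x hx => ⟨W.smul_mem a hx.1, fun s hs => by simp [hx.2 s hs]⟩ }
      have hA : ∀ c, ∀ w ∈ A, ρ c w ∈ A := fun c w hw => ⟨hW c w hw.1, fun s hs => by
        conv_lhs => rw [show s = ρ c (ρ c⁻¹ s) by simp, hinv]
        exact hw.2 _ ⟨hD _ _ hs.1, hL _ _ hs.2⟩⟩
      rcases hWirr A (fun w hw => hw.1) hA with h | h
      · exfalso
        let f : W →ₗ[ZMod p] Module.Dual (ZMod p) S :=
          (β.flip.compl₁₂ W.subtype S.subtype)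
        have hf : Function.Injective f := (injective_iff_map_eq_zero _).2 fun w hw =>
          Subtype.ext ((Submodule.mem_bot _).1 (h.le ⟨w.2, fun s hs =>
            LinearMap.congr_fun hw ⟨s, hs⟩⟩))
        let g : L →ₗ[ZMod p] Module.Dual (ZMod p) W := β.compl₁₂ L.subtype W.subtype
        have hg : Function.Injective g := (injective_iff_map_eq_zero _).2 fun x hx =>
          Subtype.ext (hleft x x.2 fun w hw => LinearMap.congr_fun hx ⟨w, hw⟩)
        have h1 := LinearMap.finrank_le_finrank_of_injective hf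
        have h2 := LinearMap.finrank_le_finrank_of_injective hg
        rw [Subspace.dual_finrank_eq] at h1 h2
        have hSL : S = L := Submodule.eq_of_le_of_finrank_le inf_le_right (h2.trans h1)
        exact hLmove ((inf_eq_right.1 hSL).trans hDc)
      · refine (Submodule.eq_bot_iff _).2 fun x hx => hleft x hx.2 fun w hw => ?_
        exact (h.ge hw).2 x hx
    have hDLinv : ∀ c, ∀ u ∈ D ⊔ L, ρ c u ∈ D ⊔ L := fun c u hu => by
      obtain ⟨a, ha, b, hb, rfl⟩ := Submodule.mem_sup.1 hu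
      rw [map_add]
      exact Submodule.add_mem_sup (hD c a ha) (hL c b hb)
    have hdisj : Disjoint D (L ⊔ W) := by
      rw [Submodule.disjoint_def]
      intro d hd hd'
      obtain ⟨l, hl, w, hw, rfl⟩ := Submodule.mem_sup.1 hd'
      rcases hWirr ((D ⊔ L) ⊓ W) inf_le_right
        (fun c u hu => ⟨hDLinv c u hu.1, hW c u hu.2⟩) with h | h
      · have hw0 : w = 0 := (Submodule.mem_bot _).1 (h.le ⟨by
          rw [show w = (l + w) + (-l) by abel]
          exact Submodule.add_mem_sup hd (L.neg_mem hl), hw⟩)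
        rw [hw0, add_zero] at hd ⊢
        exact Submodule.disjoint_def.1 hDL l hd hl
      · exfalso
        apply hWmove
        intro x hx
        obtain ⟨a, ha, b, hb, e⟩ := Submodule.mem_sup.1 (inf_eq_right.1 h hx)
        rw [mem_fix, ← sub_eq_zero]
        refine hLK _ ?_ (hWK (W.sub_mem (hW _ _ hx) hx))
        rw [← e, map_add, (mem_fix ρ).1 (hDc ha), add_sub_add_left_eq_sub]
        exact L.sub_mem (hL _ _ hb) hb
    have hLW : ∀ c, ∀ u ∈ L ⊔ W, ρ c u ∈ L ⊔ W := fun c u hu => by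
      obtain ⟨a, ha, b, hb, rfl⟩ := Submodule.mem_sup.1 hu
      rw [map_add]
      exact Submodule.add_mem_sup (hL c a ha) (hW c b hb)
    have hpiece : HasPsi ρ N (L ⊔ W) := by
      refine hasPsi_of_sub ρ _ hLW ?_
      let ι : (L ⊔ W : Submodule (ZMod p) U) →ₗ[ZMod p] U := (L ⊔ W).subtype
      let b : LinearMap.BilinForm (ZMod p) (L ⊔ W : Submodule (ZMod p) U) :=
        β.compl₁₂ (ι - π ∘ₗ ι) (π ∘ₗ ι)
      have hb : ∀ x y, b x y = β ((x : U) - π x) (π y) := fun x y => rfl
      refine HeisenbergPsi.hasPsi _ b hcop hHN (fun c x y => ?_) fun u hu => ?_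
      · rw [hb, hb, Psi.sub_apply, Psi.sub_apply, hπeq, hπeq, ← map_sub, hinv]
      · obtain ⟨l, hl, w, hw, e⟩ := Submodule.mem_sup.1 u.2
        have e1 : π (u : U) = w := by
          rw [← e, map_add, show π l = 0 from hl, hπid w (hWK hw), zero_add]
        have e2 : (u : U) - π u = l := by rw [e1, ← e, add_sub_cancel_right]
        have hl0 : l = 0 := hleft l hl fun m hm => by
          have := hu ⟨m, Submodule.mem_sup_right hm⟩
          rw [hb, hb, e2, e1] at this
          rw [show π m = m from hπid m (hWK hm)] at this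
          rw [this]
          simp
        have hw0 : w = 0 := hright w hw fun x hx => by
          have := hu ⟨x, Submodule.mem_sup_left hx⟩
          rw [hb, hb, e2, e1] at this
          rw [show π x = 0 from hx, sub_zero, map_zero] at this
          exact this.symm
        refine Subtype.ext ?_
        rw [← e, hl0, hw0, add_zero]
        rfl
    refine ih (D ⊔ (L ⊔ W)) (left_lt_sup.2 fun h => hnle (le_sup_right.trans h))
      (fun c u hu => ?_) (hasPsi_sup ρ hHN hD hLW hdisj hψ hpiece)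
    obtain ⟨a, ha, b, hb, rfl⟩ := Submodule.mem_sup.1 hu
    rw [map_add]
    exact Submodule.add_mem_sup (hD c a ha) (hLW c b hb)

end CfsgLib.BlockB.SelfDualPsi
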