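import Cfsg.Agent.Lib.BlockB.KnorrVector
import Cfsg.Agent.Lib.BlockB.SelfDualPsi

/-!
The real-vector criterion for `k(GV) ≤ |V|`.
-/

set_option autoImplicit false
set_option linter.style.haveILetI false

open Cfsg

namespace CfsgLib.BlockB.RealVector

universe u

/-- Knörr's real-vector criterion. -/
theorem card_conjClasses_le {X : Type u} [Group X] [Finite X] (p : ℕ) [Fact p.Prime] (V : Subgroup X) [V.Normal] (hVexp : ∀ v ∈ V, v ^ p = 1) (hidx : ¬ p ∣ V.index) (hself : Subgroup.centralizer (V : Set X) = V) (G : Subgroup X) (hGV : Subgroup.IsComplement' V G) (v : X) (hv : v ∈ V) (U : Subgroup X) (hUV : U ≤ V) (hUinv : ∀ h ∈ G, h * v * h⁻¹ = v → ∀ u ∈ U, h * u * h⁻¹ ∈ U) (hUfaith : ∀ h ∈ G, h * v * h⁻¹ = v → (∀ u ∈ U, h * u * h⁻¹ = u) → h = 1) (β : X → X → ZMod p) (hβl : ∀ u ∈ U, ∀ u' ∈ U, ∀ w ∈ U, β (u * u') w = β u w + β u' w) (hβr : ∀ u ∈ U, ∀ w ∈ U, ∀ w' ∈ U, β u (w * w') = β u w + β u w') (hβinv : ∀ h ∈ G, h * v * h⁻¹ = v → ∀ u ∈ U, ∀ w ∈ U, β (h * u * h⁻¹) (h * w * h⁻¹) = β u w)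 (hβnd : ∀ u ∈ U, (∀ w ∈ U, β u w = 0) → u = 1) : Nat.card (ConjClasses X) ≤ Nat.card V := by
  classical
  have hp : p.Prime := Fact.out
  have : NeZero p := ⟨hp.ne_zero⟩
  have := Fintype.ofFinite X
  set K : Subgroup X := G ⊓ Subgroup.centralizer ({v} : Set X) with hK
  have := Fintype.ofFinite K
  have hVcomm : ∀ a ∈ V, ∀ b ∈ V, a * b = b * a := fun a ha b hb => by
    rw [← hself] at ha
    exact (Subgroup.mem_centralizer_iff.1 ha b hb).symm
  have hKfix : ∀ c : K, (c : X) * v * (c : X)⁻¹ = v := fun c => by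
    rw [mul_inv_eq_iff_eq_mul]
    exact Subgroup.mem_centralizer_singleton_iff.1 c.2.2
  have hKG : ∀ c : K, (c : X) ∈ G := fun c => c.2.1
  have hH : ¬ p ∣ Nat.card K := fun hd => hidx (by
    rw [hGV.symm.index_eq_card]
    exact hd.trans (Subgroup.card_dvd_of_le inf_le_left))
  letI : CommGroup U :=
    { U.toGroup with mul_comm := fun a b => Subtype.ext (hVcomm a (hUV a.2) b (hUV b.2)) }
  have hU0 : ∀ x : Additive U, p • x = 0 := fun x => by
    apply Additive.toMul.injective
    exact Subtype.ext (hVexp _ (hUV (Additive.toMul x).2))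
  have : Module (ZMod p) (Additive U) := AddCommGroup.zmodModule hU0
  let conjU : K → (Additive U →+ Additive U) := fun c => AddMonoidHom.mk'
    (fun x => Additive.ofMul ⟨(c : X) * ((Additive.toMul x : U) : X) * (c : X)⁻¹,
      hUinv _ (hKG c) (hKfix c) _ (Additive.toMul x).2⟩)
    fun x y => by
      apply Additive.toMul.injective
      refine Subtype.ext ?_
      show (c : X) * (((Additive.toMul x : U) : X) * ((Additive.toMul y : U) : X)) * (c : X)⁻¹ =
        (c : X) * _ * (c : X)⁻¹ * ((c : X) * _ * (c : X)⁻¹)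
      group
  let ρ : Representation (ZMod p) K (Additive U) :=
    { toFun := fun c => (conjU c).toZModLinearMap p
      map_one' := LinearMap.ext fun x => Additive.toMul.injective (Subtype.ext (by
        show ((1 : K) : X) * _ * ((1 : K) : X)⁻¹ = _
        simp))
      map_mul' := fun a b => LinearMap.ext fun x => Additive.toMul.injective (Subtype.ext (by
        show ((a * b : K) : X) * _ * ((a * b : K) : X)⁻¹ =
          (a : X) * ((b : X) * _ * (b : X)⁻¹) * (a : X)⁻¹
        simp [mul_assoc])) }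
  have hρ : ∀ (c : K) (x : Additive U), ((Additive.toMul (ρ c x) : U) : X) =
      (c : X) * ((Additive.toMul x : U) : X) * (c : X)⁻¹ := fun c x => rfl
  let βhom : Additive U →+ (Additive U →+ ZMod p) := AddMonoidHom.mk'
    (fun x => AddMonoidHom.mk'
      (fun y => β ((Additive.toMul x : U) : X) ((Additive.toMul y : U) : X))
      fun y z => hβr _ (Additive.toMul x).2 _ (Additive.toMul y).2 _ (Additive.toMul z).2)
    fun x y => AddMonoidHom.ext fun z =>
      hβl _ (Additive.toMul x).2 _ (Additive.toMul y).2 _ (Additive.toMul z).2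
  let B : LinearMap.BilinForm (ZMod p) (Additive U) :=
    (AddMonoidHom.mk' (fun x => (βhom x).toZModLinearMap p) fun x y => LinearMap.ext fun z =>
      DFunLike.congr_fun (map_add βhom x y) z).toZModLinearMap p
  have hB : ∀ x y, B x y = β ((Additive.toMul x : U) : X) ((Additive.toMul y : U) : X) :=
    fun x y => rfl
  have hBinv : ∀ c x y, B (ρ c x) (ρ c y) = B x y := fun c x y => by
    rw [hB, hB, hρ, hρ]
    exact hβinv _ (hKG c) (hKfix c) _ (Additive.toMul x).2 _ (Additive.toMul y).2
  have hBnd : ∀ x, (∀ y, B x y = 0) → x = 0 := fun x hx => by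
    apply Additive.toMul.injective
    refine Subtype.ext (hβnd _ (Additive.toMul x).2 fun w hw => ?_)
    exact hx (Additive.ofMul ⟨w, hw⟩)
  have hfaith : ∀ c, CfsgLib.BlockB.Psi.fix ρ c = ⊤ → c = 1 := fun c hc => by
    refine Subtype.ext (hUfaith _ (hKG c) (hKfix c) fun u hu => ?_)
    have h := (CfsgLib.BlockB.Psi.mem_fix ρ).1
      (hc.ge (Submodule.mem_top (x := Additive.ofMul (⟨u, hu⟩ : U))))
    exact congrArg (fun x : Additive U => ((Additive.toMul x : U) : X)) h
  set N := p * Nat.card K with hN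
  have : NeZero N := ⟨Nat.mul_ne_zero hp.ne_zero Nat.card_pos.ne'⟩
  have hpN : p ∣ N := dvd_mul_right _ _
  have hKN : Nat.card K ∣ N := dvd_mul_left _ _
  obtain ⟨D, -, ⟨ψ, hψ⟩, hmove⟩ :=
    CfsgLib.BlockB.SelfDualPsi.exists_faithful (N := N) ρ B hBinv hH hKN hpN hBnd hfaith
  have hdvd : ∀ c, Nat.card (D ⊓ CfsgLib.BlockB.Psi.fix ρ c : Submodule (ZMod p) (Additive U)) ∣
      Nat.card D := fun c => AddSubgroup.card_dvd_of_le (H := (D ⊓ CfsgLib.BlockB.Psi.fix ρ c :
      Submodule (ZMod p) (Additive U)).toAddSubgroup) (K := D.toAddSubgroup)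
      (fun x hx => hx.1)
  let m : K → ℕ := fun c => Nat.card D /
    Nat.card (D ⊓ CfsgLib.BlockB.Psi.fix ρ c : Submodule (ZMod p) (Additive U))
  refine CfsgLib.BlockB.KnorrVector.card_conjClasses_le V hVexp hidx hVcomm hv K.subtype hH
    (fun c hc => Subtype.ext (Subgroup.disjoint_def.1 hGV.disjoint hc (hKG c)))
    (fun c => Subgroup.mem_centralizer_singleton_iff.1 c.2.2) ?_ hpN hKN ψ hψ.inSpan hψ.one
    (fun c hc => hψ.div c (hmove c hc)) m ?_ ?_
  · intro a ha
    have hprod : a ∈ V ⊔ G := by rw [hGV.sup_eq_top]; exact Subgroup.mem_top a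
    obtain ⟨w, hw, g, hg, rfl⟩ := Subgroup.mem_sup_of_normal_left.1 hprod
    have h1 : Commute g v := by
      have hw1 : Commute w⁻¹ v := Commute.inv_left (hVcomm w hw v hv)
      simpa using hw1.mul_left ha
    exact ⟨w, hw, ⟨g, Subgroup.mem_inf.2
      ⟨hg, Subgroup.mem_centralizer_singleton_iff.2 h1.eq⟩⟩, rfl⟩
  · intro c
    have h := hψ.norm c
    rw [← Nat.div_mul_cancel (hdvd c), Nat.cast_mul] at h
    exact mul_right_cancel₀ (Nat.cast_ne_zero.2 Nat.card_pos.ne') h
  · intro c
    let Q : Subgroup V := (Subgroup.centralizer ({(c : X)} : Set X)).subgroupOf V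
    have hQ : Nat.card {w : V // Commute (w : X) (c : X)} = Nat.card Q :=
      Nat.card_congr (Equiv.subtypeEquivRight fun w => by
        rw [Subgroup.mem_subgroupOf, Subgroup.mem_centralizer_singleton_iff]; rfl)
    show m c * Nat.card {w : V // Commute (w : X) (c : X)} ≤ Nat.card V
    rw [hQ]
    letI : CommGroup V :=
      { V.toGroup with mul_comm := fun a b => Subtype.ext (hVcomm a a.2 b b.2) }
    let f : Multiplicative D × Q →* V := MonoidHom.mk'
      (fun x => ⟨((Additive.toMul (Multiplicative.toAdd x.1 : D).1 : U) : X),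
        hUV (Additive.toMul (Multiplicative.toAdd x.1 : D).1).2⟩ * (x.2 : V))
      fun x y => Subtype.ext (Commute.mul_mul_mul_comm
        (show Commute ((Additive.toMul (Multiplicative.toAdd y.1 : D).1 : U) : X) ((x.2 : V) : X)
          from hVcomm _ (hUV (Additive.toMul (Multiplicative.toAdd y.1 : D).1).2) _ (x.2 : V).2)
        _ _)
    have hker : Nat.card f.ker ≤
        Nat.card (D ⊓ CfsgLib.BlockB.Psi.fix ρ c : Submodule (ZMod p) (Additive U)) := by
      refine Nat.card_le_card_of_injective (fun x => ⟨(Multiplicative.toAdd x.1.1 : D).1,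
        (Multiplicative.toAdd x.1.1 : D).2, ?_⟩) fun x y hxy => ?_
      · refine (CfsgLib.BlockB.Psi.mem_fix ρ).2
          (Additive.toMul.injective (Subtype.ext ?_))
        rw [hρ]
        have hx : f x.1 = 1 := x.2
        have h1 : ((Additive.toMul (Multiplicative.toAdd x.1.1 : D).1 : U) : X) =
            ((x.1.2 : V) : X)⁻¹ := eq_inv_of_mul_eq_one_left (congrArg Subtype.val hx)
        have h2 : Commute (((x.1.2 : V) : X)⁻¹) (c : X) :=
          (show Commute ((x.1.2 : V) : X) (c : X) from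
            Subgroup.mem_centralizer_singleton_iff.1
              (Subgroup.mem_subgroupOf.1 x.1.2.2)).inv_left
        rw [h1, mul_inv_eq_iff_eq_mul]
        exact h2.eq.symm
      · have h1 : x.1.1 = y.1.1 := Multiplicative.toAdd.injective
          (Subtype.ext (congrArg (fun z => z.1) hxy))
        have hx : f x.1 = 1 := x.2
        have hy : f y.1 = 1 := y.2
        refine Subtype.ext (Prod.ext h1 (Subtype.ext ?_))
        have h := hx.trans hy.symm
        simp only [f, MonoidHom.mk'_apply, h1] at h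
        exact mul_left_cancel h
    have h1 : Nat.card f.ker * f.ker.index = Nat.card (Multiplicative D × Q) :=
      Subgroup.card_mul_index _
    rw [Subgroup.index_ker, Nat.card_prod] at h1
    have h2 : Nat.card D * Nat.card Q ≤
        Nat.card (D ⊓ CfsgLib.BlockB.Psi.fix ρ c : Submodule (ZMod p) (Additive U)) *
          Nat.card V := by
      rw [← Nat.card_congr (Multiplicative.toAdd (α := D)), ← h1]
      exact Nat.mul_le_mul hker (Nat.card_le_card_of_injective _ Subtype.val_injective)
    rw [← Nat.div_mul_cancel (hdvd c), mul_comm _ (Nat.card (D ⊓ _ : Submodule (ZMod p) (Additive U))),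
      mul_assoc] at h2
    exact Nat.le_of_mul_le_mul_left h2 Nat.card_pos


end CfsgLib.BlockB.RealVector
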