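import Cfsg.Agent.Lib.BlockB.RelDegreeGraph

/-!
At most two components in the graph of relative degrees over a non-perfect normal subgroup of the
derived subgroup.
-/

set_option autoImplicit false
set_option linter.unusedSectionVars false

namespace CfsgLib.BlockB.RelDegreeGraph

open CfsgLib CfsgLib.BlockB.DetCalculus

universe u

variable {G : Type u} [Group G] [Finite G] {N : Subgroup G} [N.Normal]

attribute [local instance] linAct

theorem relIndex_commutator : ⁅N, N⁆.relIndex N = (commutator N).index := by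
  rw [Subgroup.relIndex, ← Subgroup.map_subtype_commutator N, Subgroup.subgroupOf,
    Subgroup.comap_map_eq_self_of_injective N.subtype_injective]

theorem pow_relIndex_eq_one (D : N →* ℂˣ) (x : N) : D x ^ ⁅N, N⁆.relIndex N = 1 := by
  rw [relIndex_commutator, ← map_pow]
  exact MonoidHom.mem_ker.1
    (Abelianization.commutator_subset_ker D ((commutator N).pow_index_mem x))

/-- A prime of `[N : N']` has a nontrivial part. -/
theorem exists_part {r : ℕ} [Fact r.Prime] (hr : r ∣ ⁅N, N⁆.relIndex N) :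
    ∃ d : N →* ℂˣ, IsPart r d ∧ d ≠ 1 := by
  have : Finite (N →* ℂˣ) := Nat.finite_of_card_ne_zero (by
    rw [Char.natCard_linear]; exact Subgroup.index_ne_zero_of_finite)
  obtain ⟨d, hd⟩ := exists_prime_orderOf_dvd_card' (G := N →* ℂˣ) r (by
    rwa [Char.natCard_linear, ← relIndex_commutator])
  refine ⟨d, fun x => ?_, fun e => (Fact.out : r.Prime).one_lt.ne'
    (hd.symm.trans (orderOf_eq_one_iff.2 e))⟩
  have h1 : d x ^ r = 1 := by
    have h := DFunLike.congr_fun (pow_orderOf_eq_one d) x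
    rw [hd] at h
    simpa using h
  have h2 : r ∣ r ^ (Nat.card N).factorization r := dvd_pow_self r
    ((Fact.out : r.Prime).factorization_pos_of_dvd Nat.card_pos.ne' (by
      rw [relIndex_commutator] at hr
      exact hr.trans (commutator N).index_dvd_card)).ne'
  obtain ⟨c, hc⟩ := h2
  rw [hc, pow_mul, h1, one_pow]

/-- The three ways in which a degree prime to `r` reaches a linear character. -/
theorem cases_of_not_dvd (hNG : N ≤ commutator G) {r : ℕ} [Fact r.Prime]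
    {a : Cfsg.relCharDegrees N} (hra : ¬ r ∣ a.1) :
    (∃ d : N →* ℂˣ, IsPart r d ∧ d ≠ 1 ∧ T d ≠ ⊤ ∧ ¬ r ∣ (T d).index ∧ InD r d a) ∨
    (∃ (s : ℕ) (_ : Fact s.Prime) (d : N →* ℂˣ), s ≠ r ∧ s ∣ ⁅N, N⁆.relIndex N ∧ IsPart s d ∧
      d ≠ 1 ∧ InD s d a) ∨
    ∀ d₀ : N →* ℂˣ, IsPart r d₀ → d₀ ≠ 1 → ∃ c, InD r d₀ c ∧ (graph N).Reachable a c := by
  obtain ⟨χ, hχa, θ, hθ, hθ1⟩ := exists_constituent a.2
  obtain ⟨D, hD⟩ := exists_hasDet (Char.irr_isCharacter θ.2)
  by_cases hd : D ^ partExp N r = 1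
  swap
  · left
    have hIn : InD r (D ^ partExp N r) a := ⟨χ, hχa, θ, hθ, D, hD, rfl⟩
    exact ⟨_, isPart_pow r D, hd, fun h => hra (hIn.prime_dvd hNG hd h),
      fun h => hra (h.trans hIn.index_dvd), hIn⟩
  set n := Cfsg.charDegree (θ : N → ℂ) with hn
  have hn1 : (θ : N → ℂ) 1 = (n : ℂ) := (BlockB.charDegree_cast (Char.irr_isCharacter θ.2)).symm
  have hna : n ∣ a.1 := hχa ▸ charDegree_dvd hθ
  rcases eq_or_ne n 1 with h1 | h1
  · right; left
    obtain ⟨l, hl⟩ := Char.exists_hom_of_degree_one (Char.irr_isCharacter θ.2)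
      (by rw [hn1, h1, Nat.cast_one])
    have hlD : l = D := (hl ▸ hasDet_linear l).unique hD
    obtain ⟨x, hx⟩ : ∃ x, D x ≠ 1 := by
      by_contra hcon
      push Not at hcon
      refine hθ1 ?_
      rw [hl]
      funext x
      rw [hlD, hcon x, Units.val_one]
    obtain ⟨s, hs, hsd⟩ := Nat.exists_prime_and_dvd (n := orderOf (D x))
      fun e => hx (orderOf_eq_one_iff.1 e)
    have : Fact s.Prime := ⟨hs⟩
    have hsN : s ∣ Nat.card N := hsd.trans (orderOf_dvd_of_pow_eq_one (pow_card_lin D x))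
    have hne : D ^ partExp N s ≠ 1 := by
      intro e
      have h2 : s ∣ partExp N s :=
        hsd.trans (orderOf_dvd_of_pow_eq_one (by rw [← MonoidHom.pow_apply, e, MonoidHom.one_apply]))
      have h3 : 1 ≡ 0 [MOD s] :=
        ((exists_partExp N s).choose_spec.1.of_dvd (dvd_pow_self s
          (hs.factorization_pos_of_dvd Nat.card_pos.ne' hsN).ne')).symm.trans
          (Nat.modEq_zero_iff_dvd.2 h2)
      exact hs.one_lt.ne' (Nat.dvd_one.1 (Nat.modEq_zero_iff_dvd.1 h3))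
    exact ⟨s, ‹_›, D ^ partExp N s, fun e => hne (by subst e; exact hd),
      hsd.trans (orderOf_dvd_of_pow_eq_one (pow_relIndex_eq_one D x)), isPart_pow s D, hne,
      χ, hχa, θ, hθ, D, hD, rfl⟩
  · right; right
    intro d₀ hd₀ hd₀1
    have hrn : ¬ r ∣ n := fun h => hra (h.trans hna)
    obtain ⟨j, -, hj⟩ := Nat.exists_mul_mod_eq_one_of_coprime
      (k := r ^ ((Nat.card N).factorization r + 1)) (n := n)
      (((Fact.out : r.Prime).coprime_iff_not_dvd.2 hrn).symm.pow_right _)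
      (Nat.one_lt_pow (Nat.succ_ne_zero _) (Fact.out : r.Prime).one_lt)
    have hl : (d₀ ^ j) ^ n = d₀ := MonoidHom.ext fun x => by
      rw [MonoidHom.pow_apply, MonoidHom.pow_apply, ← pow_mul, mul_comm j n]
      conv_rhs => rw [← pow_one (d₀ x)]
      rw [pow_eq_pow_iff_modEq]
      have hmod : n * j ≡ 1 [MOD r ^ ((Nat.card N).factorization r + 1)] := by
        unfold Nat.ModEq
        rw [hj, Nat.mod_eq_of_lt (Nat.one_lt_pow (Nat.succ_ne_zero _)
          (Fact.out : r.Prime).one_lt)]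
      exact hmod.of_dvd
        ((orderOf_dvd_of_pow_eq_one (hd₀ x)).trans (pow_dvd_pow r (Nat.le_succ _)))
    set θ' : Cfsg.IrrCharacter N :=
      ⟨fun x => ((d₀ ^ j) x : ℂ) * (θ : N → ℂ) x, Char.isIrrCharacter_mul_linear θ.2 _⟩ with hθ'
    have hθ'1 : (θ' : N → ℂ) 1 = (n : ℂ) := by
      show ((d₀ ^ j) 1 : ℂ) * (θ : N → ℂ) 1 = n
      rw [map_one, Units.val_one, one_mul, hn1]
    obtain ⟨χ', hχ', hmem⟩ := exists_over (G := G) θ' (fun e => h1 (by
      rw [e] at hθ'1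
      exact Nat.cast_eq_one.1 (hθ'1.symm : (n : ℂ) = 1)))
    refine ⟨⟨_, hmem⟩, ⟨χ', rfl, θ', hχ', _, hD.twist (d₀ ^ j) hn1, ?_⟩, ?_⟩
    · refine MonoidHom.ext fun x => ?_
      rw [MonoidHom.pow_apply, MonoidHom.mul_apply, mul_pow, ← MonoidHom.pow_apply,
        ← MonoidHom.pow_apply, hl, hd, hd₀.pow_partExp, MonoidHom.one_apply, mul_one]
    · have hn' : Cfsg.charDegree (θ' : N → ℂ) = n := by
        have h := hθ'1
        rw [← BlockB.charDegree_cast (Char.irr_isCharacter θ'.2)] at h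
        exact_mod_cast h
      refine link_dvd (k := n) ?_ hna (hn' ▸ charDegree_dvd hχ') (ne_zero_of_mem a.2)
      have hn0 : n ≠ 0 := fun e => hrn (e ▸ dvd_zero r)
      omega

/-- Degrees avoiding a prime of `[N : N']` lie in one component. -/
theorem reachable_of_not_dvd (hNG : N ≤ commutator G) {a b : Cfsg.relCharDegrees N}
    {r t : ℕ} (hr : r.Prime) (ht : t.Prime) (hrm : r ∣ ⁅N, N⁆.relIndex N)
    (htm : t ∣ ⁅N, N⁆.relIndex N) (hra : ¬ r ∣ a.1) (htb : ¬ t ∣ b.1) :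
    (graph N).Reachable a b := by
  have : Fact r.Prime := ⟨hr⟩
  have : Fact t.Prime := ⟨ht⟩
  by_cases htwo : ∃ s : ℕ, s.Prime ∧ s ∣ ⁅N, N⁆.relIndex N ∧ s ≠ r
  · obtain ⟨s, hs, hsm, hsr⟩ := htwo
    have : Fact s.Prime := ⟨hs⟩
    obtain ⟨e, he, he1⟩ := exists_part hsm
    obtain ⟨f, hf, hf1⟩ := exists_part hrm
    obtain ⟨z, hz⟩ := exists_inD he he1
    -- every part reaches the fixed degree
    have key : ∀ (q : ℕ) [Fact q.Prime] (d : N →* ℂˣ), IsPart q d → d ≠ 1 →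
        ∀ c, InD q d c → (graph N).Reachable c z := by
      intro q _ d hd hd1 c hc
      rcases eq_or_ne q s with rfl | hqs
      · obtain ⟨c₁, h1, h2⟩ := exists_inD_both (Ne.symm hsr) hf hd hf1
        obtain ⟨c₂, h3, h4⟩ := exists_inD_both (Ne.symm hsr) hf he hf1
        exact (hc.reachable hNG h2 hd1).trans ((h1.reachable hNG h3 hf1).trans
          (h4.reachable hNG hz he1))
      · obtain ⟨c₁, h1, h2⟩ := exists_inD_both hqs hd he hd1
        exact (hc.reachable hNG h1 hd1).trans (h2.reachable hNG hz he1)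
    have go : ∀ (q : ℕ) [Fact q.Prime] (x : Cfsg.relCharDegrees N), q ∣ ⁅N, N⁆.relIndex N →
        ¬ q ∣ x.1 → (graph N).Reachable x z := by
      intro q _ x hqm hqx
      rcases cases_of_not_dvd hNG hqx with ⟨d, hd, hd1, -, -, hx⟩ |
        ⟨q', _, d, -, -, hd, hd1, hx⟩ | hall
      · exact key q d hd hd1 x hx
      · exact key q' d hd hd1 x hx
      · obtain ⟨d₀, hd₀, hd₀1⟩ := exists_part hqm
        obtain ⟨c, hc, hxc⟩ := hall d₀ hd₀ hd₀1
        exact hxc.trans (key q d₀ hd₀ hd₀1 c hc)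
    exact (go r a hrm hra).trans (go t b htm htb).symm
  · push Not at htwo
    obtain rfl : t = r := htwo t ht htm
    obtain ⟨d₀, hd₀, hd₀1, hpref⟩ : ∃ d₀ : N →* ℂˣ, IsPart t d₀ ∧ d₀ ≠ 1 ∧
        ((∃ d : N →* ℂˣ, IsPart t d ∧ d ≠ 1 ∧ T d ≠ ⊤ ∧ ¬ t ∣ (T d).index) →
          T d₀ ≠ ⊤ ∧ ¬ t ∣ (T d₀).index) := by
      by_cases h : ∃ d : N →* ℂˣ, IsPart t d ∧ d ≠ 1 ∧ T d ≠ ⊤ ∧ ¬ t ∣ (T d).index
      · obtain ⟨d, hd, hd1, h2⟩ := h
        exact ⟨d, hd, hd1, fun _ => h2⟩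
      · obtain ⟨d, hd, hd1⟩ := exists_part htm
        exact ⟨d, hd, hd1, fun h' => absurd h' h⟩
    obtain ⟨z, hz⟩ := exists_inD hd₀ hd₀1
    have go : ∀ x : Cfsg.relCharDegrees N, ¬ t ∣ x.1 → (graph N).Reachable x z := by
      intro x hx
      rcases cases_of_not_dvd hNG hx with ⟨d, hd, hd1, hdT, hdr, hxd⟩ |
        ⟨s, hs, d, hst, hsm, -, -, -⟩ | hall
      · obtain ⟨h0T, h0r⟩ := hpref ⟨d, hd, hd1, hdT, hdr⟩
        exact reachable_pair hd hd₀ hdT h0T hdr h0r hxd hz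
      · exact absurd (htwo s hs.out hsm) hst
      · obtain ⟨c, hc, hxc⟩ := hall d₀ hd₀ hd₀1
        exact hxc.trans (hc.reachable hNG hz hd₀1)
    exact (go a hra).trans (go b htb).symm

end CfsgLib.BlockB.RelDegreeGraph
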