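import Cfsg.Agent.Lib.BlockB.RelDegreeComponents
import Cfsg.Agent.Lib.Clifford.Constituents
import Mathlib.Combinatorics.SimpleGraph.Diam

/-!
Short paths in the graph of relative degrees over a solvable normal subgroup of the derived
subgroup. A relative degree lies over a nontrivial linear part or over a nonlinear character of
`N`; two coprime nonlinear degrees prime to `[N : N']` force, along the derived series of `N`, a
relative degree meeting `[N : N']`.
-/

set_option autoImplicit false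
set_option linter.unusedSectionVars false

namespace CfsgLib.BlockB.RelDegreeGraph

open CfsgLib CfsgLib.BlockB.DetCalculus

universe u

variable {G : Type u} [Group G] [Finite G] {N : Subgroup G} [N.Normal]

attribute [local instance] linAct

theorem index_gt_one {d : N →* ℂˣ} (h : T d ≠ ⊤) : 1 < (T d).index := by
  have h2 := Subgroup.index_ne_zero_of_finite (H := T d)
  have h3 : (T d).index ≠ 1 := fun e => h (Subgroup.index_eq_one.1 e)
  omega

theorem gcd_gt_one_of_dvd {a b : Cfsg.relCharDegrees N} {k : ℕ} (hk : 1 < k) (ha : k ∣ a.1)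
    (hb : k ∣ b.1) : 1 < Nat.gcd a.1 b.1 :=
  lt_of_lt_of_le hk (Nat.le_of_dvd (Nat.gcd_pos_of_pos_left _
    (Nat.pos_of_ne_zero (ne_zero_of_mem a.2))) (Nat.dvd_gcd ha hb))

/-- The degrees attached to one linear part are pairwise not coprime. -/
theorem InD.meets (hNG : N ≤ commutator G) {r : ℕ} [Fact r.Prime] {d : N →* ℂˣ}
    {a b : Cfsg.relCharDegrees N} (ha : InD r d a) (hb : InD r d b) (h1 : d ≠ 1) :
    1 < Nat.gcd a.1 b.1 := by
  rcases eq_or_ne (T d) ⊤ with h | h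
  · exact gcd_gt_one_of_dvd (Fact.out : r.Prime).one_lt (ha.prime_dvd hNG h1 h)
      (hb.prime_dvd hNG h1 h)
  · exact gcd_gt_one_of_dvd (index_gt_one h) ha.index_dvd hb.index_dvd

/-- Twisting a nonlinear character to a given part. -/
theorem exists_twist (θ : Cfsg.IrrCharacter N) {r : ℕ} [Fact r.Prime]
    (hn : 1 < Cfsg.charDegree (θ : N → ℂ)) (hr : ¬ r ∣ Cfsg.charDegree (θ : N → ℂ))
    {d : N →* ℂˣ} (hd : IsPart r d) :
    ∃ c : Cfsg.relCharDegrees N, InD r d c ∧ Cfsg.charDegree (θ : N → ℂ) ∣ c.1 := by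
  set n := Cfsg.charDegree (θ : N → ℂ) with hndef
  have hn1 : (θ : N → ℂ) 1 = (n : ℂ) := (BlockB.charDegree_cast (Char.irr_isCharacter θ.2)).symm
  obtain ⟨D, hD⟩ := exists_hasDet (Char.irr_isCharacter θ.2)
  set f := d * (D ^ partExp N r)⁻¹ with hf
  have hfP : IsPart r f := hd.mul (isPart_pow r D).inv
  obtain ⟨j, -, hj⟩ := Nat.exists_mul_mod_eq_one_of_coprime
    (k := r ^ ((Nat.card N).factorization r + 1)) (n := n)
    (((Fact.out : r.Prime).coprime_iff_not_dvd.2 hr).symm.pow_right _)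
    (Nat.one_lt_pow (Nat.succ_ne_zero _) (Fact.out : r.Prime).one_lt)
  have hl : (f ^ j) ^ n = f := MonoidHom.ext fun x => by
    rw [MonoidHom.pow_apply, MonoidHom.pow_apply, ← pow_mul, mul_comm j n]
    conv_rhs => rw [← pow_one (f x)]
    rw [pow_eq_pow_iff_modEq]
    have hmod : n * j ≡ 1 [MOD r ^ ((Nat.card N).factorization r + 1)] := by
      unfold Nat.ModEq
      rw [hj, Nat.mod_eq_of_lt (Nat.one_lt_pow (Nat.succ_ne_zero _)
        (Fact.out : r.Prime).one_lt)]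
    exact hmod.of_dvd
      ((orderOf_dvd_of_pow_eq_one (hfP x)).trans (pow_dvd_pow r (Nat.le_succ _)))
  set θ' : Cfsg.IrrCharacter N :=
    ⟨fun x => ((f ^ j) x : ℂ) * (θ : N → ℂ) x, Char.isIrrCharacter_mul_linear θ.2 _⟩ with hθ'
  have hθ'1 : (θ' : N → ℂ) 1 = (n : ℂ) := by
    show ((f ^ j) 1 : ℂ) * (θ : N → ℂ) 1 = n
    rw [map_one, Units.val_one, one_mul, hn1]
  obtain ⟨χ', hχ', hmem⟩ := exists_over (G := G) θ' (fun e => hn.ne' (by
    rw [e] at hθ'1
    exact Nat.cast_eq_one.1 (hθ'1.symm : (n : ℂ) = 1)))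
  refine ⟨⟨_, hmem⟩, ⟨χ', rfl, θ', hχ', _, hD.twist (f ^ j) hn1, ?_⟩, ?_⟩
  · refine MonoidHom.ext fun x => ?_
    rw [MonoidHom.pow_apply, MonoidHom.mul_apply, mul_pow, ← MonoidHom.pow_apply,
      ← MonoidHom.pow_apply, hl, hfP.pow_partExp, hf, MonoidHom.mul_apply, MonoidHom.inv_apply,
      inv_mul_cancel_right]
  · have hn' : Cfsg.charDegree (θ' : N → ℂ) = n := by
      have h := hθ'1
      rw [← BlockB.charDegree_cast (Char.irr_isCharacter θ'.2)] at h
      exact_mod_cast h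
    exact hn' ▸ charDegree_dvd hχ'

/-- A relative degree comes from a linear part or from a nonlinear character of `N`. -/
theorem linear_or_nonlinear (a : Cfsg.relCharDegrees N) :
    (∃ (s : ℕ) (_ : Fact s.Prime) (d : N →* ℂˣ),
        s ∣ ⁅N, N⁆.relIndex N ∧ IsPart s d ∧ d ≠ 1 ∧ InD s d a) ∨
    ∃ θ : Cfsg.IrrCharacter N,
      1 < Cfsg.charDegree (θ : N → ℂ) ∧ Cfsg.charDegree (θ : N → ℂ) ∣ a.1 := by
  obtain ⟨χ, hχa, θ, hθ, hθ1⟩ := exists_constituent a.2
  set n := Cfsg.charDegree (θ : N → ℂ) with hn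
  have hn1 : (θ : N → ℂ) 1 = (n : ℂ) := (BlockB.charDegree_cast (Char.irr_isCharacter θ.2)).symm
  rcases eq_or_ne n 1 with h1 | h1
  swap
  · refine Or.inr ⟨θ, ?_, hχa ▸ charDegree_dvd hθ⟩
    have h0 : n ≠ 0 := fun e => by
      have := BlockB.irr_degree_dvd_card θ
      rw [← hn, e, zero_dvd_iff] at this
      exact Nat.card_pos.ne' this
    omega
  left
  obtain ⟨D, hD⟩ := exists_hasDet (Char.irr_isCharacter θ.2)
  obtain ⟨l, hl⟩ := Char.exists_hom_of_degree_one (Char.irr_isCharacter θ.2)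
    (by rw [hn1, h1, Nat.cast_one])
  have hlD : l = D := (hl ▸ hasDet_linear l).unique hD
  obtain ⟨x, hx⟩ : ∃ x, D x ≠ 1 := by
    by_contra hcon
    push Not at hcon
    refine hθ1 ?_
    rw [hl]
    funext x
    rw [hlD, hcon x, Units.val_one]
  obtain ⟨s, hs, hsd⟩ := Nat.exists_prime_and_dvd (n := orderOf (D x))
    fun e => hx (orderOf_eq_one_iff.1 e)
  have : Fact s.Prime := ⟨hs⟩
  have hsN : s ∣ Nat.card N := hsd.trans (orderOf_dvd_of_pow_eq_one (pow_card_lin D x))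
  have hne : D ^ partExp N s ≠ 1 := by
    intro e
    have h2 : s ∣ partExp N s :=
      hsd.trans (orderOf_dvd_of_pow_eq_one (by rw [← MonoidHom.pow_apply, e, MonoidHom.one_apply]))
    have h3 : 1 ≡ 0 [MOD s] :=
      ((exists_partExp N s).choose_spec.1.of_dvd (dvd_pow_self s
        (hs.factorization_pos_of_dvd Nat.card_pos.ne' hsN).ne')).symm.trans
        (Nat.modEq_zero_iff_dvd.2 h2)
    exact hs.one_lt.ne' (Nat.dvd_one.1 (Nat.modEq_zero_iff_dvd.1 h3))
  exact ⟨s, ‹_›, D ^ partExp N s,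
    hsd.trans (orderOf_dvd_of_pow_eq_one (pow_relIndex_eq_one D x)), isPart_pow s D, hne,
    χ, hχa, θ, hθ, D, hD, rfl⟩

/-- Two characters with indices prime to `r` have a common neighbour. -/
theorem exists_between_pair {r : ℕ} [Fact r.Prime] {d e : N →* ℂˣ}
    (hd : IsPart r d) (he : IsPart r e) (hdn : T d ≠ ⊤) (hen : T e ≠ ⊤)
    (hdr : ¬ r ∣ (T d).index) (her : ¬ r ∣ (T e).index) {a b : Cfsg.relCharDegrees N}
    (ha : InD r d a) (hb : InD r e b) :
    ∃ c : Cfsg.relCharDegrees N, 1 < Nat.gcd a.1 c.1 ∧ 1 < Nat.gcd c.1 b.1 := by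
  by_cases hco : (T d).index.Coprime (T e).index
  · have hTn : T (d * e) ≠ ⊤ := by
      intro h
      have hTeq : T d = T e := by
        ext g
        have h' : g • (d * e) = d * e := (h.symm ▸ Subgroup.mem_top g : g ∈ T (d * e))
        rw [smul_mul_lin] at h'
        show g • d = d ↔ g • e = e
        constructor <;> intro hh <;> rw [hh] at h'
        · exact mul_left_cancel h'
        · exact mul_right_cancel h'
      rw [hTeq, Nat.coprime_self] at hco
      exact (index_gt_one hen).ne' hco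
    obtain ⟨c, hc⟩ := exists_inD (hd.mul he) (fun h => hTn (by
      rw [h]; exact eq_top_iff.2 fun g _ => smul_one_lin g))
    have h1 : 1 < Nat.gcd (T d).index (T (d * e)).index := by
      by_contra hle
      have hco' : (T (d * e)).index.Coprime (T d).index := by
        rw [Nat.coprime_comm]
        exact le_antisymm (not_lt.1 hle) (Nat.gcd_pos_of_pos_left _
          (zero_lt_one.trans (index_gt_one hdn)))
      exact her (prime_dvd_index_of_coset he hd hdn hco.symm (by rwa [mul_comm e d]))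
    have h2 : 1 < Nat.gcd (T (d * e)).index (T e).index := by
      by_contra hle
      have hco' : (T (d * e)).index.Coprime (T e).index :=
        le_antisymm (not_lt.1 hle) (Nat.gcd_pos_of_pos_right _
          (zero_lt_one.trans (index_gt_one hen)))
      exact hdr (prime_dvd_index_of_coset hd he hen hco hco')
    exact ⟨c, gcd_gt_one_of_dvd h1 ((Nat.gcd_dvd_left _ _).trans ha.index_dvd)
      ((Nat.gcd_dvd_right _ _).trans hc.index_dvd),
      gcd_gt_one_of_dvd h2 ((Nat.gcd_dvd_left _ _).trans hc.index_dvd)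
        ((Nat.gcd_dvd_right _ _).trans hb.index_dvd)⟩
  · have hgt : 1 < Nat.gcd (T d).index (T e).index := by
      have h1 := Nat.gcd_pos_of_pos_left (T e).index (zero_lt_one.trans (index_gt_one hdn))
      unfold Nat.Coprime at hco
      omega
    have hg : 1 < Nat.gcd a.1 b.1 := gcd_gt_one_of_dvd hgt
      ((Nat.gcd_dvd_left _ _).trans ha.index_dvd) ((Nat.gcd_dvd_right _ _).trans hb.index_dvd)
    exact ⟨a, gcd_gt_one_of_dvd hgt ((Nat.gcd_dvd_left _ _).trans ha.index_dvd)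
      ((Nat.gcd_dvd_left _ _).trans ha.index_dvd), hg⟩

theorem relIndex_dvd_index (K S : Subgroup G) [K.Normal] : S.relIndex K ∣ S.index := by
  refine ⟨(S ⊔ K).index, ?_⟩
  have h1 := Subgroup.relIndex_mul_index (inf_le_right : S ⊓ K ≤ K)
  have h2 := Subgroup.relIndex_mul_index (inf_le_left : S ⊓ K ≤ S)
  have h3 := Subgroup.relIndex_mul_index (le_sup_right : K ≤ S ⊔ K)
  rw [Subgroup.inf_relIndex_right] at h1
  rw [Subgroup.inf_relIndex_left] at h2
  rw [Subgroup.relIndex_sup_right] at h3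
  have h0 : K.relIndex S ≠ 0 := Subgroup.index_ne_zero_of_finite
  refine mul_left_cancel₀ h0 ?_
  rw [h2, ← h1, ← h3]
  ring

/-! ### The derived series of `N` inside `G` -/

/-- The derived series of `N` as subgroups of `G`. -/
def ser (N : Subgroup G) : ℕ → Subgroup G
  | 0 => N
  | k + 1 => ⁅ser N k, ser N k⁆

theorem ser_normal (k : ℕ) : (ser N k).Normal := by
  induction k with
  | zero => assumption
  | succ k ih => exact have := ih; Subgroup.commutator_normal _ _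

theorem ser_succ_le (k : ℕ) : ser N (k + 1) ≤ ser N k := Subgroup.commutator_le_self _

theorem ser_le (k : ℕ) : ser N k ≤ N := by
  induction k with
  | zero => exact le_rfl
  | succ k ih => exact (ser_succ_le k).trans ih

theorem ser_eq_map (k : ℕ) : ser N k = (derivedSeries N k).map N.subtype := by
  induction k with
  | zero => rw [derivedSeries_zero, ← MonoidHom.range_eq_map, Subgroup.range_subtype]; rfl
  | succ k ih => rw [derivedSeries_succ, Subgroup.map_commutator, ← ih]; rfl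

/-- An invariant part of the derived subgroup of `M₀` divides the index. -/
theorem dvd_relIndex_of_invariant {M M₀ : Subgroup G} [M.Normal] (hMM : ⁅M₀, M₀⁆ = M) {t : ℕ}
    [Fact t.Prime] {e : M →* ℂˣ} (he : IsPart t e) (he1 : e ≠ 1) (hT : M₀ ≤ T e) :
    t ∣ M.relIndex M₀ := by
  classical
  have hle : M ≤ M₀ := hMM ▸ Subgroup.commutator_le_self M₀
  set M' := M.subgroupOf M₀
  have hM' : M' ≤ commutator M₀ := by
    intro x hx
    have h1 : M₀.subtype x ∈ (commutator M₀).map M₀.subtype := by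
      rw [Subgroup.map_subtype_commutator, hMM]; exact hx
    exact (Subgroup.mem_map_iff_mem M₀.subtype_injective).1 h1
  set φ : M' ≃* M := Subgroup.subgroupOfEquivOfLe hle
  set e' : M' →* ℂˣ := e.comp φ.toMonoidHom with he'
  have he'P : IsPart t e' := fun x => by
    rw [show Nat.card M' = Nat.card M from Nat.card_congr φ.toEquiv]
    exact he (φ x)
  have he'1 : e' ≠ 1 := fun h => he1 (MonoidHom.ext fun x => by
    simpa [he'] using DFunLike.congr_fun h (φ.symm x))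
  have hinv : T e' = ⊤ := by
    refine eq_top_iff.2 fun g _ => MonoidHom.ext fun x => ?_
    have h := DFunLike.congr_fun (show (g : G) • e = e from hT g.2) (φ x)
    rw [smul_apply'] at h
    rw [smul_apply']
    refine (congrArg e (Subtype.ext ?_)).trans h
    show ((g⁻¹ * (x : M₀) * g⁻¹⁻¹ : M₀) : G) = (g : G)⁻¹ * ((x : M₀) : G) * (g : G)⁻¹⁻¹
    simp
  have hne : (fun n : M' => (e' n : ℂ)) ≠ fun _ => 1 := fun h =>
    he'1 (MonoidHom.ext fun n => Units.ext (congrFun h n))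
  obtain ⟨χ, hχ, -⟩ := exists_over (G := M₀) ⟨_, Char.isIrrCharacter_linear e'⟩ hne
  have hdvd := dvd_degree_of_invariant hM' (r := t) hχ (hasDet_linear e')
    (by rwa [he'P.pow_partExp]) (by rwa [he'P.pow_partExp])
  have := Fintype.ofFinite M₀
  have := Fintype.ofFinite M'
  obtain ⟨k, hk, hki⟩ := Clifford.degree_quot_dvd_index χ.2 (Char.isIrrCharacter_linear e') hχ
  rw [← BlockB.charDegree_cast (Char.irr_isCharacter χ.2), map_one, Units.val_one, mul_one,
    Nat.cast_inj] at hk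
  rw [hk] at hdvd
  exact hdvd.trans hki

/-- A character degree prime to the index survives in a normal subgroup. -/
theorem exists_degree_in {M M₀ : Subgroup G} [M.Normal] (hle : M ≤ M₀) {n : ℕ}
    (hco : n.Coprime (M.relIndex M₀))
    (hψ : ∃ ψ : Cfsg.IrrCharacter M₀, Cfsg.charDegree (ψ : M₀ → ℂ) = n) :
    ∃ ψ : Cfsg.IrrCharacter M, Cfsg.charDegree (ψ : M → ℂ) = n := by
  obtain ⟨ψ, rfl⟩ := hψ
  have := Fintype.ofFinite M₀
  have := Fintype.ofFinite (M.subgroupOf M₀)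
  obtain ⟨φ, hφ, hne⟩ := Clifford.exists_irr_constituent_restrict (N := M.subgroupOf M₀) ψ.2
  obtain ⟨k, hk, hki⟩ := Clifford.degree_quot_dvd_index ψ.2 hφ hne
  rw [← BlockB.charDegree_cast (Char.irr_isCharacter ψ.2),
    ← BlockB.charDegree_cast (Char.irr_isCharacter hφ), ← Nat.cast_mul, Nat.cast_inj] at hk
  have hk1 : k = 1 := Nat.eq_one_of_dvd_coprimes hco ⟨_, hk⟩ hki
  refine ⟨⟨_, Char.isIrrCharacter_comp_surjective hφ (Subgroup.subgroupOfEquivOfLe hle).symm.toMonoidHom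
    (Subgroup.subgroupOfEquivOfLe hle).symm.surjective⟩, ?_⟩
  rw [hk, hk1, one_mul]
  have h := BlockB.charDegree_cast (Char.irr_isCharacter hφ)
  have h' := BlockB.charDegree_cast (Char.irr_isCharacter
    (Char.isIrrCharacter_comp_surjective hφ (Subgroup.subgroupOfEquivOfLe hle).symm.toMonoidHom
      (Subgroup.subgroupOfEquivOfLe hle).symm.surjective))
  rw [Function.comp_apply, map_one, ← h, Nat.cast_inj] at h'
  exact h'

theorem relCharDegrees_mono {M : Subgroup G} (h : M ≤ N) :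
    Cfsg.relCharDegrees M ⊆ Cfsg.relCharDegrees N := fun _ ⟨χ, ⟨x, hx, hne⟩, hd⟩ =>
  ⟨χ, ⟨x, h hx, hne⟩, hd⟩

/-- Coprime nonlinear degrees prime to `[N : N']` give a degree meeting `[N : N']`. -/
theorem exists_meeting [Group.IsSolvable N] (θ₁ θ₂ : Cfsg.IrrCharacter N)
    (h1 : 1 < Cfsg.charDegree (θ₁ : N → ℂ))
    (h12 : (Cfsg.charDegree (θ₁ : N → ℂ)).Coprime (Cfsg.charDegree (θ₂ : N → ℂ)))
    (h2 : 1 < Cfsg.charDegree (θ₂ : N → ℂ))
    (hm1 : (Cfsg.charDegree (θ₁ : N → ℂ)).Coprime (⁅N, N⁆.relIndex N))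
    (hm2 : (Cfsg.charDegree (θ₂ : N → ℂ)).Coprime (⁅N, N⁆.relIndex N)) :
    ∃ (c : Cfsg.relCharDegrees N) (q : ℕ), q.Prime ∧ q ∣ ⁅N, N⁆.relIndex N ∧ q ∣ c.1 ∧
      (Cfsg.charDegree (θ₁ : N → ℂ) ∣ c.1 ∨ Cfsg.charDegree (θ₂ : N → ℂ) ∣ c.1) := by
  classical
  set m := ⁅N, N⁆.relIndex N with hm
  by_contra hbad
  push Not at hbad
  set n₁ := Cfsg.charDegree (θ₁ : N → ℂ)
  set n₂ := Cfsg.charDegree (θ₂ : N → ℂ)
  have key : ∀ k : ℕ, (∃ ψ : Cfsg.IrrCharacter (ser N k), Cfsg.charDegree (ψ : ser N k → ℂ) = n₁) ∧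
      (∃ ψ : Cfsg.IrrCharacter (ser N k), Cfsg.charDegree (ψ : ser N k → ℂ) = n₂) ∧
      ∀ t : ℕ, t.Prime → t ∣ (ser N (k + 1)).relIndex (ser N k) → t ∣ m := by
    intro k
    induction k with
    | zero => exact ⟨⟨θ₁, rfl⟩, ⟨θ₂, rfl⟩, fun t _ h => h⟩
    | succ k ih =>
      obtain ⟨hψ1, hψ2, hpr⟩ := ih
      have := ser_normal (N := N) (k + 1)
      have := ser_normal (N := N) k
      have hco : ∀ n : ℕ, n.Coprime m → n.Coprime ((ser N (k + 1)).relIndex (ser N k)) :=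
        fun n hn => Nat.coprime_of_dvd fun t ht htn hti =>
          Nat.not_coprime_of_dvd_of_dvd ht.one_lt htn (hpr t ht hti) hn
      have hd1 := exists_degree_in (ser_succ_le k) (hco _ hm1) hψ1
      have hd2 := exists_degree_in (ser_succ_le k) (hco _ hm2) hψ2
      refine ⟨hd1, hd2, fun t ht hti => ?_⟩
      have : Fact t.Prime := ⟨ht⟩
      by_contra htm
      obtain ⟨e, he, he1⟩ := exists_part (N := ser N (k + 1)) (r := t) hti
      obtain ⟨n, ⟨ψ, hψ⟩, hn1, hnt, hor⟩ : ∃ n, (∃ ψ : Cfsg.IrrCharacter (ser N (k + 1)),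
          Cfsg.charDegree (ψ : ser N (k + 1) → ℂ) = n) ∧ 1 < n ∧ ¬ t ∣ n ∧
            (n = n₁ ∨ n = n₂) := by
        by_cases h : t ∣ n₁
        · exact ⟨n₂, hd2, h2, fun h' => Nat.not_coprime_of_dvd_of_dvd ht.one_lt h h' h12,
            Or.inr rfl⟩
        · exact ⟨n₁, hd1, h1, h, Or.inl rfl⟩
      obtain ⟨c, hc, hnc⟩ := exists_twist ψ (hψ.symm ▸ hn1) (hψ.symm ▸ hnt) he
      rw [hψ] at hnc
      have hcm : ∀ q : ℕ, q.Prime → q ∣ m → ¬ q ∣ c.1 := fun q hq hqm hqc => by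
        obtain ⟨hb1, hb2⟩ := hbad ⟨c.1, relCharDegrees_mono (ser_le (k + 1)) c.2⟩ q hq hqm hqc
        rcases hor with rfl | rfl
        · exact hb1 hnc
        · exact hb2 hnc
      have hone : (T e).relIndex (ser N k) = 1 := by
        have hA : (T e).relIndex (ser N k) ∣ (T e).index := by
          exact relIndex_dvd_index (ser N k) (T e)
        have hB : (T e).relIndex (ser N k) ∣ (ser N (k + 1)).relIndex (ser N k) :=
          Subgroup.relIndex_dvd_of_le_left _ (le_T e)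
        by_contra hne
        obtain ⟨q, hq, hqd⟩ := Nat.exists_prime_and_dvd hne
        exact hcm q hq (hpr q hq (hqd.trans hB)) ((hqd.trans hA).trans hc.index_dvd)
      exact htm (hpr t ht (dvd_relIndex_of_invariant rfl he he1 (Subgroup.relIndex_eq_one.1 hone)))
  obtain ⟨L, hL⟩ := (Group.isSolvable_def (G := N)).1 inferInstance
  obtain ⟨⟨ψ, hψ⟩, -, -⟩ := key L
  have hbot : ser N L = ⊥ := by rw [ser_eq_map, hL, Subgroup.map_bot]
  have hd := BlockB.irr_degree_dvd_card ψ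
  rw [hψ, hbot, Subgroup.card_bot, Nat.dvd_one] at hd
  omega

/-- Two degrees prime to `[N : N']`: a common neighbour, or a degree meeting `[N : N']`. -/
theorem near_cases [Group.IsSolvable N] (hNG : N ≤ commutator G)
    {x y : Cfsg.relCharDegrees N} (hx : x.1.Coprime (⁅N, N⁆.relIndex N))
    (hy : y.1.Coprime (⁅N, N⁆.relIndex N)) :
    (∃ c : Cfsg.relCharDegrees N, 1 < Nat.gcd x.1 c.1 ∧ 1 < Nat.gcd c.1 y.1) ∨
    (∃ (c : Cfsg.relCharDegrees N) (q : ℕ), q.Prime ∧ q ∣ ⁅N, N⁆.relIndex N ∧ q ∣ c.1 ∧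
        1 < Nat.gcd x.1 c.1) ∨
    ∃ (θ₁ θ₂ : Cfsg.IrrCharacter N) (c : Cfsg.relCharDegrees N) (q : ℕ),
      1 < Cfsg.charDegree (θ₁ : N → ℂ) ∧ Cfsg.charDegree (θ₁ : N → ℂ) ∣ x.1 ∧
      1 < Cfsg.charDegree (θ₂ : N → ℂ) ∧ Cfsg.charDegree (θ₂ : N → ℂ) ∣ y.1 ∧
      q.Prime ∧ q ∣ ⁅N, N⁆.relIndex N ∧ q ∣ c.1 ∧ Cfsg.charDegree (θ₂ : N → ℂ) ∣ c.1 := by
  have hout : ∀ {a : ℕ} {s : ℕ}, s.Prime → a.Coprime (⁅N, N⁆.relIndex N) →
      s ∣ ⁅N, N⁆.relIndex N → ¬ s ∣ a := fun hs ha hsm hsa =>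
    Nat.not_coprime_of_dvd_of_dvd hs.one_lt hsa hsm ha
  rcases linear_or_nonlinear x with ⟨s, hs, d, hsm, hd, hd1, hxd⟩ | ⟨θ₁, hn1, hθ1⟩ <;>
    rcases linear_or_nonlinear y with ⟨s', hs', e, hsm', he, he1, hye⟩ | ⟨θ₂, hn2, hθ2⟩
  · left
    rcases eq_or_ne s s' with rfl | hne
    · have hsx : ¬ s ∣ x.1 := hout hs.out hx hsm
      have hsy : ¬ s ∣ y.1 := hout hs.out hy hsm
      exact exists_between_pair hd he (fun h => hsx (hxd.prime_dvd hNG hd1 h))
        (fun h => hsy (hye.prime_dvd hNG he1 h)) (fun h => hsx (h.trans hxd.index_dvd))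
        (fun h => hsy (h.trans hye.index_dvd)) hxd hye
    · obtain ⟨c, hc1, hc2⟩ := exists_inD_both hne hd he hd1
      exact ⟨c, hxd.meets hNG hc1 hd1, hc2.meets hNG hye he1⟩
  · left
    obtain ⟨c, hc, hnc⟩ := exists_twist θ₂ hn2 (fun h => hout hs.out hy hsm (h.trans hθ2)) hd
    exact ⟨c, hxd.meets hNG hc hd1, gcd_gt_one_of_dvd hn2 hnc hθ2⟩
  · left
    obtain ⟨c, hc, hnc⟩ := exists_twist θ₁ hn1 (fun h => hout hs'.out hx hsm' (h.trans hθ1)) he
    exact ⟨c, gcd_gt_one_of_dvd hn1 hθ1 hnc, hc.meets hNG hye he1⟩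
  · by_cases hco : (Cfsg.charDegree (θ₁ : N → ℂ)).Coprime (Cfsg.charDegree (θ₂ : N → ℂ))
    · obtain ⟨c, q, hq, hqm, hqc, h | h⟩ := exists_meeting θ₁ θ₂ hn1 hco hn2
        (hx.coprime_dvd_left hθ1) (hy.coprime_dvd_left hθ2)
      · exact Or.inr (Or.inl ⟨c, q, hq, hqm, hqc, gcd_gt_one_of_dvd hn1 hθ1 h⟩)
      · exact Or.inr (Or.inr ⟨θ₁, θ₂, c, q, hn1, hθ1, hn2, hθ2, hq, hqm, hqc, h⟩)
    · left
      have hg : 1 < Nat.gcd (Cfsg.charDegree (θ₁ : N → ℂ)) (Cfsg.charDegree (θ₂ : N → ℂ)) := by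
        have h0 := Nat.gcd_pos_of_pos_left (Cfsg.charDegree (θ₂ : N → ℂ)) (zero_lt_one.trans hn1)
        unfold Nat.Coprime at hco
        omega
      exact ⟨x, gcd_gt_one_of_dvd hn1 hθ1 hθ1,
        gcd_gt_one_of_dvd hg ((Nat.gcd_dvd_left _ _).trans hθ1)
          ((Nat.gcd_dvd_right _ _).trans hθ2)⟩

end CfsgLib.BlockB.RelDegreeGraph
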