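import Cfsg.Agent.Lib.Block.Covering
import Cfsg.Agent.Lib.BlockB.ClassMul
import Cfsg.Agent.Lib.BlockB.DetCalculus
import Cfsg.Agent.Lib.Char.Inner
import Cfsg.Agent.Lib.Char.Linear
import Cfsg.Agent.Lib.Clifford.Correspondence
import Cfsg.Agent.Lib.Clifford.Degree
import Cfsg.Prelude.Def_DegreeGraph
import Mathlib.Combinatorics.SimpleGraph.Connectivity.Connected

/-!
The common-divisor graph of the relative degrees over a normal subgroup of the derived subgroup:
linear characters of the normal subgroup, their stabilisers and determinant parts.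
-/

set_option autoImplicit false
set_option linter.unusedSectionVars false

namespace CfsgLib.BlockB.RelDegreeGraph

open CfsgLib CfsgLib.BlockB.DetCalculus

universe u

variable {G : Type u} [Group G] {N : Subgroup G} [N.Normal]

/-- Conjugation by `g` on the linear characters of `N`. -/
@[instance_reducible]
def linAct : MulDistribMulAction G (N →* ℂˣ) where
  smul g d := d.comp (MulAut.conjNormal g⁻¹ : MulAut N).toMonoidHom
  one_smul d := MonoidHom.ext fun n => congrArg d (Subtype.ext (by simp [MulAut.conjNormal_apply]))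
  mul_smul g h d := MonoidHom.ext fun n => congrArg d (Subtype.ext (by
    simp [MulAut.conjNormal_apply, mul_assoc]))
  smul_mul g d e := MonoidHom.ext fun n => rfl
  smul_one g := MonoidHom.ext fun n => rfl

attribute [local instance] linAct

theorem smul_apply' (g : G) (d : N →* ℂˣ) (n : N) :
    (g • d) n = d (Clifford.conjN g⁻¹ n) :=
  congrArg d (Subtype.ext (by simp [MulAut.conjNormal_apply]))

theorem smul_mul_lin (g : G) (d e : N →* ℂˣ) : g • (d * e) = g • d * g • e :=
  MonoidHom.ext fun n => rfl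

theorem smul_one_lin (g : G) : g • (1 : N →* ℂˣ) = 1 := MonoidHom.ext fun n => rfl

/-- The stabiliser of a linear character. -/
abbrev T (d : N →* ℂˣ) : Subgroup G := MulAction.stabilizer G d

theorem le_T (d : N →* ℂˣ) : N ≤ T d := fun g hg => by
  refine MonoidHom.ext fun n => ?_
  rw [smul_apply', show Clifford.conjN g⁻¹ n = ⟨g, hg⟩⁻¹ * n * ⟨g, hg⟩ from
    Subtype.ext (by simp), map_mul, map_mul, mul_comm (d (⟨g, hg⟩ : N)⁻¹), mul_assoc, map_inv,
    inv_mul_cancel, mul_one]

variable (N) in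
/-- The graph. -/
noncomputable abbrev graph : SimpleGraph (Cfsg.relCharDegrees N) :=
  Cfsg.commonDivisorGraph.induce (Cfsg.relCharDegrees N)

/-- Two degrees with a common divisor are joined. -/
theorem link {a b : Cfsg.relCharDegrees N} (h : 1 < Nat.gcd a.1 b.1) : (graph N).Reachable a b := by
  rcases eq_or_ne a b with rfl | hne
  · exact SimpleGraph.Reachable.refl _
  · exact SimpleGraph.Adj.reachable ⟨fun e => hne (Subtype.ext e), h⟩

theorem link_dvd {a b : Cfsg.relCharDegrees N} {k : ℕ} (hk : 1 < k) (ha : k ∣ a.1) (hb : k ∣ b.1)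
    (ha0 : a.1 ≠ 0) : (graph N).Reachable a b :=
  link (lt_of_lt_of_le hk (Nat.le_of_dvd (Nat.gcd_pos_of_pos_left _ (Nat.pos_of_ne_zero ha0))
    (Nat.dvd_gcd ha hb)))

variable [Finite G]

theorem ne_zero_of_mem {a : ℕ} (ha : a ∈ Cfsg.relCharDegrees N) : a ≠ 0 := by
  obtain ⟨χ, -, rfl⟩ := ha
  intro e
  have h0 := BlockB.irr_degree_dvd_card χ
  rw [e, zero_dvd_iff] at h0
  exact Nat.card_pos.ne' h0

variable (N) in
/-- The exponent extracting the `r`-part of a linear character. -/
theorem exists_partExp (r : ℕ) [Fact r.Prime] :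
    ∃ k : ℕ, k ≡ 1 [MOD r ^ (Nat.card N).factorization r] ∧
      Nat.card N / r ^ (Nat.card N).factorization r ∣ k := by
  have hco := (Nat.coprime_ordCompl (Fact.out : r.Prime) (Nat.card_pos (α := N)).ne').pow_left
    ((Nat.card N).factorization r)
  obtain ⟨k, h1, h2⟩ := Nat.chineseRemainder hco 1 0
  exact ⟨k, h1, Nat.modEq_zero_iff_dvd.1 h2⟩

variable (N) in
noncomputable def partExp (r : ℕ) [Fact r.Prime] : ℕ := (exists_partExp N r).choose

/-- The linear character has `r`-power order. -/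
def IsPart (r : ℕ) (d : N →* ℂˣ) : Prop :=
  ∀ x, d x ^ r ^ (Nat.card N).factorization r = 1

theorem pow_card_lin (d : N →* ℂˣ) (x : N) : d x ^ Nat.card N = 1 := by
  have := Fintype.ofFinite N
  rw [← map_pow, pow_card_eq_one', map_one]

theorem isPart_pow (r : ℕ) [Fact r.Prime] (d : N →* ℂˣ) : IsPart r (d ^ partExp N r) := by
  intro x
  obtain ⟨c, hc⟩ := (exists_partExp N r).choose_spec.2
  rw [MonoidHom.pow_apply, ← pow_mul, show partExp N r * r ^ (Nat.card N).factorization r =
    Nat.card N * c from by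
      conv_rhs => rw [← Nat.ordProj_mul_ordCompl_eq_self (Nat.card N) r]
      rw [show partExp N r = _ from hc]; ring, pow_mul, pow_card_lin, one_pow]

theorem IsPart.pow_partExp {r : ℕ} [Fact r.Prime] {d : N →* ℂˣ} (h : IsPart r d) :
    d ^ partExp N r = d := by
  refine MonoidHom.ext fun x => ?_
  have h1 := (exists_partExp N r).choose_spec.1
  conv_rhs => rw [← pow_one (d x)]
  rw [MonoidHom.pow_apply, pow_eq_pow_iff_modEq]
  exact h1.of_dvd (orderOf_dvd_of_pow_eq_one (h x))

theorem IsPart.mul {r : ℕ} {d e : N →* ℂˣ} (hd : IsPart r d) (he : IsPart r e) :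
    IsPart r (d * e) := fun x => by rw [MonoidHom.mul_apply, mul_pow, hd x, he x, one_mul]

theorem IsPart.inv {r : ℕ} {d : N →* ℂˣ} (hd : IsPart r d) : IsPart r d⁻¹ := fun x => by
  rw [MonoidHom.inv_apply, inv_pow, hd x, inv_one]

theorem IsPart.smul {r : ℕ} {d : N →* ℂˣ} (hd : IsPart r d) (g : G) : IsPart r (g • d) :=
  fun x => by rw [smul_apply']; exact hd _

/-- The `s`-part of an `r`-character is trivial. -/
theorem IsPart.pow_other {r s : ℕ} [Fact r.Prime] [Fact s.Prime] (hrs : r ≠ s) {d : N →* ℂˣ}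
    (h : IsPart r d) : d ^ partExp N s = 1 := by
  refine MonoidHom.ext fun x => ?_
  rw [MonoidHom.pow_apply, MonoidHom.one_apply, ← orderOf_dvd_iff_pow_eq_one]
  refine ((orderOf_dvd_of_pow_eq_one (h x)).trans ?_).trans (exists_partExp N s).choose_spec.2
  refine (((Nat.coprime_primes (Fact.out : r.Prime) (Fact.out : s.Prime)).2 hrs).pow
    ((Nat.card N).factorization r) ((Nat.card N).factorization s)).dvd_of_dvd_mul_left ?_
  rw [Nat.ordProj_mul_ordCompl_eq_self]
  exact Nat.ordProj_dvd _ _

/-- A prime dividing an exponent killing a nontrivial `r`-character. -/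
theorem IsPart.dvd_of_pow_eq_one {r : ℕ} [Fact r.Prime] {d : N →* ℂˣ} (h : IsPart r d) (h1 : d ≠ 1)
    {m : ℕ} (hm : d ^ m = 1) : r ∣ m := by
  obtain ⟨x, hx⟩ : ∃ x, d x ≠ 1 := by
    by_contra hcon
    push Not at hcon
    exact h1 (MonoidHom.ext hcon)
  have hm' : d x ^ m = 1 := by rw [← MonoidHom.pow_apply, hm, MonoidHom.one_apply]
  obtain ⟨i, -, hi⟩ := (Nat.dvd_prime_pow (Fact.out : r.Prime)).1
    (orderOf_dvd_of_pow_eq_one (h x))
  rcases i with _ | i
  · exact absurd (orderOf_eq_one_iff.1 (hi.trans (pow_zero r))) hx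
  · exact (dvd_pow_self r i.succ_ne_zero).trans (hi ▸ orderOf_dvd_of_pow_eq_one hm')

/-- A character lies over `φ`. -/
def Over (χ : G → ℂ) (φ : N → ℂ) : Prop :=
  ∀ [Fintype N], Cfsg.classInner (fun n : N => χ n) φ ≠ 0

theorem Over.mk' [i : Fintype N] {χ : G → ℂ} {φ : N → ℂ}
    (h : Cfsg.classInner (fun n : N => χ n) φ ≠ 0) : Over χ φ := fun {j} => by
  rwa [Subsingleton.elim j i]

/-- The data of a degree over a character of `N` whose determinant part is `d`. -/
def InD (r : ℕ) [Fact r.Prime] (d : N →* ℂˣ) (a : Cfsg.relCharDegrees N) : Prop :=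
  ∃ χ : Cfsg.IrrCharacter G, Cfsg.charDegree (χ : G → ℂ) = a.1 ∧ ∃ θ : Cfsg.IrrCharacter N,
    Over (χ : G → ℂ) (θ : N → ℂ) ∧ ∃ D : N →* ℂˣ, HasDet (θ : N → ℂ) D ∧ D ^ partExp N r = d

/-- Stabilisers: a character of `N` fixed by `g` has fixed determinant. -/
theorem inertia_le_T {θ : N → ℂ} {D : N →* ℂˣ} (hD : HasDet θ D) (k : ℕ) :
    Clifford.inertia θ ≤ T (D ^ k) := by
  intro g hg
  have hfix : (g⁻¹ • D) = D := by
    refine HasDet.unique ?_ hD
    have h := hD.comp (MulAut.conjNormal g : MulAut N).toMonoidHom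
    convert h using 1
    · funext n
      rw [← Clifford.mem_inertia.1 hg n]
      exact congrArg θ (Subtype.ext (by simp [MulAut.conjNormal_apply]))
    · exact MonoidHom.ext fun n => by
        rw [smul_apply']
        exact congrArg D (Subtype.ext (by simp [MulAut.conjNormal_apply]))
  refine MonoidHom.ext fun n => ?_
  have hfix' : g • D = D := by
    conv_lhs => rw [← hfix]
    rw [smul_inv_smul]
  rw [smul_apply', MonoidHom.pow_apply, MonoidHom.pow_apply, ← smul_apply', hfix']

theorem index_inertia_dvd {χ : Cfsg.IrrCharacter G} {θ : Cfsg.IrrCharacter N}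
    (h : Over (χ : G → ℂ) (θ : N → ℂ)) :
    (Clifford.inertia (θ : N → ℂ)).index ∣ Cfsg.charDegree (χ : G → ℂ) := by
  have := Fintype.ofFinite G
  have := Fintype.ofFinite N
  set S := Clifford.inertia (θ : N → ℂ)
  have := Fintype.ofFinite S
  obtain ⟨ψ, hψ, hind, -⟩ := Clifford.exists_indFun_inertia S
    (Clifford.le_inertia (Char.irr_isClassFunction θ.2)) θ.2
    (fun g => Clifford.mem_inertia_iff_conjFn) χ.2 h
  refine ⟨Cfsg.charDegree ψ, ?_⟩
  have h1 : (χ : G → ℂ) 1 = (S.index : ℂ) * ψ 1 := by rw [← hind, Char.indFun_apply_one]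
  rw [← BlockB.charDegree_cast (Char.irr_isCharacter χ.2),
    ← BlockB.charDegree_cast (Char.irr_isCharacter hψ)] at h1
  exact_mod_cast h1

theorem charDegree_dvd {χ : Cfsg.IrrCharacter G} {θ : Cfsg.IrrCharacter N}
    (h : Over (χ : G → ℂ) (θ : N → ℂ)) :
    Cfsg.charDegree (θ : N → ℂ) ∣ Cfsg.charDegree (χ : G → ℂ) := by
  have := Fintype.ofFinite G
  have := Fintype.ofFinite N
  obtain ⟨e, he, -⟩ := Clifford.degree_quot_dvd_index χ.2 θ.2 h
  rw [← BlockB.charDegree_cast (Char.irr_isCharacter χ.2),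
    ← BlockB.charDegree_cast (Char.irr_isCharacter θ.2)] at he
  exact ⟨e, by rw [mul_comm]; exact_mod_cast he⟩

/-- An invariant nontrivial determinant part forces the prime into the degree. -/
theorem dvd_degree_of_invariant (hNG : N ≤ commutator G) {r : ℕ} [Fact r.Prime]
    {χ : Cfsg.IrrCharacter G} {θ : Cfsg.IrrCharacter N} (h : Over (χ : G → ℂ) (θ : N → ℂ))
    {D : N →* ℂˣ} (hD : HasDet (θ : N → ℂ) D) (hne : D ^ partExp N r ≠ 1)
    (hinv : T (D ^ partExp N r) = ⊤) : r ∣ Cfsg.charDegree (χ : G → ℂ) := by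
  classical
  have := Fintype.ofFinite G
  have := Fintype.ofFinite N
  have := Fintype.ofFinite (Cfsg.IrrCharacter N)
  set d := D ^ partExp N r with hd
  have hdets : ∀ φ : Cfsg.IrrCharacter N, ∃ E : N →* ℂˣ, HasDet (φ : N → ℂ) E :=
    fun φ => exists_hasDet (Char.irr_isCharacter φ.2)
  choose E hE using hdets
  have hm : ∀ φ : Cfsg.IrrCharacter N, ∃ m : ℕ,
      Cfsg.classInner (fun n : N => (χ : G → ℂ) n) (φ : N → ℂ) = m := fun φ =>
    Char.classInner_isCharacter_nat (Char.isCharacter_restrict (Char.irr_isCharacter χ.2) N)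
      (Char.irr_isCharacter φ.2)
  choose m hm using hm
  have hres : (fun n : N => (χ : G → ℂ) n) =
      ∑ φ : Cfsg.IrrCharacter N, (m φ) • (φ : N → ℂ) := by
    conv_lhs => rw [Char.classFunction_eq_sum (Char.isCharacter_isClassFunction
      (Char.isCharacter_restrict (Char.irr_isCharacter χ.2) N))]
    refine Finset.sum_congr rfl fun φ _ => ?_
    rw [hm, Nat.cast_smul_eq_nsmul]
  -- the determinant of the restriction is trivial
  obtain ⟨Δ, hΔ⟩ := exists_hasDet (Char.irr_isCharacter χ.2)
  have h1 : HasDet (fun n : N => (χ : G → ℂ) n) 1 := by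
    have he : Δ.comp N.subtype = (1 : N →* ℂˣ) := MonoidHom.ext fun n =>
      MonoidHom.mem_ker.1 (Abelianization.commutator_subset_ker Δ (hNG n.2))
    exact he ▸ hΔ.comp N.subtype
  have h2 : HasDet (fun n : N => (χ : G → ℂ) n) (∏ φ : Cfsg.IrrCharacter N, E φ ^ m φ) := by
    rw [hres]
    exact HasDet.sum _ fun φ _ => (hE φ).nsmul (m φ)
  have h3 : ∀ φ : Cfsg.IrrCharacter N, m φ ≠ 0 →
      E φ ^ partExp N r = d ∧ Cfsg.charDegree (φ : N → ℂ) = Cfsg.charDegree (θ : N → ℂ) := by
    intro φ hφ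
    obtain ⟨g, hg⟩ := Clifford.exists_conj_of_constituents χ.2 θ.2 φ.2 h
      (by rw [hm]; exact_mod_cast hφ)
    refine ⟨?_, ?_⟩
    · have he : E φ = g⁻¹ • D := by
        refine (hE φ).unique ?_
        have h' := hD.comp (MulAut.conjNormal g : MulAut N).toMonoidHom
        convert h' using 1
        · rw [← hg]
          funext n
          exact congrArg (θ : N → ℂ) (Subtype.ext (by simp [MulAut.conjNormal_apply]))
        · exact MonoidHom.ext fun n => by
            rw [smul_apply']
            exact congrArg D (Subtype.ext (by simp [MulAut.conjNormal_apply]))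
      have hgd : g⁻¹ ∈ T d := hinv ▸ Subgroup.mem_top _
      refine MonoidHom.ext fun n => ?_
      rw [he, MonoidHom.pow_apply, smul_apply', ← MonoidHom.pow_apply, ← hd, ← smul_apply']
      exact congrFun (congrArg DFunLike.coe hgd) n
    · have h4 : (φ : N → ℂ) 1 = (θ : N → ℂ) 1 := by
        rw [← hg]
        exact congrArg (θ : N → ℂ) (Subtype.ext (by simp))
      rw [← BlockB.charDegree_cast (Char.irr_isCharacter φ.2),
        ← BlockB.charDegree_cast (Char.irr_isCharacter θ.2)] at h4
      exact_mod_cast h4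
  have h5 : d ^ (∑ φ : Cfsg.IrrCharacter N, m φ) = 1 := by
    refine MonoidHom.ext fun n => ?_
    have h6 : (∏ φ : Cfsg.IrrCharacter N, E φ ^ m φ) n = 1 := by
      rw [h2.unique h1, MonoidHom.one_apply]
    rw [MonoidHom.finsetProd_apply] at h6
    have h7 := congrArg (· ^ partExp N r) h6
    simp only [one_pow, ← Finset.prod_pow] at h7
    rw [MonoidHom.pow_apply, MonoidHom.one_apply, ← Finset.prod_pow_eq_pow_sum, ← h7]
    refine Finset.prod_congr rfl fun φ _ => ?_
    rcases eq_or_ne (m φ) 0 with h0 | h0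
    · simp [h0]
    · conv_rhs => rw [MonoidHom.pow_apply, ← pow_mul, mul_comm, pow_mul, ← MonoidHom.pow_apply (E φ),
        (h3 φ h0).1]
  have h8 : Cfsg.charDegree (χ : G → ℂ) =
      (∑ φ : Cfsg.IrrCharacter N, m φ) * Cfsg.charDegree (θ : N → ℂ) := by
    have h9 : (χ : G → ℂ) ((1 : N) : G) = _ := congrFun hres 1
    rw [Finset.sum_apply, OneMemClass.coe_one,
      ← BlockB.charDegree_cast (Char.irr_isCharacter χ.2)] at h9
    rw [Finset.sum_mul]
    have h10 : (Cfsg.charDegree (χ : G → ℂ) : ℂ) = ((∑ φ : Cfsg.IrrCharacter N,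
        m φ * Cfsg.charDegree (θ : N → ℂ) : ℕ) : ℂ) := by
      rw [h9, Nat.cast_sum]
      refine Finset.sum_congr rfl fun φ _ => ?_
      rw [Pi.smul_apply, nsmul_eq_mul, Nat.cast_mul,
        ← BlockB.charDegree_cast (Char.irr_isCharacter φ.2)]
      rcases eq_or_ne (m φ) 0 with h0 | h0
      · simp [h0]
      · rw [(h3 φ h0).2]
    exact_mod_cast h10
  rw [h8]
  exact Dvd.dvd.mul_right
    (IsPart.dvd_of_pow_eq_one (hd ▸ isPart_pow r D) hne h5) _

/-- Over a nontrivial character of `N` there is a relative degree. -/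
theorem exists_over (θ : Cfsg.IrrCharacter N) (hθ : (θ : N → ℂ) ≠ fun _ => 1) :
    ∃ χ : Cfsg.IrrCharacter G, Over (χ : G → ℂ) (θ : N → ℂ) ∧
      Cfsg.charDegree (χ : G → ℂ) ∈ Cfsg.relCharDegrees N := by
  have := Fintype.ofFinite G
  have := Fintype.ofFinite N
  obtain ⟨χ, hχ⟩ := Block.exists_over_constituent (G := G) θ
  refine ⟨χ, fun {j} => by convert hχ, χ, ?_, rfl⟩
  by_contra hcon
  push Not at hcon
  refine hχ ?_
  rw [show (fun n : N => (χ : G → ℂ) n) = (χ : G → ℂ) 1 • fun _ : N => (1 : ℂ) from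
    funext fun n => by simp [hcon n n.2], Char.classInner_smul_left,
    Char.irr_classInner_ne Char.isIrrCharacter_one θ.2 hθ.symm, mul_zero]

/-- A relative degree lies over a nontrivial character of `N`. -/
theorem exists_constituent {a : ℕ} (ha : a ∈ Cfsg.relCharDegrees N) :
    ∃ χ : Cfsg.IrrCharacter G, Cfsg.charDegree (χ : G → ℂ) = a ∧ ∃ θ : Cfsg.IrrCharacter N,
      Over (χ : G → ℂ) (θ : N → ℂ) ∧ (θ : N → ℂ) ≠ fun _ => 1 := by
  classical
  have := Fintype.ofFinite G
  have := Fintype.ofFinite N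
  have := Fintype.ofFinite (Cfsg.IrrCharacter N)
  obtain ⟨χ, ⟨x, hx, hne⟩, rfl⟩ := ha
  refine ⟨χ, rfl, ?_⟩
  by_contra hcon
  push Not at hcon
  set f := fun n : N => (χ : G → ℂ) n
  have hf := Char.classFunction_eq_sum (Char.isCharacter_isClassFunction
    (Char.isCharacter_restrict (Char.irr_isCharacter χ.2) N))
  rw [Finset.sum_eq_single (⟨_, Char.isIrrCharacter_one⟩ : Cfsg.IrrCharacter N)] at hf
  · have h1 := congrFun hf ⟨x, hx⟩
    have h2 := congrFun hf 1
    simp only [Pi.smul_apply, smul_eq_mul] at h1 h2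
    exact hne (h1.trans h2.symm)
  · intro φ _ hφ
    rcases eq_or_ne (Cfsg.classInner (fun n : N => (χ : G → ℂ) n) (φ : N → ℂ)) 0 with h0 | h0
    · rw [h0, zero_smul]
    · exact absurd (Subtype.ext (hcon φ (fun {j} => by convert h0))) hφ
  · intro h; exact absurd (Finset.mem_univ _) h

/-- A linear character as an irreducible one, with its determinant. -/
theorem exists_inD {r : ℕ} [Fact r.Prime] {d : N →* ℂˣ} (hd : IsPart r d) (h1 : d ≠ 1) :
    ∃ a, InD r d a := by
  have hne : (fun n : N => (d n : ℂ)) ≠ fun _ => 1 := fun e =>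
    h1 (MonoidHom.ext fun n => Units.ext (congrFun e n))
  obtain ⟨χ, hχ, hmem⟩ := exists_over ⟨_, Char.isIrrCharacter_linear d⟩ hne
  exact ⟨⟨_, hmem⟩, χ, rfl, _, hχ, d, hasDet_linear d, hd.pow_partExp⟩

theorem InD.index_dvd {r : ℕ} [Fact r.Prime] {d : N →* ℂˣ} {a : Cfsg.relCharDegrees N}
    (h : InD r d a) : (T d).index ∣ a.1 := by
  obtain ⟨χ, rfl', θ, hθ, D, hD, rfl⟩ := h
  exact rfl' ▸ (Subgroup.index_dvd_of_le (inertia_le_T hD _)).trans (index_inertia_dvd hθ)

theorem InD.prime_dvd (hNG : N ≤ commutator G) {r : ℕ} [Fact r.Prime] {d : N →* ℂˣ}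
    {a : Cfsg.relCharDegrees N} (h : InD r d a) (h1 : d ≠ 1) (hinv : T d = ⊤) : r ∣ a.1 := by
  obtain ⟨χ, e, θ, hθ, D, hD, rfl⟩ := h
  exact e ▸ dvd_degree_of_invariant hNG hθ hD h1 hinv

/-- The degrees attached to one linear character are joined. -/
theorem InD.reachable (hNG : N ≤ commutator G) {r : ℕ} [Fact r.Prime] {d : N →* ℂˣ}
    {a b : Cfsg.relCharDegrees N} (ha : InD r d a) (hb : InD r d b) (h1 : d ≠ 1) :
    (graph N).Reachable a b := by
  rcases eq_or_ne (T d) ⊤ with h | h
  · exact link_dvd (Fact.out : r.Prime).one_lt (ha.prime_dvd hNG h1 h) (hb.prime_dvd hNG h1 h)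
      (ne_zero_of_mem a.2)
  · refine link_dvd ?_ ha.index_dvd hb.index_dvd (ne_zero_of_mem a.2)
    have h2 := Subgroup.index_ne_zero_of_finite (H := T d)
    have h3 : (T d).index ≠ 1 := fun e => h (Subgroup.index_eq_one.1 e)
    omega

/-- Linear characters for two primes give a common degree. -/
theorem exists_inD_both {r s : ℕ} [Fact r.Prime] [Fact s.Prime] (hrs : r ≠ s) {d e : N →* ℂˣ}
    (hd : IsPart r d) (he : IsPart s e) (h1 : d ≠ 1) : ∃ a, InD r d a ∧ InD s e a := by
  have hr : (d * e) ^ partExp N r = d := MonoidHom.ext fun x => by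
    rw [MonoidHom.pow_apply, MonoidHom.mul_apply, mul_pow, ← MonoidHom.pow_apply,
      ← MonoidHom.pow_apply, hd.pow_partExp, he.pow_other (Ne.symm hrs), MonoidHom.one_apply,
      mul_one]
  have hs : (d * e) ^ partExp N s = e := MonoidHom.ext fun x => by
    rw [MonoidHom.pow_apply, MonoidHom.mul_apply, mul_pow, ← MonoidHom.pow_apply,
      ← MonoidHom.pow_apply, hd.pow_other hrs, he.pow_partExp, MonoidHom.one_apply, one_mul]
  have hne : (fun n : N => ((d * e) n : ℂ)) ≠ fun _ => 1 := fun h => h1 (by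
    rw [← hr, show d * e = 1 from MonoidHom.ext fun n => Units.ext (congrFun h n)]
    exact MonoidHom.ext fun x => by simp)
  obtain ⟨χ, hχ, hmem⟩ := exists_over ⟨_, Char.isIrrCharacter_linear (d * e)⟩ hne
  exact ⟨⟨_, hmem⟩, ⟨χ, rfl, _, hχ, _, hasDet_linear (d * e), hr⟩,
    ⟨χ, rfl, _, hχ, _, hasDet_linear (d * e), hs⟩⟩

/-- The coset configuration: the prime divides one index. -/
theorem prime_dvd_index_of_coset {r : ℕ} [Fact r.Prime] {d e : N →* ℂˣ}
    (hd : IsPart r d) (he : IsPart r e) (he1 : T e ≠ ⊤)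
    (hco : (T d).index.Coprime (T e).index) (h3 : (T (d * e)).index.Coprime (T e).index) :
    r ∣ (T d).index := by
  classical
  have hle1 : T d ⊓ T e ≤ T (d * e) := by
    intro g hg
    rw [Subgroup.mem_inf] at hg
    show g • (d * e) = d * e
    rw [smul_mul_lin, show g • d = d from hg.1, show g • e = e from hg.2]
  have hle2 : T (d * e) ⊓ T e ≤ T d ⊓ T e := by
    intro g hg
    rw [Subgroup.mem_inf] at hg
    refine Subgroup.mem_inf.2 ⟨?_, hg.2⟩
    have h := hg.1
    change g • (d * e) = d * e at h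
    rw [smul_mul_lin, show g • e = e from hg.2] at h
    exact mul_right_cancel h
  have hD : (T d ⊓ T e).index = (T d).index * (T e).index :=
    Nat.dvd_antisymm (by
      have h := Subgroup.index_inf_le (H := T d) (K := T e)
      have h1 := Nat.Coprime.mul_dvd_of_dvd_of_dvd hco
        (Subgroup.index_dvd_of_le (inf_le_left : T d ⊓ T e ≤ T d))
        (Subgroup.index_dvd_of_le (inf_le_right : T d ⊓ T e ≤ T e))
      exact dvd_of_eq (le_antisymm h (Nat.le_of_dvd
        (Nat.pos_of_ne_zero Subgroup.index_ne_zero_of_finite) h1)))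
      (Nat.Coprime.mul_dvd_of_dvd_of_dvd hco
        (Subgroup.index_dvd_of_le (inf_le_left : T d ⊓ T e ≤ T d))
        (Subgroup.index_dvd_of_le (inf_le_right : T d ⊓ T e ≤ T e)))
  have hn31 : (T (d * e)).index ∣ (T d).index :=
    h3.dvd_of_dvd_mul_right (hD ▸ Subgroup.index_dvd_of_le hle1)
  have hn13 : (T d).index ≤ (T (d * e)).index := by
    refine Nat.le_of_mul_le_mul_right ?_
      (Nat.pos_of_ne_zero (Subgroup.index_ne_zero_of_finite (H := T e)))
    rw [← hD]
    exact (Nat.le_of_dvd (Nat.pos_of_ne_zero Subgroup.index_ne_zero_of_finite)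
      (Subgroup.index_dvd_of_le hle2)).trans (Subgroup.index_inf_le)
  have hn : (T (d * e)).index = (T d).index :=
    le_antisymm (Nat.le_of_dvd (Nat.pos_of_ne_zero Subgroup.index_ne_zero_of_finite) hn31) hn13
  -- `T e` is transitive on the orbit of `d`
  have hfin : ∀ x : N →* ℂˣ, (MulAction.orbit G x).Finite := fun x => Set.toFinite _
  have htr : ∀ x ∈ MulAction.orbit G d, ∃ t ∈ T e, t • d = x := by
    have hcard : Nat.card (MulAction.orbit (T e) d) = Nat.card (MulAction.orbit G d) := by
      rw [Nat.card_congr (MulAction.orbitEquivQuotientStabilizer (T e) d),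
        Nat.card_congr (MulAction.orbitEquivQuotientStabilizer G d)]
      show (MulAction.stabilizer (T e) d).index = (T d).index
      rw [show MulAction.stabilizer (T e) d = (T d).subgroupOf (T e) from rfl]
      show (T d).relIndex (T e) = (T d).index
      have h := Subgroup.relIndex_mul_index (inf_le_right : T d ⊓ T e ≤ T e)
      rw [Subgroup.inf_relIndex_right, hD] at h
      exact Nat.eq_of_mul_eq_mul_right
        (Nat.pos_of_ne_zero (Subgroup.index_ne_zero_of_finite (H := T e))) h
    intro x hx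
    have hsub : MulAction.orbit (T e) d ⊆ MulAction.orbit G d := by
      rintro _ ⟨t, rfl⟩; exact ⟨(t : G), rfl⟩
    have heq := Set.eq_of_subset_of_ncard_le hsub
      (by rw [← Nat.card_coe_set_eq, ← Nat.card_coe_set_eq, hcard]) (hfin d)
    rw [← heq] at hx
    obtain ⟨t, rfl⟩ := hx
    exact ⟨t, t.2, rfl⟩
  set O := (hfin d).toFinset with hO
  have himg : O.image (· * e) = (hfin (d * e)).toFinset := by
    refine Finset.eq_of_subset_of_card_le ?_ ?_
    · intro y hy
      obtain ⟨x, hx, rfl⟩ := Finset.mem_image.1 hy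
      obtain ⟨t, ht, rfl⟩ := htr x ((hfin d).mem_toFinset.1 hx)
      refine (hfin (d * e)).mem_toFinset.2 ⟨t, ?_⟩
      show t • (d * e) = t • d * e
      rw [smul_mul_lin, show t • e = e from ht]
    · rw [Finset.card_image_of_injective _ (mul_left_injective e), hO,
        ← Set.ncard_eq_toFinset_card _ (hfin d), ← Set.ncard_eq_toFinset_card _ (hfin (d * e)),
        ← Nat.card_coe_set_eq, ← Nat.card_coe_set_eq,
        Nat.card_congr (MulAction.orbitEquivQuotientStabilizer G d),
        Nat.card_congr (MulAction.orbitEquivQuotientStabilizer G (d * e))]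
      exact hn.le
  -- a translation fixing the orbit of `d`
  obtain ⟨g, hg⟩ : ∃ g : G, g • e ≠ e := by
    by_contra hcon
    push Not at hcon
    exact he1 (eq_top_iff.2 fun g _ => hcon g)
  set s := g • e * e⁻¹ with hs
  have hsub : O.image (· * (g • e)) = (hfin (d * e)).toFinset := by
    refine Finset.eq_of_subset_of_card_le ?_ ?_
    · intro y hy
      obtain ⟨x, hx, rfl⟩ := Finset.mem_image.1 hy
      have hx' : g⁻¹ • x ∈ O := by
        rw [hO, Set.Finite.mem_toFinset] at hx ⊢
        obtain ⟨k, rfl⟩ := hx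
        exact ⟨g⁻¹ * k, mul_smul _ _ _⟩
      have h := Finset.mem_image_of_mem (· * e) hx'
      rw [himg, Set.Finite.mem_toFinset] at h
      obtain ⟨k, hk⟩ := h
      refine (hfin (d * e)).mem_toFinset.2 ⟨g * k, ?_⟩
      show (g * k) • (d * e) = x * g • e
      rw [mul_smul, show k • (d * e) = g⁻¹ • x * e from hk, smul_mul_lin, smul_inv_smul]
    · rw [← himg, Finset.card_image_of_injective _ (mul_left_injective e),
        Finset.card_image_of_injective _ (mul_left_injective (g • e))]
  have hprod := congrArg (fun A : Finset (N →* ℂˣ) => ∏ x ∈ A, x) (himg.trans hsub.symm)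
  simp only [Finset.prod_image fun a _ b _ h => mul_left_injective e h,
    Finset.prod_image fun a _ b _ h => mul_left_injective (g • e) h, Finset.prod_mul_distrib,
    Finset.prod_const] at hprod
  have hpow := mul_left_cancel hprod
  have hne : s ≠ 1 := fun h => hg (MonoidHom.ext fun n => mul_inv_eq_one.1 (DFunLike.congr_fun h n))
  have hsP : IsPart r s := by rw [hs]; exact (he.smul g).mul he.inv
  have hcardO : O.card = (T d).index := by
    rw [hO, ← Set.ncard_eq_toFinset_card _ (hfin d), ← Nat.card_coe_set_eq,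
      Nat.card_congr (MulAction.orbitEquivQuotientStabilizer G d)]
    rfl
  refine hcardO ▸ hsP.dvd_of_pow_eq_one hne ?_
  refine MonoidHom.ext fun n => ?_
  have h := DFunLike.congr_fun hpow n
  rw [MonoidHom.pow_apply, MonoidHom.pow_apply] at h
  rw [hs, MonoidHom.pow_apply, MonoidHom.mul_apply, MonoidHom.inv_apply, MonoidHom.one_apply,
    mul_pow, inv_pow, ← h, mul_inv_cancel]

/-- Two characters with indices prime to `r`. -/
theorem reachable_pair {r : ℕ} [Fact r.Prime] {d e : N →* ℂˣ}
    (hd : IsPart r d) (he : IsPart r e) (hdn : T d ≠ ⊤) (hen : T e ≠ ⊤)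
    (hdr : ¬ r ∣ (T d).index) (her : ¬ r ∣ (T e).index) {a b : Cfsg.relCharDegrees N}
    (ha : InD r d a) (hb : InD r e b) : (graph N).Reachable a b := by
  have hgt : ∀ {x : N →* ℂˣ}, T x ≠ ⊤ → 1 < (T x).index := fun {x} hx => by
    have h2 := Subgroup.index_ne_zero_of_finite (H := T x)
    have h3 : (T x).index ≠ 1 := fun h => hx (Subgroup.index_eq_one.1 h)
    omega
  by_cases hco : (T d).index.Coprime (T e).index
  · have hTn : T (d * e) ≠ ⊤ := by
      intro h
      have hTeq : T d = T e := by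
        ext g
        have h' : g • (d * e) = d * e := (h.symm ▸ Subgroup.mem_top g : g ∈ T (d * e))
        rw [smul_mul_lin] at h'
        show g • d = d ↔ g • e = e
        constructor <;> intro hh <;> rw [hh] at h'
        · exact mul_left_cancel h'
        · exact mul_right_cancel h'
      rw [hTeq, Nat.coprime_self] at hco
      exact (hgt hen).ne' hco
    obtain ⟨c, hc⟩ := exists_inD (hd.mul he) (fun h => hTn (by
      rw [h]; exact eq_top_iff.2 fun g _ => smul_one_lin g))
    have h1 : 1 < Nat.gcd (T (d * e)).index (T d).index := by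
      by_contra hle
      have hco' : (T (d * e)).index.Coprime (T d).index :=
        le_antisymm (not_lt.1 hle) (Nat.gcd_pos_of_pos_right _ (by have := hgt hdn; omega))
      exact her (prime_dvd_index_of_coset he hd hdn hco.symm (by rwa [mul_comm e d]))
    have h2 : 1 < Nat.gcd (T (d * e)).index (T e).index := by
      by_contra hle
      have hco' : (T (d * e)).index.Coprime (T e).index :=
        le_antisymm (not_lt.1 hle) (Nat.gcd_pos_of_pos_right _ (by have := hgt hen; omega))
      exact hdr (prime_dvd_index_of_coset hd he hen hco hco')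
    exact (link_dvd h1 ((Nat.gcd_dvd_right _ _).trans ha.index_dvd)
      ((Nat.gcd_dvd_left _ _).trans hc.index_dvd) (ne_zero_of_mem a.2)).trans
      (link_dvd h2 ((Nat.gcd_dvd_left _ _).trans hc.index_dvd)
        ((Nat.gcd_dvd_right _ _).trans hb.index_dvd) (ne_zero_of_mem c.2))
  · refine link_dvd (k := Nat.gcd (T d).index (T e).index) ?_
      ((Nat.gcd_dvd_left _ _).trans ha.index_dvd) ((Nat.gcd_dvd_right _ _).trans hb.index_dvd)
      (ne_zero_of_mem a.2)
    have h1 := Nat.gcd_pos_of_pos_left (T e).index (show 0 < (T d).index by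
      have := hgt hdn; omega)
    unfold Nat.Coprime at hco
    omega

end CfsgLib.BlockB.RelDegreeGraph
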