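import Cfsg.Agent.Lib.BlockB.RelDegreeDiam

/-!
The two component shapes and the diameter bound four for the graph of relative degrees over a
solvable normal subgroup of the derived subgroup.
-/

set_option autoImplicit false
set_option linter.unusedSectionVars false

namespace CfsgLib.BlockB.RelDegreeGraph

open CfsgLib

universe u

variable {G : Type u} [Group G] [Finite G] {N : Subgroup G} [N.Normal]

theorem edist_le_one {a b : Cfsg.relCharDegrees N} (h : 1 < Nat.gcd a.1 b.1) :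
    (graph N).edist a b ≤ 1 := by
  rcases eq_or_ne a b with rfl | hne
  · simp
  · have hadj : (graph N).Adj a b := ⟨fun e => hne (Subtype.ext e), h⟩
    exact le_of_eq (SimpleGraph.edist_eq_one_iff_adj.2 hadj)

theorem gcd_self {a b : Cfsg.relCharDegrees N} (h : 1 < Nat.gcd a.1 b.1) :
    1 < Nat.gcd a.1 a.1 :=
  gcd_gt_one_of_dvd h (Nat.gcd_dvd_left _ _) (Nat.gcd_dvd_left _ _)

theorem edist_le_two {a b c : Cfsg.relCharDegrees N} (h1 : 1 < Nat.gcd a.1 b.1)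
    (h2 : 1 < Nat.gcd b.1 c.1) : (graph N).edist a c ≤ 2 :=
  SimpleGraph.edist_triangle.trans (add_le_add (edist_le_one h1) (edist_le_one h2))

theorem edist_le_three {a b c d : Cfsg.relCharDegrees N} (h1 : 1 < Nat.gcd a.1 b.1)
    (h2 : 1 < Nat.gcd b.1 c.1) (h3 : 1 < Nat.gcd c.1 d.1) : (graph N).edist a d ≤ 3 :=
  SimpleGraph.edist_triangle.trans (add_le_add (edist_le_two h1 h2) (edist_le_one h3))

theorem edist_le_four {a b c d e : Cfsg.relCharDegrees N} (h1 : 1 < Nat.gcd a.1 b.1)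
    (h2 : 1 < Nat.gcd b.1 c.1) (h3 : 1 < Nat.gcd c.1 d.1) (h4 : 1 < Nat.gcd d.1 e.1) :
    (graph N).edist a e ≤ 4 :=
  SimpleGraph.edist_triangle.trans (add_le_add (edist_le_three h1 h2 h3) (edist_le_one h4))

theorem gcd_comm' {a b : ℕ} (h : 1 < Nat.gcd a b) : 1 < Nat.gcd b a := by rwa [Nat.gcd_comm]

theorem exists_prime_dvd_of_not_coprime {a m : ℕ} (h : ¬ a.Coprime m) :
    ∃ q : ℕ, q.Prime ∧ q ∣ a ∧ q ∣ m := Nat.Prime.not_coprime_iff_dvd.1 h

/-- The two classes: every degree in the same class is joined. -/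
theorem reachable_of_iff (hNG : N ≤ commutator G) (hm1 : ⁅N, N⁆.relIndex N ≠ 1)
    {x y : Cfsg.relCharDegrees N}
    (h : (∀ r : ℕ, r.Prime → r ∣ ⁅N, N⁆.relIndex N → r ∣ x.1) ↔
      ∀ r : ℕ, r.Prime → r ∣ ⁅N, N⁆.relIndex N → r ∣ y.1) :
    (graph N).Reachable x y := by
  by_cases hx : ∀ r : ℕ, r.Prime → r ∣ ⁅N, N⁆.relIndex N → r ∣ x.1
  · obtain ⟨r, hr, hrm⟩ := Nat.exists_prime_and_dvd hm1
    exact link_dvd hr.one_lt (hx r hr hrm) (h.1 hx r hr hrm) (ne_zero_of_mem x.2)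
  · have hy : ¬ ∀ r : ℕ, r.Prime → r ∣ ⁅N, N⁆.relIndex N → r ∣ y.1 := fun hy => hx (h.2 hy)
    push Not at hx hy
    obtain ⟨r, hr, hrm, hrx⟩ := hx
    obtain ⟨t, ht, htm, hty⟩ := hy
    exact reachable_of_not_dvd hNG hr ht hrm htm hrx hty

theorem relIndex_ne_one [Group.IsSolvable N] (hN : N ≠ ⊥) : ⁅N, N⁆.relIndex N ≠ 1 := by
  intro h
  rw [relIndex_commutator, Subgroup.index_eq_one] at h
  have := (Subgroup.nontrivial_iff_ne_bot N).2 hN
  exact (Group.IsSolvable.commutator_lt_top_of_nontrivial N).ne h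

theorem ne_bot_of_mem {a : ℕ} (ha : a ∈ Cfsg.relCharDegrees N) : N ≠ ⊥ := by
  obtain ⟨χ, ⟨x, hx, hne⟩, -⟩ := ha
  intro e
  rw [e, Subgroup.mem_bot] at hx
  exact hne (by rw [hx])

/-- The disconnected case. -/
theorem disconnected_shape [Group.IsSolvable N] (hNG : N ≤ commutator G)
    (hdisc : ¬ (graph N).Preconnected) :
    ∃ a₀ : Cfsg.relCharDegrees N,
      (∀ b c, (graph N).Reachable a₀ b → (graph N).Reachable a₀ c → b ≠ c → (graph N).Adj b c) ∧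
      ∀ b c, ¬ (graph N).Reachable a₀ b → ¬ (graph N).Reachable a₀ c → b ≠ c →
        (graph N).Adj b c ∨ ∃ d, (graph N).Adj b d ∧ (graph N).Adj d c := by
  obtain ⟨x, y, hxy⟩ : ∃ x y, ¬ (graph N).Reachable x y := by
    simpa [SimpleGraph.Preconnected] using hdisc
  have hm1 := relIndex_ne_one (ne_bot_of_mem x.2)
  obtain ⟨a₀, hZ⟩ : ∃ a : Cfsg.relCharDegrees N,
      ∀ r : ℕ, r.Prime → r ∣ ⁅N, N⁆.relIndex N → r ∣ a.1 := by
    by_contra hcon
    exact hxy (reachable_of_iff hNG hm1 ⟨fun h => absurd ⟨x, h⟩ hcon, fun h => absurd ⟨y, h⟩ hcon⟩)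
  -- nothing meets both `a₀` and a degree missing a prime
  have hsep : ∀ b : Cfsg.relCharDegrees N, ¬ (graph N).Reachable a₀ b →
      b.1.Coprime (⁅N, N⁆.relIndex N) := by
    intro b hb
    by_contra hco
    obtain ⟨q, hq, hqb, hqm⟩ := exists_prime_dvd_of_not_coprime hco
    exact hb (link_dvd hq.one_lt (hZ q hq hqm) hqb (ne_zero_of_mem a₀.2))
  refine ⟨a₀, fun b c hb hc hne => ?_, fun b c hb hc hne => ?_⟩
  · have hin : ∀ z : Cfsg.relCharDegrees N, (graph N).Reachable a₀ z →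
        ∀ r : ℕ, r.Prime → r ∣ ⁅N, N⁆.relIndex N → r ∣ z.1 := by
      intro z hz
      by_contra hcon
      refine hxy ?_
      have hall : ∀ w : Cfsg.relCharDegrees N, (graph N).Reachable a₀ w := fun w => by
        by_cases hw : ∀ r : ℕ, r.Prime → r ∣ ⁅N, N⁆.relIndex N → r ∣ w.1
        · exact reachable_of_iff hNG hm1 ⟨fun _ => hw, fun _ => hZ⟩
        · exact hz.trans (reachable_of_iff hNG hm1 ⟨fun h => absurd h hcon, fun h => absurd h hw⟩)
      exact (hall x).symm.trans (hall y)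
    obtain ⟨r, hr, hrm⟩ := Nat.exists_prime_and_dvd hm1
    exact ⟨fun e => hne (Subtype.ext e),
      gcd_gt_one_of_dvd hr.one_lt (hin b hb r hr hrm) (hin c hc r hr hrm)⟩
  · rcases near_cases hNG (hsep b hb) (hsep c hc) with ⟨d, h1, h2⟩ |
      ⟨d, q, hq, hqm, hqd, h1⟩ | ⟨-, θ, d, q, -, -, hn, hθ, hq, hqm, hqd, hθd⟩
    · rcases eq_or_ne b d with rfl | hbd
      · exact Or.inl ⟨fun e => hne (Subtype.ext e), h2⟩
      rcases eq_or_ne d c with rfl | hdc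
      · exact Or.inl ⟨fun e => hne (Subtype.ext e), h1⟩
      exact Or.inr ⟨d, ⟨fun e => hbd (Subtype.ext e), h1⟩, ⟨fun e => hdc (Subtype.ext e), h2⟩⟩
    · exact absurd ((link_dvd hq.one_lt (hZ q hq hqm) hqd (ne_zero_of_mem a₀.2)).trans
        (link (gcd_comm' h1))) hb
    · exact absurd ((link_dvd hq.one_lt (hZ q hq hqm) hqd (ne_zero_of_mem a₀.2)).trans
        (link (gcd_gt_one_of_dvd hn hθd hθ))) hc

/-- Degrees missing primes of `[N : N']`: distance at most four. -/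
theorem edist_of_missing (hNG : N ≤ commutator G) {x y : Cfsg.relCharDegrees N} {u v : ℕ}
    (hu : u.Prime) (hv : v.Prime) (hum : u ∣ ⁅N, N⁆.relIndex N) (hvm : v ∣ ⁅N, N⁆.relIndex N)
    (hux : ¬ u ∣ x.1) (hvy : ¬ v ∣ y.1) : (graph N).edist x y ≤ 4 := by
  have : Fact u.Prime := ⟨hu⟩
  have : Fact v.Prime := ⟨hv⟩
  obtain ⟨f, hf, hf1⟩ := exists_part hum
  obtain ⟨g, hg, hg1⟩ := exists_part hvm
  -- a linear part against a nonlinear degree
  have key : ∀ (a b : Cfsg.relCharDegrees N) (s : ℕ) [Fact s.Prime] (d : N →* ℂˣ) (w : ℕ)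
      [Fact w.Prime] (k : N →* ℂˣ), IsPart s d → d ≠ 1 → InD s d a → IsPart w k → k ≠ 1 →
      ¬ w ∣ b.1 → ∀ θ : Cfsg.IrrCharacter N, 1 < Cfsg.charDegree (θ : N → ℂ) →
      Cfsg.charDegree (θ : N → ℂ) ∣ b.1 → (graph N).edist a b ≤ 3 := by
    intro a b s _ d w _ k hd hd1 had hk hk1 hwb θ hn hθ
    by_cases hsn : s ∣ Cfsg.charDegree (θ : N → ℂ)
    · have hsw : s ≠ w := fun e => hwb (e ▸ hsn.trans hθ)
      obtain ⟨c₁, h1, h2⟩ := exists_inD_both hsw hd hk hd1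
      obtain ⟨c₂, h3, h4⟩ := exists_twist θ hn (fun h => hwb (h.trans hθ)) hk
      exact edist_le_three (had.meets hNG h1 hd1) (h2.meets hNG h3 hk1)
        (gcd_gt_one_of_dvd hn h4 hθ)
    · obtain ⟨c, h1, h2⟩ := exists_twist θ hn hsn hd
      exact (edist_le_two (had.meets hNG h1 hd1) (gcd_gt_one_of_dvd hn h2 hθ)).trans
        (Nat.cast_le.2 (by norm_num : (2 : ℕ) ≤ 3))
  have h34 : (3 : ℕ∞) ≤ 4 := Nat.cast_le.2 (by norm_num : (3 : ℕ) ≤ 4)
  rcases linear_or_nonlinear x with ⟨s, hs, d, hsm, hd, hd1, hxd⟩ | ⟨θ₁, hn1, hθ1⟩ <;>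
    rcases linear_or_nonlinear y with ⟨s', hs', e, hsm', he, he1, hye⟩ | ⟨θ₂, hn2, hθ2⟩
  · rcases eq_or_ne s s' with rfl | hne
    · by_cases htwo : ∃ w : ℕ, w.Prime ∧ w ∣ ⁅N, N⁆.relIndex N ∧ w ≠ s
      · obtain ⟨w, hw, hwm, hws⟩ := htwo
        have : Fact w.Prime := ⟨hw⟩
        obtain ⟨k, hk, hk1⟩ := exists_part hwm
        obtain ⟨c₁, h1, h2⟩ := exists_inD_both (Ne.symm hws) hd hk hd1
        obtain ⟨c₂, h3, h4⟩ := exists_inD_both (Ne.symm hws) he hk he1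
        exact (edist_le_three (hxd.meets hNG h1 hd1) (h2.meets hNG h4 hk1)
          (h3.meets hNG hye he1)).trans h34
      · push Not at htwo
        obtain rfl := htwo u hu hum
        obtain rfl := htwo v hv hvm
        obtain ⟨c, h1, h2⟩ := exists_between_pair hd he (fun h => hux (hxd.prime_dvd hNG hd1 h))
          (fun h => hvy (hye.prime_dvd hNG he1 h)) (fun h => hux (h.trans hxd.index_dvd))
          (fun h => hvy (h.trans hye.index_dvd)) hxd hye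
        exact (edist_le_two h1 h2).trans (Nat.cast_le.2 (by norm_num : (2 : ℕ) ≤ 4))
    · obtain ⟨c, h1, h2⟩ := exists_inD_both hne hd he hd1
      exact (edist_le_two (hxd.meets hNG h1 hd1) (h2.meets hNG hye he1)).trans
        (Nat.cast_le.2 (by norm_num : (2 : ℕ) ≤ 4))
  · exact (key x y s d v g hd hd1 hxd hg hg1 hvy θ₂ hn2 hθ2).trans h34
  · rw [SimpleGraph.edist_comm]
    exact (key y x s' e u f he he1 hye hf hf1 hux θ₁ hn1 hθ1).trans h34
  · obtain ⟨c₁, h1, h2⟩ := exists_twist θ₁ hn1 (fun h => hux (h.trans hθ1)) hf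
    rcases eq_or_ne u v with rfl | huv
    · obtain ⟨c₂, h3, h4⟩ := exists_twist θ₂ hn2 (fun h => hvy (h.trans hθ2)) hf
      exact (edist_le_three (gcd_gt_one_of_dvd hn1 hθ1 h2) (h1.meets hNG h3 hf1)
        (gcd_gt_one_of_dvd hn2 h4 hθ2)).trans h34
    · obtain ⟨c₂, h3, h4⟩ := exists_twist θ₂ hn2 (fun h => hvy (h.trans hθ2)) hg
      obtain ⟨c, h5, h6⟩ := exists_inD_both huv hf hg hf1
      exact edist_le_four (gcd_gt_one_of_dvd hn1 hθ1 h2) (h1.meets hNG h5 hf1)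
        (h6.meets hNG h3 hg1) (gcd_gt_one_of_dvd hn2 h4 hθ2)

/-- A degree divisible by every prime of `[N : N']` against one prime to it. -/
theorem edist_full_coprime [Group.IsSolvable N] (hNG : N ≤ commutator G)
    (hconn : (graph N).Connected) (hm1 : ⁅N, N⁆.relIndex N ≠ 1) {z x : Cfsg.relCharDegrees N}
    (hz : ∀ r : ℕ, r.Prime → r ∣ ⁅N, N⁆.relIndex N → r ∣ z.1)
    (hx : x.1.Coprime (⁅N, N⁆.relIndex N)) : (graph N).edist x z ≤ 4 := by
  have hznot : ¬ z.1.Coprime (⁅N, N⁆.relIndex N) := fun h => by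
    obtain ⟨r, hr, hrm⟩ := Nat.exists_prime_and_dvd hm1
    exact Nat.not_coprime_of_dvd_of_dvd hr.one_lt (hz r hr hrm) hrm h
  have h24 : (2 : ℕ∞) ≤ 4 := Nat.cast_le.2 (by norm_num : (2 : ℕ) ≤ 4)
  by_cases htouch : ∃ (c : Cfsg.relCharDegrees N) (q : ℕ), q.Prime ∧ q ∣ ⁅N, N⁆.relIndex N ∧
      q ∣ c.1 ∧ 1 < Nat.gcd x.1 c.1
  · obtain ⟨c, q, hq, hqm, hqc, hxc⟩ := htouch
    exact (edist_le_two hxc (gcd_gt_one_of_dvd hq.one_lt hqc (hz q hq hqm))).trans h24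
  obtain ⟨x₀, w, hx₀, hw, hadj⟩ : ∃ x₀ w : Cfsg.relCharDegrees N,
      x₀.1.Coprime (⁅N, N⁆.relIndex N) ∧ ¬ w.1.Coprime (⁅N, N⁆.relIndex N) ∧
        (graph N).Adj x₀ w := by
    obtain ⟨p⟩ := hconn.preconnected x z
    obtain ⟨d, -, hd1, hd2⟩ := p.exists_boundary_dart
      {a | a.1.Coprime (⁅N, N⁆.relIndex N)} hx hznot
    exact ⟨d.fst, d.snd, hd1, hd2, d.adj⟩
  obtain ⟨q₀, hq₀, hqw, hqm₀⟩ := exists_prime_dvd_of_not_coprime hw
  rcases near_cases hNG hx hx₀ with ⟨c, h1, h2⟩ | h | ⟨θ₁, θ₂, c, q, hn1, hθ1, hn2, hθ2, hq, hqm, hqc, hθc⟩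
  · exact edist_le_four h1 h2 hadj.2 (gcd_gt_one_of_dvd hq₀.one_lt hqw (hz q₀ hq₀ hqm₀))
  · exact absurd h htouch
  · obtain ⟨r, hr, hrm⟩ := Nat.exists_prime_and_dvd hm1
    have : Fact r.Prime := ⟨hr⟩
    obtain ⟨f, hf, hf1⟩ := exists_part hrm
    have hnr : ∀ {a : ℕ} {n : ℕ}, a.Coprime (⁅N, N⁆.relIndex N) → n ∣ a → ¬ r ∣ n :=
      fun ha hna h => Nat.not_coprime_of_dvd_of_dvd hr.one_lt (h.trans hna) hrm ha
    obtain ⟨c₁, h1, h2⟩ := exists_twist θ₁ hn1 (hnr hx hθ1) hf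
    obtain ⟨c₂, h3, h4⟩ := exists_twist θ₂ hn2 (hnr hx₀ hθ2) hf
    exact edist_le_four (gcd_gt_one_of_dvd hn1 hθ1 h2) (h1.meets hNG h3 hf1)
      (gcd_gt_one_of_dvd hn2 h4 hθc) (gcd_gt_one_of_dvd hq.one_lt hqc (hz q hq hqm))

/-- The connected case: diameter at most four. -/
theorem diam_le_four [Group.IsSolvable N] (hNG : N ≤ commutator G)
    (hconn : (graph N).Connected) : (graph N).diam ≤ 4 := by
  obtain ⟨a⟩ := hconn.nonempty
  have hm1 := relIndex_ne_one (ne_bot_of_mem a.2)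
  refine ENat.toNat_le_of_le_natCast (SimpleGraph.ediam_le_of_edist_le fun x y => ?_)
  have h14 : (1 : ℕ∞) ≤ (4 : ℕ) := Nat.cast_le.2 (by norm_num : (1 : ℕ) ≤ 4)
  by_cases hx : ∀ r : ℕ, r.Prime → r ∣ ⁅N, N⁆.relIndex N → r ∣ x.1
  · by_cases hy : y.1.Coprime (⁅N, N⁆.relIndex N)
    · rw [SimpleGraph.edist_comm]
      exact edist_full_coprime hNG hconn hm1 hx hy
    · obtain ⟨q, hq, hqy, hqm⟩ := exists_prime_dvd_of_not_coprime hy
      exact (edist_le_one (gcd_gt_one_of_dvd hq.one_lt (hx q hq hqm) hqy)).trans h14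
  · by_cases hy : ∀ r : ℕ, r.Prime → r ∣ ⁅N, N⁆.relIndex N → r ∣ y.1
    · by_cases hx' : x.1.Coprime (⁅N, N⁆.relIndex N)
      · exact edist_full_coprime hNG hconn hm1 hy hx'
      · obtain ⟨q, hq, hqx, hqm⟩ := exists_prime_dvd_of_not_coprime hx'
        exact (edist_le_one (gcd_gt_one_of_dvd hq.one_lt hqx (hy q hq hqm))).trans h14
    · push Not at hx hy
      obtain ⟨u, hu, hum, hux⟩ := hx
      obtain ⟨v, hv, hvm, hvy⟩ := hy
      exact edist_of_missing hNG hu hv hum hvm hux hvy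

end CfsgLib.BlockB.RelDegreeGraph
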