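import Cfsg.Agent.Lib.BlockB.RelMcKayTools
import Cfsg.Agent.Lib.BlockB.CoverTransfer
import Cfsg.Agent.Lib.StructC.PSolvableQuot

/-!
The relative McKay count for `p`-solvable groups (Okuyama–Wajima).
-/

set_option autoImplicit false
set_option linter.unusedSectionVars false
set_option linter.style.haveILetI false

namespace CfsgLib.BlockB.McKay

open CfsgLib.Clifford
open scoped Pointwise

universe u

/-- The relative count over invariant characters of subgroups of index less than `n`. -/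
def MainStmt (p : ℕ) [Fact p.Prime] (n : ℕ) : Prop :=
  ∀ (G : Type u) [Group G] [Fintype G], Cfsg.IsPSolvable p G → ∀ (L : Subgroup G) [L.Normal]
    [Fintype L] (S : Sylow p G) (X : Subgroup G) [Fintype X],
    X = Subgroup.normalizer ((L ⊔ S : Subgroup G) : Set G) → ∀ (hLX : L ≤ X) (ν : L → ℂ),
    Cfsg.IsIrrCharacter L ν → (∀ s ∈ (S : Subgroup G), InvBy L s ν) → L.index < n →
    Nat.card (PrimeOver p (fun l : L => (l : G)) ν) =
      Nat.card (PrimeOver p (Subgroup.inclusion hLX) ν)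

/-- The count over a linear character of a central subgroup of index at most `n`. -/
def CenStmt (p : ℕ) [Fact p.Prime] (n : ℕ) : Prop :=
  ∀ (G : Type u) [Group G] [Fintype G], Cfsg.IsPSolvable p G → ∀ (Z : Subgroup G) [Fintype Z],
    (∀ z ∈ Z, ∀ g, z * g = g * z) → ∀ (S : Sylow p G)
    (hZN : Z ≤ Subgroup.normalizer ((S : Subgroup G) : Set G)) (lam : Z → ℂ),
    Cfsg.IsIrrCharacter Z lam → Z.index ≤ n →
    Nat.card (PrimeOver p (fun z : Z => (z : G)) lam) =
      Nat.card (PrimeOver p (Subgroup.inclusion hZN) lam)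

section Lemmas

variable {G : Type u} [Group G] [Fintype G] {p : ℕ} [Fact p.Prime]

/-- The count in the whole group as a count in `⊤`. -/
theorem primeOver_top (K : Subgroup G) [Fintype K] (η : K → ℂ) :
    Nat.card (PrimeOver p (fun k : K => (k : G)) η) =
      Nat.card (PrimeOver p (Subgroup.inclusion (le_top : K ≤ ⊤)) η) :=
  card_primeOver_congr p (f := fun k : K => (k : G)) (f' := Subgroup.inclusion (le_top : K ≤ ⊤))
    (η := η) (η' := η) (MulEquiv.refl K) Subgroup.topEquiv.symm (fun _ => rfl) (fun _ => rfl)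

/-- The statement for smaller index inside a subgroup `M`. -/
theorem main_sub {n : ℕ} (IH : MainStmt.{u} p n) (hG : Cfsg.IsPSolvable p G) (K M X : Subgroup G)
    [K.Normal] [Fintype K] [Fintype M] [Fintype X] (S : Sylow p G) (hKM : K ≤ M)
    (hSM : (S : Subgroup G) ≤ M) (hKX : K ≤ X)
    (hX : X = M ⊓ Subgroup.normalizer ((K ⊔ S : Subgroup G) : Set G)) {η : K → ℂ}
    (hη : Cfsg.IsIrrCharacter K η) (hinv : ∀ s ∈ (S : Subgroup G), InvBy K s η)
    (hlt : K.relIndex M < n) :
    Nat.card (PrimeOver p (Subgroup.inclusion hKM) η) =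
      Nat.card (PrimeOver p (Subgroup.inclusion hKX) η) := by
  haveI := Fintype.ofFinite (K.subgroupOf M)
  haveI := Fintype.ofFinite (X.subgroupOf M)
  have hXM : X ≤ M := hX.le.trans inf_le_left
  let e : K.subgroupOf M ≃* K := Subgroup.subgroupOfEquivOfLe hKM
  have hX' : X.subgroupOf M = Subgroup.normalizer
      ((K.subgroupOf M ⊔ (S.subtype hSM : Subgroup M) : Subgroup M) : Set M) := by
    rw [Sylow.coe_subtype, ← Subgroup.subgroupOf_sup hKM hSM, hX, Subgroup.inf_subgroupOf_left]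
    exact Subgroup.comap_normalizer_eq_of_le_range (by
      rw [Subgroup.range_subtype]; exact sup_le hKM hSM)
  have h := IH M (CfsgLib.PLength.isPSolvable_subgroup hG M) (K.subgroupOf M) (S.subtype hSM)
    (X.subgroupOf M) hX' (fun m hm => hKX hm) (η ∘ e)
    (CfsgLib.Char.isIrrCharacter_comp_surjective hη e.toMonoidHom e.surjective)
    (fun s hs k k' hk => hinv s hs (e k) (e k') (congrArg Subtype.val hk))
    hlt
  rw [card_primeOver_subgroupOf K M hKM, h]
  exact card_primeOver_congr p e (Subgroup.subgroupOfEquivOfLe hXM)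
    (fun _ => Subtype.ext rfl) (fun _ => rfl)

/-- A `p`-element of the center lies in every Sylow subgroup. -/
theorem central_pgroup_le (S : Sylow p G) {Q : Subgroup G} (hQ : IsPGroup p Q)
    (hQc : ∀ z ∈ Q, ∀ g, z * g = g * z) : Q ≤ S := by
  haveI : Q.Normal := ⟨fun x hx g => by rw [← hQc x hx, mul_inv_cancel_right]; exact hx⟩
  exact le_sup_left.trans (S.3 (hQ.to_sup_of_normal_left S.2) le_sup_right).le

/-- The intersection of a central subgroup with `S` has index prime to `p` in it. -/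
theorem not_dvd_relIndex_inf (S : Sylow p G) {Z : Subgroup G} (hZ : ∀ z ∈ Z, ∀ g, z * g = g * z) :
    ¬ p ∣ (Z ⊓ S : Subgroup G).relIndex Z := by
  obtain ⟨Q⟩ : Nonempty (Sylow p Z) := inferInstance
  have hQ : (Q : Subgroup Z).map Z.subtype ≤ S :=
    central_pgroup_le S (Q.2.map _) fun z hz => hZ z (Subgroup.map_subtype_le _ hz)
  intro h
  refine Q.not_dvd_index (h.trans ?_)
  exact Subgroup.index_dvd_of_le fun x hx => ⟨x.2, hQ ⟨x, hx, rfl⟩⟩

/-- A normal subgroup whose index over the center part is prime to `p` has a normal complement of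
order prime to `p` to that part. -/
theorem exists_normal_coprime_part (S : Sylow p G) {Z K : Subgroup G} [K.Normal]
    (hZ : ∀ z ∈ Z, ∀ g, z * g = g * z) (hZK : Z ≤ K) (hcop : ¬ p ∣ Z.relIndex K) :
    ∃ K' : Subgroup G, K'.Normal ∧ K' ≤ K ∧ ¬ p ∣ Nat.card K' ∧ K ≤ K' ⊔ S := by
  set A := Z ⊓ (S : Subgroup G) with hA
  have hAK : A ≤ K := inf_le_left.trans hZK
  have hidx : ¬ p ∣ A.relIndex K := by
    rw [← Subgroup.relIndex_mul_relIndex A Z K inf_le_left hZK, (Fact.out : p.Prime).dvd_mul]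
    exact not_or.2 ⟨not_dvd_relIndex_inf S hZ, hcop⟩
  set A' := A.subgroupOf K with hA'
  have hAc : ∀ (a : A') (k : K), (a : K) * k = k * a := fun a k =>
    Subtype.ext (hZ _ (Subgroup.mem_inf.1 a.2).1 k)
  haveI : A'.Normal := ⟨fun x hx k => by
    rw [← hAc ⟨x, hx⟩ k, mul_inv_cancel_right]; exact hx⟩
  have hApg : IsPGroup p A' :=
    (S.2.to_le inf_le_right).of_equiv (Subgroup.subgroupOfEquivOfLe hAK).symm
  obtain ⟨a, ha⟩ := IsPGroup.iff_card.1 hApg
  have hco : (Nat.card A').Coprime A'.index :=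
    ha ▸ ((Fact.out : p.Prime).coprime_iff_not_dvd.2 hidx).pow_left a
  obtain ⟨H, hH⟩ := Subgroup.exists_right_complement'_of_coprime hco
  have hHcard : Nat.card H = A'.index :=
    (Subgroup.IsComplement'.index_eq_card (Subgroup.IsComplement'.symm hH)).symm
  have hHchar : ∀ x : K, x ^ A'.index = 1 → x ∈ H := by
    intro x hx
    obtain ⟨⟨⟨y, hy⟩, ⟨h, hh⟩⟩, rfl⟩ := hH.2 x
    have h1 : h ^ A'.index = 1 := hHcard ▸
      congrArg Subtype.val (pow_card_eq_one' (x := (⟨h, hh⟩ : H)))
    change (y * h) ^ A'.index = 1 at hx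
    have hc : Commute y h := hAc ⟨y, hy⟩ h
    rw [hc.mul_pow, h1, mul_one] at hx
    have h2 : y ^ Nat.card A' = 1 :=
      congrArg Subtype.val (pow_card_eq_one' (x := (⟨y, hy⟩ : A')))
    have h3 : y = 1 := orderOf_eq_one_iff.1 (Nat.eq_one_of_dvd_coprimes hco
      (orderOf_dvd_of_pow_eq_one h2) (orderOf_dvd_of_pow_eq_one hx))
    show y * h ∈ H
    rw [h3, one_mul]
    exact hh
  refine ⟨H.map K.subtype, ⟨?_⟩, Subgroup.map_subtype_le _, ?_, fun k hk => ?_⟩
  · rintro _ ⟨h, hh, rfl⟩ g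
    have h1 : h ^ A'.index = 1 := hHcard ▸
      congrArg Subtype.val (pow_card_eq_one' (x := (⟨h, hh⟩ : H)))
    refine ⟨⟨g * h * g⁻¹, (inferInstance : K.Normal).conj_mem _ h.2 g⟩,
      hHchar _ (Subtype.ext ?_), rfl⟩
    rw [SubgroupClass.coe_pow, Subgroup.coe_one]
    show (g * (h : G) * g⁻¹) ^ A'.index = 1
    rw [conj_pow, ← SubgroupClass.coe_pow, h1, Subgroup.coe_one, mul_one, mul_inv_cancel]
  · rw [Subgroup.card_map_of_injective K.subtype_injective, hHcard]
    exact hidx
  · obtain ⟨⟨⟨y, hy⟩, ⟨h, hh⟩⟩, he⟩ := hH.2 ⟨k, hk⟩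
    have he' : (y : G) * (h : G) = k := congrArg Subtype.val he
    rw [← he', show (y : G) * (h : G) = (h : G) * y from hZ _ (Subgroup.mem_inf.1 hy).1 _]
    exact Subgroup.mul_mem_sup ⟨h, hh, rfl⟩ (Subgroup.mem_inf.1 hy).2

end Lemmas

/-- A normal subgroup above `Z` with index over `Z` a power of `p` or prime to `p`. -/
theorem exists_step {G : Type u} [Group G] [Finite G] {p : ℕ} [Fact p.Prime]
    (hG : Cfsg.IsPSolvable p G) (Z : Subgroup G) [Z.Normal] (hZ : Z ≠ ⊤) :
    ∃ K : Subgroup G, K.Normal ∧ Z < K ∧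
      ((∃ m, Z.relIndex K = p ^ m) ∨ ¬ p ∣ Z.relIndex K) := by
  obtain ⟨k, H, h0, htop, hmono, hn, hstep⟩ := hG
  obtain ⟨i, hi, hi'⟩ : ∃ i : Fin k, H i.castSucc ≤ Z ∧ ¬ H i.succ ≤ Z := by
    by_contra hcon
    push Not at hcon
    have : ∀ i : Fin (k + 1), H i ≤ Z := fun i => by
      induction i using Fin.induction with
      | zero => rw [h0]; exact bot_le
      | succ j ih => exact hcon j ih
    exact hZ (top_le_iff.1 (htop ▸ this (Fin.last k)))
  haveI := hn i.succ
  refine ⟨Z ⊔ H i.succ, inferInstance, lt_of_le_of_ne le_sup_left fun e => hi' ?_, ?_⟩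
  · rw [e]; exact le_sup_right
  have hdvd : Z.relIndex (Z ⊔ H i.succ) ∣ (H i.castSucc).relIndex (H i.succ) := by
    rw [Subgroup.relIndex_sup_left]
    exact Subgroup.relIndex_dvd_of_le_left _ hi
  rcases hstep i with ⟨m, hm⟩ | hc
  · obtain ⟨j, -, hj⟩ := (Nat.dvd_prime_pow (Fact.out : p.Prime)).1 (hm ▸ hdvd)
    exact Or.inl ⟨j, hj⟩
  · exact Or.inr fun h => ((Fact.out : p.Prime).coprime_iff_not_dvd.1 hc.symm) (h.trans hdvd)

open scoped Classical in
/-- The central count from the relative count for smaller index. -/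
theorem cen_step {p : ℕ} [Fact p.Prime] {n : ℕ} (IH : MainStmt.{u} p n) : CenStmt.{u} p n := by
  intro G _ _ hG Z _ hZc S hZN lam hlam hn
  haveI : Z.Normal := ⟨fun x hx g => by rw [← hZc x hx, mul_inv_cancel_right]; exact hx⟩
  set N := Subgroup.normalizer ((S : Subgroup G) : Set G) with hN
  haveI := Fintype.ofFinite N
  haveI := Fintype.ofFinite (⊤ : Subgroup G)
  by_cases hNtop : N = ⊤
  · exact card_primeOver_congr p (f := fun z : Z => (z : G)) (f' := Subgroup.inclusion hZN)
      (η := lam) (η' := lam) (MulEquiv.refl Z)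
      (((MulEquiv.subgroupCongr hNtop).trans Subgroup.topEquiv).symm)
      (fun _ => Subtype.ext rfl) (fun _ => rfl)
  obtain ⟨K, hKn, hZK, hstep⟩ := exists_step hG Z fun e => hNtop (top_le_iff.1 (e ▸ hZN))
  haveI := hKn
  haveI := Fintype.ofFinite K
  haveI : Fintype (fibreBase p (S : Subgroup G) K Z lam) := Fintype.ofFinite _
  have hKlt : K.index < n := (Subgroup.index_strictAnti hZK).trans_le hn
  have hSN : (S : Subgroup G) ≤ N := Subgroup.le_normalizer
  have hNKS : N ≤ Subgroup.normalizer ((K ⊔ S : Subgroup G) : Set G) := fun x hx =>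
    Subgroup.mem_normalizer_fintype fun y hy => by
      obtain ⟨k, hk, s, hs, rfl⟩ := mem_sup_norm (K := K) (A := (S : Subgroup G))
        (fun s _ => by rw [K.normalizer_eq_top]; exact Subgroup.mem_top s) hy
      rw [show x * (k * s) * x⁻¹ = (x * k * x⁻¹) * (x * s * x⁻¹) by group]
      exact Subgroup.mul_mem_sup (hKn.conj_mem k hk x) ((Subgroup.mem_normalizer_iff.1 hx s).1 hs)
  set M := Subgroup.normalizer ((K ⊔ S : Subgroup G) : Set G) with hM
  haveI := Fintype.ofFinite M
  have hKM : K ≤ M := le_sup_left.trans Subgroup.le_normalizer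
  have hSM : (S : Subgroup G) ≤ M := le_sup_right.trans Subgroup.le_normalizer
  have hZM : Z ≤ M := hZK.le.trans hKM
  have h1 := card_primeOver_fibre S K ⊤ Z le_top le_top hZc hZK.le le_top hlam
  have h2 := card_primeOver_fibre S K M Z hKM hNKS hZc hZK.le hZM hlam
  have hGM : Nat.card (PrimeOver p (fun z : Z => (z : G)) lam) =
      Nat.card (PrimeOver p (Subgroup.inclusion hZM) lam) := by
    rw [primeOver_top]
    refine Nat.eq_of_mul_eq_mul_left (Nat.card_pos (α := N)) ?_
    rw [h1, h2]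
    refine Finset.sum_congr rfl fun μ _ => congrArg (· * _) ?_
    rw [← primeOver_top]
    exact IH G hG K S M hM hKM _ μ.1.2 μ.2.1 hKlt
  rw [hGM]
  rcases hstep with ⟨m, hm⟩ | hcop
  · -- a `p`-step: `K ≤ Z S`
    have hle : K ≤ Z ⊔ (S : Subgroup G) := by
      let π := QuotientGroup.mk' Z
      have hπ : Function.Surjective π := QuotientGroup.mk'_surjective Z
      haveI : (K.map π).Normal := hKn.map π hπ
      have hKp : IsPGroup p (K.map π) := IsPGroup.iff_card.2 ⟨m, by
        rw [← Subgroup.relIndex_ker, QuotientGroup.ker_mk', hm]⟩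
      let S' := S.mapSurjective hπ
      have h3 : K.map π ≤ (S : Subgroup G).map π :=
        le_sup_left.trans (S'.3 (hKp.to_sup_of_normal_left S'.2) le_sup_right).le
      have h4 := Subgroup.map_le_iff_le_comap.1 h3
      rw [Subgroup.comap_map_eq, QuotientGroup.ker_mk', sup_comm] at h4
      exact h4
    have e : K ⊔ (S : Subgroup G) = Z ⊔ S :=
      le_antisymm (sup_le hle le_sup_right) (sup_le (hZK.le.trans le_sup_left) le_sup_right)
    have hMN : M = N := by rw [hM, e, normalizer_sup_central S hZc]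
    exact card_primeOver_congr p (f := Subgroup.inclusion hZM) (f' := Subgroup.inclusion hZN)
      (η := lam) (η' := lam) (MulEquiv.refl Z) (MulEquiv.subgroupCongr hMN)
      (fun _ => Subtype.ext rfl) (fun _ => rfl)
  by_cases hMtop : M = ⊤
  · -- `K S` is normal
    obtain ⟨K', hK'n, hK'K, hK'cop, hKle⟩ := exists_normal_coprime_part S hZc hZK.le hcop
    haveI := hK'n
    have e : K' ⊔ (S : Subgroup G) = K ⊔ S :=
      le_antisymm (sup_le_sup_right hK'K _) (sup_le hKle le_sup_right)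
    have hKSn : (K' ⊔ (S : Subgroup G)).Normal := by
      rw [e]; exact Subgroup.normalizer_eq_top_iff.1 hMtop
    rw [← card_central_core S K' hK'cop hKSn Z hZc (hZK.le.trans hKle) hlam hZN]
    exact hGM.symm
  · refine main_sub IH hG Z M N S hZM hSM hZN ?_ hlam (fun s _ => ?_) ?_
    · rw [normalizer_sup_central S hZc]
      exact (inf_eq_right.2 hNKS).symm
    · intro k k' hk
      rw [show k' = k from Subtype.ext (by rw [hk, ← hZc k k.2, mul_inv_cancel_right])]
    · refine lt_of_lt_of_le ?_ hn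
      have hpos : 0 < Z.relIndex M := Nat.pos_of_ne_zero Subgroup.index_ne_zero_of_finite
      rw [← Subgroup.relIndex_mul_index hZM]
      exact lt_mul_of_one_lt_right hpos (Subgroup.one_lt_index_of_ne_top hMtop)

open scoped Classical in
/-- Over an invariant character: reduction to the central count. -/
theorem invariant_step {p : ℕ} [Fact p.Prime] {n : ℕ} (hcen : CenStmt.{u} p n) (G : Type u)
    [Group G] [Fintype G] (hG : Cfsg.IsPSolvable p G) (L : Subgroup G) [L.Normal] [Fintype L]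
    (S : Sylow p G) (X : Subgroup G) [Fintype X]
    (hX : X = Subgroup.normalizer ((L ⊔ S : Subgroup G) : Set G)) (hLX : L ≤ X) {ν : L → ℂ}
    (hν : Cfsg.IsIrrCharacter L ν) (hνd : ¬ p ∣ Cfsg.charDegree ν)
    (hinv : ∀ g : G, conjFn g ν = ν) (hn : L.index ≤ n) :
    Nat.card (PrimeOver p (fun l : L => (l : G)) ν) =
      Nat.card (PrimeOver p (Subgroup.inclusion hLX) ν) := by
  obtain ⟨E, instE, finE, π, emb, σ, hπ, hker, hRn, hemb, hσ, hres, hscal⟩ :=
    exists_central_cover L hν hinv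
  haveI := hRn
  let q : E →* E ⧸ emb.range := QuotientGroup.mk' emb.range
  have hq : Function.Surjective q := QuotientGroup.mk'_surjective _
  have hkerq : q.ker = emb.range := QuotientGroup.ker_mk' _
  haveI := Fintype.ofFinite (E ⧸ emb.range)
  let Z : Subgroup (E ⧸ emb.range) := π.ker.map q
  haveI := Fintype.ofFinite Z
  have hZc : ∀ z ∈ Z, ∀ w : E ⧸ emb.range, z * w = w * z := by
    rintro _ ⟨k, hk, rfl⟩ w
    obtain ⟨x, rfl⟩ := hq w
    rw [← map_mul, ← map_mul, Subgroup.mem_center_iff.1 (hker k hk) x]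
  have hemb1 : ∀ k : E, π k = 1 → q k = 1 → k = 1 := by
    intro k hk hqk
    obtain ⟨l, rfl⟩ := (hkerq.le (MonoidHom.mem_ker.2 hqk) : k ∈ emb.range)
    rw [hemb] at hk
    rw [show l = 1 from Subtype.ext hk, map_one]
  -- the scalars
  have hσ1 : σ 1 = ν 1 := by rw [← hres 1, map_one]
  have hσ1ne : σ 1 ≠ 0 := hσ1 ▸ CfsgLib.Char.irr_apply_one_ne_zero hν
  choose sc hsc using hscal
  have hscval : ∀ k hk, σ k = sc k hk * σ 1 := fun k hk => by
    have := hsc k hk 1
    rwa [one_mul] at this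
  have hscne : ∀ k hk, sc k hk ≠ 0 := fun k hk h0 => hσ1ne (by
    have := hsc k hk k⁻¹
    rwa [inv_mul_cancel, h0, zero_mul] at this)
  choose kz hkz' hqkz using fun z : Z => z.2
  have hkz : ∀ z, π (kz z) = 1 := fun z => MonoidHom.mem_ker.1 (hkz' z)
  have hkzu : ∀ (k : E) (z : Z), π k = 1 → q k = z → kz z = k := fun k z hk hqk => by
    refine inv_mul_eq_one.1 (hemb1 _ ?_ ?_)
    · rw [map_mul, map_inv, hkz z, hk, inv_one, one_mul]
    · rw [map_mul, map_inv, hqkz, hqk, inv_mul_cancel]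
  let χ : Z →* ℂˣ :=
    { toFun := fun z => (Units.mk0 (sc (kz z) (hkz z)) (hscne _ _))⁻¹
      map_one' := by
        rw [inv_eq_one]
        refine Units.ext ?_
        show sc (kz 1) _ = 1
        refine mul_right_cancel₀ hσ1ne ?_
        rw [← hscval, hkzu 1 1 (map_one π) (map_one q), one_mul]
      map_mul' := fun a b => by
        rw [← mul_inv]
        refine congrArg Inv.inv (Units.ext ?_)
        show sc (kz (a * b)) _ = sc (kz a) _ * sc (kz b) _
        refine mul_right_cancel₀ hσ1ne ?_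
        rw [← hscval, hkzu (kz a * kz b) (a * b)
          (by rw [map_mul, hkz a, hkz b, one_mul])
          (by rw [map_mul, hqkz, hqkz]; rfl), hsc (kz b) (hkz b), hscval (kz a) (hkz a)]
        ring }
  let lam : Z → ℂ := fun z => (χ z : ℂ)
  have hlam : Cfsg.IsIrrCharacter Z lam := CfsgLib.Char.isIrrCharacter_linear χ
  have hlamk : ∀ (k : E) (z : Z), π k = 1 → q k = z → σ k * lam z = σ 1 := by
    intro k z hk hqk
    have e := hkzu k z hk hqk
    show σ k * ((Units.mk0 (sc (kz z) (hkz z)) (hscne _ _))⁻¹ : ℂˣ) = σ 1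
    rw [← e, hscval (kz z) (hkz z), Units.val_inv_eq_inv_val, Units.val_mk0, mul_comm, ← mul_assoc,
      inv_mul_cancel₀ (hscne _ _), one_mul]
  -- Sylow subgroups
  obtain ⟨S₁⟩ : Nonempty (Sylow p E) := inferInstance
  obtain ⟨g, hg⟩ := MulAction.exists_smul_eq G (S₁.mapSurjective hπ) S
  obtain ⟨x, rfl⟩ := hπ g
  let SE : Sylow p E := x • S₁
  have hSE : ((SE : Subgroup E)).map π = S := by
    rw [← hg, Sylow.coe_subgroup_smul, Sylow.coe_subgroup_smul]
    ext y
    constructor
    · rintro ⟨_, ⟨s, hs, rfl⟩, rfl⟩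
      exact ⟨π s, ⟨s, hs, rfl⟩, by simp⟩
    · rintro ⟨_, ⟨s, hs, rfl⟩, rfl⟩
      exact ⟨x * s * x⁻¹, ⟨s, hs, by simp⟩, by simp⟩
  let SQ := SE.mapSurjective hq
  have hW : (Z ⊔ (SQ : Subgroup (E ⧸ emb.range))).comap q = (L ⊔ (S : Subgroup G)).comap π := by
    have h1 : (Z ⊔ (SQ : Subgroup (E ⧸ emb.range))).comap q =
        π.ker ⊔ (SE : Subgroup E) ⊔ emb.range := by
      show (π.ker.map q ⊔ (SE : Subgroup E).map q).comap q = _
      rw [← Subgroup.map_sup, Subgroup.comap_map_eq, hkerq]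
    have h2 : (L ⊔ (S : Subgroup G)).comap π = emb.range ⊔ (SE : Subgroup E) ⊔ π.ker := by
      rw [show L ⊔ (S : Subgroup G) = (emb.range ⊔ (SE : Subgroup E)).map π by
        rw [Subgroup.map_sup, hSE]
        congr 1
        refine le_antisymm (fun l hl => ⟨emb ⟨l, hl⟩, ⟨_, rfl⟩, hemb ⟨l, hl⟩⟩) ?_
        rintro _ ⟨_, ⟨l, rfl⟩, rfl⟩
        rw [hemb]; exact l.2, Subgroup.comap_map_eq]
    rw [h1, h2]
    ac_rfl
  set NQ := Subgroup.normalizer (((SQ : Subgroup (E ⧸ emb.range))) : Set (E ⧸ emb.range)) with hNQ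
  have hYE : X.comap π = NQ.comap q := by
    rw [hX, Subgroup.comap_normalizer_eq_of_surjective _ hπ, ← hW,
      ← Subgroup.comap_normalizer_eq_of_surjective _ hq, normalizer_sup_central SQ hZc]
  have hZN : Z ≤ NQ := fun z hz => Subgroup.mem_normalizer_iff.2 fun h => by
    rw [hZc z hz h, mul_inv_cancel_right]
  -- the two transfers
  have hG' := card_transfer (p := p) π hπ q hq L.subtype L.subtype_injective emb hemb hkerq hν hνd
    hσ hres (fun k hk => ⟨sc k hk, hsc k hk⟩) Z (fun z w => hZc z z.2 w)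
    (fun z => ⟨kz z, hkz z, hqkz z⟩) (fun k hk => ⟨k, hk, rfl⟩) hlam hlamk
  let YE := X.comap π
  haveI := Fintype.ofFinite YE
  haveI := Fintype.ofFinite NQ
  haveI := Fintype.ofFinite (Z.subgroupOf NQ)
  let q' : YE →* NQ := (q.comp YE.subtype).codRestrict NQ fun y =>
    (hYE.le y.2 : (y : E) ∈ NQ.comap q)
  let emb' : L →* YE := emb.codRestrict YE fun l => by
    show π (emb l) ∈ X
    rw [hemb]; exact hLX l.2
  have hq' : Function.Surjective q' := by
    rintro ⟨w, hw⟩
    obtain ⟨y, rfl⟩ := hq w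
    exact ⟨⟨y, hYE.ge hw⟩, rfl⟩
  have hkerq' : q'.ker = emb'.range := by
    ext y
    rw [MonoidHom.mem_ker, MonoidHom.mem_range]
    constructor
    · intro h
      obtain ⟨l, hl⟩ := (hkerq.le (MonoidHom.mem_ker.2 (congrArg Subtype.val h)) : (y : E) ∈ emb.range)
      exact ⟨l, Subtype.ext hl⟩
    · rintro ⟨l, rfl⟩
      exact Subtype.ext (MonoidHom.mem_ker.1 (hkerq.ge ⟨l, rfl⟩ : emb l ∈ q.ker))
  have hker' : ∀ k : E, π k = 1 → k ∈ YE := fun k hk => by
    show π k ∈ X
    rw [hk]; exact X.one_mem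
  let eZ : Z.subgroupOf NQ ≃* Z := Subgroup.subgroupOfEquivOfLe hZN
  have hX' := card_transfer (p := p) (π.subgroupComap X)
    (fun w => by obtain ⟨y, hy⟩ := hπ w; exact ⟨⟨y, show π y ∈ X by rw [hy]; exact w.2⟩, Subtype.ext hy⟩)
    q' hq' (Subgroup.inclusion hLX) (Subgroup.inclusion_injective _) emb'
    (fun l => Subtype.ext (hemb l)) hkerq' hν hνd
    (σ := σ ∘ YE.subtype) (CfsgLib.Char.isCharacter_comp hσ YE.subtype) hres
    (fun k hk => ⟨sc k (congrArg Subtype.val hk), fun y => hsc k (congrArg Subtype.val hk) y⟩)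
    (Z.subgroupOf NQ) (fun z w => Subtype.ext (hZc _ z.2 w))
    (fun z => ⟨⟨kz (eZ z), hker' _ (hkz _)⟩, Subtype.ext (hkz _), Subtype.ext (hqkz _)⟩)
    (fun k hk => ⟨k, congrArg Subtype.val hk, rfl⟩) (lam := lam ∘ eZ)
    (CfsgLib.Char.isIrrCharacter_comp_surjective hlam eZ.toMonoidHom eZ.surjective)
    (fun k z hk hqk => hlamk k (eZ z) (congrArg Subtype.val hk) (congrArg Subtype.val hqk))
  rw [show (fun l : L => (l : G)) = L.subtype from rfl, hG', hX']
  have hQ : Cfsg.IsPSolvable p (E ⧸ emb.range) :=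
    CfsgLib.StructC.isPSolvable_quotient _ (isPSolvable_of_central_ker π hπ (fun k hk => hker k hk) hG)
  have hidx : Z.index = L.index := by
    rw [Subgroup.index_map, q.range_eq_top_of_surjective hq, Subgroup.index_top, mul_one, hkerq,
      ← Subgroup.index_comap_of_surjective L hπ]
    congr 1
    refine le_antisymm (sup_le (fun k hk => ?_) ?_) fun y hy => ?_
    · show π k ∈ L
      rw [MonoidHom.mem_ker.1 hk]; exact L.one_mem
    · rintro _ ⟨l, rfl⟩
      show π (emb l) ∈ L
      rw [hemb]; exact l.2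
    · rw [sup_comm]
      have : (emb ⟨π y, hy⟩)⁻¹ * y ∈ π.ker := by
        rw [MonoidHom.mem_ker, map_mul, map_inv, hemb, inv_mul_cancel]
      exact mul_inv_cancel_left (emb ⟨π y, hy⟩) y ▸
        Subgroup.mul_mem_sup ⟨_, rfl⟩ this
  rw [hcen (E ⧸ emb.range) hQ Z hZc SQ hZN lam hlam (hidx ▸ hn)]
  exact (card_primeOver_congr p eZ (MulEquiv.refl NQ) (fun _ => Subtype.ext rfl) (fun _ => rfl)).symm

open scoped Classical in
/-- The relative count, by induction on the index. -/
theorem main_all {p : ℕ} [Fact p.Prime] : ∀ n, MainStmt.{u} p n := by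
  intro n
  induction n with
  | zero => intro G _ _ _ L _ _ S X _ _ _ ν _ _ h; exact absurd h (Nat.not_lt_zero _)
  | succ n IH =>
    intro G _ _ hG L _ _ S X _ hX hLX ν hν hS hlt
    by_cases hd : p ∣ Cfsg.charDegree ν
    · rw [primeOver_top, card_primeOver_eq_zero L ⊤ le_top hν hd,
        card_primeOver_eq_zero L X hLX hν hd]
    by_cases hinv : ∀ g : G, conjFn g ν = ν
    · exact invariant_step (cen_step IH) G hG L S X hX hLX hν hd hinv (by omega)
    let T := inertia ν
    have hTiff : ∀ g : G, g ∈ T ↔ InvBy L g ν := by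
      intro g
      rw [mem_inertia_iff_conjFn]
      refine ⟨fun h k k' hk => ?_, fun h => funext fun m => h m _ rfl⟩
      have h1 := congr_fun h k
      rw [conjFn_apply] at h1
      rw [← h1]
      exact congrArg ν (Subtype.ext hk)
    have hST : (S : Subgroup G) ≤ T := fun s hs => (hTiff s).2 (hS s hs)
    have hLT : L ≤ T := le_inertia (CfsgLib.Char.irr_isClassFunction hν)
    have hSX : (S : Subgroup G) ≤ X := hX ▸ le_sup_right.trans Subgroup.le_normalizer
    have hidx : ∀ A B : Subgroup G, (S : Subgroup G) ≤ A → A ≤ B → ¬ p ∣ A.relIndex B :=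
      fun A B h1 h2 hdv => S.not_dvd_index (hdv.trans (by
        rw [← Subgroup.relIndex_mul_index (h1.trans h2)]
        exact dvd_mul_of_dvd_left (Subgroup.relIndex_dvd_of_le_left B h1) _))
    haveI := Fintype.ofFinite T
    haveI := Fintype.ofFinite (⊤ : Subgroup G)
    haveI := Fintype.ofFinite ↥(X ⊓ T)
    rw [primeOver_top, card_primeOver_inertia L T ⊤ hLT le_top hν (fun g _ => hTiff g)
        (hidx T ⊤ hST le_top),
      card_primeOver_inertia L (X ⊓ T) X (le_inf hLX hLT) inf_le_left hν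
        (fun g hg => by rw [Subgroup.mem_inf, hTiff]; exact and_iff_right hg)
        (hidx _ _ (le_inf hSX hST) inf_le_left)]
    refine main_sub IH hG L T (X ⊓ T) S hLT hST (le_inf hLX hLT) (by rw [hX, inf_comm]) hν hS ?_
    have hTtop : T ≠ ⊤ := fun e => hinv fun g => mem_inertia_iff_conjFn.1 (e ▸ Subgroup.mem_top g : g ∈ T)
    have hpos : 0 < L.relIndex T := Nat.pos_of_ne_zero Subgroup.index_ne_zero_of_finite
    have h := Subgroup.relIndex_mul_index hLT
    have h2 : L.relIndex T < L.relIndex T * T.index :=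
      lt_mul_of_one_lt_right hpos (Subgroup.one_lt_index_of_ne_top hTtop)
    omega

end CfsgLib.BlockB.McKay
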