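import Cfsg.Agent.Lib.BlockB.RelMcKayCore

/-!
The relative McKay count over a central linear character, when a normal `p'`-subgroup times a
Sylow `p`-subgroup is normal.
-/

set_option autoImplicit false
set_option linter.unusedSectionVars false
set_option linter.style.haveILetI false

namespace CfsgLib.BlockB.McKay

open CfsgLib.Clifford

universe u

/-- Counts transported along isomorphisms. -/
theorem card_over_congr {A A' B B' : Type u} [Group A] [Fintype A] [Group A'] [Fintype A'] [Group B]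
    [Group B'] {f : A → B} {f' : A' → B'} (a : A ≃* A') (b : B ≃* B')
    (hf : ∀ x, b (f x) = f' (a x)) {η : A → ℂ} {η' : A' → ℂ} (hη : ∀ x, η' (a x) = η x) :
    Nat.card (Over f η) = Nat.card (Over f' η') := by
  let ψ : Cfsg.IrrCharacter B' ≃ Cfsg.IrrCharacter B :=
    { toFun := fun χ => ⟨(χ : B' → ℂ) ∘ b,
        CfsgLib.Char.isIrrCharacter_comp_surjective χ.2 b.toMonoidHom b.surjective⟩
      invFun := fun χ => ⟨(χ : B → ℂ) ∘ b.symm,
        CfsgLib.Char.isIrrCharacter_comp_surjective χ.2 b.symm.toMonoidHom b.symm.surjective⟩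
      left_inv := fun χ => Subtype.ext (funext fun x => congrArg (χ : B' → ℂ) (b.apply_symm_apply x))
      right_inv := fun χ => Subtype.ext (funext fun x => congrArg (χ : B → ℂ) (b.symm_apply_apply x)) }
  refine (Nat.card_congr (ψ.subtypeEquiv fun χ => Iff.of_eq (congrArg (· ≠ 0) ?_))).symm
  rw [← OverTheta.classInner_comp_surjective a.toMonoidHom a.surjective]
  exact congrArg₂ Cfsg.classInner (funext fun x => congrArg (χ : B' → ℂ) (hf x).symm) (funext hη)

/-- Counts of prime degree transported along isomorphisms. -/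
theorem card_primeOver_congr (p : ℕ) {A A' B B' : Type u} [Group A] [Fintype A] [Group A']
    [Fintype A'] [Group B] [Group B'] {f : A → B} {f' : A' → B'} (a : A ≃* A') (b : B ≃* B')
    (hf : ∀ x, b (f x) = f' (a x)) {η : A → ℂ} {η' : A' → ℂ} (hη : ∀ x, η' (a x) = η x) :
    Nat.card (PrimeOver p f η) = Nat.card (PrimeOver p f' η') := by
  let ψ : Cfsg.IrrCharacter B' ≃ Cfsg.IrrCharacter B :=
    { toFun := fun χ => ⟨(χ : B' → ℂ) ∘ b,
        CfsgLib.Char.isIrrCharacter_comp_surjective χ.2 b.toMonoidHom b.surjective⟩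
      invFun := fun χ => ⟨(χ : B → ℂ) ∘ b.symm,
        CfsgLib.Char.isIrrCharacter_comp_surjective χ.2 b.symm.toMonoidHom b.symm.surjective⟩
      left_inv := fun χ => Subtype.ext (funext fun x => congrArg (χ : B' → ℂ) (b.apply_symm_apply x))
      right_inv := fun χ => Subtype.ext (funext fun x => congrArg (χ : B → ℂ) (b.symm_apply_apply x)) }
  refine (Nat.card_congr (ψ.subtypeEquiv fun χ => and_congr ?_ (Iff.of_eq (congrArg (· ≠ 0) ?_)))).symm
  · show _ ↔ ¬ p ∣ Cfsg.charDegree ((χ : B' → ℂ) ∘ b)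
    rw [Cfsg.charDegree, Cfsg.charDegree, Function.comp_apply, map_one]
  · rw [← OverTheta.classInner_comp_surjective a.toMonoidHom a.surjective]
    exact congrArg₂ Cfsg.classInner (funext fun x => congrArg (χ : B' → ℂ) (hf x).symm) (funext hη)

/-- Two scalars of a translation agree when the functions are not orthogonal. -/
theorem scalar_eq_of_inner_ne_zero {B : Type u} [Group B] [Fintype B] {χ η : B → ℂ} {z : B} {a b : ℂ}
    (hχ : ∀ x, χ (z * x) = a * χ x) (hη : ∀ x, η (z * x) = b * η x) {n : ℕ} (hn : n ≠ 0)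
    (hb : b ^ n = 1) (h : Cfsg.classInner χ η ≠ 0) : a = b := by
  have h1 : Cfsg.classInner (fun x => χ (z * x)) (fun x => η (z * x)) = Cfsg.classInner χ η := by
    rw [CfsgLib.Char.classInner_def, CfsgLib.Char.classInner_def]
    congr 1
    exact Fintype.sum_equiv (Equiv.mulLeft z) _ _ fun u => rfl
  rw [funext hχ, funext hη] at h1
  have h2 : a * (starRingEnd ℂ) b = 1 := by
    refine mul_right_cancel₀ h (Eq.trans ?_ (one_mul _).symm)
    conv_rhs => rw [← h1]
    rw [CfsgLib.Char.classInner_def, CfsgLib.Char.classInner_def, mul_left_comm, Finset.mul_sum]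
    congr 1
    exact Finset.sum_congr rfl fun u _ => by rw [map_mul]; ring
  have h3 : b * (starRingEnd ℂ) b = 1 := by
    rw [Complex.mul_conj, Complex.normSq_eq_norm_sq, Complex.norm_eq_one_of_pow_eq_one hb hn]
    norm_num
  exact mul_right_cancel₀ (fun h0 => by rw [h0, mul_zero] at h3; exact zero_ne_one h3)
    (h2.trans h3.symm)

/-- Central values pass to constituents. -/
theorem central_ratio {G : Type u} [Group G] [Finite G] {K C : Subgroup G} (hCK : C ≤ K) {θ : K → ℂ}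
    (hθ : Cfsg.IsIrrCharacter K θ) {φ : C → ℂ} (hφ : Cfsg.IsIrrCharacter C φ)
    (h : mult hCK θ φ ≠ 0) {c : C} (hc : ∀ g, (c : G) * g = g * c) :
    θ (Subgroup.inclusion hCK c) * φ 1 = θ 1 * φ c := by
  haveI := Fintype.ofFinite C
  obtain ⟨a, -, hω⟩ := HeisenbergPsi.central_scalar hθ (x := Subgroup.inclusion hCK c)
    (fun g => Subtype.ext (hc g))
  obtain ⟨b, hb, hω'⟩ := HeisenbergPsi.central_scalar hφ (x := c) (fun g => Subtype.ext (hc g))
  rw [mult_def] at h
  have hab : a = b := scalar_eq_of_inner_ne_zero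
    (χ := θ ∘ Subgroup.inclusion hCK) (fun x => by rw [Function.comp_apply, map_mul]; exact hω _)
    hω' (orderOf_pos c).ne' hb h
  have h1 := hω 1
  have h2 := hω' 1
  rw [mul_one] at h1 h2
  rw [h1, h2, hab]; ring

/-- A finite group has finitely many linear characters. -/
theorem finite_monoidHom_units (A : Type u) [Group A] [Finite A] : Finite (A →* ℂˣ) := by
  haveI : NeZero (Nat.card A) := ⟨Nat.card_pos.ne'⟩
  refine Finite.of_injective
    (fun f a => (⟨f a, by rw [mem_rootsOfUnity, ← map_pow, pow_card_eq_one', map_one]⟩ :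
      rootsOfUnity (Nat.card A) ℂ)) fun f g h => ?_
  exact MonoidHom.ext fun a => congrArg Subtype.val (congr_fun h a)

variable {G : Type u} [Group G] [Finite G] {p : ℕ} [Fact p.Prime]

open scoped Classical in
/-- The fibre over one parameter as a count over the `p'`-part. -/
theorem over_side (X K P U : Subgroup G) [Fintype X] [Fintype K] [Fintype U]
    [Fintype P] (hKP : K ≤ P) (hKU : K ≤ U) (hPX : P ≤ X) (hUX : U ≤ X)
    (hXKS : X ≤ Subgroup.normalizer (P : Set G))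
    (hPU : P ⊓ U ≤ K) {η : P → ℂ} (hη : Cfsg.IsIrrCharacter P η)
    {θ : K → ℂ} (hθ : Cfsg.IsIrrCharacter K θ)
    (hres : ∀ (k : K) (x : P), (x : G) = k → η x = θ k)
    (hT : ∀ x ∈ X, InvBy P x η ↔ x ∈ P ⊔ U) :
    Nat.card (Over (Subgroup.inclusion hPX) η) = Nat.card (Over (Subgroup.inclusion hKU) θ) := by
  set T := P ⊔ U with hTdef
  have hTX : T ≤ X := sup_le hPX hUX
  haveI := Fintype.ofFinite T
  let P' := P.subgroupOf X
  haveI := Fintype.ofFinite P'
  haveI : P'.Normal := Subgroup.normal_subgroupOf_of_le_normalizer hXKS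
  let eP : P' ≃* P := Subgroup.subgroupOfEquivOfLe hPX
  have hηX : Cfsg.IsIrrCharacter P' (η ∘ eP) :=
    CfsgLib.Char.isIrrCharacter_comp_surjective hη eP.toMonoidHom eP.surjective
  have hinertia : ∀ g : X, g ∈ T.subgroupOf X ↔ conjFn g (η ∘ eP) = η ∘ eP := by
    intro g
    rw [Subgroup.mem_subgroupOf, ← hT g g.2]
    refine ⟨fun h => funext fun m => h (eP m) _ rfl, fun h k k' hk => ?_⟩
    have h1 := congr_fun h (eP.symm k)
    rw [conjFn_apply] at h1
    change η (eP (conjN g (eP.symm k))) = η (eP (eP.symm k)) at h1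
    rw [eP.apply_symm_apply] at h1
    rw [← h1]
    exact congrArg η (Subtype.ext hk)
  have hP'T : P' ≤ T.subgroupOf X := fun x hx => Subgroup.mem_sup_left hx
  haveI := Fintype.ofFinite (T.subgroupOf X)
  have step1 : Nat.card (Over (Subgroup.inclusion hPX) η) =
      Nat.card (Over (fun m : P' => (m : X)) (η ∘ eP)) :=
    (card_over_congr eP (MulEquiv.refl X) (fun m => Subtype.ext rfl) (fun m => rfl)).symm
  rw [step1, card_over_inertia P' (T.subgroupOf X) hP'T hηX hinertia]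
  -- inside `T`
  let P'' := P.subgroupOf T
  haveI := Fintype.ofFinite P''
  haveI : P''.Normal := Subgroup.normal_subgroupOf_of_le_normalizer (hTX.trans hXKS)
  let eP'' : P'' ≃* P := Subgroup.subgroupOfEquivOfLe le_sup_left
  rw [card_over_congr (f' := fun m : P'' => (m : T)) (η' := η ∘ eP'') (eP.trans eP''.symm)
    (Subgroup.subgroupOfEquivOfLe hTX) (fun m => Subtype.ext rfl) (fun m => by
      rw [MulEquiv.trans_apply, Function.comp_apply, eP''.apply_symm_apply]; rfl)]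
  let U' := U.subgroupOf T
  haveI := Fintype.ofFinite U'
  haveI := Fintype.ofFinite (P''.subgroupOf U')
  let eU : U' ≃* U := Subgroup.subgroupOfEquivOfLe le_sup_right
  have hmemK : ∀ m : P''.subgroupOf U', (((m : U') : T) : G) ∈ K := fun m => hPU ⟨m.2, (m : U').2⟩
  let eK : P''.subgroupOf U' ≃* K :=
    { toFun := fun m => ⟨_, hmemK m⟩
      invFun := fun k => ⟨⟨⟨(k : G), Subgroup.mem_sup_right (hKU k.2)⟩, hKU k.2⟩,
        hKP k.2⟩
      left_inv := fun m => rfl
      right_inv := fun k => rfl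
      map_mul' := fun a b => rfl }
  rw [card_over_restrict P'' U' (fun t => ?_)
    (show Cfsg.IsIrrCharacter P'' (η ∘ eP'') from
      CfsgLib.Char.isIrrCharacter_comp_surjective hη eP''.toMonoidHom eP''.surjective)
    (fun t => funext fun m => ?_) (θ := θ ∘ eK)
    (show Cfsg.IsIrrCharacter (P''.subgroupOf U') (θ ∘ eK) from
      CfsgLib.Char.isIrrCharacter_comp_surjective hθ eK.toMonoidHom eK.surjective)
    (fun k m hkm => ?_)]
  · exact card_over_congr eK eU (fun m => Subtype.ext rfl) (fun m => rfl)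
  · obtain ⟨y, hy, u, hu, he⟩ := mem_sup_norm (hUX.trans hXKS) t.2
    exact ⟨⟨y, Subgroup.mem_sup_left hy⟩, hy, ⟨u, Subgroup.mem_sup_right hu⟩, hu, Subtype.ext he⟩
  · exact (hT t (hTX t.2)).2 t.2 (eP'' m) _ rfl
  · exact (hres (eK k) (eP'' m) (congrArg Subtype.val hkm).symm).symm

open scoped Classical in
/-- The count over a central linear character when `K S` is normal. -/
theorem card_central_core (S : Sylow p G) (K : Subgroup G) [K.Normal] (hK : ¬ p ∣ Nat.card K)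
    (hKS : (K ⊔ (S : Subgroup G)).Normal) (Z : Subgroup G) [Fintype Z]
    (hZc : ∀ z ∈ Z, ∀ g, z * g = g * z) (hZP : Z ≤ K ⊔ S) {lam : Z → ℂ}
    (hlam : Cfsg.IsIrrCharacter Z lam) (hZN : Z ≤ Subgroup.normalizer ((S : Subgroup G) : Set G)) :
    Nat.card (PrimeOver p (fun z : Z => (z : G)) lam) =
      Nat.card (PrimeOver p (Subgroup.inclusion hZN) lam) := by
  have hp := (Fact.out : p.Prime)
  haveI := Fintype.ofFinite G
  set S₀ := (S : Subgroup G) with hS₀
  have hS : IsPGroup p S₀ := S.2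
  set N := Subgroup.normalizer (S₀ : Set G) with hN
  have hSN : S₀ ≤ N := Subgroup.le_normalizer
  have hKn : ∀ x : G, x ∈ Subgroup.normalizer (K : Set G) := fun x => by
    rw [K.normalizer_eq_top]; exact Subgroup.mem_top x
  have hSK : S₀ ≤ Subgroup.normalizer (K : Set G) := fun x _ => hKn x
  -- Frattini
  have hGKN : ∀ x : G, ∃ k ∈ K, ∃ n ∈ N, x = k * n := by
    haveI := hKS
    have hF := Sylow.normalizer_sup_eq_top' (N := K ⊔ S₀) S le_sup_right
    have htop : K ⊔ N = ⊤ := top_le_iff.1 (by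
      rw [← hF]; exact sup_le le_sup_right (sup_le le_sup_left (hSN.trans le_sup_right)))
    intro x
    obtain ⟨k, hk, n, hn, rfl⟩ := mem_sup_norm (K := K) (A := N) (fun x _ => hKn x)
      (htop.symm ▸ Subgroup.mem_top x : x ∈ K ⊔ N)
    exact ⟨k, hk, n, hn, rfl⟩
  set C := K ⊓ N with hCdef
  have hCK : C ≤ K := inf_le_left
  have hC : C = K ⊓ Subgroup.centralizer (S₀ : Set G) := by
    refine le_antisymm (fun x hx => ⟨hx.1, Subgroup.mem_centralizer_iff.2 fun s hs => ?_⟩)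
      (inf_le_inf_left _ ?_)
    · exact Subgroup.centralizer_le_normalizer (SetLike.coe S₀)
    · have h1 : x * s * x⁻¹ * s⁻¹ ∈ S₀ :=
        S₀.mul_mem ((Subgroup.mem_normalizer_iff.1 hx.2 s).1 hs) (S₀.inv_mem hs)
      have h2 : x * s * x⁻¹ * s⁻¹ ∈ K := by
        rw [show x * s * x⁻¹ * s⁻¹ = x * (s * x⁻¹ * s⁻¹) by group]
        exact K.mul_mem hx.1 ((inferInstance : K.Normal).conj_mem _ (K.inv_mem hx.1) s)
      exact (mul_inv_eq_iff_eq_mul.1 (mul_inv_eq_one.1 (eq_one_of_coprime_mem hS hK h2 h1))).symm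
  have hCcop : ¬ p ∣ Nat.card C := fun h => hK (h.trans (Subgroup.card_dvd_of_le hCK))
  have hNC : N ≤ Subgroup.normalizer (C : Set G) := by
    intro n hn
    refine Subgroup.mem_normalizer_fintype fun y hy => ?_
    exact ⟨(Subgroup.mem_normalizer_iff.1 (hKn n) y).1 hy.1,
      N.mul_mem (N.mul_mem hn hy.2) (N.inv_mem hn)⟩
  have hSC : S₀ ≤ Subgroup.normalizer (C : Set G) := hSN.trans hNC
  have hCSN : C ⊔ S₀ ≤ N := sup_le inf_le_right hSN
  have hNCS : N ≤ Subgroup.normalizer ((C ⊔ S₀ : Subgroup G) : Set G) := by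
    intro n hn
    refine Subgroup.mem_normalizer_fintype fun y hy => ?_
    obtain ⟨c, hc, s, hs, rfl⟩ := mem_sup_norm hSC hy
    rw [show n * (c * s) * n⁻¹ = (n * c * n⁻¹) * (n * s * n⁻¹) by group]
    exact Subgroup.mul_mem_sup ((Subgroup.mem_normalizer_iff.1 (hNC hn) c).1 hc)
      ((Subgroup.mem_normalizer_iff.1 hn s).1 hs)
  have hidx : ∀ P X : Subgroup G, S₀ ≤ P → P ≤ X → ¬ p ∣ P.relIndex X := fun P X h1 h2 hd => by
    have h3 : P.relIndex X ∣ S₀.index := by
      rw [← Subgroup.relIndex_mul_index (h1.trans h2)]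
      exact dvd_mul_of_dvd_left (Subgroup.relIndex_dvd_of_le_left X h1) _
    exact S.not_dvd_index (hd.trans h3)
  have hZC : Z ≤ C ⊔ S₀ := by
    intro z hz
    obtain ⟨k, hk, s, hs, rfl, hkc, -, -, -⟩ :=
      exists_central_factors hS hK hSK (hZP hz) (hZc z hz)
    exact Subgroup.mul_mem_sup (hC.symm ▸ ⟨hk, Subgroup.mem_centralizer_iff.2 fun s _ => (hkc s).symm⟩) hs
  haveI := Fintype.ofFinite (⊤ : Subgroup G)
  haveI := Fintype.ofFinite N
  haveI := Fintype.ofFinite ↥(K ⊔ S₀)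
  haveI := Fintype.ofFinite ↥(C ⊔ S₀)
  haveI := Fintype.ofFinite K
  haveI := Fintype.ofFinite C
  obtain ⟨η₁, hη₁, hcount₁⟩ := side_count ⊤ K S₀ hS hK le_top (fun x _ => hKn x) le_top
    (fun x _ => by
      haveI := hKS
      rw [(K ⊔ S₀).normalizer_eq_top]; exact Subgroup.mem_top x)
    (fun x _ => hGKN x) (hidx _ _ le_sup_right le_top) Z hZc hZP le_top hlam le_top
  obtain ⟨η₂, hη₂, hcount₂⟩ := side_count N C S₀ hS hCcop inf_le_right hNC le_rfl hNCS
    (fun x hx => ⟨1, C.one_mem, x, hx, (one_mul x).symm⟩) (hidx _ _ le_sup_right hCSN) Z hZc hZC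
    hZN hlam hCSN
  haveI : Fintype {q : Param K S₀ // CenCond Z lam q} := by
    haveI : Finite (S₀ →* ℂˣ) := finite_monoidHom_units _
    exact Fintype.ofFinite _
  haveI : Fintype {q : Param C S₀ // CenCond Z lam q} := by
    haveI : Finite (S₀ →* ℂˣ) := finite_monoidHom_units _
    exact Fintype.ofFinite _
  have hc₁ := hcount₁
  have hc₂ := hcount₂
  rw [card_primeOver_congr p (f := Subgroup.inclusion (le_top : Z ≤ ⊤)) (f' := fun z : Z => (z : G))
    (η := lam) (η' := lam) (MulEquiv.refl Z) Subgroup.topEquiv (fun z => rfl) (fun z => rfl)] at hc₁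
  -- the correspondence of parameters
  obtain ⟨hg1, hg2, hg3⟩ := glauberman S₀ K hS hK hSK C hC hCK
  have hCinv : ∀ φ : Cfsg.IrrCharacter C, ∀ s ∈ S₀, InvBy C s (φ : C → ℂ) := by
    intro φ s hs k k' hk
    have hks := Subgroup.mem_centralizer_iff.1
      ((hC ▸ k.2 : (k : G) ∈ K ⊓ Subgroup.centralizer (S₀ : Set G)).2) s hs
    rw [show k' = k from Subtype.ext (by rw [hk, hks, mul_inv_cancel_right])]
  choose φ hφ hφc hφu using fun q : Param K S₀ => hg1 (q.1.1 : K → ℂ) q.1.1.2 q.2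
  let e₀ : Param K S₀ → Param C S₀ := fun q => ⟨(⟨φ q, hφ q⟩, q.1.2), hCinv _⟩
  have he₀ : Function.Bijective e₀ := by
    refine ⟨fun q q' h => ?_, fun r => ?_⟩
    · have h1 : φ q = φ q' := congrArg (fun x : Param C S₀ => (x.1.1 : C → ℂ)) h
      have h2 : q.1.2 = q'.1.2 := congrArg (fun x : Param C S₀ => x.1.2) h
      exact Subtype.ext (Prod.ext (Subtype.ext (hg2 _ _ q.1.1.2 q'.1.1.2 q.2 q'.2 (φ q) (hφ q)
        (hφc q) (h1 ▸ hφc q'))) h2)
    · obtain ⟨θ, hθ, hθS, hθc⟩ := hg3 (r.1.1 : C → ℂ) r.1.1.2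
      let q : Param K S₀ := ⟨(⟨θ, hθ⟩, r.1.2), hθS⟩
      exact ⟨q, Subtype.ext (Prod.ext (Subtype.ext (hφu q _ r.1.1.2 hθc).symm) rfl)⟩
  have hfixed : ∀ (q : Param K S₀), ∀ r ∈ N, ParamFixed r q ↔ ParamFixed r (e₀ q) := by
    intro q r hr
    refine and_congr ⟨fun h => ?_, fun h => ?_⟩ Iff.rfl
    · exact invBy_of_corr S₀ K hS hK hSK hC hCK (hKn r) (hNC hr) q.1.1.2 q.2 (hφ q) (hφc q) h
    · exact invBy_of_corr' S₀ K hS hK hSK hC hCK (hKn r) (hNC hr) hr q.1.1.2 q.2 (hφ q) (hφc q) h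
  have hne : ∀ q, mult hCK (q.1.1 : K → ℂ) (φ q) ≠ 0 := fun q => by
    obtain ⟨m, hm, hm'⟩ := hφc q
    rw [hm, Nat.cast_ne_zero]
    exact fun h => hm' (h ▸ dvd_zero p)
  have hcond : ∀ q, CenCond Z lam q ↔ CenCond Z lam (e₀ q) := by
    intro q
    have h1 := CfsgLib.Char.irr_apply_one_ne_zero q.1.1.2
    have h2 := CfsgLib.Char.irr_apply_one_ne_zero (hφ q)
    constructor
    · intro h z c s hz hc hs
      have hr := central_ratio hCK q.1.1.2 (hφ q) (hne q) (c := c) hc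
      have hh : (q.1.1 : K → ℂ) (Subgroup.inclusion hCK c) * ((q.1.2 s : ℂˣ) : ℂ) =
          (q.1.1 : K → ℂ) 1 * lam z := h z ⟨c, hCK c.2⟩ s hz hc hs
      show φ q c * ((q.1.2 s : ℂˣ) : ℂ) = φ q 1 * lam z
      refine mul_left_cancel₀ h1 ?_
      rw [← mul_assoc, ← hr]
      linear_combination (φ q 1) * hh
    · intro h z c s hz hc hs
      have hcC : (c : G) ∈ C := by
        rw [hC]; exact ⟨c.2, Subgroup.mem_centralizer_iff.2 fun s _ => (hc s).symm⟩
      have hr := central_ratio hCK q.1.1.2 (hφ q) (hne q) (c := ⟨c, hcC⟩) hc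
      have hh : φ q ⟨c, hcC⟩ * ((q.1.2 s : ℂˣ) : ℂ) = φ q 1 * lam z := h z ⟨c, hcC⟩ s hz hc hs
      refine mul_right_cancel₀ h2 ?_
      rw [show Subgroup.inclusion hCK (⟨c, hcC⟩ : C) = c from rfl] at hr
      linear_combination ((q.1.2 s : ℂˣ) : ℂ) * hr + (q.1.1 : K → ℂ) 1 * hh
  let e : {q : Param K S₀ // CenCond Z lam q} ≃ {q : Param C S₀ // CenCond Z lam q} :=
    (Equiv.ofBijective e₀ he₀).subtypeEquiv hcond
  have hstabcard : ∀ q : Param K S₀,
      Nat.card {r : N // ParamFixed (r : G) q} = Nat.card {r : N // ParamFixed (r : G) (e₀ q)} :=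
    fun q => Nat.card_congr (Equiv.subtypeEquivRight fun r => hfixed q r r.2)
  -- the fibres
  have hfib : ∀ q : Param K S₀, Nat.card (Over (Subgroup.inclusion (le_top : K ⊔ S₀ ≤ ⊤)) (η₁ q)) =
      Nat.card (Over (Subgroup.inclusion hCSN) (η₂ (e₀ q))) := by
    intro q
    obtain ⟨hη₁i, hη₁r, hη₁f⟩ := hη₁ q
    obtain ⟨hη₂i, hη₂r, hη₂f⟩ := hη₂ (e₀ q)
    have hinvP : ∀ (L : Subgroup G) (η : ↥(L ⊔ S₀) → ℂ), Cfsg.IsIrrCharacter ↥(L ⊔ S₀) η →
        ∀ x ∈ L ⊔ S₀, InvBy (L ⊔ S₀) x η := fun L η hη x hx =>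
      invBy_of_mem hx (CfsgLib.Char.irr_isClassFunction hη)
    -- the stabiliser of the parameter in `N`
    have hT₂iff : ∀ x ∈ N, InvBy (C ⊔ S₀) x (η₂ (e₀ q)) ↔ InvBy (K ⊔ S₀) x (η₁ q) := fun x hx => by
      rw [hη₂f x hx, hη₁f x hx, hfixed q x hx]
    let T₂ : Subgroup G :=
      { carrier := {x | x ∈ N ∧ InvBy (C ⊔ S₀) x (η₂ (e₀ q))}
        one_mem' := ⟨N.one_mem, invBy_of_mem (Subgroup.one_mem _) (CfsgLib.Char.irr_isClassFunction hη₂i)⟩
        mul_mem' := fun {a b} ha hb => ⟨N.mul_mem ha.1 hb.1, invBy_mul (hNCS hb.1) ha.2 hb.2⟩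
        inv_mem' := fun {a} ha => ⟨N.inv_mem ha.1, fun k k' hk => (ha.2 k' k (by rw [hk]; group)).symm⟩ }
    have hCS₂ : C ⊔ S₀ ≤ T₂ := fun x hx => ⟨hCSN hx, hinvP C _ hη₂i x hx⟩
    -- a complement to `S` in it
    let S' := S₀.subgroupOf T₂
    haveI : S'.Normal := Subgroup.normal_subgroupOf_of_le_normalizer fun x hx => hx.1
    have hcop : Nat.Coprime (Nat.card S') S'.index := by
      obtain ⟨m, hm⟩ := IsPGroup.iff_card.1 hS
      rw [Nat.card_congr (Subgroup.subgroupOfEquivOfLe (le_sup_right.trans hCS₂)).toEquiv, hm]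
      exact Nat.Coprime.pow_left m
        (hp.coprime_iff_not_dvd.2 (hidx S₀ T₂ le_rfl (le_sup_right.trans hCS₂)))
    obtain ⟨H, hH⟩ := Subgroup.exists_right_complement'_of_coprime hcop
    let U₂ := H.map T₂.subtype
    haveI := Fintype.ofFinite U₂
    have hU₂T : U₂ ≤ T₂ := Subgroup.map_subtype_le _
    have hU₂N : U₂ ≤ N := fun x hx => (hU₂T hx).1
    have hU₂cop : ¬ p ∣ Nat.card U₂ := by
      rw [Subgroup.card_map_of_injective T₂.subtype_injective, ← Subgroup.IsComplement'.index_eq_card (Subgroup.IsComplement'.symm hH)]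
      exact hidx S₀ T₂ le_rfl (le_sup_right.trans hCS₂)
    have hTdec : ∀ x ∈ T₂, ∃ s ∈ S₀, ∃ u ∈ U₂, x = s * u := by
      intro x hx
      obtain ⟨⟨s, u⟩, hsu⟩ := hH.2 ⟨x, hx⟩
      exact ⟨((s : T₂) : G), s.2, ((u : T₂) : G), ⟨u, u.2, rfl⟩, (congrArg Subtype.val hsu).symm⟩
    have hCU₂ : C ≤ U₂ := by
      intro c hc
      obtain ⟨s, hs, u, hu, rfl⟩ := hTdec c (hCS₂ (Subgroup.mem_sup_left hc))
      have hcop' := card_sup_not_dvd (K := C) (A := U₂) (hU₂N.trans hNC) hCcop hU₂cop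
      have h1 : s ∈ C ⊔ U₂ := by
        have := (C ⊔ U₂).mul_mem (Subgroup.mem_sup_left hc) (Subgroup.mem_sup_right (U₂.inv_mem hu))
        rwa [mul_inv_cancel_right] at this
      rw [eq_one_of_coprime_mem hS hcop' h1 hs, one_mul]
      exact hu
    have hC2 : C = K ⊓ U₂ := le_antisymm (le_inf hCK hCU₂) (inf_le_inf_left _ hU₂N)
    have hU₂K : U₂ ≤ Subgroup.normalizer (K : Set G) := fun x _ => hKn x
    haveI := Fintype.ofFinite ↥(K ⊔ U₂)
    have hmem1 : ∀ x, x ∈ (K ⊔ S₀) ⊔ (K ⊔ U₂) ↔ InvBy (K ⊔ S₀) x (η₁ q) := by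
      intro x
      haveI := hKS
      have hn : ∀ y, y ∈ Subgroup.normalizer ((K ⊔ S₀ : Subgroup G) : Set G) := fun y => by
        rw [(K ⊔ S₀).normalizer_eq_top]; exact Subgroup.mem_top y
      constructor
      · intro hx
        obtain ⟨y, hy, v, hv, rfl⟩ := mem_sup_norm (fun y _ => hn y) hx
        refine invBy_mul (hn v) (hinvP K _ hη₁i y hy) ?_
        obtain ⟨k, hk, u, hu, rfl⟩ := mem_sup_norm hU₂K hv
        exact invBy_mul (hn u) (hinvP K _ hη₁i k (Subgroup.mem_sup_left hk))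
          ((hT₂iff u (hU₂N hu)).1 (hU₂T hu).2)
      · intro hx
        obtain ⟨k, hk, n, hn', rfl⟩ := hGKN x
        have hninv : InvBy (K ⊔ S₀) n (η₁ q) := by
          have := invBy_mul (hn (k * n))
            (hinvP K _ hη₁i k⁻¹ (Subgroup.mem_sup_left (K.inv_mem hk))) hx
          rwa [inv_mul_cancel_left] at this
        obtain ⟨s, hs, u, hu, rfl⟩ := hTdec n ⟨hn', (hT₂iff n hn').2 hninv⟩
        rw [← mul_assoc]
        exact Subgroup.mul_mem_sup (Subgroup.mul_mem_sup hk hs) (Subgroup.mem_sup_right hu)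
    have hPU1 : (K ⊔ S₀) ⊓ (K ⊔ U₂) ≤ K := by
      rintro x ⟨hx1, hx2⟩
      obtain ⟨k, hk, s, hs, rfl⟩ := mem_sup_norm hSK hx1
      have h1 : s ∈ K ⊔ U₂ := by
        have := (K ⊔ U₂).mul_mem (Subgroup.mem_sup_left (K.inv_mem hk)) hx2
        rwa [inv_mul_cancel_left] at this
      rw [eq_one_of_coprime_mem hS (card_sup_not_dvd hU₂K hK hU₂cop) h1 hs, mul_one]
      exact hk
    have hPU2 : (C ⊔ S₀) ⊓ U₂ ≤ C := by
      rintro x ⟨hx1, hx2⟩
      obtain ⟨c, hc, s, hs, rfl⟩ := mem_sup_norm hSC hx1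
      have h1 : s ∈ U₂ := by
        have := U₂.mul_mem (U₂.inv_mem (hCU₂ hc)) hx2
        rwa [inv_mul_cancel_left] at this
      rw [eq_one_of_coprime_mem hS hU₂cop h1 hs, mul_one]
      exact hc
    rw [over_side ⊤ K (K ⊔ S₀) (K ⊔ U₂) le_sup_left le_sup_left le_top le_top
        (fun x _ => by
          haveI := hKS
          rw [(K ⊔ S₀).normalizer_eq_top]; exact Subgroup.mem_top x)
        hPU1 hη₁i q.1.1.2 hη₁r (fun x _ => (hmem1 x).symm),
      over_side N C (C ⊔ S₀) U₂ le_sup_left hCU₂ hCSN hU₂N hNCS hPU2 hη₂i (hφ q) hη₂r (fun x hx => ?_)]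
    · exact card_over_glauberman S₀ K U₂ C hS hK hU₂cop hSK hU₂K hU₂N hC hC2 hCK hCU₂ q.1.1.2 q.2
        (fun u hu => ((hη₁f u (hU₂N hu)).1 ((hT₂iff u (hU₂N hu)).1 (hU₂T hu).2)).1) (hφ q) (hφc q)
    · constructor
      · intro h
        obtain ⟨s, hs, u, hu, rfl⟩ := hTdec x ⟨hx, h⟩
        exact Subgroup.mul_mem_sup (Subgroup.mem_sup_right hs) hu
      · intro h
        exact ((sup_le hCS₂ hU₂T : C ⊔ S₀ ⊔ U₂ ≤ T₂) h).2
  refine Nat.eq_of_mul_eq_mul_left (Nat.card_pos (α := N)) ?_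
  rw [hc₁, hc₂]
  exact Fintype.sum_equiv e _ _ fun q => by rw [hfib q.1, hstabcard q.1]; rfl

end CfsgLib.BlockB.McKay
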