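import Cfsg.Agent.Lib.BlockB.CanonParam
import Cfsg.Agent.Lib.BlockB.PrimeFibre
import Cfsg.Agent.Lib.BlockB.GlaubermanOver
import Mathlib.GroupTheory.SchurZassenhaus

/-!
The relative McKay count over a linear character of a central subgroup, when `K S` is normal for a
normal `p'`-subgroup `K` and a Sylow `p`-subgroup `S`.
-/

set_option autoImplicit false
set_option linter.unusedSectionVars false
set_option linter.style.haveILetI false

namespace CfsgLib.BlockB.McKay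

open CfsgLib.Clifford

universe u

variable {G : Type u} [Group G] [Finite G] {p : ℕ} [Fact p.Prime]

/-- The central condition on a parameter. -/
def CenCond (Z : Subgroup G) (lam : Z → ℂ) {K S : Subgroup G} (q : Param K S) : Prop :=
  ∀ (z : Z) (c : K) (s : S), (z : G) = c * s → (∀ g, (c : G) * g = g * c) →
    (∀ g, (s : G) * g = g * s) →
    (q.1.1 : K → ℂ) c * ((q.1.2 s : ℂˣ) : ℂ) = (q.1.1 : K → ℂ) 1 * lam z

/-- Both components are fixed by `r`. -/
def ParamFixed (r : G) {K S : Subgroup G} (q : Param K S) : Prop :=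
  InvBy K r (q.1.1 : K → ℂ) ∧ ∀ s s' : S, (s' : G) = r * s * r⁻¹ → q.1.2 s' = q.1.2 s

open scoped Classical in
/-- The fibring over the parameters, inside a group `X` containing the normalizer of `S`. -/
theorem side_count (X K S : Subgroup G) [Fintype X] (hS : IsPGroup p S) (hK : ¬ p ∣ Nat.card K)
    (hKX : K ≤ X) (hXK : X ≤ Subgroup.normalizer (K : Set G))
    (hNX : Subgroup.normalizer (S : Set G) ≤ X)
    (hXKS : X ≤ Subgroup.normalizer ((K ⊔ S : Subgroup G) : Set G))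
    (hfac : ∀ x ∈ X, ∃ k ∈ K, ∃ n ∈ Subgroup.normalizer (S : Set G), x = k * n)
    (hidx : ¬ p ∣ (K ⊔ S).relIndex X) (Z : Subgroup G) [Fintype Z]
    (hZc : ∀ z ∈ Z, ∀ g, z * g = g * z) (hZP : Z ≤ K ⊔ S) (hZX : Z ≤ X) {lam : Z → ℂ}
    (hlam : Cfsg.IsIrrCharacter Z lam) (hPX : K ⊔ S ≤ X) [Fintype ↥(K ⊔ S)] :
    ∃ η : Param K S → ↥(K ⊔ S) → ℂ,
      (∀ q, Cfsg.IsIrrCharacter ↥(K ⊔ S) (η q) ∧
        (∀ (k : K) (x : ↥(K ⊔ S)), (x : G) = k → η q x = (q.1.1 : K → ℂ) k) ∧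
        ∀ r ∈ Subgroup.normalizer (S : Set G), InvBy (K ⊔ S) r (η q) ↔ ParamFixed r q) ∧
      ∀ [Fintype {q : Param K S // CenCond Z lam q}],
      Nat.card (Subgroup.normalizer (S : Set G)) *
          Nat.card (PrimeOver p (Subgroup.inclusion hZX) lam) =
        ∑ q : {q : Param K S // CenCond Z lam q},
          Nat.card (Over (Subgroup.inclusion hPX) (η q.1)) *
            Nat.card {r : Subgroup.normalizer (S : Set G) // ParamFixed (r : G) q.1} := by
  have hSK : S ≤ Subgroup.normalizer (K : Set G) :=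
    (Subgroup.le_normalizer.trans hNX).trans hXK
  obtain ⟨F, hFinj, hFrange, hFres, hFcen, hFfix⟩ := exists_param K S hS hK hSK
  have hFfix' : ∀ q, ∀ r ∈ Subgroup.normalizer (S : Set G),
      InvBy (K ⊔ S) r (F q : ↥(K ⊔ S) → ℂ) ↔ ParamFixed r q :=
    fun q r hr => hFfix q r (hXK (hNX hr)) hr
  refine ⟨fun q => (F q : ↥(K ⊔ S) → ℂ), fun q => ⟨(F q).2, hFres q, hFfix' q⟩, ?_⟩
  intro hFin
  set N := Subgroup.normalizer (S : Set G) with hN
  let P' := (K ⊔ S).subgroupOf X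
  haveI := Fintype.ofFinite P'
  haveI : P'.Normal := Subgroup.normal_subgroupOf_of_le_normalizer hXKS
  let e : P' ≃* ↥(K ⊔ S) := Subgroup.subgroupOfEquivOfLe hPX
  have hin : ∀ (f : X → ℂ) (η : ↥(K ⊔ S) → ℂ),
      Cfsg.classInner (fun m : P' => f m) (η ∘ e) =
        Cfsg.classInner (f ∘ Subgroup.inclusion hPX) η := fun f η => by
    rw [← OverTheta.classInner_comp_surjective e.toMonoidHom e.surjective
      (f ∘ Subgroup.inclusion hPX) η]
    rfl
  let up : Param K S → Cfsg.IrrCharacter P' := fun q => ⟨(F q : ↥(K ⊔ S) → ℂ) ∘ e,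
    CfsgLib.Char.isIrrCharacter_comp_surjective (F q).2 e.toMonoidHom e.surjective⟩
  have hupinj : Function.Injective up := fun a b h => hFinj (Subtype.ext (funext fun x => by
    obtain ⟨y, rfl⟩ := e.surjective x
    exact congr_fun (congrArg Subtype.val h) y))
  have hconj : ∀ (x : X) (q : Param K S), conjFn x (up q : P' → ℂ) = (up q : P' → ℂ) ↔
      InvBy (K ⊔ S) (x : G) (F q : ↥(K ⊔ S) → ℂ) := by
    intro x q
    refine ⟨fun h k k' hk => ?_, fun h => funext fun m => h (e m) _ rfl⟩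
    have h1 := congr_fun h (e.symm k)
    rw [conjFn_apply] at h1
    change (F q : ↥(K ⊔ S) → ℂ) (e (conjN x (e.symm k))) =
      (F q : ↥(K ⊔ S) → ℂ) (e (e.symm k)) at h1
    rw [e.apply_symm_apply] at h1
    rw [← h1]
    exact congrArg _ (Subtype.ext hk)
  have hcen : ∀ q : Param K S, (∀ z : Z, (F q : ↥(K ⊔ S) → ℂ) ⟨(z : G), hZP z.2⟩ =
      (F q : ↥(K ⊔ S) → ℂ) 1 * lam z) ↔ CenCond Z lam q := by
    intro q
    have h1 : (F q : ↥(K ⊔ S) → ℂ) 1 = (q.1.1 : K → ℂ) 1 := hFres q 1 1 rfl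
    refine ⟨fun h z c s hz hc hs => ?_, fun h z => ?_⟩
    · rw [← h1, ← hFcen q c s ⟨(z : G), hZP z.2⟩ hc hs hz]
      exact h z
    · obtain ⟨c, hc, s, hs, hz, hcc, hsc, -, -⟩ :=
        exists_central_factors hS hK hSK (hZP z.2) (hZc z z.2)
      rw [h1, hFcen q ⟨c, hc⟩ ⟨s, hs⟩ ⟨(z : G), hZP z.2⟩ hcc hsc hz]
      exact h z ⟨c, hc⟩ ⟨s, hs⟩ hz hcc hsc
  have hover : ∀ χ : Cfsg.IrrCharacter X,
      Cfsg.classInner ((χ : X → ℂ) ∘ Subgroup.inclusion hZX) lam ≠ 0 ↔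
        ∀ z : Z, (χ : X → ℂ) (Subgroup.inclusion hZX z) = (χ : X → ℂ) 1 * lam z :=
    fun χ => over_central_iff (Subgroup.inclusion hZX) (Subgroup.inclusion_injective _)
      (fun z b => Subtype.ext (hZc z z.2 b)) hlam χ
  have hoverP : ∀ η : Cfsg.IrrCharacter ↥(K ⊔ S),
      Cfsg.classInner ((η : ↥(K ⊔ S) → ℂ) ∘ Subgroup.inclusion hZP) lam ≠ 0 ↔
        ∀ z : Z, (η : ↥(K ⊔ S) → ℂ) (Subgroup.inclusion hZP z) =
          (η : ↥(K ⊔ S) → ℂ) 1 * lam z :=
    fun η => over_central_iff (Subgroup.inclusion hZP) (Subgroup.inclusion_injective _)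
      (fun z b => Subtype.ext (hZc z z.2 b)) hlam η
  -- a constituent on `K S` lies over `λ` exactly when the character does
  have hdown : ∀ (χ : Cfsg.IrrCharacter X) (η : Cfsg.IrrCharacter ↥(K ⊔ S)),
      Cfsg.classInner ((χ : X → ℂ) ∘ Subgroup.inclusion hPX) (η : ↥(K ⊔ S) → ℂ) ≠ 0 →
      (Cfsg.classInner ((η : ↥(K ⊔ S) → ℂ) ∘ Subgroup.inclusion hZP) lam ≠ 0 ↔
        Cfsg.classInner ((χ : X → ℂ) ∘ Subgroup.inclusion hZX) lam ≠ 0) := by
    intro χ η h
    obtain ⟨R, hR, hRe⟩ := exists_add_of_constituent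
      (CfsgLib.Char.isCharacter_comp (CfsgLib.Char.irr_isCharacter χ.2) (Subgroup.inclusion hPX))
      η.2 h
    have e1 : (χ : X → ℂ) ∘ Subgroup.inclusion hZX =
        ((η : ↥(K ⊔ S) → ℂ) ∘ Subgroup.inclusion hZP) + (R ∘ Subgroup.inclusion hZP) :=
      funext fun z => congr_fun hRe (Subgroup.inclusion hZP z)
    constructor
    · intro h1 h2
      rw [e1] at h2
      exact h1 (OverTheta.inner_add_eq_zero
        (CfsgLib.Char.isCharacter_comp (CfsgLib.Char.irr_isCharacter η.2) _)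
        (CfsgLib.Char.isCharacter_comp hR _) (CfsgLib.Char.irr_isCharacter hlam) h2)
    · intro h1
      rw [hoverP]
      rw [hover] at h1
      intro z
      obtain ⟨ω, -, hω⟩ := HeisenbergPsi.central_scalar η.2 (x := Subgroup.inclusion hZP z)
        (fun g => Subtype.ext (hZc z z.2 g))
      obtain ⟨ω', -, hω'⟩ := HeisenbergPsi.central_scalar χ.2 (x := Subgroup.inclusion hZX z)
        (fun g => Subtype.ext (hZc z z.2 g))
      have hω'1 : ω' = lam z := by
        have := hω' 1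
        rw [mul_one, h1 z, mul_comm] at this
        exact (mul_right_cancel₀ (CfsgLib.Char.irr_apply_one_ne_zero χ.2) this).symm
      obtain ⟨g, hg⟩ : ∃ g, Cfsg.classInner ((χ : X → ℂ) ∘ Subgroup.inclusion hPX)
          (η : ↥(K ⊔ S) → ℂ) = g ∧ g ≠ 0 := ⟨_, rfl, h⟩
      -- both sides translate the inner product
      have hωω : ω = ω' := by
        have e2 : ∀ u : ↥(K ⊔ S), (χ : X → ℂ) (Subgroup.inclusion hPX (Subgroup.inclusion hZP z * u)) =
            ω' * (χ : X → ℂ) (Subgroup.inclusion hPX u) := fun u => by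
          rw [map_mul]; exact hω' _
        have e3 : Cfsg.classInner (fun u => (χ : X → ℂ)
              (Subgroup.inclusion hPX (Subgroup.inclusion hZP z * u)))
            (fun u => (η : ↥(K ⊔ S) → ℂ) (Subgroup.inclusion hZP z * u)) =
            Cfsg.classInner ((χ : X → ℂ) ∘ Subgroup.inclusion hPX) (η : ↥(K ⊔ S) → ℂ) := by
          rw [CfsgLib.Char.classInner_def, CfsgLib.Char.classInner_def]
          congr 1
          exact Fintype.sum_equiv (Equiv.mulLeft (Subgroup.inclusion hZP z)) _ _ fun u => rfl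
        rw [funext e2, funext (fun u => hω u)] at e3
        have e4 : ω' * (starRingEnd ℂ) ω = 1 := by
          refine mul_right_cancel₀ h (Eq.trans ?_ (one_mul _).symm)
          conv_rhs => rw [← e3]
          rw [CfsgLib.Char.classInner_def, CfsgLib.Char.classInner_def, mul_left_comm,
            Finset.mul_sum]
          congr 1
          exact Finset.sum_congr rfl fun u _ => by
            rw [Function.comp_apply, map_mul]; ring
        obtain ⟨ω₀, -, hω₀'⟩ := HeisenbergPsi.central_scalar η.2 (x := Subgroup.inclusion hZP z⁻¹)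
          (fun g => Subtype.ext (hZc _ (Z.inv_mem z.2) g))
        have h5 := hω 1
        have h6 := hω₀' 1
        have h7 := hω (Subgroup.inclusion hZP z⁻¹)
        rw [mul_one] at h5 h6
        rw [← map_mul, mul_inv_cancel, map_one, h6] at h7
        have h8 : ω * ω₀ = 1 := by
          refine mul_right_cancel₀ (CfsgLib.Char.irr_apply_one_ne_zero η.2) ?_
          rw [one_mul, mul_assoc]; exact h7.symm
        have h9 : (starRingEnd ℂ) ω = ω₀ := by
          refine mul_right_cancel₀ (CfsgLib.Char.irr_apply_one_ne_zero η.2) ?_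
          rw [← h6]
          have := CfsgLib.Char.char_inv (CfsgLib.Char.irr_isCharacter η.2)
            (Subgroup.inclusion hZP z)
          rw [map_inv] at *
          rw [this, h5, map_mul]
          obtain ⟨d, hd⟩ := CfsgLib.Char.char_apply_one_eq_nat (CfsgLib.Char.irr_isCharacter η.2)
          rw [hd, Complex.conj_natCast]
        rw [h9] at e4
        have h10 : ω₀ ≠ 0 := fun h0 => by rw [h0, mul_zero] at h8; exact zero_ne_one h8
        exact mul_right_cancel₀ h10 (h8.trans e4.symm)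
      have h11 := hω 1
      rw [mul_one] at h11
      rw [h11, hωω, hω'1, mul_comm]
  let 𝒜 : Set (Cfsg.IrrCharacter X) := {χ | ¬ p ∣ Cfsg.charDegree (χ : X → ℂ) ∧
    Cfsg.classInner ((χ : X → ℂ) ∘ Subgroup.inclusion hZX) lam ≠ 0}
  letI : Fintype ↑{q : Param K S | CenCond Z lam q} := hFin
  let Ω : Set (Cfsg.IrrCharacter P') := up '' {q | CenCond Z lam q}
  let R := N.subgroupOf X
  haveI : Fintype Ω := Fintype.ofFinite _
  have hex : ∀ χ ∈ 𝒜, ∃ μ ∈ Ω,
      Cfsg.classInner (fun m : P' => (χ : X → ℂ) m) (μ : P' → ℂ) ≠ 0 := by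
    rintro χ ⟨hd, hl⟩
    obtain ⟨η', hη', hη'd, hne⟩ := exists_prime_constituent P' (CfsgLib.Char.irr_isCharacter χ.2) hd
    have hη : Cfsg.IsIrrCharacter ↥(K ⊔ S) (η' ∘ e.symm) :=
      CfsgLib.Char.isIrrCharacter_comp_surjective hη' e.symm.toMonoidHom e.symm.surjective
    have heq : (η' ∘ e.symm) ∘ e = η' := funext fun m => congrArg η' (e.symm_apply_apply m)
    obtain ⟨q, hq⟩ : (⟨_, hη⟩ : Cfsg.IrrCharacter ↥(K ⊔ S)) ∈ Set.range F := by
      rw [← hFrange]
      show ¬ p ∣ Cfsg.charDegree (η' ∘ e.symm)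
      rwa [Cfsg.charDegree, Function.comp_apply, map_one]
    have hup : (up q : P' → ℂ) = η' := by
      show (F q : ↥(K ⊔ S) → ℂ) ∘ e = η'
      rw [hq]; exact heq
    refine ⟨up q, ⟨q, ?_, rfl⟩, by rw [hup]; exact hne⟩
    have hne' : Cfsg.classInner ((χ : X → ℂ) ∘ Subgroup.inclusion hPX)
        (F q : ↥(K ⊔ S) → ℂ) ≠ 0 := by
      rw [← hin]
      show Cfsg.classInner _ (up q : P' → ℂ) ≠ 0
      rw [hup]; exact hne
    exact (hcen q).1 ((hoverP _).1 ((hdown χ (F q) hne').2 hl))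
  have horb : ∀ χ ∈ 𝒜, ∀ μ ∈ Ω, ∀ μ' ∈ Ω,
      Cfsg.classInner (fun m : P' => (χ : X → ℂ) m) (μ : P' → ℂ) ≠ 0 →
      Cfsg.classInner (fun m : P' => (χ : X → ℂ) m) (μ' : P' → ℂ) ≠ 0 →
      ∃ r ∈ R, conjFn r (μ : P' → ℂ) = (μ' : P' → ℂ) := by
    intro χ _ μ _ μ' _ h h'
    obtain ⟨x, hx⟩ := exists_conj_of_constituents χ.2 μ.2 μ'.2 h h'
    obtain ⟨k, hk, n, hn, hxe⟩ := hfac x x.2
    refine ⟨⟨n, hNX hn⟩, hn, ?_⟩
    rw [← hx, show x = (⟨k, hKX hk⟩ : X) * ⟨n, hNX hn⟩ from Subtype.ext hxe, ← conjFn_conjFn]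
    congr 1
    funext m
    exact (CfsgLib.Char.irr_isClassFunction μ.2 m
      ⟨⟨k, hKX hk⟩, Subgroup.mem_sup_left hk⟩).symm.trans (congrArg _ (Subtype.ext (Subtype.ext rfl)))
  have hstab : ∀ μ ∈ Ω, ∀ r ∈ R, ∀ μ' : Cfsg.IrrCharacter P',
      (μ' : P' → ℂ) = conjFn r (μ : P' → ℂ) → μ' ∈ Ω := by
    rintro _ ⟨q, hq, rfl⟩ r hr μ' hμ'
    let c := conjAut (K ⊔ S) (hXKS r.2)
    have hη : Cfsg.IsIrrCharacter ↥(K ⊔ S) ((F q : ↥(K ⊔ S) → ℂ) ∘ c) :=
      CfsgLib.Char.isIrrCharacter_comp_surjective (F q).2 c.toMonoidHom c.surjective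
    have hd : ¬ p ∣ Cfsg.charDegree ((F q : ↥(K ⊔ S) → ℂ) ∘ c) := by
      rw [Cfsg.charDegree, Function.comp_apply, map_one]
      exact (hFrange (F q)).2 ⟨q, rfl⟩
    obtain ⟨q', hq'⟩ := (hFrange ⟨_, hη⟩).1 hd
    have e1 : (μ' : P' → ℂ) = (up q' : P' → ℂ) := by
      rw [hμ']
      show _ = (F q' : ↥(K ⊔ S) → ℂ) ∘ e
      rw [hq']
      funext m
      exact congrArg (F q : ↥(K ⊔ S) → ℂ) (Subtype.ext rfl)
    refine ⟨q', (hcen q').1 fun z => ?_, Subtype.ext e1.symm⟩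
    rw [hq']
    show (F q : ↥(K ⊔ S) → ℂ) (c _) = (F q : ↥(K ⊔ S) → ℂ) (c 1) * lam z
    rw [map_one, show c ⟨(z : G), hZP z.2⟩ = ⟨(z : G), hZP z.2⟩ from Subtype.ext (by
      rw [coe_conjAut, ← hZc z z.2, mul_inv_cancel_right])]
    exact (hcen q).2 hq z
  have hcount := fibre_count P' R 𝒜 Ω hstab hex horb
  rw [Nat.card_congr (Subgroup.subgroupOfEquivOfLe hNX).toEquiv] at hcount
  refine hcount.trans (Fintype.sum_equiv (Equiv.Set.image up _ hupinj).symm _ _ ?_)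
  rintro ⟨_, q, hq, rfl⟩
  rw [show (Equiv.Set.image up {q | CenCond Z lam q} hupinj).symm ⟨up q, _⟩ = (⟨q, hq⟩ : {q // _}) from
    (Equiv.symm_apply_eq _).2 rfl]
  congr 1
  · -- the fibre is everything over the character
    refine Nat.card_congr
      { toFun := fun χ => ⟨χ.1.1, (hin _ _) ▸ χ.2⟩
        invFun := fun χ => ⟨⟨χ.1, ?_, ?_⟩, (hin _ _).symm ▸ χ.2⟩
        left_inv := fun χ => rfl
        right_inv := fun χ => rfl }
    · refine prime_degree_of_over P' hidx (up q).2 ?_ χ.1.2 ((hin _ _).symm ▸ χ.2)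
      show ¬ p ∣ Cfsg.charDegree ((F q : ↥(K ⊔ S) → ℂ) ∘ e)
      rw [Cfsg.charDegree, Function.comp_apply, map_one]
      exact (hFrange (F q)).2 ⟨q, rfl⟩
    · exact (hdown χ.1 (F q) χ.2).1 ((hoverP _).2 ((hcen q).2 hq))
  · exact Nat.card_congr ((Subgroup.subgroupOfEquivOfLe hNX).toEquiv.subtypeEquiv fun r =>
      (hconj r.1 q).trans (hFfix' q _ r.2))

end CfsgLib.BlockB.McKay
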