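import Cfsg.Agent.Lib.Char.Orthogonality
import Cfsg.Agent.Lib.Clifford.Degrees
import Cfsg.Agent.Lib.Clifford.TwoDegreeStructure
import Cfsg.Agent.Lib.Clifford.CentralTypeEmbed
import Cfsg.Agent.Lib.BlockB.ClassMul
import Cfsg.Agent.Lib.Amalgam.PCore
import Mathlib.GroupTheory.PGroup
import Mathlib.GroupTheory.SpecificGroups.Cyclic

/-!
Faithful irreducible characters taking roots of unity as values on the elements of order divisible
by `p`, when `O_p(G) ≠ 1`: the core is abelian, its nonprincipal linear characters form one orbit,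
and its centralizer is the product with the centre.
-/

set_option autoImplicit false
set_option linter.unusedSectionVars false

namespace CfsgLib.BlockB.RootSingular

open CfsgLib CfsgLib.Clifford
open scoped ComplexConjugate

universe u

variable {G : Type u} [Group G] [Fintype G] {p : ℕ} [Fact p.Prime]

/-- The hypotheses. -/
structure Hyp (p : ℕ) (χ : G → ℂ) : Prop where
  irr : Cfsg.IsIrrCharacter G χ
  faith : ∀ g : G, χ g = χ 1 → g = 1
  nonlin : χ 1 ≠ 1
  root : ∀ g : G, p ∣ orderOf g → ∃ n : ℕ, 0 < n ∧ (χ g) ^ n = 1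

variable {χ : G → ℂ}

theorem Hyp.norm_one (h : Hyp p χ) {g : G} (hg : p ∣ orderOf g) : ‖χ g‖ = 1 := by
  obtain ⟨n, hn, he⟩ := h.root g hg
  exact Complex.norm_eq_one_of_pow_eq_one he hn.ne'

theorem Hyp.norm_le (h : Hyp p χ) (g : G) : ‖χ g‖ ≤ (Cfsg.charDegree χ : ℝ) := by
  have h1 := (norm_char_le_one (Char.irr_isCharacter h.irr) g).1
  rwa [← BlockB.charDegree_cast (Char.irr_isCharacter h.irr), Complex.natCast_re] at h1

theorem Hyp.one_lt (h : Hyp p χ) : 1 < Cfsg.charDegree χ := by
  have hc := BlockB.charDegree_cast (Char.irr_isCharacter h.irr)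
  rcases Nat.lt_or_ge 1 (Cfsg.charDegree χ) with h1 | h1
  · exact h1
  · exfalso
    rcases Nat.le_one_iff_eq_zero_or_eq_one.1 h1 with h0 | h0
    · rw [h0, Nat.cast_zero] at hc
      exact Char.irr_apply_one_ne_zero h.irr hc.symm
    · rw [h0, Nat.cast_one] at hc
      exact h.nonlin hc.symm

/-- Multiplicities on a subgroup, the degree and the norm. -/
theorem expand (hχ : Cfsg.IsIrrCharacter G χ) (H : Subgroup G) [Fintype H]
    [Fintype (Cfsg.IrrCharacter H)] :
    ∃ a : Cfsg.IrrCharacter H → ℕ,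
      (∀ ψ : Cfsg.IrrCharacter H, Cfsg.classInner (fun x : H => χ x) (ψ : H → ℂ) = a ψ) ∧
      (∑ ψ : Cfsg.IrrCharacter H, a ψ * Cfsg.charDegree (ψ : H → ℂ) = Cfsg.charDegree χ) ∧
      (∑ x : H, ‖χ x‖ ^ 2 = (Nat.card H : ℝ) * ((∑ ψ, a ψ ^ 2 : ℕ) : ℝ)) := by
  have hres := Char.isCharacter_restrict (Char.irr_isCharacter hχ) H
  have hex : ∀ ψ : Cfsg.IrrCharacter H, ∃ m : ℕ,
      Cfsg.classInner (fun x : H => χ x) (ψ : H → ℂ) = m := fun ψ =>
    Char.classInner_isCharacter_nat hres (Char.irr_isCharacter ψ.2)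
  choose a ha using hex
  refine ⟨a, ha, ?_, ?_⟩
  · have h1 := congrFun (Char.classFunction_eq_sum (Char.isCharacter_isClassFunction hres)) 1
    simp only [ha, Finset.sum_apply, Pi.smul_apply, smul_eq_mul, OneMemClass.coe_one] at h1
    simp only [← BlockB.charDegree_cast (Char.irr_isCharacter (Subtype.prop _)),
      ← BlockB.charDegree_cast (Char.irr_isCharacter hχ)] at h1
    exact_mod_cast h1.symm
  · have h1 := Char.classInner_eq_sum_mul (Char.isCharacter_isClassFunction hres)
      (fun x : H => χ x)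
    rw [Char.classInner_self_eq_norm] at h1
    simp only [ha, Complex.conj_natCast] at h1
    have h2 : (Nat.card H : ℝ)⁻¹ * ∑ x : H, ‖χ x‖ ^ 2 = ((∑ ψ, a ψ ^ 2 : ℕ) : ℝ) := by
      apply Complex.ofReal_injective
      rw [h1, Complex.ofReal_natCast, Nat.cast_sum]
      exact Finset.sum_congr rfl fun ψ _ => by push_cast; ring
    rw [← h2, ← mul_assoc, mul_inv_cancel₀ (by exact_mod_cast Nat.card_pos.ne'), one_mul]

/-- On a subgroup of `p`-power order the norm is determined by the degree. -/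
theorem Hyp.norm_pgroup (h : Hyp p χ) (H : Subgroup G) [Fintype H] (hH : IsPGroup p H)
    [Fintype (Cfsg.IrrCharacter H)] (a : Cfsg.IrrCharacter H → ℕ)
    (ha : ∑ x : H, ‖χ x‖ ^ 2 = (Nat.card H : ℝ) * ((∑ ψ, a ψ ^ 2 : ℕ) : ℝ)) :
    Cfsg.charDegree χ ^ 2 + Nat.card H = Nat.card H * (∑ ψ, a ψ ^ 2) + 1 := by
  classical
  rw [← Finset.add_sum_erase _ _ (Finset.mem_univ (1 : H)), Finset.sum_congr rfl
    (g := fun _ => (1 : ℝ)) (fun x hx => ?_), Finset.sum_const,
    Finset.card_erase_of_mem (Finset.mem_univ _), Finset.card_univ, nsmul_eq_mul, mul_one,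
    OneMemClass.coe_one, ← BlockB.charDegree_cast (Char.irr_isCharacter h.irr),
    Complex.norm_natCast, ← Nat.card_eq_fintype_card,
    Nat.cast_sub (Nat.one_le_iff_ne_zero.2 Nat.card_pos.ne')] at ha
  · push_cast at ha
    have : ((Cfsg.charDegree χ ^ 2 + Nat.card H : ℕ) : ℝ) =
        ((Nat.card H * (∑ ψ, a ψ ^ 2) + 1 : ℕ) : ℝ) := by push_cast; linarith
    exact_mod_cast this
  · have hx1 : x ≠ 1 := (Finset.mem_erase.1 hx).1
    rw [h.norm_one, one_pow]
    obtain ⟨k, hk⟩ := IsPGroup.iff_orderOf.1 hH x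
    rw [Subgroup.orderOf_coe, hk]
    refine dvd_pow_self p fun hk0 => hx1 ?_
    rw [hk0, pow_zero] at hk
    exact orderOf_eq_one_iff.1 hk

/-- Central elements have order prime to `p`. -/
theorem Hyp.center_not_dvd (h : Hyp p χ) {z : G} (hz : z ∈ Subgroup.center G) :
    ¬ p ∣ orderOf z := fun hd => by
  have h1 := h.norm_one hd
  rw [CentralTypeEmbed.norm_of_central h.irr hz] at h1
  have := h.one_lt
  have h2 : Cfsg.charDegree χ = 1 := by exact_mod_cast h1
  omega

/-- A nontrivial abelian normal `p`-subgroup: the nonprincipal characters form the constituents,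
each once. -/
theorem Hyp.abelian_normal (h : Hyp p χ) (A : Subgroup G) [A.Normal] [Fintype A]
    (hA : IsPGroup p A) (hab : ∀ x y : A, x * y = y * x) (hne : A ≠ ⊥) :
    Cfsg.charDegree χ + 1 = Nat.card A ∧ ∀ ψ : Cfsg.IrrCharacter A,
      ((ψ : A → ℂ) ≠ (fun _ => 1) → Cfsg.classInner (fun x : A => χ x) (ψ : A → ℂ) = 1) ∧
      ((ψ : A → ℂ) = (fun _ => 1) → Cfsg.classInner (fun x : A => χ x) (ψ : A → ℂ) = 0) := by
  classical
  have := Fintype.ofFinite (Cfsg.IrrCharacter A)
  obtain ⟨a, ha, hdeg, hnorm⟩ := expand h.irr A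
  have hpar := h.norm_pgroup A hA a hnorm
  have hlin : ∀ ψ : Cfsg.IrrCharacter A, Cfsg.charDegree (ψ : A → ℂ) = 1 := fun ψ => by
    have h1 := BlockB.charDegree_cast (Char.irr_isCharacter ψ.2)
    rw [Char.irr_degree_one_of_comm hab ψ.2] at h1
    exact_mod_cast h1
  simp only [hlin, mul_one] at hdeg
  have htriv : Cfsg.IsIrrCharacter A (fun _ => (1 : ℂ)) := by
    simpa using Char.isIrrCharacter_linear (1 : A →* ℂˣ)
  let one : Cfsg.IrrCharacter A := ⟨_, htriv⟩
  -- all constituents have the same multiplicity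
  have hconst : ∀ ψ φ, a ψ ≠ 0 → a φ ≠ 0 → a ψ = a φ := by
    intro ψ φ hψ hφ
    obtain ⟨g, hg⟩ := exists_conj_of_constituents h.irr ψ.2 φ.2
      (by rw [ha]; exact_mod_cast hψ) (by rw [ha]; exact_mod_cast hφ)
    have h1 := ha φ
    rw [← hg, show Cfsg.classInner (fun x : A => χ x) (conjFn g (ψ : A → ℂ)) =
      Cfsg.classInner (fun x : A => χ x) (ψ : A → ℂ) from ?_, ha] at h1
    · exact_mod_cast h1
    conv_lhs => arg 1; rw [← isCharacter_restrict_conj (N := A) (Char.irr_isClassFunction h.irr) g]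
    rw [Char.classInner_def, Char.classInner_def]
    congr 1
    exact Fintype.sum_equiv
      ⟨conjN g, conjN g⁻¹, fun n => by rw [← conjN_mul, inv_mul_cancel, conjN_one],
        fun n => by rw [← conjN_mul, mul_inv_cancel, conjN_one]⟩ _ _ fun n => rfl
  have hone : a one = 0 := by
    by_contra h0
    refine hne ((Subgroup.eq_bot_iff_forall A).2 fun x hx => h.faith x ?_)
    have hall : ∀ ψ, a ψ ≠ 0 → (ψ : A → ℂ) = fun _ => 1 := by
      intro ψ hψ
      obtain ⟨g, hg⟩ := exists_conj_of_constituents h.irr htriv ψ.2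
        (by rw [ha one]; exact_mod_cast h0) (by rw [ha]; exact_mod_cast hψ)
      rw [← hg]; rfl
    have he : ∀ y : A, χ y = ∑ ψ, (a ψ : ℂ) := by
      intro y
      have h1 := congrFun (Char.classFunction_eq_sum (Char.isCharacter_isClassFunction
        (Char.isCharacter_restrict (Char.irr_isCharacter h.irr) A))) y
      simp only [ha, Finset.sum_apply, Pi.smul_apply, smul_eq_mul] at h1
      rw [h1]
      refine Finset.sum_congr rfl fun ψ _ => ?_
      rcases eq_or_ne (a ψ) 0 with h2 | h2
      · simp [h2]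
      · rw [hall ψ h2, mul_one]
    exact (he ⟨x, hx⟩).trans (he 1).symm
  set s : Finset (Cfsg.IrrCharacter A) := Finset.univ.filter fun ψ => a ψ ≠ 0 with hs
  obtain ⟨e, he⟩ : ∃ e : ℕ, ∀ ψ ∈ s, a ψ = e := by
    rcases s.eq_empty_or_nonempty with h0 | ⟨ψ₀, hψ₀⟩
    · exact ⟨0, by simp [h0]⟩
    · exact ⟨a ψ₀, fun ψ hψ => hconst ψ ψ₀ (Finset.mem_filter.1 hψ).2 (Finset.mem_filter.1 hψ₀).2⟩
  have hd : Cfsg.charDegree χ = s.card * e := by
    rw [← hdeg, ← Finset.sum_filter_ne_zero, Finset.sum_congr rfl he, Finset.sum_const,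
      smul_eq_mul]
  have hsq : ∑ ψ, a ψ ^ 2 = s.card * e ^ 2 := by
    rw [← Finset.sum_subset (Finset.subset_univ s) (fun ψ _ hψ => ?_),
      Finset.sum_congr rfl (g := fun _ => e ^ 2) (fun ψ hψ => by rw [he ψ hψ]), Finset.sum_const,
      smul_eq_mul]
    have : a ψ = 0 := by simpa [hs] using hψ
    simp [this]
  have hcard : Fintype.card (Cfsg.IrrCharacter A) = Nat.card A := by
    have h1 := Char.sum_irr_sq (G := A)
    simp only [fun ψ : Cfsg.IrrCharacter A => Char.irr_degree_one_of_comm hab ψ.2, one_pow,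
      Finset.sum_const, Finset.card_univ, nsmul_eq_mul, mul_one] at h1
    exact_mod_cast h1
  have hsub : s ⊆ Finset.univ.erase one := fun ψ hψ => Finset.mem_erase.2
    ⟨fun e1 => (Finset.mem_filter.1 hψ).2 (e1 ▸ hone), Finset.mem_univ _⟩
  have hsle : s.card + 1 ≤ Nat.card A := by
    have h1 := Finset.card_le_card hsub
    rw [Finset.card_erase_of_mem (Finset.mem_univ _), Finset.card_univ, hcard] at h1
    have := Nat.card_pos (α := A)
    omega
  obtain ⟨m, hm⟩ := Nat.exists_eq_add_of_le hsle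
  have hd1 := h.one_lt
  rw [hsq, hd, hm] at hpar
  rw [hd] at hd1
  set k := s.card with hk
  have hkpos : 1 ≤ k := by
    rcases Nat.eq_zero_or_pos k with h0 | h0
    · rw [h0, zero_mul] at hd1; omega
    · exact h0
  have hepos : 1 ≤ e := by
    rcases Nat.eq_zero_or_pos e with h0 | h0
    · rw [h0, mul_zero] at hd1; omega
    · exact h0
  have key : k * e ^ 2 * (m + 1) = k + m := by nlinarith [hpar]
  have h4 : m = 0 ∧ e = 1 := by
    have h5 : k * (m + 1) ≤ k * e ^ 2 * (m + 1) :=
      Nat.mul_le_mul_right _ (Nat.le_mul_of_pos_right _ (by positivity))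
    rcases Nat.lt_or_ge k 2 with h6 | h6
    · exfalso
      have h7 : k = 1 := by omega
      rw [h7, one_mul] at key hd1
      have h8 : e ^ 2 * (m + 1) = 1 * (m + 1) := by linarith
      have h9 := Nat.eq_of_mul_eq_mul_right (by omega) h8
      nlinarith
    · have h7 : m = 0 := by nlinarith
      refine ⟨h7, ?_⟩
      rw [h7] at key
      have h8 : k * e ^ 2 = k * 1 := by linarith
      have h9 := Nat.eq_of_mul_eq_mul_left (by omega) h8
      nlinarith
  obtain ⟨hm0, he1⟩ := h4
  refine ⟨by rw [hd, hm, hm0, he1, mul_one], fun ψ => ⟨fun hψ => ?_, fun hψ => ?_⟩⟩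
  · have hs_eq : s = Finset.univ.erase one := Finset.eq_of_subset_of_card_le hsub (by
      rw [Finset.card_erase_of_mem (Finset.mem_univ _), Finset.card_univ, hcard, hm, hm0]; omega)
    have hmem : ψ ∈ s := hs_eq ▸ Finset.mem_erase.2
      ⟨fun e1 => hψ (congrArg Subtype.val e1), Finset.mem_univ _⟩
    rw [ha, he ψ hmem, he1, Nat.cast_one]
  · rw [ha, show ψ = one from Subtype.ext hψ, hone, Nat.cast_zero]

/-- The core is abelian. -/
theorem Hyp.core_comm (h : Hyp p χ) (P : Subgroup G) [P.Normal] (hP : IsPGroup p P) (hne : P ≠ ⊥) :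
    ∀ x y : P, x * y = y * x := by
  classical
  have hp : p.Prime := Fact.out
  have := Fintype.ofFinite P
  have : Nontrivial P := P.nontrivial_iff_ne_bot.2 hne
  have := hP.center_nontrivial
  set A : Subgroup G := (Subgroup.center P).map P.subtype with hA
  have := Fintype.ofFinite A
  have hAle : A ≤ P := Subgroup.map_subtype_le _
  obtain ⟨hd, -⟩ := h.abelian_normal A (hP.to_le hAle) (by
    rintro ⟨_, x, hx, rfl⟩ ⟨_, y, _, rfl⟩
    refine Subtype.ext ?_
    show (x : G) * y = y * x
    exact (congrArg Subtype.val (Subgroup.mem_center_iff.1 hx y)).symm)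
    (fun h0 => by
      rw [hA, Subgroup.map_eq_bot_iff_of_injective _ P.subtype_injective] at h0
      exact (Subgroup.nontrivial_iff_ne_bot _).1 inferInstance h0)
  have := Fintype.ofFinite (Cfsg.IrrCharacter P)
  obtain ⟨a, -, -, hnorm⟩ := expand h.irr P
  have hpar := h.norm_pgroup P hP a hnorm
  obtain ⟨n, hn⟩ := IsPGroup.iff_card.1 (hP.to_le hAle)
  obtain ⟨r, hr⟩ := IsPGroup.iff_card.1 hP
  have hnr : n ≤ r := by
    have h1 := Subgroup.card_le_of_le hAle
    rw [hn, hr] at h1
    exact (Nat.pow_le_pow_iff_right hp.one_lt).1 h1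
  obtain ⟨j, rfl⟩ := Nat.exists_eq_add_of_le hnr
  have hcA : Nat.card A = Nat.card (Subgroup.center P) := by
    rw [hA, Subgroup.card_map_of_injective P.subtype_injective]
  have hj : j ≤ 1 := by
    have hd1 := h.one_lt
    obtain ⟨c, hc⟩ : ∃ c, Cfsg.charDegree χ = c + 1 := ⟨_, (Nat.succ_pred_eq_of_pos (by omega)).symm⟩
    have h1 : p ^ n * c + p ^ (n + j) = p ^ (n + j) * ∑ ψ, a ψ ^ 2 := by
      rw [hn] at hd
      rw [hr, hc] at hpar
      have : p ^ n = c + 2 := by omega
      rw [this] at *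
      nlinarith [hpar]
    have h2 : p ^ j ∣ c := by
      have h3 : p ^ (n + j) ∣ p ^ n * c :=
        (Nat.dvd_add_left (dvd_refl _)).1 (h1 ▸ dvd_mul_right _ _)
      rw [pow_add] at h3
      exact (Nat.mul_dvd_mul_iff_left (pow_pos hp.pos n)).1 h3
    by_contra hj
    rw [hn, hc] at hd
    have h4 : p ^ 2 ∣ c := (pow_dvd_pow p (by omega)).trans h2
    rcases Nat.lt_or_ge n 2 with hn2 | hn2
    · rcases n with - | - | n
      · simp at hd
      · have h5 := Nat.le_of_dvd (by omega) h4
        rw [pow_one] at hd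
        nlinarith [hp.two_le]
      · omega
    · have h6 : p ^ 2 ∣ c + 2 := by
        rw [show c + 2 = p ^ n by omega]; exact pow_dvd_pow p hn2
      have h7 := Nat.le_of_dvd (by omega) ((Nat.dvd_add_right h4).1 h6)
      nlinarith [hp.two_le]
  have hidx : (Subgroup.center P).index = p ^ j := by
    have h1 := (Subgroup.center P).card_mul_index
    rw [← hcA, hn, hr, pow_add] at h1
    exact Nat.eq_of_mul_eq_mul_left (pow_pos hp.pos n) h1
  intro x y
  rcases Nat.le_one_iff_eq_zero_or_eq_one.1 hj with h0 | h0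
  · rw [h0, pow_zero, Subgroup.index_eq_one] at hidx
    exact Subgroup.mem_center_iff.1 (hidx ▸ Subgroup.mem_top y) x
  · rw [h0, pow_one, Subgroup.index_eq_card] at hidx
    have : IsCyclic (P ⧸ Subgroup.center P) := isCyclic_of_prime_card hidx
    exact commutative_of_cyclic_center_quotient (QuotientGroup.mk' (Subgroup.center P))
      (by rw [QuotientGroup.ker_mk']) x y

/-- The centralizer of the core. -/
theorem Hyp.centralizer_core (h : Hyp p χ) (P : Subgroup G) [P.Normal] (hP : IsPGroup p P)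
    (hne : P ≠ ⊥) (hmax : ∀ Q : Subgroup G, Q.Normal → IsPGroup p Q → Q ≤ P) :
    Subgroup.centralizer (P : Set G) = P ⊔ Subgroup.center G ∧ P ⊓ Subgroup.center G = ⊥ := by
  classical
  have hp : p.Prime := Fact.out
  have hab := h.core_comm P hP hne
  have := Fintype.ofFinite P
  obtain ⟨hd, -⟩ := h.abelian_normal P hP hab hne
  have hinf : P ⊓ Subgroup.center G = ⊥ := by
    rw [Subgroup.eq_bot_iff_forall]
    intro z hz
    obtain ⟨hz1, hz2⟩ := Subgroup.mem_inf.1 hz
    obtain ⟨k, hk⟩ := IsPGroup.iff_orderOf.1 hP ⟨z, hz1⟩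
    rw [Subgroup.orderOf_mk] at hk
    rcases Nat.eq_zero_or_pos k with h0 | h0
    · rw [h0, pow_zero] at hk
      exact orderOf_eq_one_iff.1 hk
    · exact absurd (hk ▸ dvd_pow_self p h0.ne') (h.center_not_dvd hz2)
  refine ⟨le_antisymm ?_ ?_, hinf⟩
  swap
  · refine sup_le (fun y hy => Subgroup.mem_centralizer_iff.2 fun x hx => ?_)
      (fun y hy => Subgroup.mem_centralizer_iff.2 fun x _ => Subgroup.mem_center_iff.1 hy x)
    exact congrArg Subtype.val (hab ⟨x, hx⟩ ⟨y, hy⟩)
  set C := Subgroup.centralizer (P : Set G) with hC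
  have hCn : C.Normal := inferInstance
  -- elements of order prime to `p` are central
  have hreg : ∀ a ∈ C, ¬ p ∣ orderOf a → a ∈ Subgroup.center G := by
    intro a ha hpa
    set A := P ⊔ Subgroup.zpowers a with hA
    set B := Subgroup.zpowers a with hB
    have := Fintype.ofFinite A
    have := Fintype.ofFinite B
    have hBP : Subgroup.zpowers a ≤ Subgroup.centralizer (P : Set G) := by
      rw [Subgroup.zpowers_le]; exact ha
    have habA : ∀ x y : A, x * y = y * x := by
      have hle : A ≤ Subgroup.centralizer (A : Set G) := by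
        have hPC : P ≤ Subgroup.centralizer (P : Set G) := fun y hy =>
          Subgroup.mem_centralizer_iff.2 fun x hx => congrArg Subtype.val (hab ⟨x, hx⟩ ⟨y, hy⟩)
        have hBB : B ≤ Subgroup.centralizer (B : Set G) := fun y hy =>
          Subgroup.mem_centralizer_iff.2 fun x hx => by
            obtain ⟨i, rfl⟩ := Subgroup.mem_zpowers_iff.1 hx
            obtain ⟨j, rfl⟩ := Subgroup.mem_zpowers_iff.1 hy
            exact (Commute.refl a).zpow_zpow i j
        have h1 : P ≤ Subgroup.centralizer (A : Set G) := by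
          rw [Subgroup.le_centralizer_iff]
          exact sup_le hPC hBP
        have h2 : B ≤ Subgroup.centralizer (A : Set G) := by
          rw [Subgroup.le_centralizer_iff]
          exact sup_le (Subgroup.le_centralizer_iff.1 hBP) hBB
        exact sup_le h1 h2
      exact fun x y => Subtype.ext (Subgroup.mem_centralizer_iff.1 (hle y.2) x x.2)
    have := Fintype.ofFinite (Cfsg.IrrCharacter A)
    obtain ⟨c, -, hdeg, hnorm⟩ := expand h.irr A
    have hlin : ∀ ψ : Cfsg.IrrCharacter A, Cfsg.charDegree (ψ : A → ℂ) = 1 := fun ψ => by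
      have h1 := BlockB.charDegree_cast (Char.irr_isCharacter ψ.2)
      rw [Char.irr_degree_one_of_comm habA ψ.2] at h1
      exact_mod_cast h1
    simp only [hlin, mul_one] at hdeg
    have hge : Cfsg.charDegree χ ≤ ∑ ψ, c ψ ^ 2 := hdeg ▸ Finset.sum_le_sum fun ψ _ =>
      Nat.le_self_pow two_ne_zero _
    -- the elements outside `B` are singular
    have hsing : ∀ y ∈ A, y ∉ B → ‖χ y‖ = 1 := by
      intro y hy hyB
      refine h.norm_one ?_
      obtain ⟨n, hn, b, hb, rfl⟩ := Subgroup.mem_sup_of_normal_left.1 hy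
      by_contra hpy
      refine hyB (B.mul_mem ?_ hb)
      obtain ⟨k, hk⟩ := IsPGroup.iff_orderOf.1 hP ⟨n, hn⟩
      rw [Subgroup.orderOf_mk] at hk
      have hcm : Commute n b := Subgroup.mem_centralizer_iff.1 (hBP hb) n hn
      have hnb : n ^ (orderOf (n * b) * orderOf a) = 1 := by
        have h1 : (n * b) ^ (orderOf (n * b) * orderOf a) = 1 := by
          rw [pow_mul, pow_orderOf_eq_one, one_pow]
        have h2 : b ^ (orderOf (n * b) * orderOf a) = 1 := by
          obtain ⟨i, rfl⟩ := Subgroup.mem_zpowers_iff.1 hb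
          rw [mul_comm, pow_mul, ← zpow_natCast (a ^ i), ← zpow_mul, mul_comm i, zpow_mul,
            zpow_natCast, pow_orderOf_eq_one, one_zpow, one_pow]
        rwa [hcm.mul_pow, h2, mul_one] at h1
      have h3 : orderOf n = 1 := by
        rw [hk]
        refine Nat.eq_one_of_dvd_coprimes (Nat.Coprime.pow_left k ((hp.coprime_iff_not_dvd).2
          fun hd => (hp.dvd_mul.1 hd).elim hpy hpa)) (dvd_refl _) ?_
        rw [← hk]
        exact orderOf_dvd_of_pow_eq_one hnb
      rw [orderOf_eq_one_iff.1 h3]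
      exact B.one_mem
    have hBA : B ≤ A := le_sup_right
    have hcardA : Nat.card A = Nat.card P * Nat.card B := by
      have hdis : Disjoint P B := disjoint_iff.2 (Subgroup.inf_eq_bot_of_coprime (by
        obtain ⟨n, hn⟩ := IsPGroup.iff_card.1 hP
        rw [hn, hB, Nat.card_zpowers]
        exact Nat.Coprime.pow_left n ((hp.coprime_iff_not_dvd).2 hpa)))
      have h1 := (Subgroup.card_mul_index (P.subgroupOf A))
      rw [Nat.card_congr (Subgroup.subgroupOfEquivOfLe (le_sup_left : P ≤ A)).toEquiv] at h1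
      rw [← h1]
      congr 1
      have h2 : P.relIndex A = P.relIndex B := by rw [hA, Subgroup.relIndex_sup_left]
      show P.relIndex A = _
      rw [h2, ← Subgroup.inf_relIndex_right, hdis.eq_bot, Subgroup.relIndex_bot_left]
    -- the sum over `A`
    have hsplit : ∑ y : A, ‖χ y‖ ^ 2 =
        ∑ b : B, ‖χ b‖ ^ 2 + ((Nat.card A : ℝ) - Nat.card B) := by
      rw [← Fintype.sum_subtype_add_sum_subtype (fun y : A => (y : G) ∈ B)]
      congr 1
      · exact Fintype.sum_equiv
          { toFun := fun y => ⟨(y.1 : G), y.2⟩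
            invFun := fun b => ⟨⟨b, hBA b.2⟩, b.2⟩
            left_inv := fun _ => rfl
            right_inv := fun _ => rfl } _ _ fun _ => rfl
      · rw [Finset.sum_congr rfl (g := fun _ => (1 : ℝ))
          (fun y _ => by rw [hsing _ y.1.2 y.2, one_pow]), Finset.sum_const, Finset.card_univ,
          nsmul_eq_mul, mul_one, ← Nat.card_eq_fintype_card]
        have h1 : Nat.card {y : A // (y : G) ∈ B} + Nat.card {y : A // ¬ (y : G) ∈ B} = Nat.card A := by
          rw [← Nat.card_sum]; exact Nat.card_congr (Equiv.sumCompl _)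
        have h2 : Nat.card {y : A // (y : G) ∈ B} = Nat.card B :=
          Nat.card_congr (Subgroup.subgroupOfEquivOfLe hBA).toEquiv
        rw [h2] at h1
        have h3 := congrArg (Nat.cast : ℕ → ℝ) h1
        push_cast at h3
        linarith
    have hlow : (Nat.card B : ℝ) * (Cfsg.charDegree χ : ℝ) ^ 2 ≤ ∑ b : B, ‖χ b‖ ^ 2 := by
      have h1 : (Nat.card A : ℝ) * (Cfsg.charDegree χ : ℝ) ≤ ∑ y : A, ‖χ y‖ ^ 2 := by
        rw [hnorm]
        exact mul_le_mul_of_nonneg_left (by exact_mod_cast hge) (by positivity)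
      rw [hsplit, hcardA, ← hd] at h1
      push_cast at h1
      nlinarith
    have hall : ‖χ a‖ = (Cfsg.charDegree χ : ℝ) := by
      by_contra hne'
      have hlt : ∑ b : B, ‖χ b‖ ^ 2 < ∑ _b : B, (Cfsg.charDegree χ : ℝ) ^ 2 := by
        refine Finset.sum_lt_sum (fun b _ => pow_le_pow_left₀ (norm_nonneg _) (h.norm_le _) 2)
          ⟨⟨a, Subgroup.mem_zpowers a⟩, Finset.mem_univ _, ?_⟩
        exact pow_lt_pow_left₀ (lt_of_le_of_ne (h.norm_le _) hne') (norm_nonneg _) two_ne_zero
      rw [Finset.sum_const, Finset.card_univ, nsmul_eq_mul, ← Nat.card_eq_fintype_card] at hlt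
      linarith
    exact CentralTypeEmbed.mem_center_of_norm h.irr h.faith hall
  -- the centralizer modulo the centre is a `p`-group
  let S : Sylow p C := default
  set M := (S : Subgroup C) ⊔ (Subgroup.center G).subgroupOf C with hM
  have hcen : ((Subgroup.center G).subgroupOf C) ≤ Subgroup.center C := fun z hz =>
    Subgroup.mem_center_iff.2 fun y => Subtype.ext
      (Subgroup.mem_center_iff.1 (Subgroup.mem_subgroupOf.1 hz) y)
  have hMtop : M = ⊤ := by
    have hCp : IsPGroup p (C ⧸ (Subgroup.center G).subgroupOf C) := by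
      intro q
      obtain ⟨y, rfl⟩ := QuotientGroup.mk_surjective q
      obtain ⟨k, m, hm, hy⟩ := Nat.exists_eq_pow_mul_and_not_dvd (orderOf_pos (y : G)).ne' p hp.ne_one
      refine ⟨k, ?_⟩
      rw [← QuotientGroup.mk_pow, QuotientGroup.eq_one_iff, Subgroup.mem_subgroupOf,
        SubmonoidClass.coe_pow]
      refine hreg _ (pow_mem y.2 _) ?_
      rw [orderOf_pow' _ (pow_ne_zero k hp.ne_zero), hy, Nat.gcd_eq_right (Dvd.intro m rfl),
        Nat.mul_div_cancel_left _ (pow_pos hp.pos k)]
      exact hm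
    obtain ⟨e, he⟩ := IsPGroup.iff_card.1 hCp
    rw [← Subgroup.index_eq_card] at he
    have h1 : M.index ∣ p ^ e := he ▸ Subgroup.index_dvd_of_le le_sup_right
    obtain ⟨i, -, hi⟩ := (Nat.dvd_prime_pow hp).1 h1
    rcases Nat.eq_zero_or_pos i with h0 | h0
    · rw [h0, pow_zero, Subgroup.index_eq_one] at hi
      exact hi
    · exact absurd ((hi ▸ dvd_pow_self p h0.ne').trans (Subgroup.index_dvd_of_le le_sup_left))
        S.not_dvd_index
  have : (S : Subgroup C).Normal := by
    refine Subgroup.normalizer_eq_top_iff.1 (eq_top_iff.2 ?_)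
    rw [← hMtop]
    exact sup_le Subgroup.le_normalizer (hcen.trans (Subgroup.center_le_normalizer _))
  have : (S : Subgroup C).Characteristic := Sylow.characteristic_of_normal S this
  have hSle : (S : Subgroup C).map C.subtype ≤ P :=
    hmax _ inferInstance (S.2.map _)
  intro y hy
  have h1 : (⟨y, hy⟩ : C) ∈ M := hMtop ▸ Subgroup.mem_top _
  have h2 : y ∈ M.map C.subtype := ⟨_, h1, rfl⟩
  rw [hM, Subgroup.map_sup] at h2
  have hZC : Subgroup.center G ≤ C :=
    fun z hz => Subgroup.mem_centralizer_iff.2 fun x _ => Subgroup.mem_center_iff.1 hz x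
  exact sup_le (hSle.trans le_sup_left)
    ((Subgroup.map_subgroupOf_eq_of_le hZC).le.trans le_sup_right) h2

end CfsgLib.BlockB.RootSingular
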