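import Cfsg.Agent.Lib.BlockB.RootSingular
import Cfsg.Agent.Lib.BlockB.McKayBasic
import Cfsg.Agent.Lib.Trans3.Sym
import Mathlib.GroupTheory.Perm.Cycle.Type
import Mathlib.GroupTheory.GroupAction.ConjAct

/-!
Faithful irreducible characters taking roots of unity as values on the elements of order divisible
by `p`: when the nontrivial core is not a Sylow subgroup, the group is `S₄ × Z(G)`.
-/

set_option autoImplicit false
set_option linter.unusedSectionVars false

namespace CfsgLib.BlockB.RootSingular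

open CfsgLib CfsgLib.Clifford
open scoped ComplexConjugate

universe u

variable {G : Type u} [Group G] [Fintype G] {p : ℕ} [Fact p.Prime] {χ : G → ℂ}

/-- The nonprincipal characters of an abelian normal `p`-subgroup are conjugate. -/
theorem Hyp.transitive (h : Hyp p χ) (A : Subgroup G) [A.Normal] [Fintype A] (hA : IsPGroup p A)
    (hab : ∀ x y : A, x * y = y * x) (hne : A ≠ ⊥) (ψ φ : Cfsg.IrrCharacter A)
    (hψ : (ψ : A → ℂ) ≠ fun _ => 1) (hφ : (φ : A → ℂ) ≠ fun _ => 1) :
    ∃ g : G, conjFn g (ψ : A → ℂ) = (φ : A → ℂ) := by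
  obtain ⟨-, ha⟩ := h.abelian_normal A hA hab hne
  exact exists_conj_of_constituents h.irr ψ.2 φ.2 (by rw [(ha ψ).1 hψ]; exact one_ne_zero)
    (by rw [(ha φ).1 hφ]; exact one_ne_zero)

theorem hom_ne_one {A : Type u} [Group A] {l : A →* ℂˣ} (hl : l ≠ 1) :
    (fun a => (l a : ℂ)) ≠ fun _ => 1 :=
  fun e => hl (MonoidHom.ext fun a => Units.ext (congrFun e a))

/-- The core has exponent `p`. -/
theorem Hyp.core_exponent (h : Hyp p χ) (A : Subgroup G) [A.Normal] (hA : IsPGroup p A)
    (hab : ∀ x y : A, x * y = y * x) (hne : A ≠ ⊥) : ∀ a ∈ A, a ^ p = 1 := by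
  classical
  have hp : p.Prime := Fact.out
  have := Fintype.ofFinite A
  have hcard : Nat.card (A →* ℂˣ) = Nat.card A := by
    rw [Char.natCard_linear, show commutator A = ⊥ from ?_, Subgroup.index_bot]
    rw [commutator_def, Subgroup.commutator_eq_bot_iff_le_centralizer]
    exact fun x _ => Subgroup.mem_centralizer_iff.2 fun y _ => hab y x
  have : Finite (A →* ℂˣ) := Nat.finite_of_card_ne_zero (hcard ▸ Nat.card_pos.ne')
  obtain ⟨n, hn⟩ := IsPGroup.iff_card.1 hA
  have hn0 : n ≠ 0 := fun h0 => hne (Subgroup.card_eq_one.1 (by rw [hn, h0, pow_zero]))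
  obtain ⟨l, hl⟩ := exists_prime_orderOf_dvd_card' (G := A →* ℂˣ) p
    (by rw [hcard, hn]; exact dvd_pow_self p hn0)
  have hl1 : l ≠ 1 := fun e => by rw [e, orderOf_one] at hl; exact hp.one_lt.ne hl
  have hall : ∀ m : A →* ℂˣ, m ^ p = 1 := by
    intro m
    by_cases hm : m = 1
    · rw [hm]; exact one_pow (M := A →* ℂˣ) p
    obtain ⟨g, hg⟩ := h.transitive A hA hab hne ⟨_, Char.isIrrCharacter_linear l⟩
      ⟨_, Char.isIrrCharacter_linear m⟩ (hom_ne_one hl1) (hom_ne_one hm)
    refine MonoidHom.ext fun a => Units.ext ?_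
    have h1 := congrFun hg a
    rw [conjFn_apply] at h1
    rw [MonoidHom.pow_apply, Units.val_pow_eq_pow_val, MonoidHom.one_apply, Units.val_one]
    rw [show (m a : ℂ) = (l (conjN g a) : ℂ) from h1.symm, ← Units.val_pow_eq_pow_val,
      ← MonoidHom.pow_apply, ← hl, pow_orderOf_eq_one, MonoidHom.one_apply, Units.val_one]
  intro a ha
  by_contra hne'
  obtain ⟨m, hm⟩ := Char.exists_linear_ne_one hab
    (g := (⟨a, ha⟩ : A) ^ p) (fun e => hne' (congrArg Subtype.val e))
  exact hm (by rw [map_pow, ← MonoidHom.pow_apply, hall, MonoidHom.one_apply])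

/-- A `p`-subgroup properly above an abelian one of order `χ(1) + 1`. -/
theorem Hyp.index_arith (h : Hyp p χ) (Q : Subgroup G) (hQ : IsPGroup p Q) {n j : ℕ}
    (hn : Cfsg.charDegree χ + 1 = p ^ n) (hj : Nat.card Q = p ^ (n + j)) :
    j ≤ 1 ∧ (j = 1 → p = 2 ∧ 2 ≤ n) := by
  classical
  have hp : p.Prime := Fact.out
  have := Fintype.ofFinite Q
  have := Fintype.ofFinite (Cfsg.IrrCharacter Q)
  obtain ⟨a, -, -, hnorm⟩ := expand h.irr Q
  have hpar := h.norm_pgroup Q hQ a hnorm
  have hd1 := h.one_lt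
  obtain ⟨c, hc⟩ : ∃ c, Cfsg.charDegree χ = c + 1 := ⟨_, (Nat.succ_pred_eq_of_pos (by omega)).symm⟩
  rw [hc] at hn hd1
  rw [hc, hj] at hpar
  have h1 : p ^ n * c + p ^ (n + j) = p ^ (n + j) * ∑ ψ, a ψ ^ 2 := by
    have : p ^ n = c + 2 := by omega
    rw [this]
    nlinarith [hpar]
  have h2 : p ^ j ∣ c := by
    have h3 : p ^ (n + j) ∣ p ^ n * c :=
      (Nat.dvd_add_left (dvd_refl _)).1 (h1 ▸ dvd_mul_right _ _)
    rw [pow_add] at h3
    exact (Nat.mul_dvd_mul_iff_left (pow_pos hp.pos n)).1 h3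
  have hn0 : n ≠ 0 := by rintro rfl; simp at hn
  refine ⟨?_, fun hj1 => ?_⟩
  · by_contra hj'
    have h4 : p ^ 2 ∣ c := (pow_dvd_pow p (by omega)).trans h2
    rcases Nat.lt_or_ge n 2 with hn2 | hn2
    · obtain rfl : n = 1 := by omega
      have h5 := Nat.le_of_dvd (by omega) h4
      rw [pow_one] at hn
      nlinarith [hp.two_le]
    · have h6 : p ^ 2 ∣ c + 2 := by
        rw [show c + 2 = p ^ n by omega]; exact pow_dvd_pow p hn2
      have h7 := Nat.le_of_dvd (by omega) ((Nat.dvd_add_right h4).1 h6)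
      nlinarith [hp.two_le]
  · rw [hj1, pow_one] at h2
    have h3 : p ∣ c + 2 := by
      rw [show c + 2 = p ^ n by omega]; exact dvd_pow_self p hn0
    have hp2 : p = 2 := (Nat.prime_dvd_prime_iff_eq hp Nat.prime_two).1 ((Nat.dvd_add_right h2).1 h3)
    refine ⟨hp2, ?_⟩
    by_contra hn2
    obtain rfl : n = 1 := by omega
    rw [hp2, pow_one] at hn
    omega

/-- Two nonprincipal characters of `P` fixed by a Sylow overgroup of index two coincide. -/
theorem Hyp.fixed_unique (h : Hyp p χ) (P Q : Subgroup G) [P.Normal] [Fintype P]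
    (hP : IsPGroup p P) (hab : ∀ x y : P, x * y = y * x) (hne : P ≠ ⊥) (hPQ : P ≤ Q)
    (hQ : IsPGroup p Q) (hidx : P.relIndex Q = 2) (ψ φ : Cfsg.IrrCharacter P)
    (hψ : (ψ : P → ℂ) ≠ fun _ => 1) (hφ : (φ : P → ℂ) ≠ fun _ => 1)
    (hψQ : Q ≤ inertia (ψ : P → ℂ)) (hφQ : Q ≤ inertia (φ : P → ℂ)) : ψ = φ := by
  classical
  have := Fintype.ofFinite Q
  have := Fintype.ofFinite (P.subgroupOf Q)
  have := Fintype.ofFinite (Cfsg.IrrCharacter Q)
  obtain ⟨hd, hP1⟩ := h.abelian_normal P hP hab hne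
  obtain ⟨a, ha, hdeg, hnorm⟩ := expand h.irr Q
  have hpar := h.norm_pgroup Q hQ a hnorm
  have hcardQ : Nat.card Q = 2 * Nat.card P := by
    rw [← (P.subgroupOf Q).card_mul_index, show (P.subgroupOf Q).index = 2 from hidx,
      Nat.card_congr (Subgroup.subgroupOfEquivOfLe hPQ).toEquiv, mul_comm]
  have hle2 : ∀ η : Cfsg.IrrCharacter Q, Cfsg.charDegree (η : Q → ℂ) ≤ 2 := fun η => by
    have := TwoDegrees.degree_le_index η (P.subgroupOf Q) (fun x hx y hy => Subtype.ext
      (show (x : G) * (y : G) = (y : G) * (x : G) from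
        congrArg (fun q : P => (q : G)) (hab ⟨x, hx⟩ ⟨y, hy⟩)))
    rwa [show (P.subgroupOf Q).index = 2 from hidx] at this
  have h1 : 2 * ∑ η, a η ^ 2 = Cfsg.charDegree χ + 1 := by
    rw [hcardQ, ← hd] at hpar
    have h0 : (Cfsg.charDegree χ + 1) * (Cfsg.charDegree χ + 1) =
        (Cfsg.charDegree χ + 1) * (2 * ∑ η, a η ^ 2) := by nlinarith [hpar]
    exact (Nat.eq_of_mul_eq_mul_left (by omega) h0).symm
  let e : P.subgroupOf Q ≃* P := Subgroup.subgroupOfEquivOfLe hPQ
  -- a fixed character lies under a linear constituent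
  have key : ∀ θ : Cfsg.IrrCharacter P, (θ : P → ℂ) ≠ (fun _ => 1) → Q ≤ inertia (θ : P → ℂ) →
      ∃ η : Cfsg.IrrCharacter Q, a η ≠ 0 ∧ Cfsg.charDegree (η : Q → ℂ) = 1 ∧
        ∀ y : P.subgroupOf Q, (η : Q → ℂ) y = (θ : P → ℂ) (e y) := by
    intro θ hθ hθQ
    set θ' : P.subgroupOf Q → ℂ := (θ : P → ℂ) ∘ e with hθ'
    have hθirr : Cfsg.IsIrrCharacter (P.subgroupOf Q) θ' :=
      Char.isIrrCharacter_comp_surjective θ.2 e.toMonoidHom e.surjective
    have hone : Cfsg.classInner ((fun x : Q => χ x) ∘ (P.subgroupOf Q).subtype) θ' = 1 := by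
      rw [← (hP1 θ).1 hθ, Char.classInner_def, Char.classInner_def]
      congr 1
      · rw [Nat.card_congr e.toEquiv]
      · exact Fintype.sum_equiv e.toEquiv _ _ fun _ => rfl
    rw [McKay.inner_comp_expand (Char.isCharacter_isClassFunction
      (Char.isCharacter_restrict (Char.irr_isCharacter h.irr) Q))] at hone
    have hm : ∀ η : Cfsg.IrrCharacter Q, ∃ m : ℕ,
        Cfsg.classInner ((η : Q → ℂ) ∘ (P.subgroupOf Q).subtype) θ' = m := fun η =>
      Char.classInner_isCharacter_nat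
        (Char.isCharacter_comp (Char.irr_isCharacter η.2) _) (Char.irr_isCharacter hθirr)
    choose m hm using hm
    simp only [ha, hm] at hone
    have hone' : ∑ η, a η * m η = 1 := by exact_mod_cast hone
    obtain ⟨η, -, hη⟩ := Finset.exists_ne_zero_of_sum_ne_zero (hone'.trans_ne one_ne_zero)
    have hle : a η * m η ≤ 1 :=
      hone' ▸ Finset.single_le_sum (f := fun η => a η * m η) (fun _ _ => Nat.zero_le _) (Finset.mem_univ η)
    have hm1 : m η = 1 := Nat.eq_one_of_mul_eq_one_left (m := a η)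
      (le_antisymm hle (Nat.one_le_iff_ne_zero.2 hη))
    -- every constituent below is conjugate to the fixed one
    have hres : ∀ y : P.subgroupOf Q, (η : Q → ℂ) y = θ' y := by
      intro y
      have := Fintype.ofFinite (Cfsg.IrrCharacter (P.subgroupOf Q))
      have hexp := congrFun (Char.classFunction_eq_sum (Char.isCharacter_isClassFunction
        (Char.isCharacter_restrict (Char.irr_isCharacter η.2) (P.subgroupOf Q)))) y
      rw [Finset.sum_apply] at hexp
      rw [hexp, Finset.sum_eq_single (⟨θ', hθirr⟩ : Cfsg.IrrCharacter (P.subgroupOf Q))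
        (fun ν _ hν => ?_) (by simp)]
      · rw [Pi.smul_apply, show Cfsg.classInner (fun n : P.subgroupOf Q => (η : Q → ℂ) n) θ' =
          (1 : ℂ) from (hm η).trans (by rw [hm1, Nat.cast_one]), one_smul]
      · rw [Pi.smul_apply, show Cfsg.classInner (fun n : P.subgroupOf Q => (η : Q → ℂ) n)
          (ν : P.subgroupOf Q → ℂ) = 0 from ?_, zero_smul]
        by_contra h0
        obtain ⟨g, hg⟩ := exists_conj_of_constituents η.2 hθirr ν.2
          (by rw [show Cfsg.classInner (fun n : P.subgroupOf Q => (η : Q → ℂ) n) θ' =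
            (1 : ℂ) from (hm η).trans (by rw [hm1, Nat.cast_one])]; exact one_ne_zero) h0
        refine hν (Subtype.ext ?_)
        rw [← hg]
        funext z
        show (θ : P → ℂ) (e (conjN g z)) = (θ : P → ℂ) (e z)
        rw [show e (conjN g z) = conjN (g : G) (e z) from Subtype.ext rfl]
        exact hθQ g.2 (e z)
    refine ⟨η, fun h0 => hη (by rw [h0, zero_mul]), ?_, fun y => hres y⟩
    have h2 := hres 1
    rw [OneMemClass.coe_one, ← BlockB.charDegree_cast (Char.irr_isCharacter η.2),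
      hθ', Function.comp_apply, map_one, Char.irr_degree_one_of_comm hab θ.2] at h2
    exact_mod_cast h2
  obtain ⟨η, hη0, hη1, hηy⟩ := key ψ hψ hψQ
  obtain ⟨η', hη0', hη1', hηy'⟩ := key φ hφ hφQ
  by_cases hee : η = η'
  · refine Subtype.ext (funext fun z => ?_)
    have h2 := hηy (e.symm z)
    rw [hee, hηy' (e.symm z), MulEquiv.apply_symm_apply] at h2
    exact h2.symm
  · exfalso
    have h3 : ∑ x : Cfsg.IrrCharacter Q, (a x * Cfsg.charDegree (x : Q → ℂ) +
        if x ∈ ({η, η'} : Finset _) then 1 else 0) ≤ 2 * ∑ x, a x ^ 2 := by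
      rw [Finset.mul_sum]
      refine Finset.sum_le_sum fun x _ => ?_
      split_ifs with hx
      · rw [Finset.mem_insert, Finset.mem_singleton] at hx
        rcases hx with rfl | rfl
        · rw [hη1]; nlinarith [Nat.one_le_iff_ne_zero.2 hη0]
        · rw [hη1']; nlinarith [Nat.one_le_iff_ne_zero.2 hη0']
      · rw [add_zero]
        rcases Nat.eq_zero_or_pos (a x) with h0 | h0
        · simp [h0]
        · nlinarith [hle2 x]
    rw [Finset.sum_add_distrib, hdeg, h1, Finset.sum_ite_mem, Finset.univ_inter,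
      Finset.sum_const, Finset.card_pair hee, smul_eq_mul] at h3
    omega

theorem perm_fix_point : ∀ σ : Equiv.Perm (Fin 3), σ * σ = 1 → ∃ i, σ i = i := by decide +kernel

theorem perm_three_cycle : ∀ σ : Equiv.Perm (Fin 3), σ ^ 3 = 1 → σ ≠ 1 →
    (∀ i, σ i ≠ i) ∧ ∀ i j, σ i = j ∨ σ (σ i) = j ∨ i = j := by decide +kernel

theorem perm_invert : ∀ σ : Equiv.Perm (Fin 3), σ * σ = 1 → σ ≠ 1 → ∀ τ : Equiv.Perm (Fin 3),
    τ ^ 3 = 1 → σ * τ * σ⁻¹ = τ⁻¹ := by decide +kernel

theorem perm_square : ∀ τ : Equiv.Perm (Fin 3),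
    τ ^ 3 = 1 → τ ≠ 1 → τ ^ 2 ≠ 1 ∧ (τ ^ 2) ^ 4 = τ ^ 2 := by decide +kernel

theorem perm_four_center : ∀ σ : Equiv.Perm (Fin 4), (∀ τ, σ * τ = τ * σ) → σ = 1 := by
  decide +kernel

/-- **The exceptional case.** -/
theorem Hyp.exceptional (h : Hyp p χ) (P : Subgroup G) [P.Normal] (hP : IsPGroup p P)
    (hne : P ≠ ⊥) (hmax : ∀ R : Subgroup G, R.Normal → IsPGroup p R → R ≤ P) (S : Sylow p G)
    (hPS : P < (S : Subgroup G)) :
    p = 2 ∧ Odd (Nat.card (Subgroup.center G)) ∧ ∃ H : Subgroup G,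
      Nonempty (H ≃* Equiv.Perm (Fin 4)) ∧ H ⊓ Subgroup.center G = ⊥ ∧
        H ⊔ Subgroup.center G = ⊤ := by
  classical
  have hp : p.Prime := Fact.out
  have := Fintype.ofFinite P
  have hab := h.core_comm P hP hne
  obtain ⟨hd, hP1⟩ := h.abelian_normal P hP hab hne
  obtain ⟨n, hn⟩ := IsPGroup.iff_card.1 hP
  obtain ⟨r, hr⟩ := IsPGroup.iff_card.1 S.2
  have hlt : n < r := by
    have h1 : Nat.card P < Nat.card (S : Subgroup G) := by
      rcases (Subgroup.card_le_of_le hPS.le).lt_or_eq with h1 | h1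
      · exact h1
      · exact absurd (Subgroup.eq_of_le_of_card_ge hPS.le h1.ge) hPS.ne
    rw [hn, hr] at h1
    exact (Nat.pow_lt_pow_iff_right hp.one_lt).1 h1
  obtain ⟨j, rfl⟩ := Nat.exists_eq_add_of_le hlt.le
  obtain ⟨hj1, hj2⟩ := h.index_arith (S : Subgroup G) S.2 (hd.trans hn) hr
  obtain rfl : j = 1 := by omega
  obtain ⟨rfl, hn2⟩ := hj2 rfl
  have hidx : P.relIndex (S : Subgroup G) = 2 := by
    have h1 := (P.subgroupOf (S : Subgroup G)).card_mul_index
    rw [Nat.card_congr (Subgroup.subgroupOfEquivOfLe hPS.le).toEquiv, hn, hr, pow_succ] at h1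
    exact Nat.eq_of_mul_eq_mul_left (pow_pos Nat.two_pos n) h1
  have hexp := h.core_exponent P hP hab hne
  obtain ⟨hC, hPZ⟩ := h.centralizer_core P hP hne hmax
  have hodd : Odd (Nat.card (Subgroup.center G)) := by
    rw [← Nat.not_even_iff_odd, even_iff_two_dvd]
    intro h2
    obtain ⟨z, hz⟩ := exists_prime_orderOf_dvd_card' 2 h2
    exact h.center_not_dvd z.2 (by rw [Subgroup.orderOf_coe, hz])
  obtain ⟨x, hxS, hxP⟩ := SetLike.exists_of_lt hPS
  have hsqS : ∀ y ∈ (S : Subgroup G), y * y ∈ P := fun y hy => by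
    have h1 := (P.subgroupOf (S : Subgroup G)).pow_index_mem ⟨y, hy⟩
    rwa [show (P.subgroupOf (S : Subgroup G)).index = 2 from hidx, pow_two,
      Subgroup.mem_subgroupOf] at h1
  have hPcomm : ∀ a ∈ P, ∀ b ∈ P, a * b = b * a := fun a ha b hb =>
    congrArg Subtype.val (hab ⟨a, ha⟩ ⟨b, hb⟩)
  have hPinv : ∀ a ∈ P, a⁻¹ = a := fun a ha => inv_eq_of_mul_eq_one_left (by
    rw [← pow_two]; exact hexp a ha)
  -- the dual group has order at most four
  have hcardΛ : Nat.card (P →* ℂˣ) = Nat.card P := by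
    rw [Char.natCard_linear, show commutator P = ⊥ from ?_, Subgroup.index_bot]
    rw [commutator_def, Subgroup.commutator_eq_bot_iff_le_centralizer]
    exact fun a _ => Subgroup.mem_centralizer_iff.2 fun b _ => hab b a
  have : Finite (P →* ℂˣ) := Nat.finite_of_card_ne_zero (hcardΛ ▸ Nat.card_pos.ne')
  let cx : P →* P := (MulAut.conjNormal (H := P) x).toMonoidHom
  let α : (P →* ℂˣ) →* (P →* ℂˣ) :=
    { toFun := fun l => l.comp cx
      map_one' := rfl
      map_mul' := fun _ _ => rfl }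
  have hαα : ∀ l, α (α l) = l := fun l => MonoidHom.ext fun a => by
    show l (cx (cx a)) = l a
    refine congrArg l (Subtype.ext ?_)
    show x * (x * (a : G) * x⁻¹) * x⁻¹ = a
    rw [show x * (x * (a : G) * x⁻¹) * x⁻¹ = x * x * a * (x * x)⁻¹ by group,
      hPcomm _ (hsqS x hxS) a a.2, mul_inv_cancel_right]
  let F : Subgroup (P →* ℂˣ) := α.eqLocus (MonoidHom.id _)
  have hF : Nat.card F ≤ 2 := by
    have hinj : Function.Injective fun l : F => decide ((l : P →* ℂˣ) = 1) := by
      intro l m hlm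
      by_cases hl : (l : P →* ℂˣ) = 1
      · simp only [hl, decide_true, Bool.true_eq, decide_eq_true_eq] at hlm
        exact Subtype.ext (hl.trans hlm.symm)
      · have hm : (m : P →* ℂˣ) ≠ 1 := fun hm => hl (by simpa [hm] using hlm)
        have hin : ∀ q : F, (S : Subgroup G) ≤ inertia (fun a : P => ((q : P →* ℂˣ) a : ℂ)) := by
          intro q y hy a
          have hq : ∀ b : P, (q : P →* ℂˣ) (cx b) = (q : P →* ℂˣ) b := fun b =>
            DFunLike.congr_fun (q.2 : α q = q) b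
          have hyP : y ∈ P ∨ x⁻¹ * y ∈ P := by
            by_cases hy' : y ∈ P
            · exact Or.inl hy'
            · right
              have h2 := Subgroup.mul_mem_iff_of_index_two
                (show (P.subgroupOf (S : Subgroup G)).index = 2 from hidx)
                (a := (⟨x, hxS⟩ : (S : Subgroup G))⁻¹) (b := ⟨y, hy⟩)
              simp only [Subgroup.mem_subgroupOf, Subgroup.coe_mul, InvMemClass.coe_inv] at h2
              exact h2.2 (iff_of_false (fun hx' => hxP (by simpa using inv_mem hx')) hy')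
          show (((q : P →* ℂˣ) (conjN y a)) : ℂ) = ((q : P →* ℂˣ) a : ℂ)
          rcases hyP with hy' | hy'
          · congr 2
            refine Subtype.ext ?_
            rw [coe_conjN, hPcomm _ hy' a a.2, mul_inv_cancel_right]
          · rw [← hq a]
            congr 2
            refine Subtype.ext ?_
            show y * (a : G) * y⁻¹ = x * a * x⁻¹
            rw [show y * (a : G) * y⁻¹ = x * ((x⁻¹ * y) * a * (x⁻¹ * y)⁻¹) * x⁻¹ by group,
              hPcomm _ hy' a a.2, mul_inv_cancel_right]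
        have h1 := h.fixed_unique P (S : Subgroup G) hP hab hne hPS.le S.2 hidx
          ⟨_, Char.isIrrCharacter_linear (l : P →* ℂˣ)⟩
          ⟨_, Char.isIrrCharacter_linear (m : P →* ℂˣ)⟩ (hom_ne_one hl) (hom_ne_one hm)
          (hin l) (hin m)
        exact Subtype.ext (MonoidHom.ext fun a => Units.ext
          (congrFun (congrArg Subtype.val h1) a))
    exact (Nat.card_le_card_of_injective _ hinj).trans (by simp)
  let f : (P →* ℂˣ) →* (P →* ℂˣ) :=
    { toFun := fun l => l * α l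
      map_one' := by simp
      map_mul' := fun l m => by rw [map_mul]; exact MonoidHom.ext fun a => mul_mul_mul_comm _ _ _ _ }
  have hn4 : Nat.card P = 4 := by
    have h1 : f.range ≤ F := by
      rintro _ ⟨l, rfl⟩
      show α (l * α l) = l * α l
      rw [map_mul, hαα]; exact MonoidHom.ext fun a => mul_comm _ _
    have h2 : f.ker ≤ F := by
      intro l hl
      show α l = l
      have h3 : l * α l = 1 := hl
      rw [show α l = l⁻¹ from MonoidHom.ext fun a =>
        eq_inv_of_mul_eq_one_right (DFunLike.congr_fun h3 a)]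
      refine MonoidHom.ext fun a => ?_
      rw [MonoidHom.inv_apply]
      exact inv_eq_of_mul_eq_one_left (by
        rw [← map_mul, show a * a = 1 from Subtype.ext (by
          rw [Subgroup.coe_mul, ← pow_two]; exact hexp a a.2), map_one])
    have h3 := f.ker.card_mul_index
    rw [Subgroup.index_ker, hcardΛ] at h3
    have h4 : Nat.card P ≤ 4 := by
      rw [← h3]
      exact Nat.mul_le_mul ((Subgroup.card_le_of_le h2).trans hF)
        ((Subgroup.card_le_of_le h1).trans hF)
    have h5 : 2 ^ 2 ≤ 2 ^ n := Nat.pow_le_pow_right Nat.two_pos hn2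
    omega
  have hd3 : Cfsg.charDegree χ = 3 := by omega
  -- the action on the three involutions
  obtain ⟨ι⟩ : Nonempty ({a : P // a ≠ 1} ≃ Fin 3) := by
    refine ⟨Finite.equivFinOfCardEq ?_⟩
    rw [Nat.card_eq_fintype_card, Fintype.card_subtype_compl, Fintype.card_subtype_eq,
      ← Nat.card_eq_fintype_card, hn4]
  let act : G →* Equiv.Perm {a : P // a ≠ 1} :=
    { toFun := fun g => (MulAut.conjNormal (H := P) g).toEquiv.subtypeEquiv fun a => by simp
      map_one' := Equiv.ext fun a => Subtype.ext (Subtype.ext (by simp))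
      map_mul' := fun g k => Equiv.ext fun a => Subtype.ext (Subtype.ext (by simp [mul_assoc])) }
  let π : G →* Equiv.Perm (Fin 3) := ι.permCongrHom.toMonoidHom.comp act
  set C := Subgroup.centralizer (P : Set G) with hCdef
  have hπ : π.ker = C := by
    ext g
    rw [MonoidHom.mem_ker, Subgroup.mem_centralizer_iff]
    constructor
    · intro hg a ha
      by_cases ha1 : (⟨a, ha⟩ : P) = 1
      · rw [show a = 1 from congrArg Subtype.val ha1, one_mul, mul_one]
      · have h1 : act g = 1 := ι.permCongrHom.injective (hg.trans (map_one _).symm)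
        have h2 := congrArg (fun q : {a : P // a ≠ 1} => ((q : P) : G))
          (Equiv.congr_fun h1 ⟨⟨a, ha⟩, ha1⟩)
        have h3 : g * a * g⁻¹ = a := by simpa [act] using h2
        exact (mul_inv_eq_iff_eq_mul.1 h3).symm
    · intro hg
      have h1 : act g = 1 := Equiv.ext fun a => Subtype.ext (Subtype.ext (by
        simp [act, ← hg a.1 a.1.2]))
      show ι.permCongrHom (act g) = 1
      rw [h1, map_one]
  have hπmove : ∀ g : G, ∀ a ∈ P, g * a * g⁻¹ = a → a ≠ 1 → ∃ i, π g i = i := by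
    intro g a ha hga ha1
    refine ⟨ι ⟨⟨a, ha⟩, fun e => ha1 (congrArg Subtype.val e)⟩, ?_⟩
    show ι (act g (ι.symm (ι _))) = _
    rw [Equiv.symm_apply_apply]
    exact congrArg ι (Subtype.ext (Subtype.ext (by simpa [act] using hga)))
  have hxC : x ∉ C := by
    intro hx
    rw [hC] at hx
    obtain ⟨a, ha, z, hz, rfl⟩ := Subgroup.mem_sup_of_normal_left.1 hx
    have hzS : z ∈ (S : Subgroup G) := by
      rw [show z = a⁻¹ * (a * z) by group]
      exact mul_mem (inv_mem (hPS.le ha)) hxS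
    obtain ⟨k, hk⟩ := IsPGroup.iff_orderOf.1 S.2 ⟨z, hzS⟩
    rw [Subgroup.orderOf_mk] at hk
    refine hxP (mul_mem ha ?_)
    rcases Nat.eq_zero_or_pos k with h0 | h0
    · rw [h0, pow_zero] at hk
      rw [orderOf_eq_one_iff.1 hk]; exact P.one_mem
    · exact absurd (hk ▸ dvd_pow_self 2 h0.ne') (h.center_not_dvd hz)
  have hπ1 : ∀ g : G, π g = 1 ↔ g ∈ C := fun g => by rw [← hπ, MonoidHom.mem_ker]
  have hπx : π x * π x = 1 ∧ π x ≠ 1 := by
    refine ⟨?_, fun e => hxC ((hπ1 x).1 e)⟩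
    rw [← map_mul, hπ1]
    exact Subgroup.mem_centralizer_iff.2 fun a ha => hPcomm a ha _ (hsqS x hxS)
  -- the image has order six
  have hCidx : C.index = 6 := by
    have h6 : C.index ∣ 6 := by
      rw [← hπ, Subgroup.index_ker]
      exact (Subgroup.card_subgroup_dvd_card π.range).trans (by
        simp [Nat.card_eq_fintype_card, Fintype.card_perm, Nat.factorial])
    have h2 : 2 ∣ C.index := by
      rw [← hπ, Subgroup.index_ker]
      have h1 : orderOf (π x) = 2 :=
        orderOf_eq_prime (by rw [pow_two]; exact hπx.1) hπx.2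
      exact h1 ▸ Subgroup.orderOf_dvd_natCard _ ⟨x, rfl⟩
    have h3 : 3 ∣ C.index := by
      obtain ⟨l, hl⟩ : ∃ l : P →* ℂˣ, l ≠ 1 := by
        have : Nontrivial (P →* ℂˣ) := Finite.one_lt_card_iff_nontrivial.1 (by omega)
        exact exists_ne 1
      let θ : Cfsg.IrrCharacter P := ⟨_, Char.isIrrCharacter_linear l⟩
      have hθ : (θ : P → ℂ) ≠ fun _ => 1 := hom_ne_one hl
      have hdvd := Degrees.index_inertia_mul_dvd P θ.2 h.irr (by
        rw [(hP1 θ).1 hθ]; exact one_ne_zero)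
      have h31 : (inertia (G := G) (θ : P → ℂ)).index ∣ 3 :=
        hd3 ▸ dvd_of_mul_right_dvd hdvd
      have hne1 : (inertia (G := G) (θ : P → ℂ)).index ≠ 1 := by
        intro e1
        rw [Subgroup.index_eq_one] at e1
        have hsub : ∀ m : P →* ℂˣ, m = 1 ∨ m = l := fun m => by
          by_cases hm : m = 1
          · exact Or.inl hm
          · right
            obtain ⟨g, hg⟩ := h.transitive P hP hab hne θ ⟨_, Char.isIrrCharacter_linear m⟩ hθ
              (hom_ne_one hm)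
            rw [mem_inertia_iff_conjFn.1 (e1.symm ▸ Subgroup.mem_top g)] at hg
            exact MonoidHom.ext fun a => Units.ext (congrFun hg.symm a)
        have hinj : Function.Injective fun m : P →* ℂˣ => decide (m = 1) := by
          intro m m' hmm
          rcases hsub m with rfl | rfl <;> rcases hsub m' with rfl | rfl <;>
            simp_all
        have := (Nat.card_le_card_of_injective _ hinj).trans (show Nat.card Bool ≤ 2 by simp)
        omega
      refine ((Nat.dvd_prime Nat.prime_three).1 h31).resolve_left hne1 ▸ Subgroup.index_dvd_of_le ?_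
      intro g hg a
      show (l (conjN g a) : ℂ) = (l a : ℂ)
      congr 2
      refine Subtype.ext ?_
      rw [coe_conjN, ← Subgroup.mem_centralizer_iff.1 hg a a.2, mul_inv_cancel_right]
    have := Nat.Coprime.mul_dvd_of_dvd_of_dvd (by norm_num : Nat.Coprime 2 3) h2 h3
    exact Nat.dvd_antisymm h6 this
  obtain ⟨y, hy⟩ : ∃ y : G, orderOf (π y) = 3 := by
    obtain ⟨⟨_, y, rfl⟩, hy⟩ := exists_prime_orderOf_dvd_card' (G := π.range) 3 (by
      rw [← Subgroup.index_ker, hπ, hCidx]; norm_num)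
    exact ⟨y, by rwa [← Subgroup.orderOf_coe] at hy⟩
  have hπy3 : π y ^ 3 = 1 := by
    have := pow_orderOf_eq_one (π y)
    rwa [hy] at this
  have hπy1 : π y ≠ 1 := fun e => by simp [e] at hy
  have hinv := perm_invert (π x) hπx.1 hπx.2 (π y) hπy3
  obtain ⟨hy2, hy8⟩ := perm_square (π y) hπy3 hπy1
  -- the element of order three inverted modulo `P`
  have hxy : x * y * x⁻¹ * y ∈ P ⊔ Subgroup.center G := by
    rw [← hC, ← hπ, MonoidHom.mem_ker, map_mul, map_mul, map_mul, map_inv, hinv, inv_mul_cancel]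
  obtain ⟨a₀, ha₀, z, hz, hxz⟩ := Subgroup.mem_sup_of_normal_left.1 hxy
  set q := QuotientGroup.mk' P with hq
  have hqP : ∀ {g : G}, g ∈ P → q g = 1 := fun hg => (QuotientGroup.eq_one_iff _).2 hg
  have hzc : ∀ g : G ⧸ P, Commute (q z) g := fun g => by
    obtain ⟨g, rfl⟩ := QuotientGroup.mk'_surjective P g
    show q z * q g = q g * q z
    rw [← map_mul, ← map_mul, Subgroup.mem_center_iff.1 hz g]
  have hX : q x * q y * (q x)⁻¹ = (q y)⁻¹ * q z := by
    have h1 : q x * q y * (q x)⁻¹ * q y = q z := by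
      rw [← map_inv, ← map_mul, ← map_mul, ← map_mul, ← hxz, map_mul, hqP ha₀, one_mul]
    rw [← (hzc ((q y)⁻¹)).eq, ← h1, mul_inv_cancel_right]
  set u := y ^ 2 * z⁻¹ with hu
  have hXu : q x * q u * (q x)⁻¹ = (q u)⁻¹ := by
    have h1 : q x * (q z)⁻¹ * (q x)⁻¹ = (q z)⁻¹ := by
      rw [← ((hzc (q x)).inv_left).eq, mul_inv_cancel_right]
    rw [hu, map_mul, map_pow, map_inv, mul_inv_rev, inv_inv,
      show q x * (q y ^ 2 * (q z)⁻¹) * (q x)⁻¹ =
        (q x * q y * (q x)⁻¹) ^ 2 * (q x * (q z)⁻¹ * (q x)⁻¹) by rw [pow_two, pow_two]; group,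
      hX, h1, ((hzc ((q y)⁻¹)).symm).mul_pow, inv_pow, (hzc ((q y ^ 2)⁻¹)).eq]
    group
  have hu3 : u ^ 3 ∈ P := by
    have hmem : u ^ 3 ∈ P ⊔ Subgroup.center G := by
      rw [← hC, ← hπ, MonoidHom.mem_ker, map_pow, hu, map_mul, map_pow, map_inv,
        (hπ1 z).2 (hC ▸ Subgroup.mem_sup_right hz), inv_one, mul_one, ← pow_mul,
        show 2 * 3 = 3 * 2 from rfl, pow_mul, hπy3, one_pow]
    obtain ⟨a, ha, z', hz', he⟩ := Subgroup.mem_sup_of_normal_left.1 hmem
    have h1 : q (u ^ 3) = q z' := by rw [← he, map_mul, hqP ha, one_mul]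
    have h2 : q x * q z' * (q x)⁻¹ = (q z')⁻¹ := by
      rw [← h1, map_pow, ← conj_pow, hXu, inv_pow]
    have h3 : q x * q z' * (q x)⁻¹ = q z' := by
      rw [← map_inv, ← map_mul, ← map_mul, Subgroup.mem_center_iff.1 hz' x, mul_inv_cancel_right]
    rw [← QuotientGroup.eq_one_iff]
    show q (u ^ 3) = 1
    rw [h1, ← orderOf_eq_one_iff]
    have h4 : q z' ^ 2 = 1 := by
      have h5 := h3.symm.trans h2
      rw [pow_two]
      conv_lhs => arg 2; rw [h5]
      rw [mul_inv_cancel]
    exact Nat.eq_one_of_dvd_coprimes (Nat.coprime_two_left.2 hodd)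
      (orderOf_dvd_of_pow_eq_one h4) ((orderOf_map_dvd q z').trans
        (Subgroup.orderOf_dvd_natCard _ hz'))
  set w := u ^ 4 with hw
  have hw3 : w ^ 3 = 1 := by
    rw [hw, ← pow_mul, show 4 * 3 = 3 * 2 * 2 from rfl, pow_mul, pow_mul,
      hexp _ hu3, one_pow]
  have hπw : π w = π y ^ 2 := by
    rw [hw, map_pow, hu, map_mul, map_pow, map_inv,
      (hπ1 z).2 (hC ▸ Subgroup.mem_sup_right hz), inv_one, mul_one, hy8]
  have hw1 : w ≠ 1 := fun e => hy2 (by rw [← hπw, e, map_one])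
  have hπw3 : π w ^ 3 = 1 := by rw [← map_pow, hw3, map_one]
  obtain ⟨hwfix, hwtrans⟩ := perm_three_cycle (π w) hπw3 (by rw [hπw]; exact hy2)
  have hCw : ∀ a ∈ P, w * a * w⁻¹ = a → a = 1 := fun a ha hwa => by
    by_contra ha1
    obtain ⟨i, hi⟩ := hπmove w a ha hwa ha1
    exact hwfix i hi
  have hwx : x * w * x⁻¹ * w ∈ P := by
    rw [← QuotientGroup.eq_one_iff]
    show q (x * w * x⁻¹ * w) = 1
    rw [map_mul, map_mul, map_mul, map_inv, hw, map_pow, ← conj_pow, hXu, inv_pow, inv_mul_cancel]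
  -- an involution inverting it
  have hPw : ∀ m ∈ P, w⁻¹ * m * w ∈ P := fun m hm => by
    simpa using (inferInstance : P.Normal).conj_mem m hm w⁻¹
  let μ : P → P := fun m => ⟨(m : G)⁻¹ * (w⁻¹ * m * w), mul_mem (inv_mem m.2) (hPw _ m.2)⟩
  have hμ : Function.Injective μ := by
    intro m m' hmm
    have h1 : (m : G)⁻¹ * (w⁻¹ * m * w) = (m' : G)⁻¹ * (w⁻¹ * m' * w) := congrArg Subtype.val hmm
    refine mul_inv_eq_one.1 (Subtype.ext (hCw _ (mul_mem m.2 (inv_mem m'.2)) ?_))
    have h2 : w⁻¹ * ((m : G) * (m' : G)⁻¹) * w = (m : G) * (m' : G)⁻¹ := by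
      calc w⁻¹ * ((m : G) * (m' : G)⁻¹) * w
          = (m : G) * ((m : G)⁻¹ * (w⁻¹ * m * w)) * (w⁻¹ * m' * w)⁻¹ := by group
        _ = (m : G) * (m' : G)⁻¹ := by rw [h1]; group
    show w * ((m : G) * (m' : G)⁻¹) * w⁻¹ = (m : G) * (m' : G)⁻¹
    conv_lhs => rw [← h2]
    group
  obtain ⟨m, hm⟩ := (Finite.injective_iff_surjective.1 hμ) ⟨x * w * x⁻¹ * w, hwx⟩
  have hm' : (m : G)⁻¹ * (w⁻¹ * m * w) = x * w * x⁻¹ * w := congrArg Subtype.val hm
  set s := (m : G) * x with hs
  have hsw : s * w * s⁻¹ = w⁻¹ := by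
    calc s * w * s⁻¹ = (m : G) * (x * w * x⁻¹ * w) * w⁻¹ * (m : G)⁻¹ := by rw [hs]; group
      _ = w⁻¹ := by rw [← hm']; group
  have hsS : s ∈ (S : Subgroup G) := mul_mem (hPS.le m.2) hxS
  have hsP : s ∉ P := fun hs' => hxP (by
    rw [show x = (m : G)⁻¹ * s by rw [hs]; group]
    exact mul_mem (inv_mem m.2) hs')
  have hss : s * s = 1 := by
    refine hCw _ (hsqS s hsS) ?_
    have h2 : s * s * w * (s * s)⁻¹ = w := by
      calc s * s * w * (s * s)⁻¹ = s * (s * w * s⁻¹) * s⁻¹ := by group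
        _ = s * w⁻¹ * s⁻¹ := by rw [hsw]
        _ = (s * w * s⁻¹)⁻¹ := by group
        _ = w := by rw [hsw, inv_inv]
    have h3 := mul_inv_eq_iff_eq_mul.1 h2
    rw [← h3, mul_inv_cancel_right]
  have hsinv : s⁻¹ = s := inv_eq_of_mul_eq_one_left hss
  set a := s * w with ha
  have haa : a * a = 1 := by
    rw [ha, ← mul_assoc, show s * w * s = s * w * s⁻¹ by rw [hsinv], hsw, inv_mul_cancel]
  obtain ⟨i, hi⟩ := perm_fix_point (π a) (by rw [← map_mul, haa, map_one])
  obtain ⟨⟨e, he⟩, he1, hae⟩ : ∃ e : P, e ≠ 1 ∧ a * (e : G) * a⁻¹ = e := by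
    refine ⟨(ι.symm i : P), (ι.symm i).2, ?_⟩
    have h1 : ι (act a (ι.symm i)) = i := hi
    have h2 : act a (ι.symm i) = ι.symm i := ι.injective (h1.trans (ι.apply_symm_apply i).symm)
    have h3 := congrArg (fun q : {a : P // a ≠ 1} => ((q : P) : G)) h2
    simpa [act] using h3
  have he2 : e * e = 1 := by rw [← pow_two]; exact hexp e he
  have haec : a * e = e * a := mul_inv_eq_iff_eq_mul.1 hae
  have hcc : a * e * (a * e) = 1 := by
    calc a * e * (a * e) = a * a * (e * e) := by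
          rw [mul_assoc, ← mul_assoc e, ← haec]; group
      _ = 1 := by rw [haa, he2, one_mul]
  have hac : a * (a * e) = a * e * a := by rw [mul_assoc a e a, ← haec]
  have hainv : a⁻¹ = a := inv_eq_of_mul_eq_one_left haa
  have hab1 : s * a = w := by rw [ha, ← mul_assoc, hss, one_mul]
  have hab3 : a * s * a = s * a * s := by
    have e1 : a * s = w⁻¹ := by rw [ha, ← hsw, hsinv]
    rw [e1, hab1]
    calc w⁻¹ * a = w⁻¹ * (s * w * s⁻¹) * s := by rw [ha]; group
      _ = (w ^ 3)⁻¹ * (w * s) := by rw [hsw]; group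
      _ = w * s := by rw [hw3, inv_one, one_mul]
  -- the orbit of `e` multiplies to one
  set e₁ := w * e * w⁻¹ with he₁
  set e₂ := w * e₁ * w⁻¹ with he₂
  have he₁P : e₁ ∈ P := (inferInstance : P.Normal).conj_mem e he w
  have he₂P : e₂ ∈ P := (inferInstance : P.Normal).conj_mem e₁ he₁P w
  have he₃ : w * e₂ * w⁻¹ = e := by
    calc w * e₂ * w⁻¹ = w ^ 3 * e * (w ^ 3)⁻¹ := by
          rw [he₂, he₁, show w ^ 3 = w * w * w by rw [pow_succ, pow_two]]; group
      _ = e := by rw [hw3]; group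
  have hprod : e₁ * e₂ * e = 1 := by
    refine hCw _ (mul_mem (mul_mem he₁P he₂P) he) ?_
    calc w * (e₁ * e₂ * e) * w⁻¹ = (w * e₁ * w⁻¹) * (w * e₂ * w⁻¹) * (w * e * w⁻¹) := by group
      _ = e₂ * e * e₁ := by rw [← he₂, he₃, ← he₁]
      _ = e₁ * e₂ * e := (hPcomm _ (mul_mem he₂P he) _ he₁P).trans (mul_assoc _ _ _).symm
  have hbc : s * (a * e) = w * e := by rw [← mul_assoc, hab1]
  have hwe3 : w * e * (w * e) * (w * e) = 1 := by
    calc w * e * (w * e) * (w * e) = e₁ * e₂ * (w ^ 3 * e) := by rw [he₂, he₁]; group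
      _ = 1 := by rw [hw3, one_mul, hprod]
  have hbc3 : s * (a * e) * s = a * e * s * (a * e) := by
    have hcinv : (a * e)⁻¹ = a * e := inv_eq_of_mul_eq_one_left hcc
    have h1 : s * (a * e) * (s * (a * e)) * (s * (a * e)) = 1 := by rw [hbc]; exact hwe3
    calc s * (a * e) * s
        = s * (a * e) * (s * (a * e)) * (s * (a * e)) * ((a * e)⁻¹ * s⁻¹ * (a * e)⁻¹) := by group
      _ = _ := by rw [h1, one_mul, hcinv, hsinv]
  obtain ⟨φ, hφa, hφb, hφc⟩ := Trans3.exists_hom_perm_four haa hss hcc hac hab3 hbc3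
  set R := φ.range with hR
  have hsR : s ∈ R := ⟨_, hφb⟩
  have haR : a ∈ R := ⟨_, hφa⟩
  have hwR : w ∈ R := hab1 ▸ mul_mem hsR haR
  have heR : e ∈ R := by
    have h1 := mul_mem (inv_mem haR) (⟨_, hφc⟩ : a * e ∈ R)
    rwa [inv_mul_cancel_left] at h1
  have hPR : P ≤ R := by
    intro b hb
    by_cases hb1 : (⟨b, hb⟩ : P) = 1
    · rw [show b = 1 from congrArg Subtype.val hb1]; exact R.one_mem
    have hactw : ∀ q : {a : P // a ≠ 1}, π w (ι q) = ι (act w q) := fun q => by
      show ι (act w (ι.symm (ι q))) = _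
      rw [Equiv.symm_apply_apply]
    have hcoe : ∀ q : {a : P // a ≠ 1}, (((act w q) : P) : G) = w * ((q : P) : G) * w⁻¹ := by
      intro q; simp [act]
    rcases hwtrans (ι ⟨⟨e, he⟩, he1⟩) (ι ⟨⟨b, hb⟩, hb1⟩) with h1 | h1 | h1
    · rw [hactw] at h1
      have h2 := congrArg (fun q : {a : P // a ≠ 1} => ((q : P) : G)) (ι.injective h1)
      simp only [hcoe] at h2
      rw [← h2]; exact mul_mem (mul_mem hwR heR) (inv_mem hwR)
    · rw [hactw, hactw] at h1
      have h2 := congrArg (fun q : {a : P // a ≠ 1} => ((q : P) : G)) (ι.injective h1)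
      simp only [hcoe] at h2
      rw [← h2]; exact mul_mem (mul_mem hwR (mul_mem (mul_mem hwR heR) (inv_mem hwR))) (inv_mem hwR)
    · have h2 := congrArg (fun q : {a : P // a ≠ 1} => ((q : P) : G)) (ι.injective h1)
      simp only at h2
      rw [← h2]; exact heR
  have hR24 : 24 ∣ Nat.card R := by
    have h8 : 8 ∣ Nat.card R := by
      have h1 := (P.subgroupOf R).card_mul_index
      rw [Nat.card_congr (Subgroup.subgroupOfEquivOfLe hPR).toEquiv, hn4] at h1
      rw [← h1, show 8 = 4 * 2 from rfl]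
      refine Nat.mul_dvd_mul_left 4 ?_
      rw [Subgroup.index_eq_card]
      have h2 : orderOf ((⟨s, hsR⟩ : R) : R ⧸ P.subgroupOf R) = 2 := by
        refine orderOf_eq_prime ?_ fun h3 => hsP ?_
        · rw [← QuotientGroup.mk_pow, pow_two]
          exact (QuotientGroup.eq_one_iff _).2 (Subgroup.mem_subgroupOf.2 (by
            show s * s ∈ P
            rw [hss]; exact P.one_mem))
        · exact Subgroup.mem_subgroupOf.1 ((QuotientGroup.eq_one_iff _).1 h3)
      exact h2 ▸ _root_.orderOf_dvd_natCard _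
    have h3 : 3 ∣ Nat.card R :=
      (orderOf_eq_prime hw3 hw1) ▸ Subgroup.orderOf_dvd_natCard R hwR
    exact Nat.Coprime.mul_dvd_of_dvd_of_dvd (by norm_num : Nat.Coprime 8 3) h8 h3
  have hP24 : Nat.card (Equiv.Perm (Fin 4)) = 24 := by
    simp [Nat.card_eq_fintype_card, Fintype.card_perm, Nat.factorial]
  have hbij : Function.Bijective φ.rangeRestrict := by
    refine (Nat.bijective_iff_surjective_and_card _).2 ⟨φ.rangeRestrict_surjective, ?_⟩
    refine le_antisymm ?_ (Nat.card_le_card_of_surjective _ φ.rangeRestrict_surjective)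
    rw [hP24]
    exact Nat.le_of_dvd Nat.card_pos hR24
  have hRcard : Nat.card R = 24 := hP24 ▸ (Nat.card_eq_of_bijective _ hbij).symm
  have hRZ : R ⊓ Subgroup.center G = ⊥ := by
    rw [Subgroup.eq_bot_iff_forall]
    intro g hg
    obtain ⟨⟨σ, rfl⟩, hgz⟩ := Subgroup.mem_inf.1 hg
    rw [perm_four_center σ fun τ => hbij.1 (Subtype.ext (by
      simp only [map_mul, Subgroup.coe_mul, MonoidHom.coe_rangeRestrict]
      exact (Subgroup.mem_center_iff.1 hgz (φ τ)).symm)), map_one]
  refine ⟨rfl, hodd, R, ⟨(MulEquiv.ofBijective φ.rangeRestrict hbij).symm⟩, hRZ, ?_⟩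
  refine Subgroup.eq_top_of_card_eq _ ?_
  have hcards : ∀ A : Subgroup G, A ⊓ Subgroup.center G = ⊥ →
      Nat.card (A ⊔ Subgroup.center G : Subgroup G) = Nat.card A * Nat.card (Subgroup.center G) := by
    intro A hA
    have h1 := ((Subgroup.center G).subgroupOf (A ⊔ Subgroup.center G)).card_mul_index
    rw [Nat.card_congr (Subgroup.subgroupOfEquivOfLe le_sup_right).toEquiv] at h1
    rw [← h1, mul_comm]
    congr 1
    show (Subgroup.center G).relIndex (A ⊔ Subgroup.center G) = _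
    rw [Subgroup.relIndex_sup_right, ← Subgroup.inf_relIndex_right, inf_comm, hA,
      Subgroup.relIndex_bot_left]
  rw [hcards R hRZ, hRcard, ← C.card_mul_index, hCidx, hC, hcards P hPZ, hn4]
  ring

end CfsgLib.BlockB.RootSingular
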