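import Cfsg.Agent.Lib.Block.LatticeRed
import Cfsg.Agent.Lib.StructB.PGroupLinear
import Cfsg.Agent.Lib.Char.Orthogonality
import Cfsg.Agent.Lib.BlockB.PModular
import Mathlib.FieldTheory.IntermediateField.Algebraic
import Mathlib.LinearAlgebra.Dual.Lemmas
import Mathlib.GroupTheory.Sylow

/-!
A trivial intersection Sylow subgroup and a character of degree at most the square root of its
order: restriction to a subgroup over the normalizer preserves the norm.
-/

set_option autoImplicit false
set_option linter.unusedSectionVars false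

namespace CfsgLib.BlockB.SmallTI

open CfsgLib CfsgLib.Block Matrix
open scoped Pointwise

universe u

/-- A small module has no free summand: the norm kills every matrix. -/
theorem norm_kills {k : Type*} [Field k] {p : ℕ} [Fact p.Prime] [CharP k p] {P : Type u} [Group P]
    [Fintype P] (hP : IsPGroup p P) {d : ℕ} (hd : 2 ≤ d) (hcard : d ^ 2 ≤ Nat.card P)
    (ρ : P →* Matrix (Fin d) (Fin d) k) (m : Matrix (Fin d) (Fin d) k) :
    ∑ s : P, ρ s * m * ρ s⁻¹ = 0 := by
  classical
  by_contra hne
  set N := ∑ s : P, ρ s * m * ρ s⁻¹ with hN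
  let f : (P → k) →ₗ[k] Matrix (Fin d) (Fin d) k :=
    { toFun := fun a => ∑ s : P, a s • (ρ s * m * ρ s⁻¹)
      map_add' := fun a b => by simp only [Pi.add_apply, add_smul, Finset.sum_add_distrib]
      map_smul' := fun c a => by
        simp only [Pi.smul_apply, smul_eq_mul, RingHom.id_apply, Finset.smul_sum, smul_smul] }
  let L : P →* Module.End k (P → k) :=
    { toFun := fun g =>
        { toFun := fun a s => a (g⁻¹ * s)
          map_add' := fun _ _ => rfl
          map_smul' := fun _ _ => rfl }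
      map_one' := LinearMap.ext fun a => funext fun s => by simp
      map_mul' := fun g h => LinearMap.ext fun a => funext fun s => by simp [mul_assoc] }
  have hequiv : ∀ (g : P) (a : P → k), f (L g a) = ρ g * f a * ρ g⁻¹ := by
    intro g a
    show ∑ s : P, a (g⁻¹ * s) • (ρ s * m * ρ s⁻¹) = ρ g * (∑ s : P, a s • (ρ s * m * ρ s⁻¹)) * ρ g⁻¹
    rw [Finset.mul_sum, Finset.sum_mul]
    refine (Fintype.sum_equiv (Equiv.mulLeft g) _ _ fun s => ?_).symm
    rw [Equiv.coe_mulLeft, inv_mul_cancel_left, Matrix.mul_smul, Matrix.smul_mul, _root_.mul_inv_rev,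
      map_mul, map_mul]
    simp only [mul_assoc]
  -- fixed vectors of the regular module are constant
  have hconst : ∀ a : P → k, (∀ g, L g a = a) → ∀ s, a s = a 1 := fun a ha s => by
    have h := congrFun (ha s⁻¹) 1
    simpa [L] using h
  have hinj : Function.Injective f := by
    rw [← LinearMap.ker_eq_bot]
    by_contra hker
    let L' : P →* Module.End k (LinearMap.ker f) :=
      { toFun := fun g => (L g).restrict fun a ha => by
          rw [LinearMap.mem_ker] at ha ⊢
          rw [hequiv, ha, Matrix.mul_zero, Matrix.zero_mul]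
        map_one' := LinearMap.ext fun a => Subtype.ext (by simp)
        map_mul' := fun g h => LinearMap.ext fun a => Subtype.ext (by simp) }
    have : Nontrivial (LinearMap.ker f) := Submodule.nontrivial_iff_ne_bot.2 hker
    obtain ⟨v, hv, hfix⟩ := StructB.PLinear.exists_fixed_mod L' hP ⊥ bot_ne_top
      (fun g u hu => by rw [Submodule.mem_bot] at hu ⊢; rw [hu, map_zero])
    rw [Submodule.mem_bot] at hv
    have hc := hconst (v : P → k) fun g => by
      have h := hfix g
      rw [Submodule.mem_bot, sub_eq_zero] at h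
      exact congrArg Subtype.val h
    have h0 : f (v : P → k) = 0 := v.2
    have h1 : f (v : P → k) = (v : P → k) 1 • N := by
      show ∑ s : P, (v : P → k) s • (ρ s * m * ρ s⁻¹) = _
      rw [hN, Finset.smul_sum]
      exact Finset.sum_congr rfl fun s _ => by rw [hc s]
    rw [h0] at h1
    rcases smul_eq_zero.1 h1.symm with h2 | h2
    · exact hv (Subtype.ext (funext fun s => by rw [hc s, h2]; rfl))
    · exact hne h2
  have hdimM : Module.finrank k (Matrix (Fin d) (Fin d) k) = d ^ 2 := by
    rw [Module.finrank_matrix, Fintype.card_fin, Module.finrank_self, mul_one, pow_two]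
  have hdim : Module.finrank k (P → k) = Module.finrank k (Matrix (Fin d) (Fin d) k) := by
    have h1 := LinearMap.finrank_le_finrank_of_injective hinj
    rw [Module.finrank_fintype_fun_eq_card, ← Nat.card_eq_fintype_card, hdimM] at *
    omega
  have hsurj : Function.Surjective f :=
    (LinearMap.injective_iff_surjective_of_finrank_eq_finrank hdim).1 hinj
  -- fixed matrices are scalar
  have hfixed : ∀ A : Matrix (Fin d) (Fin d) k, (∀ g, ρ g * A * ρ g⁻¹ = A) →
      ∃ c : k, A = c • N := by
    intro A hA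
    obtain ⟨a, rfl⟩ := hsurj A
    have hc := hconst a fun g => hinj (by rw [hequiv, hA])
    refine ⟨a 1, ?_⟩
    show ∑ s : P, a s • (ρ s * m * ρ s⁻¹) = _
    rw [hN, Finset.smul_sum]
    exact Finset.sum_congr rfl fun s _ => by rw [hc s]
  obtain ⟨c1, hc1⟩ := hfixed 1 fun g => by rw [Matrix.mul_one, ← map_mul, mul_inv_cancel, map_one]
  have : NeZero d := ⟨by omega⟩
  let V1 : P →* Module.End k (Fin d → k) :=
    { toFun := fun g => (ρ g).mulVecLin
      map_one' := by rw [map_one, Matrix.mulVecLin_one]; rfl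
      map_mul' := fun g h => by rw [map_mul, Matrix.mulVecLin_mul]; rfl }
  let V2 : P →* Module.End k (Fin d → k) :=
    { toFun := fun g => (ρ g⁻¹)ᵀ.mulVecLin
      map_one' := by rw [inv_one, map_one, Matrix.transpose_one, Matrix.mulVecLin_one]; rfl
      map_mul' := fun g h => by
        rw [_root_.mul_inv_rev, map_mul, Matrix.transpose_mul, Matrix.mulVecLin_mul]; rfl }
  obtain ⟨v, hv, hvfix⟩ := StructB.PLinear.exists_fixed_mod V1 hP ⊥ bot_ne_top
    (fun g u hu => by rw [Submodule.mem_bot] at hu ⊢; rw [hu, map_zero])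
  obtain ⟨w, hw, hwfix⟩ := StructB.PLinear.exists_fixed_mod V2 hP ⊥ bot_ne_top
    (fun g u hu => by rw [Submodule.mem_bot] at hu ⊢; rw [hu, map_zero])
  rw [Submodule.mem_bot] at hv hw
  obtain ⟨c2, hc2⟩ := hfixed (Matrix.vecMulVec v w) fun g => by
    have h1 : ρ g *ᵥ v = v := by
      have h := hvfix g; rw [Submodule.mem_bot, sub_eq_zero] at h; exact h
    have h2 : (ρ g⁻¹)ᵀ *ᵥ w = w := by
      have h := hwfix g; rw [Submodule.mem_bot, sub_eq_zero] at h; exact h
    rw [Matrix.mulVec_transpose] at h2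
    rw [Matrix.mul_vecMulVec, Matrix.vecMulVec_mul, h1, h2]
  have hc10 : c1 ≠ 0 := fun h => one_ne_zero (α := Matrix (Fin d) (Fin d) k) (by rw [hc1, h, zero_smul])
  have hN1 : Matrix.vecMulVec v w = (c2 * c1⁻¹) • (1 : Matrix (Fin d) (Fin d) k) := by
    rw [hc1, smul_smul, mul_assoc, inv_mul_cancel₀ hc10, mul_one, hc2]
  obtain ⟨i, hi⟩ := Function.ne_iff.1 hv
  obtain ⟨j, hj⟩ := Function.ne_iff.1 hw
  have hij := congrFun (congrFun hN1 i) j
  rw [Matrix.vecMulVec_apply, Matrix.smul_apply, Matrix.one_apply] at hij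
  by_cases hcase : i = j
  · subst hcase
    have : Nontrivial (Fin d) := Fin.nontrivial_iff_two_le.2 hd
    obtain ⟨l, hl⟩ := exists_ne i
    have h1 := congrFun (congrFun hN1 l) l
    have h2 := congrFun (congrFun hN1 i) l
    rw [Matrix.vecMulVec_apply, Matrix.smul_apply, Matrix.one_apply] at h1 h2
    rw [if_pos rfl] at hij h1
    rw [if_neg (Ne.symm hl), smul_zero] at h2
    have h3 : w l = 0 := (mul_eq_zero.1 h2).resolve_left hi
    rw [h3, mul_zero] at h1
    rw [← h1] at hij
    exact (mul_ne_zero hi hj) hij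
  · rw [if_neg hcase, smul_zero] at hij
    exact (mul_ne_zero hi hj) hij

variable {G : Type u} [Group G] [Fintype G]

/-- The trivial intersection property passes to an overgroup of the normalizer. -/
theorem mem_of_conj_mem {p : ℕ} [Fact p.Prime] (P : Sylow p G)
    (hTI : ∀ g : G, g ∉ Subgroup.normalizer ((P : Subgroup G) : Set G) →
      (P : Subgroup G) ⊓ (MulAut.conj g • (P : Subgroup G)) = ⊥)
    (H : Subgroup G) (hH : Subgroup.normalizer ((P : Subgroup G) : Set G) ≤ H)
    {u g : G} (hu : u ∈ (P : Subgroup G)) (hu1 : u ≠ 1) (hug : g⁻¹ * u * g ∈ H) : g ∈ H := by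
  have hPH : (P : Subgroup G) ≤ H := Subgroup.le_normalizer.trans hH
  have hvp : IsPGroup p (Subgroup.zpowers (⟨g⁻¹ * u * g, hug⟩ : H)) := by
    obtain ⟨k, hk⟩ := IsPGroup.iff_orderOf.1 P.2 ⟨u, hu⟩
    rw [Subgroup.orderOf_mk] at hk
    refine IsPGroup.of_card (n := k) ?_
    rw [Nat.card_zpowers, Subgroup.orderOf_mk, ← hk,
      show g⁻¹ * u * g = MulAut.conj g⁻¹ u by simp, MulEquiv.orderOf_eq]
  obtain ⟨Q, hQ⟩ := hvp.exists_le_sylow
  obtain ⟨h, hh⟩ := MulAction.exists_smul_eq H Q (P.subtype hPH)
  have hmem : (h : G) * (g⁻¹ * u * g) * (h : G)⁻¹ ∈ (P : Subgroup G) := by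
    have h1 : h * ⟨g⁻¹ * u * g, hug⟩ * h⁻¹ ∈ (P.subtype hPH : Subgroup H) := by
      rw [← hh, Sylow.coe_subgroup_smul]
      exact ⟨_, hQ (Subgroup.mem_zpowers _), by simp [MulAut.smul_def]⟩
    rw [Sylow.coe_subtype, Subgroup.mem_subgroupOf] at h1
    exact h1
  have hc : (h : G) * g⁻¹ ∈ Subgroup.normalizer ((P : Subgroup G) : Set G) := by
    by_contra hc
    have h2 : (h : G) * (g⁻¹ * u * g) * (h : G)⁻¹ ∈
        (P : Subgroup G) ⊓ (MulAut.conj ((h : G) * g⁻¹) • (P : Subgroup G)) :=
      Subgroup.mem_inf.2 ⟨hmem, ⟨u, hu, by simp [MulAut.smul_def, mul_assoc]⟩⟩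
    rw [hTI _ hc, Subgroup.mem_bot, mul_inv_eq_one, mul_eq_left] at h2
    apply hu1
    calc u = g * (g⁻¹ * u * g) * g⁻¹ := by group
      _ = 1 := by rw [h2]; group
  have h3 := H.mul_mem (H.inv_mem (hH hc)) h.2
  rwa [_root_.mul_inv_rev, inv_inv, inv_mul_cancel_right] at h3

section Trace

variable {R : Type*} [CommRing R] {d : ℕ} (X : G →* Matrix (Fin d) (Fin d) R) (H : Subgroup G)

/-- The relative trace. -/
noncomputable def relTrace (f : Matrix (Fin d) (Fin d) R) : Matrix (Fin d) (Fin d) R :=
  letI := Fintype.ofFinite (G ⧸ H)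
  ∑ q : G ⧸ H, X q.out * f * X q.out⁻¹

variable {X H} {f : Matrix (Fin d) (Fin d) R} (hf : ∀ h ∈ H, X h * f = f * X h)

include hf

theorem term_eq (g : G) : X (g : G ⧸ H).out * f * X (g : G ⧸ H).out⁻¹ = X g * f * X g⁻¹ := by
  obtain ⟨h, he⟩ := QuotientGroup.mk_out_eq_mul H g
  rw [he, _root_.mul_inv_rev, map_mul, map_mul, mul_assoc (X g) (X h), hf h h.2]
  simp only [mul_assoc]
  rw [← mul_assoc (X h) (X (h : G)⁻¹), ← map_mul, mul_inv_cancel, map_one, Matrix.one_mul]

theorem relTrace_comm (g : G) : X g * relTrace X H f = relTrace X H f * X g := by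
  classical
  letI := Fintype.ofFinite (G ⧸ H)
  have h1 : X g * relTrace X H f * X g⁻¹ = relTrace X H f := by
    rw [relTrace, Finset.mul_sum, Finset.sum_mul]
    refine Fintype.sum_equiv (MulAction.toPerm g) _ _ fun q => ?_
    have hq : g • q = ((g * q.out : G) : G ⧸ H) := by
      conv_lhs => rw [← QuotientGroup.out_eq' q]
      rfl
    rw [MulAction.toPerm_apply, hq, term_eq hf, _root_.mul_inv_rev, map_mul, map_mul]
    simp only [mul_assoc]
  have h2 := congrArg (· * X g) h1
  simp only [mul_assoc] at h2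
  rwa [← map_mul, inv_mul_cancel, map_one, Matrix.mul_one] at h2

end Trace

/-- Modulo `p` the relative trace fixes the commutant of `H`. -/
theorem relTrace_eq_self {k : Type*} [Field k] {p : ℕ} [Fact p.Prime] [CharP k p] (P : Sylow p G)
    (hTI : ∀ g : G, g ∉ Subgroup.normalizer ((P : Subgroup G) : Set G) →
      (P : Subgroup G) ⊓ (MulAut.conj g • (P : Subgroup G)) = ⊥)
    (H : Subgroup G) (hH : Subgroup.normalizer ((P : Subgroup G) : Set G) ≤ H) {d : ℕ}
    (hd : 2 ≤ d) (hcard : d ^ 2 ≤ Nat.card (P : Subgroup G))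
    (X : G →* Matrix (Fin d) (Fin d) k) {f : Matrix (Fin d) (Fin d) k}
    (hf : ∀ h ∈ H, X h * f = f * X h) : relTrace X H f = f := by
  classical
  letI := Fintype.ofFinite (G ⧸ H)
  have := Fintype.ofFinite (P : Subgroup G)
  let q0 : G ⧸ H := ((1 : G) : G ⧸ H)
  let F : G ⧸ H → Matrix (Fin d) (Fin d) k := fun q => X q.out * f * X q.out⁻¹
  have hF0 : F q0 = f := by
    show X q0.out * f * X q0.out⁻¹ = f
    rw [term_eq hf, inv_one, map_one, Matrix.one_mul, Matrix.mul_one]
  have hFs : ∀ (s : (P : Subgroup G)) (q : G ⧸ H),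
      F (s • q) = X (s : G) * F q * X (s : G)⁻¹ := by
    intro s q
    have hq : s • q = (((s : G) * q.out : G) : G ⧸ H) := by
      conv_lhs => rw [← QuotientGroup.out_eq' q]
      rfl
    show X (s • q).out * f * X (s • q).out⁻¹ = _
    rw [hq, term_eq hf, _root_.mul_inv_rev, map_mul, map_mul]
    simp only [F, mul_assoc]
  -- the Sylow subgroup acts freely away from the base point
  let S := {q : G ⧸ H // q ≠ q0}
  have hfix0 : ∀ s : (P : Subgroup G), s • q0 = q0 := fun s => by
    show (((s : G) * 1 : G) : G ⧸ H) = _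
    exact QuotientGroup.eq.2 (by simpa using H.inv_mem (hH (Subgroup.le_normalizer s.2)))
  letI : MulAction (P : Subgroup G) S :=
    { smul := fun s q => ⟨s • q.1, fun e => q.2 (MulAction.injective s (e.trans (hfix0 s).symm))⟩
      one_smul := fun q => Subtype.ext (one_smul _ q.1)
      mul_smul := fun a b q => Subtype.ext (mul_smul a b q.1) }
  have hfree : ∀ (s : (P : Subgroup G)) (q : S), s • q = q → s = 1 := by
    rintro s ⟨q, hq⟩ hsq
    obtain ⟨g, rfl⟩ := QuotientGroup.mk_surjective q
    by_contra hs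
    have h1 : (((s : G) * g : G) : G ⧸ H) = (g : G ⧸ H) := congrArg Subtype.val hsq
    have h2 := H.inv_mem (QuotientGroup.eq.1 h1)
    refine hq (QuotientGroup.eq.2 ?_)
    have h3 : g⁻¹ * (s : G) * g ∈ H := by
      convert h2 using 1
      group
    simpa using H.inv_mem (mem_of_conj_mem P hTI H hH s.2 (fun e => hs (Subtype.ext e)) h3)
  let Ω := MulAction.orbitRel.Quotient (P : Subgroup G) S
  letI := Fintype.ofFinite Ω
  have hbij : Function.Bijective fun x : ↥(P : Subgroup G) × Ω => x.1 • (x.2.out : S) := by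
    constructor
    · rintro ⟨s, o⟩ ⟨t, o'⟩ h
      have h' : s • o.out = t • o'.out := h
      have ho : o = o' := by
        rw [← Quotient.out_eq' o, ← Quotient.out_eq' o']
        exact Quotient.sound' ⟨s⁻¹ * t, by
          show (s⁻¹ * t) • o'.out = o.out
          rw [mul_smul, ← h', inv_smul_smul]⟩
      subst ho
      have := hfree (t⁻¹ * s) o.out (by rw [mul_smul, h', inv_smul_smul])
      rw [inv_mul_eq_one] at this
      rw [this]
    · intro q
      obtain ⟨s, hs⟩ := Quotient.mk_out (s := MulAction.orbitRel (P : Subgroup G) S) q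
      exact ⟨(s⁻¹, ⟦q⟧), by
        show s⁻¹ • (⟦q⟧ : Ω).out = q
        rw [inv_smul_eq_iff]; exact hs.symm⟩
  have hrest : ∑ q : S, F q.1 = 0 := by
    rw [← Fintype.sum_bijective _ hbij (fun x => F (x.1 • x.2.out : S).1) _ fun x => rfl,
      Fintype.sum_prod_type, Finset.sum_comm]
    refine Finset.sum_eq_zero fun o _ => ?_
    show ∑ s : (P : Subgroup G), F (s • o.out.1) = 0
    rw [Finset.sum_congr rfl fun s _ => hFs s o.out.1]
    exact norm_kills P.2 hd hcard (X.comp (P : Subgroup G).subtype) (F o.out.1)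
  have hsplit : relTrace X H f = F q0 + ∑ q : S, F q.1 := by
    show ∑ q : G ⧸ H, F q = _
    rw [Fintype.sum_eq_add_sum_compl q0]
    congr 1
    exact Finset.sum_subtype _ (fun q => by simp) F
  rw [hsplit, hrest, add_zero, hF0]

/-- The commutant of `H` is the commutant of `G`. -/
theorem commutant_eq {p : ℕ} [Fact p.Prime] {M : Ideal Cfsg.AlgInt} [M.IsPrime]
    (hM : Cfsg.IsPModular p M) (P : Sylow p G)
    (hTI : ∀ g : G, g ∉ Subgroup.normalizer ((P : Subgroup G) : Set G) →
      (P : Subgroup G) ⊓ (MulAut.conj g • (P : Subgroup G)) = ⊥)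
    (H : Subgroup G) (hH : Subgroup.normalizer ((P : Subgroup G) : Set G) ≤ H) {d : ℕ}
    (hcard : d ^ 2 ≤ Nat.card (P : Subgroup G))
    (X : G →* Matrix (Fin d) (Fin d) (lring M)) (f : Matrix (Fin d) (Fin d) ℂ)
    (hf : ∀ h ∈ H, (X h).map (lring M).subtype * f = f * (X h).map (lring M).subtype) (g : G) :
    (X g).map (lring M).subtype * f = f * (X g).map (lring M).subtype := by
  classical
  set XC : G →* Matrix (Fin d) (Fin d) ℂ :=
    (lring M).subtype.mapMatrix.toMonoidHom.comp X with hXC
  rcases Nat.lt_or_ge d 2 with hd | hd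
  · have hsc : ∀ A B : Matrix (Fin d) (Fin d) ℂ, A * B = B * A := fun A B => by
      interval_cases d
      · ext i; exact i.elim0
      · ext i j; fin_cases i; fin_cases j; simp [Matrix.mul_apply, mul_comm]
    exact hsc _ _
  have := charP_kres hM
  haveI : M.IsMaximal := isMaximal_of_pmodular hM
  let E : Submodule ℂ (Matrix (Fin d) (Fin d) ℂ) :=
    { carrier := {A | ∀ h ∈ H, XC h * A = A * XC h}
      add_mem' := fun {A B} hA hB h hh => by rw [Matrix.mul_add, Matrix.add_mul, hA h hh, hB h hh]
      zero_mem' := fun h _ => by rw [Matrix.mul_zero, Matrix.zero_mul]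
      smul_mem' := fun c A hA h hh => by rw [Matrix.mul_smul, Matrix.smul_mul, hA h hh] }
  let T : E →ₗ[ℂ] E :=
    { toFun := fun A => ⟨relTrace XC H A.1, fun h _ => relTrace_comm A.2 h⟩
      map_add' := fun A B => Subtype.ext (by
        simp [relTrace, Matrix.mul_add, Matrix.add_mul, Finset.sum_add_distrib])
      map_smul' := fun c A => Subtype.ext (by simp [relTrace, Finset.smul_sum]) }
  -- algebraic matrices
  let Q := algebraicClosure ℚ ℂ
  have hXalg : ∀ (g : G) i j, XC g i j ∈ Q := by
    intro g i j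
    obtain ⟨a, b, hb, he⟩ := (X g i j).2
    rw [show XC g i j = ((X g i j : lring M) : ℂ) from rfl, ← he]
    exact Q.div_mem
      ((mem_algebraicClosure_iff).2 ((IsFractionRing.isAlgebraic_iff ℤ ℚ ℂ).1 a.2.isAlgebraic))
      ((mem_algebraicClosure_iff).2 ((IsFractionRing.isAlgebraic_iff ℤ ℚ ℂ).1 b.2.isAlgebraic))
  have hinjT : Function.Injective T := by
    rw [← LinearMap.ker_eq_bot, LinearMap.ker_eq_bot']
    rintro ⟨A, hA⟩ hTA
    replace hTA : relTrace XC H A = 0 := congrArg Subtype.val hTA
    refine Subtype.ext (Matrix.ext fun i₀ j₀ => ?_)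
    show A i₀ j₀ = 0
    refine (Module.forall_dual_apply_eq_zero_iff Q _).1 fun φ => ?_
    -- the image under a linear functional
    let B : Matrix (Fin d) (Fin d) ℂ := A.map fun z => ((φ z : Q) : ℂ)
    have hlin : ∀ (g g' : G), (XC g * A * XC g').map (fun z => ((φ z : Q) : ℂ)) =
        XC g * B * XC g' := by
      intro g g'
      ext i j
      simp only [Matrix.map_apply, Matrix.mul_apply, Finset.sum_mul, map_sum,
        AddSubmonoidClass.coe_finsetSum, B]
      refine Finset.sum_congr rfl fun a _ => Finset.sum_congr rfl fun b _ => ?_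
      have e : XC g i b * A b a * XC g' a j =
          ((⟨_, hXalg g i b⟩ : Q) * ⟨_, hXalg g' a j⟩) • A b a := by
        rw [Algebra.smul_def]
        show _ = (XC g i b * XC g' a j) * A b a
        ring
      rw [e, map_smul, smul_eq_mul]
      push_cast
      ring
    have hBE : ∀ h ∈ H, XC h * B = B * XC h := fun h hh => by
      have h1 := hlin h 1
      have h2 := hlin 1 h
      rw [map_one, Matrix.mul_one, Matrix.mul_one] at h1
      rw [map_one, Matrix.one_mul, Matrix.one_mul] at h2
      rw [← h1, ← h2, hA h hh]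
    have hBT : relTrace XC H B = 0 := by
      letI := Fintype.ofFinite (G ⧸ H)
      have h1 := congrArg (fun C : Matrix (Fin d) (Fin d) ℂ => C.map fun z => ((φ z : Q) : ℂ)) hTA
      simp only [relTrace] at h1 ⊢
      rw [← Finset.sum_congr rfl fun q _ => hlin q.out q.out⁻¹]
      ext i j
      have h2 := congrFun (congrFun h1 i) j
      simp only [Matrix.map_apply, Matrix.sum_apply, map_sum, AddSubmonoidClass.coe_finsetSum,
        Matrix.zero_apply, map_zero, ZeroMemClass.coe_zero] at h2 ⊢
      exact h2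
    by_contra hne
    have hBne : ∃ i ∈ (Finset.univ : Finset (Fin d × Fin d)), B i.1 i.2 ≠ 0 :=
      ⟨(i₀, j₀), Finset.mem_univ _, fun h => hne (Subtype.ext h)⟩
    obtain ⟨e, -, he0, hediv⟩ := SmallBlock.exists_div_mem hM Finset.univ
      ⟨(i₀, j₀), Finset.mem_univ _⟩ (fun i => B i.1 i.2) (fun i =>
        (IsFractionRing.isAlgebraic_iff ℤ ℚ ℂ).2 (mem_algebraicClosure_iff.1 (φ _).2)) hBne
    let C : Matrix (Fin d) (Fin d) (lring M) :=
      Matrix.of fun i j => ⟨B i j / B e.1 e.2, hediv (i, j) (Finset.mem_univ _)⟩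
    have hCB : C.map (lring M).subtype = (B e.1 e.2)⁻¹ • B := by
      ext i j
      simp [C, div_eq_inv_mul]
    have hinj : Function.Injective fun A : Matrix (Fin d) (Fin d) (lring M) =>
        A.map (lring M).subtype := Matrix.map_injective Subtype.val_injective
    let Xk : G →* Matrix (Fin d) (Fin d) (kres M) := (red M).mapMatrix.toMonoidHom.comp X
    have hCcomm : ∀ h ∈ H, X h * C = C * X h := fun h hh => hinj (by
      show (X h * C).map (lring M).subtype = (C * X h).map (lring M).subtype
      rw [Matrix.map_mul, Matrix.map_mul, hCB, Matrix.mul_smul, Matrix.smul_mul]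
      exact congrArg _ (hBE h hh))
    have hk : ∀ h ∈ H, Xk h * C.map (red M) = C.map (red M) * Xk h := fun h hh => by
      show (X h).map (red M) * C.map (red M) = C.map (red M) * (X h).map (red M)
      rw [← Matrix.map_mul, ← Matrix.map_mul, hCcomm h hh]
    have hTC : relTrace X H C = 0 := hinj (by
      show (relTrace X H C).map (lring M).subtype = (0 : Matrix (Fin d) (Fin d) (lring M)).map _
      rw [Matrix.map_zero _ (map_zero _)]
      have h1 : (relTrace X H C).map (lring M).subtype = relTrace XC H (C.map (lring M).subtype) := by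
        simp only [relTrace]
        rw [← RingHom.mapMatrix_apply, map_sum]
        refine Finset.sum_congr rfl fun q _ => ?_
        rw [map_mul, map_mul]; rfl
      rw [h1, hCB]
      have h2 : relTrace XC H ((B e.1 e.2)⁻¹ • B) = (B e.1 e.2)⁻¹ • relTrace XC H B := by
        simp [relTrace, Finset.smul_sum]
      rw [h2, hBT, smul_zero])
    have hTk : relTrace Xk H (C.map (red M)) = 0 := by
      have h1 : (relTrace X H C).map (red M) = relTrace Xk H (C.map (red M)) := by
        simp only [relTrace]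
        rw [← RingHom.mapMatrix_apply, map_sum]
        refine Finset.sum_congr rfl fun q _ => ?_
        rw [map_mul, map_mul]; rfl
      rw [← h1, hTC, Matrix.map_zero _ (map_zero _)]
    rw [relTrace_eq_self P hTI H hH hd hcard Xk hk] at hTk
    have hone : C e.1 e.2 = 1 := Subtype.ext (div_self he0)
    have h9 := congrFun (congrFun hTk e.1) e.2
    rw [Matrix.map_apply, hone, map_one, Matrix.zero_apply] at h9
    exact one_ne_zero h9
  obtain ⟨A, hA⟩ := (LinearMap.injective_iff_surjective.1 hinjT) ⟨f, hf⟩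
  have h1 : relTrace XC H A.1 = f := congrArg Subtype.val hA
  rw [← h1]
  exact relTrace_comm A.2 g

/-- **Restriction preserves the norm.** -/
theorem classInner_restrict_eq {p : ℕ} [Fact p.Prime] (P : Sylow p G)
    (hTI : ∀ g : G, g ∉ Subgroup.normalizer ((P : Subgroup G) : Set G) →
      (P : Subgroup G) ⊓ (MulAut.conj g • (P : Subgroup G)) = ⊥)
    {χ : G → ℂ} (hχ : Cfsg.IsCharacter G χ)
    (hdeg : Cfsg.charDegree χ ^ 2 ≤ Nat.card (P : Subgroup G)) (H : Subgroup G) [Fintype H]
    (hH : Subgroup.normalizer ((P : Subgroup G) : Set G) ≤ H) :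
    Cfsg.classInner χ χ = Cfsg.classInner (fun h : H => χ h) (fun h : H => χ h) := by
  classical
  obtain ⟨M, hM⟩ := BlockB.exists_isPModular (Fact.out : p.Prime)
  haveI := isPrime_of_pmodular hM
  obtain ⟨X, hX⟩ := SmallBlock.exists_local_rep (G := G) hM hχ
  let XC : G →* Matrix (Fin (Cfsg.charDegree χ)) (Fin (Cfsg.charDegree χ)) ℂ :=
    (lring M).subtype.mapMatrix.toMonoidHom.comp X
  let ρ : Representation ℂ G (Fin (Cfsg.charDegree χ) → ℂ) :=
    (Matrix.toLinAlgEquiv' : Matrix _ _ ℂ ≃ₐ[ℂ] _).toMonoidHom.comp XC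
  let σ : Representation ℂ H (Fin (Cfsg.charDegree χ) → ℂ) := ρ.comp H.subtype
  have hρ : ρ.character = χ := funext fun g => by
    rw [hX g]
    exact Matrix.trace_toLin'_eq (XC g)
  have h1 := Char.classInner_char_eq_finrank ρ ρ
  have h2 := Char.classInner_char_eq_finrank σ σ
  rw [hρ] at h1
  rw [show σ.character = fun h : H => χ h from funext fun h =>
    (show σ.character h = ρ.character (h : G) from rfl).trans (congrFun hρ _)] at h2
  rw [h1, h2, Nat.cast_inj]
  let F : Representation.IntertwiningMap ρ ρ →ₗ[ℂ] Representation.IntertwiningMap σ σ :=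
    { toFun := fun a => ⟨a.toLinearMap, fun h => a.isIntertwining' h⟩
      map_add' := fun _ _ => rfl
      map_smul' := fun _ _ => rfl }
  refine (LinearEquiv.ofBijective F ⟨?_, ?_⟩).finrank_eq
  · intro a b hab
    refine DFunLike.ext _ _ fun v => ?_
    exact congrArg (fun c : Representation.IntertwiningMap σ σ => c.toLinearMap v) hab
  · intro b
    refine ⟨⟨b.toLinearMap, fun g => ?_⟩, rfl⟩
    set f := LinearMap.toMatrix' b.toLinearMap with hf
    have hbf : Matrix.toLinAlgEquiv' f = b.toLinearMap := Matrix.toLin'_toMatrix' _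
    have key := commutant_eq hM P hTI H hH hdeg X f (fun h hh => by
      refine Matrix.toLinAlgEquiv'.injective ?_
      rw [map_mul, map_mul, hbf]
      exact (b.isIntertwining' ⟨h, hh⟩).symm) g
    have h3 := congrArg Matrix.toLinAlgEquiv' key
    rw [map_mul, map_mul, hbf] at h3
    exact h3.symm

end CfsgLib.BlockB.SmallTI
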