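import Cfsg.Agent.Lib.Solvable.SchurZassenhaus
import Mathlib.Algebra.Group.Conj
import Mathlib.GroupTheory.Complement
import Mathlib.Tactic

/-!
# Conjugacy classes of a split extension by an abelian group of coprime order
-/

namespace CfsgLib.BlockB

open scoped Pointwise

universe u

variable {X : Type u} [Group X] [Finite X] {V G : Subgroup X} [V.Normal]

/-- An element of order dividing that of the complement is conjugate into it. -/
theorem exists_conj_mem_complement (hab : ∀ a ∈ V, ∀ b ∈ V, a * b = b * a)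
    (hGV : Subgroup.IsComplement' V G) (hcop : (Nat.card V).Coprime (Nat.card G)) {y : X}
    (hy : orderOf y ∣ Nat.card G) : ∃ w ∈ V, w * y * w⁻¹ ∈ G := by
  set U := V ⊔ Subgroup.zpowers y with hU
  have hVU : V ≤ U := le_sup_left
  have hyU : Subgroup.zpowers y ≤ U := le_sup_right
  have : IsMulCommutative (V.subgroupOf U) := ⟨⟨fun a b =>
    Subtype.ext (Subtype.ext (hab _ a.2 _ b.2))⟩⟩
  have hd1 : ∀ x ∈ V, x ∈ Subgroup.zpowers y → x = 1 := fun x hx hx' => by
    refine orderOf_eq_one_iff.1 (Nat.dvd_one.1 (hcop.gcd_eq_one ▸ Nat.dvd_gcd ?_ ?_))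
    · rw [← Subgroup.orderOf_mk x hx]; exact orderOf_dvd_natCard _
    · exact (orderOf_dvd_of_mem_zpowers hx').trans hy
  have hc1 : Subgroup.IsComplement' (V.subgroupOf U) ((Subgroup.zpowers y).subgroupOf U) := by
    refine Subgroup.isComplement'_of_disjoint_and_mul_eq_univ ?_ ?_
    · rw [Subgroup.disjoint_def]
      exact fun {x} hx hx' => Subtype.ext (hd1 _ hx hx')
    · refine Set.eq_univ_of_forall fun u => ?_
      have hu : (u : X) ∈ ((V ⊔ Subgroup.zpowers y : Subgroup X) : Set X) := u.2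
      rw [Subgroup.normal_mul] at hu
      obtain ⟨a, ha, b, hb, hab'⟩ := Set.mem_mul.1 hu
      exact Set.mem_mul.2 ⟨⟨a, hVU ha⟩, ha, ⟨b, hyU hb⟩, hb, Subtype.ext hab'⟩
  have hc2 : Subgroup.IsComplement' (V.subgroupOf U) (G.subgroupOf U) := by
    refine Subgroup.isComplement'_of_disjoint_and_mul_eq_univ ?_ ?_
    · rw [Subgroup.disjoint_def]
      exact fun {x} hx hx' => Subtype.ext (Subgroup.disjoint_def.1 hGV.disjoint hx hx')
    · refine Set.eq_univ_of_forall fun u => ?_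
      obtain ⟨⟨⟨a, ha⟩, ⟨b, hb⟩⟩, hab'⟩ := hGV.surjective (u : X)
      have hbU : b ∈ U := by
        have : a⁻¹ * (u : X) ∈ U := U.mul_mem (U.inv_mem (hVU ha)) u.2
        rwa [← hab', inv_mul_cancel_left] at this
      exact Set.mem_mul.2 ⟨⟨a, hVU ha⟩, ha, ⟨b, hbU⟩, hb, Subtype.ext hab'⟩
  have hcopU : (Nat.card (V.subgroupOf U)).Coprime (V.subgroupOf U).index := by
    rw [hc2.symm.index_eq_card]
    refine (hcop.coprime_dvd_left ?_).coprime_dvd_right ?_
    · rw [Nat.card_congr (Subgroup.subgroupOfEquivOfLe hVU).toEquiv]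
    · exact Subgroup.card_dvd_of_injective
        (⟨⟨fun x => ⟨((x : U) : X), x.2⟩, rfl⟩, fun _ _ => rfl⟩ : G.subgroupOf U →* G)
        fun a b h => Subtype.ext (Subtype.ext (congrArg (fun z : G => (z : X)) h))
  obtain ⟨a, ha, he⟩ := CfsgLib.Solvable.exists_conj_eq_of_isComplement'_abelian hcopU hc1 hc2
  refine ⟨a, ha, ?_⟩
  have hmem : MulAut.conj a • (⟨y, hyU (Subgroup.mem_zpowers y)⟩ : U) ∈
      MulAut.conj a • (Subgroup.zpowers y).subgroupOf U :=
    Subgroup.smul_mem_pointwise_smul _ _ _ (Subgroup.mem_zpowers y)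
  rw [he] at hmem
  exact hmem

/-- Every element is the product of commuting parts in `V` and of complementary order. -/
theorem exists_commuting_parts (hGV : Subgroup.IsComplement' V G)
    (hcop : (Nat.card V).Coprime (Nat.card G)) (x : X) :
    ∃ v y : X, v ∈ V ∧ orderOf y ∣ Nat.card G ∧ v * y = y * v ∧ v * y = x := by
  have hX : Nat.card V * Nat.card G = Nat.card X := hGV.card_mul_card
  obtain ⟨b, hb1, hb2⟩ := Nat.chineseRemainder hcop 0 1
  obtain ⟨a, ha1, ha2⟩ := Nat.chineseRemainder hcop 1 0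
  refine ⟨x ^ a, x ^ b, ?_, ?_, (Commute.refl x).pow_pow a b, ?_⟩
  · obtain ⟨c, hc⟩ := Nat.modEq_zero_iff_dvd.1 ha2
    rw [hc, pow_mul, ← hGV.symm.index_eq_card]
    exact pow_mem (V.pow_index_mem x) c
  · refine orderOf_dvd_of_pow_eq_one ?_
    obtain ⟨c, hc⟩ := Nat.modEq_zero_iff_dvd.1 hb1
    rw [hc, ← pow_mul, mul_right_comm, hX, pow_mul, pow_card_eq_one', one_pow]
  · rw [← pow_add]
    conv_rhs => rw [← pow_one x]
    refine pow_eq_pow_iff_modEq.2 (Nat.ModEq.of_dvd (orderOf_dvd_natCard x) ?_)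
    rw [← hX]
    exact (Nat.modEq_and_modEq_iff_modEq_mul hcop).1
      ⟨by simpa using ha1.add hb1, by simpa using ha2.add hb2⟩

/-- Every element is conjugate to a product of commuting elements of `V` and of the complement. -/
theorem exists_conj_pair (hab : ∀ a ∈ V, ∀ b ∈ V, a * b = b * a)
    (hGV : Subgroup.IsComplement' V G) (hcop : (Nat.card V).Coprime (Nat.card G)) (x : X) :
    ∃ v g : X, v ∈ V ∧ g ∈ G ∧ v * g = g * v ∧ IsConj x (v * g) := by
  obtain ⟨v, y, hv, hy, hc, rfl⟩ := exists_commuting_parts hGV hcop x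
  obtain ⟨w, hw, hwy⟩ := exists_conj_mem_complement hab hGV hcop hy
  have hwv : w * v * w⁻¹ = v := by rw [hab w hw v hv, mul_inv_cancel_right]
  refine ⟨v, w * y * w⁻¹, hv, hwy, ?_, isConj_iff.2 ⟨w, ?_⟩⟩
  · calc v * (w * y * w⁻¹) = (w * v * w⁻¹) * (w * y * w⁻¹) := by rw [hwv]
      _ = w * (v * y) * w⁻¹ := by group
      _ = (w * y * w⁻¹) * (w * v * w⁻¹) := by rw [hc]; group
      _ = (w * y * w⁻¹) * v := by rw [hwv]
  · calc w * (v * y) * w⁻¹ = (w * v * w⁻¹) * (w * y * w⁻¹) := by group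
      _ = v * (w * y * w⁻¹) := by rw [hwv]

/-- Conjugate commuting pairs are conjugate under the complement. -/
theorem exists_conj_in_complement (hab : ∀ a ∈ V, ∀ b ∈ V, a * b = b * a)
    (hGV : Subgroup.IsComplement' V G) (hcop : (Nat.card V).Coprime (Nat.card G))
    {v g v' g' : X} (hv : v ∈ V) (hg : g ∈ G) (hvg : v * g = g * v) (hv' : v' ∈ V)
    (hg' : g' ∈ G) (hvg' : v' * g' = g' * v') (h : IsConj (v * g) (v' * g')) :
    ∃ k ∈ G, k * v * k⁻¹ = v' ∧ k * g * k⁻¹ = g' := by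
  obtain ⟨t, ht⟩ := isConj_iff.1 h
  obtain ⟨b, hb1, hb2⟩ := Nat.chineseRemainder hcop 0 1
  have key : ∀ {v g : X}, v ∈ V → g ∈ G → v * g = g * v → (v * g) ^ b = g := by
    intro v g hv hg hvg
    rw [(show Commute v g from hvg).mul_pow]
    have h1 : v ^ b = 1 := by
      refine orderOf_dvd_iff_pow_eq_one.1 (dvd_trans ?_ (Nat.modEq_zero_iff_dvd.1 hb1))
      rw [← Subgroup.orderOf_mk v hv]; exact orderOf_dvd_natCard _
    have h2 : g ^ b = g := by
      conv_rhs => rw [← pow_one g]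
      refine pow_eq_pow_iff_modEq.2 (hb2.of_dvd ?_)
      rw [← Subgroup.orderOf_mk g hg]; exact orderOf_dvd_natCard _
    rw [h1, h2, one_mul]
  have hg2 : t * g * t⁻¹ = g' := by
    have h3 := congrArg (· ^ b) ht
    simp only [conj_pow, key hv hg hvg, key hv' hg' hvg'] at h3
    exact h3
  have hv2 : t * v * t⁻¹ = v' := by
    have : t * v * t⁻¹ * g' = v' * g' := by
      rw [← ht]; conv_lhs => rw [← hg2]
      group
    exact mul_right_cancel this
  obtain ⟨⟨⟨w, hw⟩, ⟨k, hk⟩⟩, rfl⟩ := hGV.surjective t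
  refine ⟨k, hk, ?_, ?_⟩
  · have hkv : k * v * k⁻¹ ∈ V := (inferInstance : V.Normal).conj_mem v hv k
    have h4 : w * (k * v * k⁻¹) * w⁻¹ = k * v * k⁻¹ := by
      rw [hab w hw _ hkv, mul_inv_cancel_right]
    rw [← hv2, ← h4]
    group
  · have hz : k * g * k⁻¹ ∈ G := G.mul_mem (G.mul_mem hk hg) (G.inv_mem hk)
    set z := k * g * k⁻¹ with hzdef
    have he : w * z * w⁻¹ = g' := by rw [← hg2, hzdef]; group
    have hm : g' * z⁻¹ ∈ V := by
      rw [← he, show w * z * w⁻¹ * z⁻¹ = w * (z * w⁻¹ * z⁻¹) by group]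
      exact V.mul_mem hw ((inferInstance : V.Normal).conj_mem _ (V.inv_mem hw) z)
    have := Subgroup.disjoint_def.1 hGV.disjoint hm (G.mul_mem hg' (G.inv_mem hz))
    exact (mul_inv_eq_one.1 this).symm

end CfsgLib.BlockB
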