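import Cfsg.Agent.Lib.Block.KerNormal
import Cfsg.Agent.Lib.Block.PSolvable
import Cfsg.Agent.Lib.BlockA.PrincipalType
import Cfsg.Agent.Lib.BlockB.PrincipalKer
import Cfsg.Agent.Lib.BlockB.RelDegreeGraph
import Cfsg.Agent.Lib.Char.Column
import Cfsg.Agent.Lib.Char.Induce
import Cfsg.Agent.Lib.ClassK.Kulakov
import Cfsg.Agent.Lib.Clifford.Constituents
import Cfsg.Agent.Lib.Comp.PComponent
import Cfsg.Agent.Lib.StructC.PSolvableQuot
import Mathlib.GroupTheory.Frattini

/-!
Groups solvable for two primes: Tate's argument inside a quotient without `p'`-core, and the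
principal block as the characters trivial on that core.
-/

set_option autoImplicit false
set_option linter.unusedSectionVars false

namespace CfsgLib.BlockB.TwoPrimeBlocks

open CfsgLib
open scoped commutatorElement Pointwise

universe u

variable {G : Type u} [Group G] [Finite G]

/-- The kernel of the character contains the subgroup. -/
def Triv (K : Subgroup G) (χ : G → ℂ) : Prop := ∀ n ∈ K, χ n = χ 1

theorem principal_iff {p : ℕ} [Fact p.Prime] {M : Ideal Cfsg.AlgInt} (hM : Cfsg.IsPModular p M)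
    (hsolv : Cfsg.IsPSolvable p G) (χ : Cfsg.IrrCharacter G) :
    χ ∈ Cfsg.principalBlock M G ↔ Triv (Cfsg.pPrimeCore p G) (χ : G → ℂ) := by
  classical
  have hp := (Fact.out : p.Prime)
  have := CfsgLib.Block.isPrime_of_pmodular hM
  have := Fintype.ofFinite G
  set K := Cfsg.pPrimeCore p G with hKdef
  have hKn : K.Normal := Solvable.pPrimeCore_normal p G
  have := Fintype.ofFinite K
  have hKc : (Nat.card K).Coprime p := Solvable.pPrimeCore_coprime p
  have hsq : Cfsg.IsPSolvable p (G ⧸ K) := StructC.isPSolvable_quotient K hsolv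
  have hcore : Cfsg.pPrimeCore p (G ⧸ K) = ⊥ := Comp.pPrimeCore_quotient_eq_bot p G
  have hcons := CfsgLib.Block.centralizer_pCore_le_of_isPSolvable hsq hcore
  obtain ⟨B, hB, hBmem, -, -, -⟩ := BlockA.principalType (K := K) hM hcons hKc
    CfsgLib.Block.trivIrr (fun g => CfsgLib.Block.conjIrr_trivIrr g)
  have hB0 : B = Cfsg.principalBlock M G := by
    refine CfsgLib.Block.isPBlock_eq_of_mem hB CfsgLib.Block.isPBlock_principalBlock
      ((hBmem ⟨fun _ => 1, CfsgLib.Char.isIrrCharacter_one⟩).2 ?_)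
      CfsgLib.Block.one_mem_principalBlock
    exact (CfsgLib.Block.le_kerIrr_iff_constituent _).1 fun x _ => rfl
  rw [← hB0, hBmem, ← CfsgLib.Block.le_kerIrr_iff_constituent]
  rfl

/-- The linear characters separate the points of an abelian group. -/
theorem eq_one_of_forall_hom {A : Type u} [Group A] [Finite A] (hA : ∀ a b : A, a * b = b * a)
    {a : A} (h : ∀ l : A →* ℂˣ, l a = 1) : a = 1 := by
  classical
  have := Fintype.ofFinite A
  have := Fintype.ofFinite (Cfsg.IrrCharacter A)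
  by_contra hne
  have h1 := Char.sum_irr_mul_degree a
  rw [if_neg hne, Finset.sum_congr rfl (g := fun _ => (1 : ℂ)) (fun χ _ => by
    have hd := Char.irr_degree_one_of_comm hA χ.2
    obtain ⟨l, hl⟩ := Char.exists_hom_of_degree_one (Char.irr_isCharacter χ.2) hd
    rw [hl]; simp [h l])] at h1
  rw [Finset.sum_const, Finset.card_univ, nsmul_eq_mul, mul_one, Nat.cast_eq_zero] at h1
  have : Nonempty (Cfsg.IrrCharacter A) := ⟨⟨fun _ => 1, Char.isIrrCharacter_one⟩⟩
  exact Fintype.card_ne_zero h1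

/-- An induced character of degree prime to `p` has a constituent of degree prime to `p`. -/
theorem exists_prime_over {p : ℕ} (hp : p.Prime) [Fintype G] (J : Subgroup G) [Fintype J]
    {η : J → ℂ} (hη : Cfsg.IsIrrCharacter J η) (h1 : ¬ p ∣ J.index)
    (h2 : ¬ p ∣ Cfsg.charDegree η) :
    ∃ χ : Cfsg.IrrCharacter G, ¬ p ∣ Cfsg.charDegree (χ : G → ℂ) ∧
      Cfsg.classInner (fun j : J => (χ : G → ℂ) j) η ≠ 0 := by
  classical
  have := Fintype.ofFinite (Cfsg.IrrCharacter G)
  have hF := Char.isCharacter_indFun J (Char.irr_isCharacter hη)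
  choose a ha using fun χ : Cfsg.IrrCharacter G =>
    Char.classInner_isCharacter_nat hF (Char.irr_isCharacter χ.2)
  by_contra hcon
  push Not at hcon
  refine hp.not_dvd_mul h1 h2 ?_
  have e : J.index * Cfsg.charDegree η = ∑ χ, a χ * Cfsg.charDegree (χ : G → ℂ) := by
    have h := Char.classFunction_apply_eq_sum (Char.isCharacter_isClassFunction hF) 1
    rw [Char.indFun_apply_one, ← BlockB.charDegree_cast (Char.irr_isCharacter hη)] at h
    simp only [ha, ← BlockB.irr_degree_cast] at h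
    exact_mod_cast h
  rw [e]
  refine Finset.dvd_sum fun χ _ => ?_
  by_cases h : p ∣ Cfsg.charDegree (χ : G → ℂ)
  · exact h.mul_left _
  · have h0 := hcon χ h
    have e0 : Cfsg.classInner (Cfsg.indFun J η) (χ : G → ℂ) = 0 := by
      rw [Char.frobenius_reciprocity J η _ (Char.irr_isClassFunction χ.2),
        ← Char.classInner_conj_symm, h0, map_zero]
    rw [ha, Nat.cast_eq_zero] at e0
    simp [e0]

/-- Constituents below constituents. -/
theorem constituent_trans [Fintype G] {J K : Subgroup G} [Fintype J] [Fintype K] (hKJ : K ≤ J)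
    {χ : G → ℂ} {η : J → ℂ} {θ : K → ℂ} (hχ : Cfsg.IsIrrCharacter G χ)
    (hη : Cfsg.IsIrrCharacter J η) (hθ : Cfsg.IsIrrCharacter K θ)
    (h1 : Cfsg.classInner (fun j : J => χ j) η ≠ 0)
    (h2 : (fun k : K => η (Subgroup.inclusion hKJ k)) = θ) :
    Cfsg.classInner (fun k : K => χ k) θ ≠ 0 := by
  obtain ⟨R, hR, hRe⟩ := Clifford.exists_add_of_constituent
    (Char.isCharacter_restrict (Char.irr_isCharacter hχ) J) hη h1
  obtain ⟨n, hn⟩ := Char.classInner_isCharacter_nat
    (show Cfsg.IsCharacter K (R ∘ Subgroup.inclusion hKJ) from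
      Char.isCharacter_comp hR (Subgroup.inclusion hKJ)) (Char.irr_isCharacter hθ)
  rw [show (fun k : K => χ k) = θ + R ∘ Subgroup.inclusion hKJ from funext fun k => by
    rw [← h2]; exact congrFun hRe (Subgroup.inclusion hKJ k),
    Char.classInner_add_left, Char.irr_classInner_self hθ, hn]
  intro h
  have : ((1 + n : ℕ) : ℂ) = 0 := by push_cast; exact h
  exact absurd (Nat.cast_eq_zero.1 this) (by omega)

/-- A Sylow subgroup equal to its derived subgroup is trivial. -/
theorem eq_bot_of_le_commutator {p : ℕ} [Fact p.Prime] {P : Subgroup G} (hP : IsPGroup p P)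
    (T : Subgroup G) (hT : T ≤ P)
    (h : ∀ x ∈ P, ∃ t ∈ T, t⁻¹ * x ∈ (commutator P).map P.subtype) : P ≤ T := by
  have htop : T.subgroupOf P ⊔ frattini P = ⊤ := by
    refine eq_top_iff.2 fun ⟨x, hx⟩ _ => ?_
    obtain ⟨t, ht, c, hc, hct⟩ := h x hx
    have e : (⟨x, hx⟩ : P) = ⟨t, hT ht⟩ * c := Subtype.ext (by
      rw [Subgroup.coe_mul, show (c : G) = t⁻¹ * x from hct, mul_inv_cancel_left])
    rw [e]
    exact Subgroup.mul_mem_sup ht (ClassK.Kulakov.commutator_le_frattini hP hc)
  exact Subgroup.subgroupOf_eq_top.1 (frattini_nongenerating htop)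

/-- Tate's argument: without `p'`-core, a normal subgroup meeting the Sylow subgroups inside
their derived subgroups is a `p`-group. -/
theorem isPGroup_of_inf_le_commutator {p : ℕ} [Fact p.Prime] (hs : Cfsg.IsPSolvable p G)
    (hcore : Cfsg.pPrimeCore p G = ⊥) (L : Subgroup G) [L.Normal]
    (h : ∀ P : Sylow p G, ∀ x ∈ (P : Subgroup G), x ∈ L →
      x ∈ (commutator (P : Subgroup G)).map (P : Subgroup G).subtype) :
    IsPGroup p L := by
  classical
  have hp := (Fact.out : p.Prime)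
  suffices hs' : ∀ s : ℕ, s.Prime → s ∣ Nat.card L → s = p by
    refine IsPGroup.of_card (n := (Nat.card L).factorization p) ?_
    have h0 := Nat.eq_prime_pow_of_unique_prime_dvd Nat.card_pos.ne' fun {d} hd hdvd => hs' d hd hdvd
    rw [h0, Nat.Prime.factorization_pow hp, Finsupp.single_eq_same]
  intro s hs1 hsd
  by_contra hne
  have : Fact s.Prime := ⟨hs1⟩
  let S : Sylow s L := default
  let S' : Subgroup G := (S : Subgroup L).map L.subtype
  let N : Subgroup G := Subgroup.normalizer (S' : Set G)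
  have hNL : N ⊔ L = ⊤ := Sylow.normalizer_sup_eq_top S
  let π : N →* G ⧸ L := (QuotientGroup.mk' L).comp N.subtype
  have hπ : Function.Surjective π := by
    intro y
    obtain ⟨g, rfl⟩ := QuotientGroup.mk'_surjective L y
    obtain ⟨n, hn, l, hl, rfl⟩ : g ∈ (N : Set G) * (L : Set G) := by
      rw [← Subgroup.mul_normal N L, hNL]; exact Subgroup.mem_top g
    refine ⟨⟨n, hn⟩, ?_⟩
    show QuotientGroup.mk' L n = QuotientGroup.mk' L (n * l)
    rw [map_mul, show QuotientGroup.mk' L l = 1 from (QuotientGroup.eq_one_iff l).2 hl, mul_one]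
  let T : Sylow p N := default
  obtain ⟨P, hTP⟩ := (T.2.map N.subtype).exists_le_sylow
  let Tq := T.mapSurjective hπ
  have hPq : (P : Subgroup G).map (QuotientGroup.mk' L) = Tq := by
    refine Tq.3 (P.2.map _) ?_
    rintro _ ⟨t, ht, rfl⟩
    exact ⟨t, hTP ⟨t, ht, rfl⟩, rfl⟩
  have hPN : (P : Subgroup G) ≤ N := by
    refine (eq_bot_of_le_commutator P.2 ((T : Subgroup N).map N.subtype) hTP fun x hx => ?_).trans
      (Subgroup.map_subtype_le _)
    obtain ⟨t, ht, htx⟩ : QuotientGroup.mk' L x ∈ (Tq : Subgroup (G ⧸ L)) :=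
      hPq ▸ ⟨x, hx, rfl⟩
    refine ⟨t, ⟨t, ht, rfl⟩, h P _ (P.1.mul_mem (P.1.inv_mem (hTP ⟨t, ht, rfl⟩)) hx) ?_⟩
    exact QuotientGroup.eq.1 htx
  -- `S` centralises the core
  have hR := Solvable.pCore_normal p G
  have hSp : IsPGroup s S' := S.2.map _
  have hdisj : Disjoint (Cfsg.pCore p G) S' :=
    IsPGroup.disjoint_of_ne p s (Ne.symm hne) _ _ (Solvable.pCore_isPGroup p) hSp
  have hSle : S' ≤ Cfsg.pCore p G := by
    refine le_trans ?_ (CfsgLib.Block.centralizer_pCore_le_of_isPSolvable hs hcore)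
    intro x hx
    refine Subgroup.mem_centralizer_iff.2 fun r hr => ?_
    have hrN : r ∈ N := hPN (Solvable.pCore_le_sylow P hr)
    have h1 : r * x * r⁻¹ * x⁻¹ ∈ Cfsg.pCore p G := by
      have := (Cfsg.pCore p G).mul_mem hr (hR.conj_mem _ ((Cfsg.pCore p G).inv_mem hr) x)
      convert this using 1
      group
    have h2 : r * x * r⁻¹ * x⁻¹ ∈ S' :=
      S'.mul_mem ((Subgroup.mem_normalizer_iff.1 hrN x).1 hx) (S'.inv_mem hx)
    have h3 := Subgroup.disjoint_def.1 hdisj h1 h2
    rw [mul_inv_eq_one, mul_inv_eq_iff_eq_mul] at h3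
    exact h3
  have hSbot : S' = ⊥ := (inf_eq_right.2 hSle).symm.trans (disjoint_iff.1 hdisj)
  refine S.ne_bot_of_dvd_card hsd ?_
  exact (Subgroup.map_eq_bot_iff_of_injective _ L.subtype_injective).1 hSbot

/-- The image in `G / O_{p'}(G)` of a normal subgroup above `M`, with index prime to `p`, is a
`p`-group meeting Sylow subgroups inside their derived subgroups. -/
theorem above_core {p q : ℕ} [Fact p.Prime] (hps : Cfsg.IsPSolvable p G)
    (h : ∀ χ : Cfsg.IrrCharacter G, Triv (Cfsg.pPrimeCore p G) (χ : G → ℂ) →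
      ¬ p ∣ Cfsg.charDegree (χ : G → ℂ) → Triv (Cfsg.pPrimeCore q G) (χ : G → ℂ))
    (K : Subgroup G) [K.Normal] (hK : Cfsg.pPrimeCore p G ⊔ Cfsg.pPrimeCore q G ≤ K)
    (hcop : ((Cfsg.pPrimeCore p G ⊔ Cfsg.pPrimeCore q G).relIndex K).Coprime p) :
    K = Cfsg.pPrimeCore p G ⊔ Cfsg.pPrimeCore q G ∧ (p ∣ Nat.card G → K ≠ ⊤) := by
  classical
  have hp := (Fact.out : p.Prime)
  have := Fintype.ofFinite G
  have hKpn := Solvable.pPrimeCore_normal p G
  have hKqn := Solvable.pPrimeCore_normal q G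
  set M := Cfsg.pPrimeCore p G ⊔ Cfsg.pPrimeCore q G with hM
  have : M.Normal := inferInstance
  set X := G ⧸ Cfsg.pPrimeCore p G
  let π : G →* X := QuotientGroup.mk' (Cfsg.pPrimeCore p G)
  have hπ : Function.Surjective π := QuotientGroup.mk'_surjective _
  have hker : π.ker = Cfsg.pPrimeCore p G := QuotientGroup.ker_mk' _
  have : (M.map π).Normal := (inferInstance : M.Normal).map π hπ
  have : (K.map π).Normal := (inferInstance : K.Normal).map π hπ
  have hrel : (M.map π).relIndex (K.map π) = M.relIndex K := by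
    rw [Subgroup.relIndex_map_map, hker, sup_eq_left.2 le_sup_left,
      sup_eq_left.2 (le_sup_left.trans hK)]
  have hcomm : ∀ P : Sylow p X, ∀ x ∈ (P : Subgroup X), x ∈ K.map π →
      x ∈ (commutator (P : Subgroup X)).map (P : Subgroup X).subtype := by
    intro P x hx hxK
    have := Fintype.ofFinite (P : Subgroup X)
    -- `x` lies in the image of `M`
    have hxM : x ∈ M.map π := by
      obtain ⟨k, hk⟩ := P.2 ⟨x, hx⟩
      rw [← QuotientGroup.eq_one_iff (N := M.map π), ← orderOf_eq_one_iff]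
      refine Nat.eq_one_of_dvd_coprimes (hcop.pow_right k) ?_ (orderOf_dvd_of_pow_eq_one
        (by rw [← QuotientGroup.mk_pow, show x ^ p ^ k = 1 from congrArg Subtype.val hk,
          QuotientGroup.mk_one]))
      have e := Subgroup.relIndex_ker (K.map π) (QuotientGroup.mk' (M.map π))
      rw [QuotientGroup.ker_mk'] at e
      rw [← hrel, e]
      have hmem : (x : X ⧸ M.map π) ∈ (K.map π).map (QuotientGroup.mk' (M.map π)) := ⟨x, hxK, rfl⟩
      rw [← Subgroup.orderOf_mk _ hmem]
      exact orderOf_dvd_natCard _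
    by_contra hxc
    let c : (P : Subgroup X) →* (P : Subgroup X) ⧸ commutator (P : Subgroup X) := QuotientGroup.mk' _
    have hne : c ⟨x, hx⟩ ≠ 1 := fun e => hxc ⟨⟨x, hx⟩, (QuotientGroup.eq_one_iff _).1 e, rfl⟩
    refine hne (eq_one_of_forall_hom (fun a b => ?_) fun l => ?_)
    · obtain ⟨a, rfl⟩ := QuotientGroup.mk'_surjective _ a
      obtain ⟨b, rfl⟩ := QuotientGroup.mk'_surjective _ b
      rw [← map_mul, ← map_mul, QuotientGroup.mk'_eq_mk']
      refine ⟨(a * b)⁻¹ * (b * a), ?_, by group⟩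
      have := Subgroup.commutator_mem_commutator (Subgroup.mem_top b⁻¹) (Subgroup.mem_top a⁻¹)
      rw [commutator_def]
      convert this using 1
      rw [commutatorElement_def]; group
    let μ : (P : Subgroup X) →* ℂˣ := l.comp c
    have hμ : Cfsg.IsIrrCharacter (P : Subgroup X) (fun y => (μ y : ℂ)) :=
      Char.isIrrCharacter_linear μ
    obtain ⟨ψ, hψd, hψ⟩ := exists_prime_over hp (P : Subgroup X) hμ P.not_dvd_index (by
      have h1 := BlockB.charDegree_cast (Char.irr_isCharacter hμ)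
      rw [map_one, Units.val_one] at h1
      rw [show Cfsg.charDegree (fun y => (μ y : ℂ)) = 1 by exact_mod_cast h1]
      exact hp.not_dvd_one)
    let χ : Cfsg.IrrCharacter G := ⟨_, Char.isIrrCharacter_comp_surjective ψ.2 π hπ⟩
    have hdeg : Cfsg.charDegree (χ : G → ℂ) = Cfsg.charDegree (ψ : X → ℂ) := by
      have h1 : (χ : G → ℂ) 1 = (ψ : X → ℂ) 1 := congrArg (ψ : X → ℂ) (map_one π)
      rw [← BlockB.charDegree_cast (Char.irr_isCharacter χ.2),
        ← BlockB.charDegree_cast (Char.irr_isCharacter ψ.2)] at h1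
      exact_mod_cast h1
    have hp0 : Triv (Cfsg.pPrimeCore p G) (χ : G → ℂ) := fun n hn => by
      show (ψ : X → ℂ) (π n) = (ψ : X → ℂ) (π 1)
      rw [show π n = 1 from (QuotientGroup.eq_one_iff n).2 hn, map_one]
    have hq0 := h χ hp0 (by rw [hdeg]; exact hψd)
    obtain ⟨m, hm, rfl⟩ := hxM
    have hker' : M ≤ CfsgLib.Block.kerIrr χ := sup_le hp0 hq0
    have hval : (ψ : X → ℂ) (π m) = (ψ : X → ℂ) 1 := by
      have := CfsgLib.Block.mem_kerIrr.1 (hker' hm)
      simpa [χ] using this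
    have h2 := Clifford.constituent_eq_one (Char.isCharacter_restrict (Char.irr_isCharacter ψ.2) _)
      hμ hψ (a := ⟨π m, hx⟩) hval
    rw [map_one, Units.val_one] at h2
    exact Units.ext h2
  have hsX : Cfsg.IsPSolvable p X := StructC.isPSolvable_quotient _ hps
  have hcX : Cfsg.pPrimeCore p X = ⊥ := Comp.pPrimeCore_quotient_eq_bot p G
  have hKp := isPGroup_of_inf_le_commutator hsX hcX (K.map π) hcomm
  refine ⟨le_antisymm (Subgroup.relIndex_eq_one.1 ?_) hK, fun hpG htop => ?_⟩
  · obtain ⟨n, hn⟩ := hKp.exists_card_eq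
    refine Nat.eq_one_of_dvd_coprimes (hcop.pow_right n) dvd_rfl ?_
    rw [← hrel, ← hn]
    exact Subgroup.index_dvd_card _
  · let P : Sylow p X := default
    have hP : (P : Subgroup X) ≤ ⊥ := eq_bot_of_le_commutator P.2 ⊥ bot_le fun x hx =>
      ⟨1, Subgroup.mem_bot.2 rfl, by
        rw [inv_one, one_mul]
        refine hcomm P x hx ?_
        rw [htop, Subgroup.map_top_of_surjective π hπ]; exact Subgroup.mem_top x⟩
    refine P.ne_bot_of_dvd_card ?_ (le_bot_iff.1 hP)
    have hcard := Subgroup.card_eq_card_quotient_mul_card_subgroup (Cfsg.pPrimeCore p G)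
    rw [hcard] at hpG
    rcases hp.dvd_mul.1 hpG with h1 | h1
    · exact h1
    · exact absurd h1 (hp.coprime_iff_not_dvd.1 (Solvable.pPrimeCore_coprime p).symm)

/-- **Equal sets of height-zero principal characters.** -/
theorem eq_of_same {p q : ℕ} [Fact p.Prime] [Fact q.Prime] (hp : p ∣ Nat.card G)
    (hps : Cfsg.IsPSolvable p G) (hqs : Cfsg.IsPSolvable q G)
    (h : ∀ χ : Cfsg.IrrCharacter G,
      (Triv (Cfsg.pPrimeCore p G) (χ : G → ℂ) ∧ ¬ p ∣ Cfsg.charDegree (χ : G → ℂ)) ↔
      (Triv (Cfsg.pPrimeCore q G) (χ : G → ℂ) ∧ ¬ q ∣ Cfsg.charDegree (χ : G → ℂ))) : p = q := by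
  by_contra hne
  have hKpn := Solvable.pPrimeCore_normal p G
  have hKqn := Solvable.pPrimeCore_normal q G
  set M := Cfsg.pPrimeCore p G ⊔ Cfsg.pPrimeCore q G with hM
  have : M.Normal := inferInstance
  have hpp : ∀ χ : Cfsg.IrrCharacter G, Triv (Cfsg.pPrimeCore p G) (χ : G → ℂ) →
      ¬ p ∣ Cfsg.charDegree (χ : G → ℂ) → Triv (Cfsg.pPrimeCore q G) (χ : G → ℂ) :=
    fun χ h1 h2 => ((h χ).1 ⟨h1, h2⟩).1
  have hqq : ∀ χ : Cfsg.IrrCharacter G, Triv (Cfsg.pPrimeCore q G) (χ : G → ℂ) →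
      ¬ q ∣ Cfsg.charDegree (χ : G → ℂ) → Triv (Cfsg.pPrimeCore p G) (χ : G → ℂ) :=
    fun χ h1 h2 => ((h χ).2 ⟨h1, h2⟩).1
  let π := QuotientGroup.mk' M
  have hMtop : M ≠ ⊤ := (above_core hps hpp M le_rfl (by
    rw [Subgroup.relIndex_self]; exact Nat.coprime_one_left p)).2 hp
  have hnt : Nontrivial (G ⧸ M) := QuotientGroup.nontrivial_iff.2 hMtop
  have hrel : ∀ J : Subgroup (G ⧸ M), M.relIndex (J.comap π) = Nat.card J := by
    intro J
    have e := Subgroup.relIndex_ker (J.comap π) π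
    rwa [QuotientGroup.ker_mk',
      Subgroup.map_comap_eq_self_of_surjective (QuotientGroup.mk'_surjective M) J] at e
  have hle : ∀ J : Subgroup (G ⧸ M), M ≤ J.comap π := fun J x hx => by
    show π x ∈ J
    rw [show π x = 1 from (QuotientGroup.eq_one_iff x).2 hx]
    exact J.one_mem
  have hbot : ∀ J : Subgroup (G ⧸ M), J.comap π = M → J = ⊥ := fun J e => by
    rw [← Subgroup.map_comap_eq_self_of_surjective (QuotientGroup.mk'_surjective M) J, e,
      QuotientGroup.map_mk'_self]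
  have h1 : Cfsg.pCore q (G ⧸ M) = ⊥ := by
    have := Solvable.pCore_normal q (G ⧸ M)
    refine hbot _ (above_core hps hpp _ (hle _) ?_).1
    rw [hrel]
    obtain ⟨n, hn⟩ := (Solvable.pCore_isPGroup (G := G ⧸ M) q).exists_card_eq
    rw [hn]
    exact ((Nat.coprime_primes Fact.out Fact.out).2 (Ne.symm hne)).pow_left n
  have h2 : Cfsg.pPrimeCore q (G ⧸ M) = ⊥ := by
    have := Solvable.pPrimeCore_normal q (G ⧸ M)
    have hc := (above_core (p := q) (q := p) hqs hqq
      ((Cfsg.pPrimeCore q (G ⧸ M)).comap π) (sup_comm (Cfsg.pPrimeCore p G) _ ▸ hle _) (by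
        rw [sup_comm, hrel]; exact Solvable.pPrimeCore_coprime q)).1
    exact hbot _ (hc.trans (sup_comm _ _))
  have h3 := CfsgLib.Block.centralizer_pCore_le_of_isPSolvable
    (StructC.isPSolvable_quotient M hqs) h2
  rw [h1] at h3
  obtain ⟨a, ha⟩ := exists_ne (1 : G ⧸ M)
  exact ha (Subgroup.mem_bot.1 (h3 (Subgroup.mem_centralizer_iff.2 fun z hz => by
    rw [Subgroup.mem_bot.1 hz, one_mul, mul_one])))

end CfsgLib.BlockB.TwoPrimeBlocks
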