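import Cfsg.Agent.Lib.BlockB.ItoPSolvable
import Cfsg.Agent.Lib.BlockB.RelDegreeGraph
import Cfsg.Agent.Lib.BlockB.TwoPrimeBlocks
import Cfsg.Agent.Lib.Clifford.DegreesOneP
import Cfsg.Agent.Lib.Clifford.TwoDegrees
import Cfsg.Agent.Lib.Comp.Local
import Cfsg.Agent.Lib.Coprime.Action
import Cfsg.Agent.Lib.Solvable.Frattini2
import Cfsg.Agent.Lib.Solvable.HallHigman
import Cfsg.Agent.Lib.StructC.RelIndex
import Mathlib.Algebra.Group.Action.End

/-!
Solvable groups with squarefree character degrees have derived length at most four.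
-/

set_option autoImplicit false
set_option linter.unusedSectionVars false

namespace CfsgLib.BlockB.SquarefreeDegrees

open CfsgLib
open scoped commutatorElement

universe u v

theorem dvd_prime_of_squarefree {p k n : ℕ} (hp : p.Prime) (hn : Squarefree n) (h : p ^ k ∣ n) :
    p ^ k ∣ p := by
  rcases k with _ | _ | k
  · simp
  · simp
  · exfalso
    exact hp.ne_one (Nat.isUnit_iff.1 (hn p (dvd_trans ⟨p ^ k, by ring⟩ h)))

/-- A faithful coprime `p`-group all of whose orbits have size at most `p` has order at most `p`. -/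
theorem card_dvd_prime {p : ℕ} [Fact p.Prime] {R : Type u} {V : Type v} [Group R] [Finite R]
    [CommGroup V] [Finite V] [MulDistribMulAction R V] (hR : IsPGroup p R)
    (hV : ¬ p ∣ Nat.card V) (h : ∀ a : V, (MulAction.stabilizer R a).index ∣ p)
    (hfaith : ∀ r : R, (∀ a : V, r • a = a) → r = 1) : Nat.card R ∣ p := by
  have hp := (Fact.out : p.Prime)
  have : Group.IsNilpotent R := hR.isNilpotent
  by_cases hall : ∀ a : V, MulAction.stabilizer R a = ⊤
  · have hsub : Subsingleton R := ⟨fun x y => by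
      rw [hfaith x fun a => MulAction.mem_stabilizer_iff.1 (hall a ▸ Subgroup.mem_top x),
        hfaith y fun a => MulAction.mem_stabilizer_iff.1 (hall a ▸ Subgroup.mem_top y)]⟩
    rw [Nat.card_unique]
    exact one_dvd p
  push Not at hall
  obtain ⟨a, ha⟩ := hall
  set M := MulAction.stabilizer R a with hM
  have hMi : M.index = p := ((Nat.dvd_prime hp).1 (h a)).resolve_left
    fun e => ha (Subgroup.index_eq_one.1 e)
  have hMn : M.Normal := Clifford.DegreesOneP.normal_of_prime_index hp hMi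
  have key : ∀ b : V, M ≤ MulAction.stabilizer R b := by
    intro b
    set M' := MulAction.stabilizer R b with hM'
    by_contra hle
    have hM'i : M'.index = p := ((Nat.dvd_prime hp).1 (h b)).resolve_left
      fun e => hle (le_of_le_of_eq le_top (Subgroup.index_eq_one.1 e).symm)
    obtain ⟨y, hyM, hyM'⟩ := SetLike.not_le_iff_exists.1 hle
    have hsup : M' ⊔ M = ⊤ := Clifford.DegreesOneP.eq_top_of_gt hp hM'i le_sup_left
      (Subgroup.mem_sup_right hyM) hyM'
    have hM'n : M'.Normal := Clifford.DegreesOneP.normal_of_prime_index hp hM'i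
    have hc : MulAction.stabilizer R (a * b) = M ⊓ M' := by
      refine le_antisymm (fun x hx => ?_) fun x hx => ?_
      swap
      · rw [MulAction.mem_stabilizer_iff, smul_mul', MulAction.mem_stabilizer_iff.1 hx.1,
          MulAction.mem_stabilizer_iff.1 hx.2]
      rw [MulAction.mem_stabilizer_iff, smul_mul'] at hx
      set d := x • a * a⁻¹ with hd
      have hd' : d = b * (x • b)⁻¹ := by
        rw [hd, eq_mul_inv_of_mul_eq hx, mul_assoc a b, mul_comm a, mul_inv_cancel_right]
      have hconj : ∀ (S : Subgroup R) (c : V), S.Normal → S ≤ MulAction.stabilizer R c →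
          ∀ m ∈ S, m • x • c = x • c := by
        intro S c hS hSc m hm
        rw [← mul_smul, show m * x = x * (x⁻¹ * m * x) by group, mul_smul,
          MulAction.mem_stabilizer_iff.1 (hSc (hS.conj_mem' m hm x))]
      have hdM : ∀ m ∈ M, m • d = d := fun m hm => by
        rw [hd, smul_mul', smul_inv', hconj M a hMn le_rfl m hm, MulAction.mem_stabilizer_iff.1 hm]
      have hdM' : ∀ m ∈ M', m • d = d := fun m hm => by
        rw [hd', smul_mul', smul_inv', hconj M' b hM'n le_rfl m hm, MulAction.mem_stabilizer_iff.1 hm]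
      have hdR : ∀ r : R, r • d = d := fun r =>
        MulAction.mem_stabilizer_iff.1 ((sup_le (fun m hm => MulAction.mem_stabilizer_iff.2 (hdM' m hm))
          fun m hm => MulAction.mem_stabilizer_iff.2 (hdM m hm) : M' ⊔ M ≤ MulAction.stabilizer R d)
          (hsup ▸ Subgroup.mem_top r))
      have hpow : ∀ k : ℕ, (x ^ k) • a = a * d ^ k := by
        intro k
        induction k with
        | zero => simp
        | succ k ih =>
          rw [pow_succ', mul_smul, ih, smul_mul', smul_pow', hdR x, pow_succ', ← mul_assoc, hd,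
            mul_comm a, inv_mul_cancel_right]
      have hxp : x ^ p ∈ M := hMi ▸ Subgroup.pow_index_mem M x
      have h1 : d ^ p = 1 := mul_eq_left.1 ((hpow p).symm.trans (MulAction.mem_stabilizer_iff.1 hxp))
      have hd1 : d = 1 := orderOf_eq_one_iff.1 (Nat.eq_one_of_dvd_coprimes
        (hp.coprime_iff_not_dvd.2 hV) (orderOf_dvd_of_pow_eq_one h1) (orderOf_dvd_natCard d))
      have hxa : x • a = a := mul_inv_eq_one.1 hd1
      refine ⟨MulAction.mem_stabilizer_iff.2 hxa, MulAction.mem_stabilizer_iff.2 ?_⟩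
      rw [hxa] at hx
      exact mul_left_cancel hx
    have h2 := h (a * b)
    rw [hc] at h2
    have h3 := Subgroup.relIndex_mul_index (inf_le_left : M ⊓ M' ≤ M)
    rw [Subgroup.inf_relIndex_left, hMi] at h3
    rw [← h3] at h2
    have h4 : M'.relIndex M = 1 := by
      exact Nat.dvd_one.1 ((Nat.mul_dvd_mul_iff_right hp.pos).1
        (show M'.relIndex M * p ∣ 1 * p by rwa [one_mul]))
    exact hle (Subgroup.relIndex_eq_one.1 h4)
  have hMbot : M = ⊥ := (Subgroup.eq_bot_iff_forall _).2 fun r hr =>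
    hfaith r fun b => MulAction.mem_stabilizer_iff.1 (key b hr)
  rw [hMbot, Subgroup.index_bot] at hMi
  rw [hMi]

variable {G : Type u} [Group G] [Finite G]

/-- A coprime group centralising a nilpotent normal subgroup modulo its derived subgroup
centralises it. -/
theorem commute_of_trivial_mod_commutator (N : Subgroup G) [N.Normal] [Group.IsNilpotent N]
    (A : Subgroup G) (hcop : (Nat.card A).Coprime (Nat.card N))
    (h : ∀ n ∈ N, ∀ a ∈ A, ⁅n, a⁆ ∈ ⁅N, N⁆) : A ≤ Subgroup.centralizer (N : Set G) := by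
  have hA : A ≤ Subgroup.normalizer (N : Set G) := by
    rw [Subgroup.normalizer_eq_top_iff.2 (inferInstance : N.Normal)]; exact le_top
  have h1 := Coprime.commutator_sup_centralizer hA hcop (Or.inr inferInstance)
  set C := N ⊓ Subgroup.centralizer (A : Set G) with hC
  have hNA : ⁅N, A⁆ ≤ ⁅N, N⁆ := Subgroup.commutator_le.2 h
  have htop : C.subgroupOf N ⊔ frattini N = ⊤ := by
    refine eq_top_iff.2 (le_trans ?_ (sup_le_sup_left Solvable.commutator_le_frattini _))
    refine (Subgroup.map_le_map_iff_of_injective N.subtype_injective).1 ?_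
    rw [Subgroup.map_sup, Subgroup.map_subgroupOf_eq_of_le inf_le_left, ← MonoidHom.range_eq_map,
      Subgroup.range_subtype, Subgroup.map_subtype_commutator]
    exact h1.ge.trans (sup_le (hNA.trans le_sup_right) le_sup_left)
  have h2 : N ≤ C := Subgroup.subgroupOf_eq_top.1 (frattini_nongenerating htop)
  exact Subgroup.le_centralizer_iff.1 (h2.trans inf_le_right)

/-- An automorphism group of a group of prime order is commutative. -/
theorem commute_of_card_dvd_prime {p : ℕ} (hp : p.Prime) (O : Subgroup G) [O.Normal]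
    (h : Nat.card O ∣ p) (x y : G) : ∀ z ∈ O, ⁅x, y⁆ * z = z * ⁅x, y⁆ := by
  intro z hz
  have hcyc : IsCyclic O := by
    have := Fact.mk hp
    exact isCyclic_of_card_dvd_prime h
  obtain ⟨⟨g, hg⟩, hgen⟩ := hcyc.exists_generator
  have hpow : ∀ w ∈ O, ∃ i : ℤ, w = g ^ i := fun w hw => by
    obtain ⟨i, hi⟩ := Subgroup.mem_zpowers_iff.1 (hgen ⟨w, hw⟩)
    exact ⟨i, (congrArg Subtype.val hi).symm.trans (by simp)⟩
  have hact : ∀ u : G, ∃ i : ℤ, ∀ w ∈ O, u * w * u⁻¹ = w ^ i := by
    intro u
    obtain ⟨i, hi⟩ := hpow _ ((inferInstance : O.Normal).conj_mem g hg u)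
    refine ⟨i, fun w hw => ?_⟩
    obtain ⟨j, rfl⟩ := hpow w hw
    rw [← conj_zpow, hi, ← zpow_mul, ← zpow_mul, mul_comm]
  obtain ⟨a, ha⟩ := hact x
  obtain ⟨b, hb⟩ := hact y
  obtain ⟨a', ha'⟩ := hact x⁻¹
  obtain ⟨b', hb'⟩ := hact y⁻¹
  have hy1 : ∀ w ∈ O, (w ^ b') ^ b = w := fun w hw => by
    rw [← hb _ (O.zpow_mem hw b'), ← hb' w hw]; group
  have hx1 : ∀ w ∈ O, (w ^ a') ^ a = w := fun w hw => by
    rw [← ha _ (O.zpow_mem hw a'), ← ha' w hw]; group
  have e : ⁅x, y⁆ * z * ⁅x, y⁆⁻¹ = z := by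
    calc ⁅x, y⁆ * z * ⁅x, y⁆⁻¹
        = x * (y * (x⁻¹ * (y⁻¹ * z * y⁻¹⁻¹) * x⁻¹⁻¹) * y⁻¹) * x⁻¹ := by
          rw [commutatorElement_def]; group
      _ = (((z ^ b') ^ a') ^ b) ^ a := by
          rw [hb' z hz, ha' _ (O.zpow_mem hz b'), hb _ (O.zpow_mem (O.zpow_mem hz b') a'),
            ha _ (O.zpow_mem (O.zpow_mem (O.zpow_mem hz b') a') b)]
      _ = ((z ^ b') ^ b) := by
          rw [← zpow_mul (z ^ b') a' b, mul_comm a' b, zpow_mul, hx1 _ (O.zpow_mem (O.zpow_mem hz b') b)]
      _ = z := hy1 z hz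
  exact mul_inv_eq_iff_eq_mul.1 e

variable [Group.IsSolvable G]

/-- The normal subgroups `O_p` above the Fitting subgroup have order at most `p`. -/
theorem card_pCore_quotient_dvd (h : ∀ χ : Cfsg.IrrCharacter G, Squarefree (Cfsg.charDegree (χ : G → ℂ)))
    [(Cfsg.fittingSubgroup G).Normal] (p : ℕ) [Fact p.Prime] :
    Nat.card (Cfsg.pCore p (G ⧸ Cfsg.fittingSubgroup G)) ∣ p := by
  classical
  have hp := (Fact.out : p.Prime)
  have := Fintype.ofFinite G
  set F := Cfsg.fittingSubgroup G with hF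
  have hKn := Solvable.pPrimeCore_normal p G
  set N := F ⊓ Cfsg.pPrimeCore p G with hN
  have : N.Normal := inferInstance
  have := Fintype.ofFinite N
  have hFnil : Group.IsNilpotent F := Comp.isNilpotent_fittingSubgroup G
  have : Group.IsNilpotent N := Group.nilpotent_of_mulEquiv
    (Subgroup.subgroupOfEquivOfLe (inf_le_left : N ≤ F))
  have hNp : ¬ p ∣ Nat.card N := fun hd => hp.coprime_iff_not_dvd.1
    (Solvable.pPrimeCore_coprime p).symm (hd.trans (Subgroup.card_dvd_of_le inf_le_right))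
  have hOn := Solvable.pCore_normal p G
  have hsplit : F ≤ N ⊔ Cfsg.pCore p G := by
    rw [hF, Solvable.fittingSubgroup_eq_iSup_pCore]
    refine iSup_le fun r => ?_
    have : Fact (r : ℕ).Prime := ⟨r.2⟩
    by_cases hr : (r : ℕ) = p
    · rw [hr]; exact le_sup_right
    · refine le_trans (le_inf ?_ ?_) le_sup_left
      · exact Solvable.le_fittingSubgroup (Solvable.pCore_normal _ G)
          (Solvable.pCore_isPGroup (r : ℕ)).isNilpotent
      · refine Solvable.le_pPrimeCore (Solvable.pCore_normal _ G) ?_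
        obtain ⟨k, hk⟩ := (Solvable.pCore_isPGroup (G := G) (r : ℕ)).exists_card_eq
        rw [hk]
        exact Nat.Coprime.pow_left k ((Nat.coprime_primes r.2 hp).2 hr)
  have hNO : ∀ n ∈ N, ∀ o ∈ Cfsg.pCore p G, n * o = o * n := fun n hn o ho =>
    Subgroup.commute_of_normal_of_disjoint _ _ inferInstance hOn
      (Subgroup.disjoint_def.2 fun {x} hx1 hx2 => by
        obtain ⟨k, hk⟩ := IsPGroup.iff_orderOf.1 (Solvable.pCore_isPGroup p) ⟨x, hx2⟩
        rw [Subgroup.orderOf_mk] at hk
        exact orderOf_eq_one_iff.1 (Nat.eq_one_of_dvd_coprimes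
          ((hp.coprime_iff_not_dvd.2 hNp).pow_left k) hk.dvd
          (Subgroup.orderOf_mk x hx1 ▸ orderOf_dvd_natCard _))) n o hn ho
  letI : MulDistribMulAction G (N →* ℂˣ) := RelDegreeGraph.linAct
  have hFfix : ∀ l : N →* ℂˣ, F ≤ RelDegreeGraph.T l := fun l => hsplit.trans (sup_le
    (RelDegreeGraph.le_T l) fun o ho => MonoidHom.ext fun n => by
      rw [RelDegreeGraph.smul_apply']
      refine congrArg l (Subtype.ext ?_)
      simp only [Clifford.coe_conjN, inv_inv]
      rw [mul_assoc, hNO n n.2 o ho, inv_mul_cancel_left])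
  -- the action of the quotient
  let π := QuotientGroup.mk' F
  have hπ : Function.Surjective π := QuotientGroup.mk'_surjective F
  let Φ : G ⧸ F →* MulAut (N →* ℂˣ) := QuotientGroup.lift F
    (MulDistribMulAction.toMulAut G (N →* ℂˣ))
    fun x hx => MonoidHom.mem_ker.2 (MulEquiv.ext fun l => hFfix l hx)
  let P := Cfsg.pCore p (G ⧸ F)
  have hPn : P.Normal := Solvable.pCore_normal p _
  letI : MulDistribMulAction P (N →* ℂˣ) :=
    { smul := fun r l => Φ (r : G ⧸ F) l
      one_smul := fun l => by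
        show Φ ((1 : P) : G ⧸ F) l = l
        rw [OneMemClass.coe_one, map_one]; rfl
      mul_smul := fun r t l => by
        show Φ ((r * t : P) : G ⧸ F) l = Φ (r : G ⧸ F) (Φ (t : G ⧸ F) l)
        rw [Subgroup.coe_mul, map_mul]; rfl
      smul_mul := fun r a b => map_mul (Φ (r : G ⧸ F)) a b
      smul_one := fun r => map_one (Φ (r : G ⧸ F)) }
  have hfin : Finite (N →* ℂˣ) := by
    refine Finite.of_injective (fun (l : N →* ℂˣ) (n : N) =>
      (⟨l n, (mem_rootsOfUnity (Nat.card N) _).2 (RelDegreeGraph.pow_card_lin l n)⟩ :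
        rootsOfUnity (Nat.card N) ℂ)) fun a b h => ?_
    exact MonoidHom.ext fun n => congrArg Subtype.val (congrFun h n)
  have hV : ¬ p ∣ Nat.card (N →* ℂˣ) := fun hd => by
    obtain ⟨l, hl⟩ := exists_prime_orderOf_dvd_card' p hd
    refine hNp (hl ▸ orderOf_dvd_of_pow_eq_one (MonoidHom.ext fun n => ?_))
    rw [MonoidHom.pow_apply, RelDegreeGraph.pow_card_lin, MonoidHom.one_apply]
  have horb : ∀ l : N →* ℂˣ, (MulAction.stabilizer P l).index ∣ p := by
    intro l
    have hlI : Cfsg.IsIrrCharacter N (fun n => (l n : ℂ)) := Char.isIrrCharacter_linear l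
    obtain ⟨χ, hχ⟩ := Block.exists_over_constituent (G := G) (⟨_, hlI⟩ : Cfsg.IrrCharacter N)
    have hT : (RelDegreeGraph.T l).index ∣ Cfsg.charDegree (χ : G → ℂ) :=
      (Subgroup.index_dvd_of_le (fun g hg => by
        refine MonoidHom.ext fun n => ?_
        rw [RelDegreeGraph.smul_apply']
        exact Units.ext (Clifford.mem_inertia.1 (Subgroup.inv_mem _ hg) n))).trans
        (RelDegreeGraph.index_inertia_dvd (θ := ⟨_, hlI⟩) (fun {j} => by convert hχ))
    have e : MulAction.stabilizer P l = ((RelDegreeGraph.T l).map π).subgroupOf P := by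
      refine SetLike.ext fun y => ⟨fun hy => ?_, fun hy => ?_⟩
      · obtain ⟨g, hg⟩ := hπ (y : G ⧸ F)
        refine Subgroup.mem_subgroupOf.2 ⟨g, ?_, hg⟩
        have : Φ (y : G ⧸ F) l = l := hy
        rw [← hg] at this
        exact this
      · obtain ⟨g, hg, hgy⟩ := Subgroup.mem_subgroupOf.1 hy
        show Φ (y : G ⧸ F) l = l
        rw [← hgy]
        exact hg
    obtain ⟨k, hk⟩ := (Solvable.pCore_isPGroup (G := G ⧸ F) p).exists_card_eq
    rw [e]
    obtain ⟨i, -, hi⟩ := (Nat.dvd_prime_pow hp).1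
      (hk ▸ (Subgroup.index_dvd_card _ : (((RelDegreeGraph.T l).map π).subgroupOf P).index ∣ _))
    rw [hi]
    refine dvd_prime_of_squarefree hp (h χ) ?_
    rw [← hi]
    exact ((StructC.relIndex_dvd_index_right P ((RelDegreeGraph.T l).map π)).trans
      (Subgroup.index_map_dvd _ hπ)).trans hT
  refine card_dvd_prime (Solvable.pCore_isPGroup p) hV horb fun r hr => ?_
  -- faithfulness
  let K₀ : Subgroup (G ⧸ F) := P ⊓ Φ.ker
  have hrK : (r : G ⧸ F) ∈ K₀ := ⟨r.2, MonoidHom.mem_ker.2 (MulEquiv.ext fun l => hr l)⟩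
  suffices hK : K₀ = ⊥ from Subtype.ext (Subgroup.mem_bot.1 (hK ▸ hrK))
  have hK₀p : IsPGroup p K₀ := (Solvable.pCore_isPGroup p).to_le inf_le_left
  let Y : Subgroup G := K₀.comap π
  have : Y.Normal := (inferInstance : K₀.Normal).comap π
  have hFY : F ≤ Y := fun x hx => by
    show π x ∈ K₀
    rw [show π x = 1 from (QuotientGroup.eq_one_iff x).2 hx]
    exact K₀.one_mem
  have hrel : F.relIndex Y = Nat.card K₀ := by
    have e := Subgroup.relIndex_ker Y π
    rwa [QuotientGroup.ker_mk', Subgroup.map_comap_eq_self_of_surjective hπ] at e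
  let T₀ : Sylow p Y := default
  let T : Subgroup G := (T₀ : Subgroup Y).map Y.subtype
  have hTp : IsPGroup p T := T₀.2.map _
  have hTY : T ≤ Y := Subgroup.map_subtype_le _
  have hTrel : ¬ p ∣ T.relIndex Y := by
    have e : T.relIndex Y = (T₀ : Subgroup Y).index := by
      show (T.subgroupOf Y).index = _
      rw [Subgroup.subgroupOf, Subgroup.comap_map_eq_self_of_injective Y.subtype_injective]
    rw [e]; exact T₀.not_dvd_index
  have hTN : T ≤ Subgroup.centralizer (N : Set G) := by
    refine commute_of_trivial_mod_commutator N T ?_ fun n hn t ht => ?_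
    · obtain ⟨k, hk⟩ := hTp.exists_card_eq
      rw [hk]
      exact (hp.coprime_iff_not_dvd.2 hNp).pow_left k
    · have hm : ⁅n, t⁆ ∈ N := Subgroup.commutator_le_left N T
        (Subgroup.commutator_mem_commutator hn ht)
      let c := QuotientGroup.mk' (commutator N)
      have h1 : c ⟨_, hm⟩ = 1 := by
        refine TwoPrimeBlocks.eq_one_of_forall_hom (fun a b => ?_) fun l => ?_
        · obtain ⟨a, rfl⟩ := QuotientGroup.mk'_surjective _ a
          obtain ⟨b, rfl⟩ := QuotientGroup.mk'_surjective _ b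
          rw [← commutatorElement_eq_one_iff_mul_comm, ← map_commutatorElement]
          exact (QuotientGroup.eq_one_iff _).2 (Subgroup.commutator_mem_commutator
            (Subgroup.mem_top a) (Subgroup.mem_top b))
        let μ : N →* ℂˣ := l.comp c
        have h2 : Φ (π t) μ = μ := by
          have ht' : π t ∈ Φ.ker := (hTY ht : π t ∈ K₀).2
          rw [MonoidHom.mem_ker.1 ht']; rfl
        have h3 : (t • μ) ⟨n, hn⟩⁻¹ = μ ⟨n, hn⟩⁻¹ := congrArg (fun f : N →* ℂˣ => f ⟨n, hn⟩⁻¹) h2
        rw [RelDegreeGraph.smul_apply'] at h3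
        have h4 : μ ⟨_, hm⟩ = 1 := by
          rw [show (⟨_, hm⟩ : N) = ⟨n, hn⟩ * Clifford.conjN t ⟨n, hn⟩⁻¹ from
            Subtype.ext (by simp [commutatorElement_def, mul_assoc]), map_mul]
          have h5 : (t • μ) (Clifford.conjN t ⟨n, hn⟩⁻¹) = μ (Clifford.conjN t ⟨n, hn⟩⁻¹) :=
            congrArg (fun f : N →* ℂˣ => f (Clifford.conjN t ⟨n, hn⟩⁻¹)) h2
          rw [RelDegreeGraph.smul_apply', ← Clifford.conjN_mul] at h5
          rw [← h5]
          simp [Clifford.conjN_one]
        exact h4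
      have h6 : (⟨_, hm⟩ : N) ∈ commutator N := (QuotientGroup.eq_one_iff _).1 h1
      rw [← Subgroup.map_subtype_commutator]
      exact ⟨_, h6, rfl⟩
  -- `T` is normal
  let Z : Subgroup G := Subgroup.normalizer (T : Set G)
  have hNZ : N ≤ Z := (Subgroup.le_centralizer_iff.1 hTN).trans
    (Subgroup.centralizer_le_normalizer _)
  have hOT : Cfsg.pCore p G ≤ T := by
    have hOY : Cfsg.pCore p G ≤ Y := (Solvable.le_fittingSubgroup hOn
      (Solvable.pCore_isPGroup p).isNilpotent).trans hFY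
    have h1 : (Cfsg.pCore p G).subgroupOf Y ≤ (T₀ : Subgroup Y) :=
      Solvable.normal_pgroup_le_sylow ((Solvable.pCore_isPGroup p).comap_of_injective _
        Y.subtype_injective) T₀
    intro x hx
    exact ⟨⟨x, hOY hx⟩, h1 hx, rfl⟩
  have hFZ : F ≤ Z := hsplit.trans (sup_le hNZ (hOT.trans Subgroup.le_normalizer))
  have hZY : Y ≤ Z := by
    refine Subgroup.relIndex_eq_one.1 (Nat.dvd_one.1 ?_)
    have h1 : Z.relIndex Y ∣ T.relIndex Y := Subgroup.relIndex_dvd_of_le_left Y Subgroup.le_normalizer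
    have h2 : Z.relIndex Y ∣ Nat.card K₀ := hrel ▸ Subgroup.relIndex_dvd_of_le_left Y hFZ
    obtain ⟨k, hk⟩ := hK₀p.exists_card_eq
    rw [hk] at h2
    exact (Nat.eq_one_of_dvd_coprimes ((hp.coprime_iff_not_dvd.2 hTrel).pow_left k) h2 h1).dvd
  have hT₀n : (T₀ : Subgroup Y).Normal := by
    have h1 : T.subgroupOf Y = (T₀ : Subgroup Y) :=
      Subgroup.comap_map_eq_self_of_injective Y.subtype_injective _
    exact h1 ▸ Subgroup.normal_subgroupOf_of_le_normalizer hZY
  have : (T₀ : Subgroup Y).Characteristic := T₀.characteristic_of_normal hT₀n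
  have hTn : T.Normal := inferInstance
  have hTF : T ≤ F := Solvable.le_fittingSubgroup hTn hTp.isNilpotent
  refine Subgroup.card_eq_one.1 (Nat.eq_one_of_dvd_coprimes ?_ dvd_rfl
    (hrel ▸ Subgroup.relIndex_dvd_of_le_left Y hTF))
  obtain ⟨k, hk⟩ := hK₀p.exists_card_eq
  rw [hk]
  exact (hp.coprime_iff_not_dvd.2 hTrel).pow_left k

/-- The Fitting subgroup is metabelian. -/
theorem fitting_metabelian
    (h : ∀ χ : Cfsg.IrrCharacter G, Squarefree (Cfsg.charDegree (χ : G → ℂ))) :
    ⁅⁅Cfsg.fittingSubgroup G, Cfsg.fittingSubgroup G⁆,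
      ⁅Cfsg.fittingSubgroup G, Cfsg.fittingSubgroup G⁆⁆ = ⊥ := by
  classical
  have := Fintype.ofFinite G
  set O : Nat.Primes → Subgroup G := fun r => Cfsg.pCore (r : ℕ) G
  have hOn : ∀ r, (O r).Normal := fun r => Solvable.pCore_normal _ G
  let W : Subgroup G := ⨆ r, ⁅O r, O r⁆
  have : ∀ r, (⁅O r, O r⁆ : Subgroup G).Normal := fun r => by
    have := hOn r
    infer_instance
  have : W.Normal := Subgroup.iSup_normal _
  have hcross : ∀ r s : Nat.Primes, r ≠ s → ∀ a ∈ O r, ∀ b ∈ O s, a * b = b * a := by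
    intro r s hrs a ha b hb
    have : Fact (r : ℕ).Prime := ⟨r.2⟩
    have : Fact (s : ℕ).Prime := ⟨s.2⟩
    exact Subgroup.commute_of_normal_of_disjoint _ _ (hOn r) (hOn s)
      (IsPGroup.disjoint_of_ne r s (fun e => hrs (Subtype.ext e)) _ _
        (Solvable.pCore_isPGroup (r : ℕ)) (Solvable.pCore_isPGroup (s : ℕ))) a b ha hb
  have hsame : ∀ r : Nat.Primes, ∀ a ∈ ⁅O r, O r⁆, ∀ b ∈ ⁅O r, O r⁆, a * b = b * a := by
    intro r a ha b hb
    have : Fact (r : ℕ).Prime := ⟨r.2⟩
    have := hOn r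
    have := Fintype.ofFinite (O r)
    have hOp : IsPGroup (r : ℕ) (O r) := Solvable.pCore_isPGroup (r : ℕ)
    obtain ⟨k, hk⟩ := hOp.exists_card_eq
    have hdeg : ∀ θ : Cfsg.IrrCharacter (O r),
        Cfsg.charDegree (θ : O r → ℂ) = 1 ∨ Cfsg.charDegree (θ : O r → ℂ) = (r : ℕ) := by
      intro θ
      obtain ⟨χ, hχ⟩ := Block.exists_over_constituent (G := G) θ
      obtain ⟨i, -, hi⟩ := (Nat.dvd_prime_pow r.2).1 (hk ▸ BlockB.irr_degree_dvd_card θ)
      exact (Nat.dvd_prime r.2).1 (hi ▸ dvd_prime_of_squarefree r.2 (h χ)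
        (hi ▸ ItoPSolvable.charDegree_dvd_of_constituent (O r) χ.2 θ.2 hχ))
    rw [← Subgroup.map_subtype_commutator] at ha hb
    obtain ⟨a', ha', rfl⟩ := ha
    obtain ⟨b', hb', rfl⟩ := hb
    by_cases hex : ∃ θ : Cfsg.IrrCharacter (O r), Cfsg.charDegree (θ : O r → ℂ) = (r : ℕ)
    · exact congrArg Subtype.val
        (Clifford.TwoDegrees.commutator_comm hex r.2.ne_one hdeg a' ha' b' hb')
    · refine congrArg Subtype.val (Char.comm_iff_forall_degree_one.2 (fun θ => ?_) a' b')
      rw [← BlockB.charDegree_cast (Char.irr_isCharacter θ.2),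
        (hdeg θ).resolve_right fun e => hex ⟨θ, e⟩, Nat.cast_one]
  have hWab : ⁅W, W⁆ = ⊥ := by
    rw [Subgroup.commutator_eq_bot_iff_le_centralizer]
    refine iSup_le fun r => Subgroup.le_centralizer_iff.1 (iSup_le fun s b hb => ?_)
    refine Subgroup.mem_centralizer_iff.2 fun a ha => ?_
    by_cases e : r = s
    · subst e; exact hsame r a ha b hb
    · exact hcross r s e a (Subgroup.commutator_le_left _ _ ha) b (Subgroup.commutator_le_left _ _ hb)
  let π := QuotientGroup.mk' W
  have hle : ⁅Cfsg.fittingSubgroup G, Cfsg.fittingSubgroup G⁆ ≤ W := by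
    rw [Solvable.fittingSubgroup_eq_iSup_pCore, ← QuotientGroup.ker_mk' W,
      ← Subgroup.map_eq_bot_iff, Subgroup.map_commutator, Subgroup.map_iSup,
      Subgroup.commutator_eq_bot_iff_le_centralizer]
    refine iSup_le fun r => Subgroup.le_centralizer_iff.1 (iSup_le fun s => ?_)
    rintro _ ⟨b, hb, rfl⟩
    refine Subgroup.mem_centralizer_iff.2 ?_
    rintro _ ⟨a, ha, rfl⟩
    by_cases e : r = s
    · subst e
      rw [← commutatorElement_eq_one_iff_mul_comm, ← map_commutatorElement]
      exact (QuotientGroup.eq_one_iff _).2 (Subgroup.mem_iSup_of_mem r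
        (Subgroup.commutator_mem_commutator ha hb))
    · exact (map_mul π a b).symm.trans ((congrArg π (hcross r s e a ha b hb)).trans (map_mul π b a))
  exact le_bot_iff.1 ((Subgroup.commutator_mono hle hle).trans hWab.le)

/-- **Derived length at most four.** -/
theorem derivedSeries_four
    (h : ∀ χ : Cfsg.IrrCharacter G, Squarefree (Cfsg.charDegree (χ : G → ℂ))) :
    derivedSeries G 4 = ⊥ := by
  classical
  set F := Cfsg.fittingSubgroup G with hF
  have hFn : F.Normal := Solvable.fittingSubgroup_normal G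
  set C := Cfsg.fittingSubgroup (G ⧸ F) with hC
  have hsolv : Group.IsSolvable (G ⧸ F) :=
    Group.isSolvable_of_surjective (QuotientGroup.mk'_surjective F)
  have hCc := Solvable.centralizer_fittingSubgroup_le (G := G ⧸ F)
  have hcard : ∀ r : ℕ, r.Prime → Nat.card (Cfsg.pCore r (G ⧸ F)) ∣ r := fun r hr => by
    have := Fact.mk hr
    exact card_pCore_quotient_dvd h r
  have h1 : commutator (G ⧸ F) ≤ C := by
    refine le_trans ?_ hCc
    refine Comp.le_centralizer_fittingSubgroup fun r hr => ?_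
    have := Solvable.pCore_normal r (G ⧸ F)
    rw [commutator_def, Subgroup.commutator_le]
    intro x _ y _
    exact Subgroup.mem_centralizer_iff.2 fun z hz =>
      (commute_of_card_dvd_prime hr _ (hcard r hr) x y z hz).symm
  have h2 : C ≤ Subgroup.centralizer (C : Set (G ⧸ F)) := by
    refine Comp.le_centralizer_fittingSubgroup fun r hr => ?_
    rw [Subgroup.le_centralizer_iff]
    refine Comp.le_centralizer_fittingSubgroup fun s hs => ?_
    have := Fact.mk hr
    have := Fact.mk hs
    intro a ha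
    refine Subgroup.mem_centralizer_iff.2 fun b hb => ?_
    by_cases e : r = s
    · subst e
      have : IsCyclic (Cfsg.pCore r (G ⧸ F)) := isCyclic_of_card_dvd_prime (hcard r hr)
      let cg := IsCyclic.commGroup (α := Cfsg.pCore r (G ⧸ F))
      exact congrArg Subtype.val (cg.mul_comm ⟨b, hb⟩ ⟨a, ha⟩)
    · exact Subgroup.commute_of_normal_of_disjoint _ _ (Solvable.pCore_normal s _)
        (Solvable.pCore_normal r _)
        (IsPGroup.disjoint_of_ne s r (Ne.symm e) _ _ (Solvable.pCore_isPGroup s)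
          (Solvable.pCore_isPGroup r)) b a hb ha
  have h3 : derivedSeries (G ⧸ F) 2 = ⊥ := by
    rw [derivedSeries_succ, derivedSeries_one, Subgroup.commutator_eq_bot_iff_le_centralizer]
    exact h1.trans (h2.trans (Subgroup.centralizer_le h1))
  have h4 : derivedSeries G 2 ≤ F := by
    have := (map_derivedSeries_le_derivedSeries (QuotientGroup.mk' F) 2).trans h3.le
    rwa [le_bot_iff, Subgroup.map_eq_bot_iff, QuotientGroup.ker_mk'] at this
  have h5 : derivedSeries G 3 ≤ ⁅F, F⁆ := Subgroup.commutator_mono h4 h4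
  exact le_bot_iff.1 ((Subgroup.commutator_mono h5 h5).trans (fitting_metabelian h).le)

end CfsgLib.BlockB.SquarefreeDegrees
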