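import Cfsg.Agent.Lib.BlockB.StarInteger
import Cfsg.Agent.Lib.Char.Linear

/-!
The product with a stable linear character permutes the members of the block.
-/

set_option autoImplicit false
set_option linter.unusedSectionVars false
set_option maxHeartbeats 1000000

namespace CfsgLib.BlockB.Star

open Cfsg CfsgLib.Block CfsgLib.BlockA CfsgLib.BlockB.SubSum CfsgLib.BlockB.HeightBound
  CfsgLib.BlockB.StarVal MonoidAlgebra
open scoped ComplexConjugate

universe u

variable {G : Type u} [Group G] [Fintype G] {p : ℕ} {M : Ideal AlgInt} [M.IsPrime]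
  {B : Set (IrrCharacter G)} {P : Subgroup G}
  {e : Set (IrrCharacter (Subgroup.centralizer (P : Set G)))}

local notation "cen" Q => Subgroup.centralizer ((Q : Subgroup G) : Set G)

/-- An integral class function of norm one with positive degree is irreducible. -/
theorem exists_irr_of_norm_one {f : G → ℂ} (hf : IsClassFunction G f)
    (hint : ∀ ξ : IrrCharacter G, ∃ m : ℤ, classInner f (ξ : G → ℂ) = m)
    (hnorm : classInner f f = 1) {d : ℕ} (hd : 0 < d) (h1 : f 1 = d) :
    ∃ ψ : IrrCharacter G, (ψ : G → ℂ) = f := by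
  classical
  have := Fintype.ofFinite (IrrCharacter G)
  choose m hm using hint
  have hsum : ∑ ξ : IrrCharacter G, m ξ * m ξ = 1 := by
    have h2 := CfsgLib.Char.classInner_eq_sum_mul hf f
    rw [hnorm] at h2
    simp only [hm, map_intCast, ← Int.cast_mul, ← Int.cast_sum] at h2
    exact_mod_cast h2.symm
  obtain ⟨ψ, hψ⟩ : ∃ ψ, m ψ ≠ 0 := by
    by_contra h
    push Not at h
    simp [h] at hsum
  have hle : m ψ * m ψ + ∑ ξ ∈ Finset.univ.erase ψ, m ξ * m ξ = 1 := by
    rw [Finset.add_sum_erase _ (fun ξ => m ξ * m ξ) (Finset.mem_univ ψ), hsum]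
  have hpos : 1 ≤ m ψ * m ψ := by
    have := mul_self_pos.2 hψ
    omega
  have hrest0 : (0 : ℤ) ≤ ∑ ξ ∈ Finset.univ.erase ψ, m ξ * m ξ :=
    Finset.sum_nonneg fun ξ _ => mul_self_nonneg _
  have hm1 : m ψ * m ψ = 1 := by omega
  have hrest : ∀ ξ ∈ Finset.univ.erase ψ, m ξ = 0 := fun ξ hξ =>
    mul_self_eq_zero.1 ((Finset.sum_eq_zero_iff_of_nonneg fun ξ _ => mul_self_nonneg (m ξ)).1
      (by omega) ξ hξ)
  have heq : ∀ g, f g = (m ψ : ℂ) * (ψ : G → ℂ) g := fun g => by
    rw [CfsgLib.Char.classFunction_apply_eq_sum hf g, Finset.sum_eq_single ψ]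
    · rw [hm]
    · intro ξ _ hξ
      rw [hm, hrest ξ (Finset.mem_erase.2 ⟨hξ, Finset.mem_univ _⟩), Int.cast_zero, zero_mul]
    · exact fun h => absurd (Finset.mem_univ ψ) h
  refine ⟨ψ, funext fun g => ?_⟩
  obtain ⟨n, hn, hψ1⟩ := CfsgLib.Char.irr_apply_one_pos ψ.2
  have h3 : (d : ℤ) = m ψ * (n : ℤ) := by
    have := heq 1
    rw [h1, hψ1] at this
    exact_mod_cast this
  rcases mul_self_eq_one_iff.1 hm1 with h | h
  · rw [heq g, h]; simp
  · exfalso
    rw [h] at h3
    have : (0 : ℤ) < n := by exact_mod_cast hn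
    omega

variable (hM : IsPModular p M) (hmax : IsMaximalBrauerPair p M B P e)
include hM hmax

theorem L_one_arg {lam : P → ℂ} (hlam : IsStable p M P e lam) (β : G → ℂ) :
    L p M P e lam 1 β = lam 1 * L p M P e (fun _ => 1) 1 β := by
  by_cases h : ∃ y, Rep p M P e 1 β y
  · obtain ⟨y, hy⟩ := h
    rw [L_eq hM hmax.1.1 hlam hy, L_eq hM hmax.1.1 (fun _ _ _ _ _ => rfl) hy, mul_one]
    obtain ⟨a, -, ha, -, -⟩ := hy
    congr 1
    apply Subtype.ext
    calc (y : G) = a⁻¹ * (a * (y : G) * a⁻¹) * a := by group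
      _ = ((1 : P) : G) := by rw [ha]; simp
  · push Not at h
    rw [L_eq_zero hM hmax.1.1 h, L_eq_zero hM hmax.1.1 h, mul_zero]

/-- At regular elements the product is a multiple of the character. -/
theorem star_regular {χ : IrrCharacter G} (hχ : χ ∈ B) {lam : P → ℂ}
    (hlam : IsStable p M P e lam) {g : G} (hg : ¬ p ∣ orderOf g) :
    star p M P e (χ : G → ℂ) lam g = lam 1 * (χ : G → ℂ) g := by
  conv_rhs => rw [← star_one hM hmax hχ]
  rw [star, star, ppart_eq hM.1 (isPPart_one_of_regular hg), Finset.mul_sum]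
  exact Finset.sum_congr rfl fun β _ => by rw [L_one_arg hM hmax hlam, mul_assoc]

omit hmax in
open Classical in
/-- A block part of a block part. -/
theorem blockPart_blockPart {x : G} [Fintype (Subgroup.centralizer ({x} : Set G))]
    (hx : ∃ k : ℕ, orderOf x = p ^ k)
    {b b' : Set (IrrCharacter (Subgroup.centralizer ({x} : Set G)))} (hb : IsPBlock M b)
    (hb' : IsPBlock M b') (χ : IrrCharacter G) (v : Subgroup.centralizer ({x} : Set G)) :
    blockPart b (blockPart b'
        (fun c : Subgroup.centralizer ({x} : Set G) => (χ : G → ℂ) (x * (c : G)))) v =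
      if b = b' then
        blockPart b (fun c : Subgroup.centralizer ({x} : Set G) => (χ : G → ℂ) (x * (c : G))) v
      else 0 := by
  have := Fintype.ofFinite (IrrCharacter (Subgroup.centralizer ({x} : Set G)))
  have h1 : ∀ (c : Set (IrrCharacter (Subgroup.centralizer ({x} : Set G))))
      (w : Subgroup.centralizer ({x} : Set G)),
      blockPart c (fun c : Subgroup.centralizer ({x} : Set G) => (χ : G → ℂ) (x * (c : G))) w =
      ∑ θ : IrrCharacter (Subgroup.centralizer ({x} : Set G)),
        (if θ ∈ c then (resMult x χ θ : ℂ) * centralRoot x θ ^ 1 else 0) *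
          (θ : Subgroup.centralizer ({x} : Set G) → ℂ) w := fun c w => by
    have := blockPart_pow hM hx c χ 1 w
    rw [pow_one] at this
    rw [this]
    simp only [ite_mul, zero_mul]
    rw [← Finset.sum_filter]
    exact Finset.sum_congr (by ext; simp) fun _ _ => rfl
  rw [show blockPart b' (fun c : Subgroup.centralizer ({x} : Set G) => (χ : G → ℂ) (x * (c : G))) =
    fun w => _ from funext (h1 b'), blockPart_sum_smul]
  simp only [blockPart_irr]
  split_ifs with h
  · subst h
    rw [h1]
    refine Finset.sum_congr rfl fun θ _ => ?_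
    split_ifs <;> simp
  · refine Finset.sum_eq_zero fun θ _ => ?_
    split_ifs with h2 h3
    · exact absurd (isPBlock_eq_of_mem hb hb' h3 h2) h
    all_goals simp

/-- The block parts of a product. -/
theorem blockPart_star {χ : IrrCharacter G} {lam : P → ℂ} (hlam : IsStable p M P e lam)
    {ψ : IrrCharacter G} (hψ : (ψ : G → ℂ) = star p M P e (χ : G → ℂ) lam) {x : G}
    [Fintype (Subgroup.centralizer ({x} : Set G))] (hx : ∃ k : ℕ, orderOf x = p ^ k)
    {b : Set (IrrCharacter (Subgroup.centralizer ({x} : Set G)))} (hb : IsPBlock M b)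
    {v : Subgroup.centralizer ({x} : Set G)} (hv : ¬ p ∣ orderOf v) :
    blockPart b (fun c : Subgroup.centralizer ({x} : Set G) => (ψ : G → ℂ) (x * (c : G))) v =
      L p M P e lam x (subgroupBlockCoeff (Subgroup.centralizer ({x} : Set G)) b) *
        blockPart b (fun c : Subgroup.centralizer ({x} : Set G) => (χ : G → ℂ) (x * (c : G))) v := by
  classical
  rw [blockPart_congr_regular hM hb (f' := fun z =>
    ∑ b' : {b' // b' ∈ allBlocks M (Subgroup.centralizer ({x} : Set G))},
      L p M P e lam x (subgroupBlockCoeff (Subgroup.centralizer ({x} : Set G)) b'.1) *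
        blockPart b'.1
          (fun c : Subgroup.centralizer ({x} : Set G) => (χ : G → ℂ) (x * (c : G))) z)
    (fun z hz => ?_) hv, blockPart_sum_smul]
  · rw [Finset.sum_eq_single (⟨b, mem_allBlocks.2 hb⟩ :
      {b' // b' ∈ allBlocks M (Subgroup.centralizer ({x} : Set G))})]
    · rw [blockPart_blockPart hM hx hb hb χ v, if_pos rfl]
    · intro b' _ hne
      rw [blockPart_blockPart hM hx hb (mem_allBlocks.1 b'.2) χ v,
        if_neg fun h => hne (Subtype.ext h.symm), mul_zero]
    · exact fun h => absurd (Finset.mem_univ _) h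
  · rw [hψ, star_apply hM hmax.1.1 (CfsgLib.Char.irr_isClassFunction χ.2) hx hz]
    exact (Finset.sum_coe_sort _ _).symm

/-- Products compose. -/
theorem star_star {χ : IrrCharacter G} {lam lam' : P → ℂ} (hlam : IsStable p M P e lam)
    {ψ : IrrCharacter G} (hψ : (ψ : G → ℂ) = star p M P e (χ : G → ℂ) lam) :
    star p M P e (ψ : G → ℂ) lam' = star p M P e (χ : G → ℂ) (fun y => lam y * lam' y) := by
  classical
  funext g
  obtain ⟨x, hx⟩ := exists_isPPart hM.1 g
  obtain ⟨v, rfl, hcomm, hxp, hv⟩ := id hx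
  have := Fintype.ofFinite (Subgroup.centralizer ({x} : Set G))
  set v' : Subgroup.centralizer ({x} : Set G) :=
    ⟨v, Subgroup.mem_centralizer_singleton_iff.2 hcomm.symm.eq⟩
  have hv' : ¬ p ∣ orderOf v' := by rwa [← Subgroup.orderOf_coe]
  show star p M P e _ _ (x * (v' : G)) = star p M P e _ _ (x * (v' : G))
  rw [star_apply hM hmax.1.1 (CfsgLib.Char.irr_isClassFunction ψ.2) hxp hv',
    star_apply hM hmax.1.1 (CfsgLib.Char.irr_isClassFunction χ.2) hxp hv']
  refine Finset.sum_congr rfl fun b hb => ?_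
  rw [blockPart_star hM hmax hlam hψ hxp (mem_allBlocks.1 hb) hv', L_mul]
  ring

/-- **The product with a stable linear character is a member of the block.** -/
theorem exists_member {χ : IrrCharacter G} (hχ : χ ∈ B) (μ : P →* ℂˣ)
    (hμ : IsStable p M P e (fun y => (μ y : ℂ))) :
    ∃ ψ ∈ B, ((ψ : IrrCharacter G) : G → ℂ) = star p M P e (χ : G → ℂ) (fun y => (μ y : ℂ)) ∧
      charDegree (ψ : G → ℂ) = charDegree (χ : G → ℂ) := by
  classical
  have hirr := CfsgLib.Char.isIrrCharacter_linear μ
  set f := star p M P e (χ : G → ℂ) (fun y => (μ y : ℂ)) with hf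
  have hcl : IsClassFunction G f :=
    star_isClassFunction hM hmax.1.1 hμ (CfsgLib.Char.irr_isClassFunction χ.2)
  have hnorm : classInner f f = 1 := by
    rw [hf, classInner_star_star hM hmax hχ]
    have e1 : (fun y : P => (μ y : ℂ) * conj ((μ y : ℂ))) = fun _ => 1 := funext fun y => by
      rw [irr_conj_eq hirr y, ← Units.val_mul, ← map_mul, mul_inv_cancel, map_one, Units.val_one]
    rw [e1, star_one hM hmax hχ, CfsgLib.Char.irr_classInner_self χ.2]
  have hd1 : f 1 = (charDegree (χ : G → ℂ) : ℂ) := by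
    rw [hf, star_regular hM hmax hχ hμ (by rw [orderOf_one]; exact hM.1.not_dvd_one), map_one,
      Units.val_one, one_mul]
    exact (charDegree_cast (CfsgLib.Char.irr_isCharacter χ.2)).symm
  obtain ⟨ψ, hψ⟩ := exists_irr_of_norm_one hcl
    (fun ξ => exists_int_classInner hM hmax (CfsgLib.Char.irr_isCharacter hirr) hμ χ ξ) hnorm
    (Nat.pos_of_ne_zero (charDegree_ne_zero χ.2)) hd1
  refine ⟨ψ, ?_, hψ, ?_⟩
  · by_contra h
    have h0 := classInner_star_eq_zero hM hmax (χ := χ) h hμ
    rw [← hf, ← hψ, CfsgLib.Char.irr_classInner_self ψ.2] at h0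
    exact one_ne_zero h0
  · have h1 := charDegree_cast (CfsgLib.Char.irr_isCharacter ψ.2)
    rw [hψ, hd1] at h1
    have h2 : charDegree f = charDegree (χ : G → ℂ) := by exact_mod_cast h1
    rw [hψ, h2]

/-- A member fixed by the product vanishes on the subsections where `lam` is not `1`. -/
theorem blockPart_eq_zero_of_fixed {χ : IrrCharacter G} {lam : P → ℂ}
    (hlam : IsStable p M P e lam) (hfix : (χ : G → ℂ) = star p M P e (χ : G → ℂ) lam) {x : G}
    [Fintype (Subgroup.centralizer ({x} : Set G))] (hx : ∃ k : ℕ, orderOf x = p ^ k)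
    {b : Set (IrrCharacter (Subgroup.centralizer ({x} : Set G)))} (hb : IsPBlock M b) {y : P}
    (hy : Rep p M P e x (subgroupBlockCoeff (Subgroup.centralizer ({x} : Set G)) b) y)
    (hne : lam y ≠ 1) {v : Subgroup.centralizer ({x} : Set G)} (hv : ¬ p ∣ orderOf v) :
    blockPart b (fun c : Subgroup.centralizer ({x} : Set G) => (χ : G → ℂ) (x * (c : G))) v = 0 := by
  have h := blockPart_star hM hmax hlam hfix hx hb hv
  rw [L_eq hM hmax.1.1 hlam hy] at h
  by_contra h0
  exact hne ((mul_eq_right₀ h0).1 h.symm)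

end CfsgLib.BlockB.Star
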