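import Cfsg.Agent.Lib.BlockA.CoverSub
import Cfsg.Agent.Lib.BlockA.BrauerMax

/-!
Invariant elements of the group algebra, traces along cosets and their images under the Brauer map
read inside the whole group algebra.
-/

set_option autoImplicit false
set_option linter.unusedSectionVars false
set_option maxHeartbeats 1000000

namespace CfsgLib.BlockB.StarBr

open Cfsg CfsgLib.Block CfsgLib.BlockA MonoidAlgebra

universe u v

variable {G : Type u} [Group G] [Fintype G]

section General

variable {R : Type v} [CommRing R]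

theorem isPInv_iff_conjGA {Y : Subgroup G} {a : MonoidAlgebra R G} :
    IsPInv Y a ↔ ∀ y ∈ Y, conjGA y a = a := by
  refine ⟨fun h y hy => ?_, fun h u hu x => ?_⟩
  · ext g
    rw [coeff_conjGA, ← h y⁻¹ (inv_mem hy) g, inv_inv]
  · have := congrArg (fun z : MonoidAlgebra R G => z.coeff x) (h u⁻¹ (inv_mem hu))
    simp only [coeff_conjGA, inv_inv] at this
    exact this

theorem isPInv_sup {Y Z : Subgroup G} {a : MonoidAlgebra R G} (hY : IsPInv Y a) (hZ : IsPInv Z a) :
    IsPInv (Y ⊔ Z) a := by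
  intro u hu
  let S : Subgroup G :=
    { carrier := {u | ∀ x, a.coeff (u * x * u⁻¹) = a.coeff x}
      one_mem' := fun x => by simp
      mul_mem' := fun {v w} hv hw x => by
        rw [← hw x, ← hv (w * x * w⁻¹)]; congr 1; group
      inv_mem' := fun {v} hv x => by
        rw [← hv (v⁻¹ * x * v⁻¹⁻¹)]; congr 1; group }
  exact (sup_le (fun y hy => hY y hy) (fun y hy => hZ y hy) : Y ⊔ Z ≤ S) hu

theorem conjGA_add (x : G) (a b : MonoidAlgebra R G) :
    conjGA x (a + b) = conjGA x a + conjGA x b := by ext g; simp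

theorem conjGA_conjGA (x y : G) (a : MonoidAlgebra R G) :
    conjGA x (conjGA y a) = conjGA (x * y) a := by
  ext g
  simp only [coeff_conjGA]
  congr 1
  group

theorem conjGA_zero (x : G) : conjGA x (0 : MonoidAlgebra R G) = 0 := by ext g; simp

theorem conjGA_sum (x : G) {ι : Type*} (s : Finset ι) (a : ι → MonoidAlgebra R G) :
    conjGA x (∑ i ∈ s, a i) = ∑ i ∈ s, conjGA x (a i) := by
  classical
  induction s using Finset.induction_on with
  | empty => simp [conjGA_zero]
  | insert i s hi ih => rw [Finset.sum_insert hi, Finset.sum_insert hi, conjGA_add, ih]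

/-- The elements invariant under `Y` supported in `H`. -/
def fixAlg (R : Type v) [CommRing R] (Y H : Subgroup G) : Subalgebra R (MonoidAlgebra R G) where
  carrier := {a | IsPInv Y a ∧ ∀ x ∉ H, a.coeff x = 0}
  mul_mem' := by
    rintro a b ⟨ha, ha'⟩ ⟨hb, hb'⟩
    refine ⟨isPInv_mul ha hb, fun x hx => ?_⟩
    rw [coeff_mul_eq]
    refine Finset.sum_eq_zero fun y _ => ?_
    by_cases hy : y ∈ H
    · rw [hb' _ fun h => hx (by simpa using H.mul_mem hy h), mul_zero]
    · rw [ha' y hy, zero_mul]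
  add_mem' := by
    rintro a b ⟨ha, ha'⟩ ⟨hb, hb'⟩
    exact ⟨fun u hu x => by simp [ha u hu x, hb u hu x], fun x hx => by simp [ha' x hx, hb' x hx]⟩
  algebraMap_mem' r := by
    classical
    constructor
    · intro u hu x
      simp only [MonoidAlgebra.coe_algebraMap, Function.comp_apply, coeff_single, Finsupp.single_apply]
      refine if_congr ?_ rfl rfl
      constructor
      · intro h
        calc (1 : G) = u⁻¹ * 1 * u := by group
          _ = x := by rw [h]; group
      · rintro rfl; group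
    · intro x hx
      simp only [MonoidAlgebra.coe_algebraMap, Function.comp_apply, coeff_single, Finsupp.single_apply]
      rw [if_neg]
      rintro rfl
      exact hx H.one_mem

theorem mem_fixAlg {Y H : Subgroup G} {a : MonoidAlgebra R G} :
    a ∈ fixAlg R Y H ↔ IsPInv Y a ∧ ∀ x ∉ H, a.coeff x = 0 := Iff.rfl

theorem mem_fixAlg_top {Y : Subgroup G} {a : MonoidAlgebra R G} :
    a ∈ fixAlg R Y ⊤ ↔ IsPInv Y a :=
  ⟨fun h => h.1, fun h => ⟨h, fun x hx => absurd (Subgroup.mem_top x) hx⟩⟩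

instance isIntegral_fixAlg (Y H : Subgroup G) : Algebra.IsIntegral R (fixAlg R Y H) :=
  ⟨fun x => (isIntegral_algHom_iff (fixAlg R Y H).val Subtype.val_injective).1
    ((Algebra.IsIntegral.of_finite R (MonoidAlgebra R G)).isIntegral _)⟩

open Classical in
/-- The sum of the conjugates over cosets. -/
noncomputable def trN (S N : Subgroup G) (a : MonoidAlgebra R G) : MonoidAlgebra R G :=
  ∑ q : ↥S ⧸ N.subgroupOf S, conjGA ((q.out : S) : G) a

theorem conjGA_eq_of_coset {S N : Subgroup G} {a : MonoidAlgebra R G} (ha : IsPInv N a) {x y : S}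
    (h : (x : ↥S ⧸ N.subgroupOf S) = y) : conjGA (x : G) a = conjGA (y : G) a := by
  refine conjGA_eq_of_mem ha ?_
  have := Subgroup.mem_subgroupOf.1 (QuotientGroup.eq.1 h)
  simpa using this

theorem isPInv_trN {S N : Subgroup G} {a : MonoidAlgebra R G} (ha : IsPInv N a) :
    IsPInv S (trN S N a) := by
  classical
  rw [isPInv_iff_conjGA]
  intro u hu
  rw [trN, conjGA_sum]
  refine Fintype.sum_equiv (MulAction.toPerm (⟨u, hu⟩ : S)) _ _ fun q => ?_
  rw [conjGA_conjGA]
  refine conjGA_eq_of_coset ha (x := ⟨u, hu⟩ * q.out) ?_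
  rw [MulAction.toPerm_apply, QuotientGroup.out_eq']
  conv_rhs => rw [← QuotientGroup.out_eq' q]
  rfl

theorem trN_invariant {S N Z : Subgroup G} (hcomm : ∀ z ∈ Z, ∀ w ∈ S, Commute z w)
    {a : MonoidAlgebra R G} (ha : IsPInv Z a) : IsPInv Z (trN S N a) := by
  rw [isPInv_iff_conjGA] at ha ⊢
  intro z hz
  rw [trN, conjGA_sum]
  refine Finset.sum_congr rfl fun q _ => ?_
  rw [conjGA_conjGA, (hcomm z hz _ (q.out : S).2).eq, ← conjGA_conjGA, ha z hz]

open Classical in
/-- The cosets lying in an intermediate subgroup. -/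
theorem sum_filter_trN {S' S N : Subgroup G} (hS : S' ≤ S) (hN : N ≤ S') {a : MonoidAlgebra R G}
    (ha : IsPInv N a) :
    ∑ q : ↥S ⧸ N.subgroupOf S with ((q.out : S) : G) ∈ S', conjGA ((q.out : S) : G) a =
      trN S' N a := by
  have hout : ∀ w : S, ∃ n ∈ N, ((QuotientGroup.mk (s := N.subgroupOf S) w).out : S) = w * n := by
    intro w
    obtain ⟨n, hn⟩ := QuotientGroup.mk_out_eq_mul (N.subgroupOf S) w
    exact ⟨((n : S) : G), Subgroup.mem_subgroupOf.1 n.2, by rw [hn]; rfl⟩
  symm
  refine Finset.sum_bij (fun (q : ↥S' ⧸ N.subgroupOf S') _ =>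
      QuotientGroup.mk (s := N.subgroupOf S) (⟨((q.out : S') : G), hS (q.out : S').2⟩ : S))
    ?_ ?_ ?_ ?_
  · intro q _
    simp only [Finset.mem_filter, Finset.mem_univ, true_and]
    obtain ⟨n, hn, e⟩ := hout (⟨((q.out : S') : G), hS (q.out : S').2⟩ : S)
    rw [e]
    exact S'.mul_mem (q.out : S').2 (hN hn)
  · intro q _ q' _ h
    rw [← QuotientGroup.out_eq' q, ← QuotientGroup.out_eq' q', QuotientGroup.eq,
      Subgroup.mem_subgroupOf]
    have := Subgroup.mem_subgroupOf.1 (QuotientGroup.eq.1 h)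
    simpa using this
  · intro q hq
    simp only [Finset.mem_filter, Finset.mem_univ, true_and] at hq
    refine ⟨QuotientGroup.mk (⟨_, hq⟩ : S'), Finset.mem_univ _, ?_⟩
    conv_rhs => rw [← QuotientGroup.out_eq' q]
    rw [QuotientGroup.eq, Subgroup.mem_subgroupOf]
    obtain ⟨n, hn⟩ := QuotientGroup.mk_out_eq_mul (N.subgroupOf S') (⟨_, hq⟩ : S')
    rw [hn]
    have := N.inv_mem (Subgroup.mem_subgroupOf.1 n.2)
    simpa using this
  · intro q _
    exact conjGA_eq_of_coset ha (x := (⟨((q.out : S') : G), hS (q.out : S').2⟩ : S))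
      (QuotientGroup.out_eq' _).symm

theorem mul_trN_mul {S N : Subgroup G} {a b c : MonoidAlgebra R G} (hb : IsPInv S b)
    (hc : IsPInv S c) : b * trN S N a * c = trN S N (b * a * c) := by
  rw [trN, trN, Finset.mul_sum, Finset.sum_mul]
  refine Finset.sum_congr rfl fun q _ => ?_
  rw [conjGA_mul, conjGA_mul, isPInv_iff_conjGA.1 hb _ (q.out : S).2,
    isPInv_iff_conjGA.1 hc _ (q.out : S).2]

/-- An invariant element with small point stabilisers is a trace. -/
theorem exists_trN {S N : Subgroup G} (hNS : N ≤ S) {y : MonoidAlgebra R G} (hy : IsPInv S y)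
    (hst : ∀ x, y.coeff x ≠ 0 → ∀ u ∈ S, u * x * u⁻¹ = x → u ∈ N) :
    ∃ a : MonoidAlgebra R G, IsPInv N a ∧ (∀ x, y.coeff x = 0 → a.coeff x = 0) ∧
      trN S N a = y := by
  classical
  let O : G → Set G := fun x => {z | ∃ u ∈ S, u * x * u⁻¹ = z}
  have hO : ∀ x, x ∈ O x := fun x => ⟨1, S.one_mem, by group⟩
  have hOeq : ∀ u ∈ S, ∀ x, O (u * x * u⁻¹) = O x := fun u hu x => by
    ext z
    refine ⟨fun ⟨v, hv, e⟩ => ⟨v * u, S.mul_mem hv hu, by rw [← e]; group⟩,
      fun ⟨v, hv, e⟩ => ⟨v * u⁻¹, S.mul_mem hv (S.inv_mem hu), by rw [← e]; group⟩⟩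
  let pick : Set G → G := fun s => if h : s.Nonempty then h.choose else 1
  have hpick : ∀ x, ∃ u ∈ S, u * x * u⁻¹ = pick (O x) := fun x => by
    have h : (O x).Nonempty := ⟨x, hO x⟩
    simp only [pick, dif_pos h]
    exact h.choose_spec
  refine ⟨mkGA fun x => if ∃ n ∈ N, n * x * n⁻¹ = pick (O x) then y.coeff x else 0, ?_, ?_, ?_⟩
  · intro u hu x
    rw [coeff_mkGA, coeff_mkGA, hy u (hNS hu) x, hOeq u (hNS hu) x]
    refine if_congr ⟨fun ⟨n, hn, e⟩ => ⟨n * u, N.mul_mem hn hu, by rw [← e]; group⟩,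
      fun ⟨n, hn, e⟩ => ⟨n * u⁻¹, N.mul_mem hn (N.inv_mem hu), by rw [← e]; group⟩⟩ rfl rfl
  · intro x hx
    rw [coeff_mkGA, hx]
    exact ite_self 0
  · ext x
    rw [trN, coeff_sum, Finset.sum_apply']
    simp only [coeff_conjGA, coeff_mkGA]
    have hinv : ∀ q : ↥S ⧸ N.subgroupOf S,
        y.coeff (((q.out : S) : G)⁻¹ * x * ((q.out : S) : G)) = y.coeff x ∧
          O (((q.out : S) : G)⁻¹ * x * ((q.out : S) : G)) = O x := fun q => by
      have h1 := hy _ (S.inv_mem (q.out : S).2) x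
      have h2 := hOeq _ (S.inv_mem (q.out : S).2) x
      rw [inv_inv] at h1 h2
      exact ⟨h1, h2⟩
    simp only [(hinv _).1, (hinv _).2]
    by_cases hx : y.coeff x = 0
    · simp [hx]
    obtain ⟨u, hu, hu'⟩ := hpick x
    rw [Finset.sum_eq_single (QuotientGroup.mk (s := N.subgroupOf S) (⟨u, hu⟩⁻¹ : S))]
    · rw [if_pos]
      obtain ⟨n, hn⟩ := QuotientGroup.mk_out_eq_mul (N.subgroupOf S) (⟨u, hu⟩⁻¹ : S)
      refine ⟨((n : S) : G), Subgroup.mem_subgroupOf.1 n.2, ?_⟩
      rw [hn, ← hu']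
      push_cast
      group
    · intro q _ hq
      rw [if_neg]
      rintro ⟨n, hn, e⟩
      refine hq ?_
      have hmem : u * ((q.out : S) : G) * n⁻¹ ∈ S :=
        S.mul_mem (S.mul_mem hu (q.out : S).2) (S.inv_mem (hNS hn))
      have hne : y.coeff (u * x * u⁻¹) ≠ 0 := by rwa [hy u hu x]
      have hfix : u * ((q.out : S) : G) * n⁻¹ * (u * x * u⁻¹) *
          (u * ((q.out : S) : G) * n⁻¹)⁻¹ = u * x * u⁻¹ := by
        calc _ = u * ((q.out : S) : G) * (n⁻¹ * (n * (((q.out : S) : G)⁻¹ * x * ((q.out : S) : G))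
              * n⁻¹) * n) * ((q.out : S) : G)⁻¹ * u⁻¹ := by rw [e, ← hu']; group
          _ = u * x * u⁻¹ := by group
      have h3 := N.inv_mem (N.mul_mem (hst _ hne _ hmem hfix) hn)
      conv_lhs => rw [← QuotientGroup.out_eq' q]
      rw [QuotientGroup.eq, Subgroup.mem_subgroupOf]
      simpa [mul_assoc] using h3
    · simp

/-- Invariance under a further subgroup can be had by averaging, when its order is invertible. -/
theorem exists_trN_invariant {S N Z : Subgroup G} [Fintype Z] (hNS : N ≤ S)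
    (hcomm : ∀ z ∈ Z, ∀ w ∈ S, Commute z w) (hunit : IsUnit (Nat.card Z : R))
    {y : MonoidAlgebra R G} (hy : IsPInv S y) (hyZ : IsPInv Z y)
    (hst : ∀ x, y.coeff x ≠ 0 → ∀ u ∈ S, u * x * u⁻¹ = x → u ∈ N) :
    ∃ a : MonoidAlgebra R G, IsPInv (N ⊔ Z) a ∧ (∀ x, y.coeff x = 0 → a.coeff x = 0) ∧
      trN S N a = y := by
  classical
  obtain ⟨a, haN, hsupp, htr⟩ := exists_trN hNS hy hst
  obtain ⟨r, hr⟩ := hunit.exists_left_inv
  refine ⟨r • ∑ z : Z, conjGA (z : G) a, isPInv_sup ?_ ?_, ?_, ?_⟩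
  · intro u hu x
    simp only [coeff_smul, Finsupp.smul_apply, coeff_sum, Finset.sum_apply', coeff_conjGA]
    congr 1
    refine Finset.sum_congr rfl fun z _ => ?_
    rw [← haN u hu ((z : G)⁻¹ * x * z)]
    congr 1
    have h := (hcomm z z.2 u (hNS hu))
    calc (z : G)⁻¹ * (u * x * u⁻¹) * z = (z : G)⁻¹ * u * x * (u⁻¹ * z) := by group
      _ = u * (z : G)⁻¹ * x * ((z : G) * u⁻¹) := by
          rw [h.inv_left.eq, h.inv_right.eq]
      _ = u * ((z : G)⁻¹ * x * z) * u⁻¹ := by group
  · intro u hu x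
    simp only [coeff_smul, Finsupp.smul_apply, coeff_sum, Finset.sum_apply', coeff_conjGA]
    congr 1
    refine Fintype.sum_equiv (Equiv.mulLeft (⟨u, hu⟩⁻¹ : Z)) _ _ fun z => ?_
    congr 1
    simp [mul_assoc]
  · intro x hx
    simp only [coeff_smul, Finsupp.smul_apply, coeff_sum, Finset.sum_apply', coeff_conjGA]
    rw [Finset.sum_eq_zero fun z _ => hsupp _ ?_, smul_zero]
    rw [← hyZ z z.2]
    convert hx using 2
    group
  · have h1 : ∀ z : Z, trN S N (conjGA (z : G) a) = y := fun z => by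
      rw [trN]
      simp only [conjGA_conjGA, ← (hcomm z z.2 _ (Subtype.prop _)).eq]
      simp only [← conjGA_conjGA, ← conjGA_sum]
      rw [show (∑ q : ↥S ⧸ N.subgroupOf S, conjGA ((q.out : S) : G) a) = trN S N a from rfl, htr,
        isPInv_iff_conjGA.1 hyZ _ z.2]
    have h2 : trN S N (r • ∑ z : Z, conjGA (z : G) a) =
        r • ∑ z : Z, trN S N (conjGA (z : G) a) := by
      ext x
      simp only [trN, coeff_sum, Finset.sum_apply', coeff_conjGA, coeff_smul, Finsupp.smul_apply,
        smul_eq_mul, Finset.mul_sum]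
      exact Finset.sum_comm
    rw [h2, Finset.sum_congr rfl fun z _ => h1 z, Finset.sum_const, Finset.card_univ,
      ← Nat.card_eq_fintype_card, ← Nat.cast_smul_eq_nsmul R, smul_smul, hr, one_smul]

end General

section Residue

variable {p : ℕ} {M : Ideal AlgInt} [M.IsPrime]

local notation "cen" Q => Subgroup.centralizer ((Q : Subgroup G) : Set G)

/-- The Brauer map read in the whole group algebra. -/
noncomputable def br (Q : Subgroup G) (a : MonoidAlgebra (kres M) G) :
    MonoidAlgebra (kres M) G := inclSub (cen Q) (resSub (cen Q) a)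

theorem coeff_br (Q : Subgroup G) (a : MonoidAlgebra (kres M) G) (x : G)
    [Decidable (x ∈ cen Q)] : (br Q a).coeff x = if x ∈ cen Q then a.coeff x else 0 := by
  split_ifs with h
  · rw [br, show x = ((⟨x, h⟩ : (cen Q)) : G) from rfl, coeff_inclSub_of_mem, coeff_resSub]
  · exact coeff_inclSub_of_not_mem _ _ h

theorem br_supp (Q : Subgroup G) (a : MonoidAlgebra (kres M) G) :
    ∀ x ∉ (cen Q), (br Q a).coeff x = 0 := fun _ h => coeff_inclSub_of_not_mem _ _ h

theorem br_eq_self {Q : Subgroup G} {a : MonoidAlgebra (kres M) G}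
    (ha : ∀ x ∉ (cen Q), a.coeff x = 0) : br Q a = a := inclSub_resSub _ ha

theorem br_zero (Q : Subgroup G) : br Q (0 : MonoidAlgebra (kres M) G) = 0 := by
  ext x; classical rw [coeff_br]; simp

theorem br_add (Q : Subgroup G) (a b : MonoidAlgebra (kres M) G) :
    br Q (a + b) = br Q a + br Q b := by
  ext x; classical simp only [coeff_br, coeff_add, Finsupp.add_apply]; split_ifs <;> simp

theorem br_one (Q : Subgroup G) : br Q (1 : MonoidAlgebra (kres M) G) = 1 := by
  rw [br, resSub_one, map_one]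

theorem br_sum (Q : Subgroup G) {ι : Type*} (s : Finset ι)
    (a : ι → MonoidAlgebra (kres M) G) : br Q (∑ i ∈ s, a i) = ∑ i ∈ s, br Q (a i) := by
  classical
  induction s using Finset.induction_on with
  | empty => simp [br_zero]
  | insert i s hi ih => rw [Finset.sum_insert hi, Finset.sum_insert hi, br_add, ih]

theorem br_mul (hM : IsPModular p M) {Q : Subgroup G} (hQ : IsPGroup p Q)
    {a b : MonoidAlgebra (kres M) G} (ha : IsPInv Q a) (hb : IsPInv Q b) :
    br Q (a * b) = br Q a * br Q b := by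
  rw [br, br, br, resSub_mul hM hQ ha hb, map_mul]

theorem br_br {Q T : Subgroup G} (h : Q ≤ T) (a : MonoidAlgebra (kres M) G) :
    br T (br Q a) = br T a := by
  classical
  ext x
  rw [coeff_br, coeff_br, coeff_br]
  split_ifs with h1 h2
  · rfl
  · exact absurd (centralizer_le_centralizer h h1) h2
  · rfl

theorem isPInv_br {Q Y : Subgroup G} (hY : Y ≤ Subgroup.normalizer (Q : Set G))
    {a : MonoidAlgebra (kres M) G} (ha : IsPInv Y a) : IsPInv Y (br Q a) := by
  classical
  intro u hu x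
  rw [coeff_br, coeff_br, ha u hu x]
  refine if_congr ?_ rfl rfl
  have hu' : u ∈ Subgroup.normalizer ((cen Q : Subgroup G) : Set G) := by
    have := hY hu
    rw [Subgroup.mem_normalizer_iff]
    intro c
    simp only [Subgroup.mem_centralizer_iff]
    constructor
    · intro hc q hq
      have h1 := hc (u⁻¹ * q * u) ((Subgroup.mem_normalizer_iff''.1 this q).1 hq)
      calc q * (u * c * u⁻¹) = u * ((u⁻¹ * q * u) * c) * u⁻¹ := by group
        _ = u * (c * (u⁻¹ * q * u)) * u⁻¹ := by rw [h1]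
        _ = _ := by group
    · intro hc q hq
      have h1 := hc (u * q * u⁻¹) ((Subgroup.mem_normalizer_iff.1 this q).1 hq)
      calc q * c = u⁻¹ * ((u * q * u⁻¹) * (u * c * u⁻¹)) * u := by group
        _ = u⁻¹ * ((u * c * u⁻¹) * (u * q * u⁻¹)) * u := by rw [h1]
        _ = c * q := by group
  exact ((Subgroup.mem_normalizer_iff.1 hu' x)).symm

open Classical in
/-- A trace seen at the centralizer of a `p`-subgroup: only the fixed cosets remain. -/
theorem coeff_trN_fixed (hM : IsPModular p M) {S N U : Subgroup G} (hU : IsPGroup p U)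
    (hUS : U ≤ S) {a : MonoidAlgebra (kres M) G} (ha : IsPInv N a) {c : G} (hc : c ∈ cen U) :
    (trN S N a).coeff c = ∑ q : ↥S ⧸ N.subgroupOf S with
        (∀ u ∈ U, ((q.out : S) : G)⁻¹ * u * ((q.out : S) : G) ∈ N),
      a.coeff (((q.out : S) : G)⁻¹ * c * ((q.out : S) : G)) := by
  have := Fact.mk hM.1
  have := charP_kres hM
  let _ : MulAction U (↥S ⧸ N.subgroupOf S) := MulAction.compHom _ (Subgroup.inclusion hUS)
  rw [trN, coeff_sum, Finset.sum_apply']
  simp only [coeff_conjGA]
  rw [sum_eq_sum_fixed hU (p := p) (fun v => by simp [nsmul_eq_mul]) _]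
  · refine Finset.sum_congr (Finset.filter_congr fun q _ => ?_) fun q _ => rfl
    have key : ∀ u : U, u • q = q ↔ ((q.out : S) : G)⁻¹ * (u : G) * ((q.out : S) : G) ∈ N := by
      intro u
      have e : u • q = QuotientGroup.mk (s := N.subgroupOf S) (Subgroup.inclusion hUS u * q.out) := by
        conv_lhs => rw [← QuotientGroup.out_eq' q]
        rfl
      rw [e]
      conv_lhs => rhs; rw [← QuotientGroup.out_eq' q]
      rw [eq_comm, QuotientGroup.eq, Subgroup.mem_subgroupOf]
      simp [mul_assoc]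
    rw [MulAction.mem_fixedPoints]
    exact ⟨fun h u hu => (key ⟨u, hu⟩).1 (h ⟨u, hu⟩), fun h u => (key u).2 (h u u.2)⟩
  · intro u q
    obtain ⟨n, hn⟩ := QuotientGroup.mk_out_eq_mul (N.subgroupOf S) (Subgroup.inclusion hUS u * q.out)
    have e : u • q = QuotientGroup.mk (s := N.subgroupOf S) (Subgroup.inclusion hUS u * q.out) := by
      conv_lhs => rw [← QuotientGroup.out_eq' q]
      rfl
    rw [e, hn]
    have h1 := ha _ (N.inv_mem (Subgroup.mem_subgroupOf.1 n.2))
      (((q.out : S) : G)⁻¹ * c * ((q.out : S) : G))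
    rw [inv_inv] at h1
    rw [← h1]
    congr 1
    have h2 : (u : G)⁻¹ * c * u = c := by
      rw [mul_assoc, ← Subgroup.mem_centralizer_iff.1 hc u u.2, inv_mul_cancel_left]
    conv_rhs => rw [← h2]
    simp only [Subgroup.coe_mul, Subgroup.coe_inclusion]
    group

end Residue

end CfsgLib.BlockB.StarBr
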