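import Cfsg.Agent.Lib.BlockB.StarVal
import Cfsg.Agent.Lib.BlockA.BlockFusion

/-!
The product of a character of a block with a fusion-stable function on a defect group, defined
section by section.
-/

set_option autoImplicit false
set_option linter.unusedSectionVars false
set_option maxHeartbeats 1000000

namespace CfsgLib.BlockB.Star

open Cfsg CfsgLib.Block CfsgLib.BlockA CfsgLib.BlockB.SubSum CfsgLib.BlockB.HeightBound
  CfsgLib.BlockB.StarVal MonoidAlgebra

universe u

variable {G : Type u} [Group G] [Fintype G] {p : ℕ} {M : Ideal AlgInt} [M.IsPrime]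
  {P : Subgroup G} {e : Set (IrrCharacter (Subgroup.centralizer (P : Set G)))}

local notation "cen" Q => Subgroup.centralizer ((Q : Subgroup G) : Set G)

/-- `(u, β)` is conjugate to the subsection at `x` below `(P, e)`. -/
def Rep (p : ℕ) (M : Ideal AlgInt) (P : Subgroup G) (e : Set (IrrCharacter (cen P))) (u : G)
    (β : G → ℂ) (x : P) : Prop :=
  ∃ (a : G) (f : Set (IrrCharacter (cen (Subgroup.zpowers (x : G))))),
    a * (x : G) * a⁻¹ = u ∧ SubpairLE p M (Subgroup.zpowers (x : G)) f P e ∧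
      β = conjFun a (subgroupBlockCoeff (cen (Subgroup.zpowers (x : G))) f)

/-- A function on `P` constant on the classes of the fusion of the block. -/
def IsStable (p : ℕ) (M : Ideal AlgInt) (P : Subgroup G) (e : Set (IrrCharacter (cen P)))
    (lam : P → ℂ) : Prop :=
  ∀ (x y : P) (g : G), IsFus p M P e (Subgroup.zpowers (x : G)) g →
    g * (x : G) * g⁻¹ = y → lam y = lam x

open Classical in
/-- The weight of the subsection `(u, β)`. -/
noncomputable def L (p : ℕ) (M : Ideal AlgInt) (P : Subgroup G) (e : Set (IrrCharacter (cen P)))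
    (lam : P → ℂ) (u : G) (β : G → ℂ) : ℂ :=
  if h : ∃ x, Rep p M P e u β x then lam h.choose else 0

open Classical in
/-- The `p`-part of an element. -/
noncomputable def ppart (p : ℕ) (g : G) : G :=
  if h : ∃ x, IsPPart p g x then h.choose else 1

/-- The product of `χ` and `lam`. -/
noncomputable def star (p : ℕ) (M : Ideal AlgInt) [M.IsPrime] (P : Subgroup G)
    (e : Set (IrrCharacter (cen P))) (χ : G → ℂ) (lam : P → ℂ) (g : G) : ℂ :=
  ∑ β ∈ Bl M (ppart p g), L p M P e lam (ppart p g) β * subFun χ β g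

theorem ppart_eq (hp : p.Prime) {g x : G} (hx : IsPPart p g x) : ppart p g = x := by
  have h : ∃ x, IsPPart p g x := ⟨x, hx⟩
  rw [ppart, dif_pos h]
  exact isPPart_unique hp h.choose_spec hx

theorem subFun_conjFun {χ : G → ℂ} (hχ : IsClassFunction G χ) (a g : G) (β : G → ℂ) :
    subFun χ (conjFun a β) (a * g * a⁻¹) = subFun χ β g := by
  unfold subFun conjFun
  refine Fintype.sum_equiv (MulAut.conj a⁻¹).toEquiv _ _ fun k => ?_
  simp only [MulEquiv.toEquiv_eq_coe, MulEquiv.coe_toEquiv, MulAut.conj_apply, inv_inv]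
  congr 1
  rw [← hχ (a⁻¹ * k * a * g) a]
  congr 1
  group

theorem conjFun_one (β : G → ℂ) : conjFun 1 β = β := by
  funext k; simp [conjFun]

theorem conjFun_inv (a : G) (β : G → ℂ) : conjFun a⁻¹ (conjFun a β) = β := by
  rw [conjFun_conjFun, inv_mul_cancel, conjFun_one]

theorem rep_conj_iff {a u : G} {β : G → ℂ} {x : P} :
    Rep p M P e (a * u * a⁻¹) (conjFun a β) x ↔ Rep p M P e u β x := by
  constructor
  · rintro ⟨c, f, hc, hf, hβ⟩
    refine ⟨a⁻¹ * c, f, ?_, hf, ?_⟩
    · calc a⁻¹ * c * (x : G) * (a⁻¹ * c)⁻¹ = a⁻¹ * (c * (x : G) * c⁻¹) * a := by group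
        _ = u := by rw [hc]; group
    · rw [← conjFun_conjFun, ← hβ, conjFun_inv]
  · rintro ⟨c, f, hc, hf, hβ⟩
    refine ⟨a * c, f, ?_, hf, by rw [hβ, conjFun_conjFun]⟩
    rw [← hc]
    group

theorem L_linear {ι : Type*} (s : Finset ι) (c : ι → ℂ) (lam : ι → P → ℂ) (u : G) (β : G → ℂ) :
    L p M P e (fun x => ∑ i ∈ s, c i * lam i x) u β = ∑ i ∈ s, c i * L p M P e (lam i) u β := by
  classical
  unfold L
  by_cases h : ∃ x, Rep p M P e u β x
  · simp only [dif_pos h]
  · simp only [dif_neg h, mul_zero, Finset.sum_const_zero]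

theorem L_mul (lam lam' : P → ℂ) (u : G) (β : G → ℂ) :
    L p M P e (fun x => lam x * lam' x) u β = L p M P e lam u β * L p M P e lam' u β := by
  classical
  unfold L
  split_ifs <;> simp

theorem L_conj (lam : P → ℂ) (u : G) (β : G → ℂ) :
    L p M P e (fun x => (starRingEnd ℂ) (lam x)) u β = (starRingEnd ℂ) (L p M P e lam u β) := by
  classical
  unfold L
  split_ifs <;> simp

theorem star_linear {ι : Type*} (s : Finset ι) (c : ι → ℂ) (lam : ι → P → ℂ) (χ : G → ℂ) (g : G) :
    star p M P e χ (fun x => ∑ i ∈ s, c i * lam i x) g =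
      ∑ i ∈ s, c i * star p M P e χ (lam i) g := by
  simp only [star, L_linear, Finset.sum_mul, Finset.mul_sum]
  rw [Finset.sum_comm]
  refine Finset.sum_congr rfl fun i _ => Finset.sum_congr rfl fun β _ => ?_
  ring

variable (hM : IsPModular p M)
include hM

theorem subgroupBlockCoeff_conjBlock (Q : Subgroup G) (a : G)
    (f : Set (IrrCharacter (cen Q))) :
    subgroupBlockCoeff (cen (Q.map (MulAut.conj a).toMonoidHom)) (conjBlock Q a f) =
      conjFun a (subgroupBlockCoeff (cen Q) f) := by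
  funext g
  unfold conjFun subgroupBlockCoeff
  have hiff : g ∈ (cen (Q.map (MulAut.conj a).toMonoidHom)) ↔ a⁻¹ * g * a ∈ cen Q := by
    rw [← map_conj_centralizer, CfsgLib.Block.mem_map_conj_iff]
  by_cases hg : g ∈ cen (Q.map (MulAut.conj a).toMonoidHom)
  · rw [dif_pos hg, dif_pos (hiff.1 hg), conjBlock_eq_blockMap Q a f, blockCoeff_blockMap]
    exact congrArg _ (Subtype.ext (coe_cenMap Q a ⟨g, hg⟩))
  · rw [dif_neg hg, dif_neg fun h => hg (hiff.2 h)]

theorem sIdem_eq_of_coeff {Q R : Subgroup G} {f : Set (IrrCharacter (cen Q))}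
    {f' : Set (IrrCharacter (cen R))}
    (h : subgroupBlockCoeff (cen Q) f = subgroupBlockCoeff (cen R) f') :
    sIdem M (cen Q) f = sIdem M (cen R) f' := by
  rw [← mkGA_subgroupBlockCoeff hM, ← mkGA_subgroupBlockCoeff hM, h]

variable (he : IsBrauerPair p M P e) {lam : P → ℂ} (hlam : IsStable p M P e lam)
include he hlam

/-- The weight does not depend on the chosen conjugate. -/
theorem L_eq {u : G} {β : G → ℂ} {x : P} (h : Rep p M P e u β x) :
    L p M P e lam u β = lam x := by
  classical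
  have h' : ∃ x, Rep p M P e u β x := ⟨x, h⟩
  rw [L, dif_pos h']
  obtain ⟨a, f, ha, hf, hβ⟩ := h
  generalize hy : h'.choose = y
  obtain ⟨c, f', hc, hf', hβ'⟩ := hy ▸ h'.choose_spec
  have hxy : c⁻¹ * a * (x : G) * (c⁻¹ * a)⁻¹ = y := by
    calc c⁻¹ * a * (x : G) * (c⁻¹ * a)⁻¹ = c⁻¹ * (a * (x : G) * a⁻¹) * c := by group
      _ = c⁻¹ * (c * (y : G) * c⁻¹) * c := by rw [ha, hc]
      _ = y := by group
  have hmap : (Subgroup.zpowers (x : G)).map (MulAut.conj (c⁻¹ * a)).toMonoidHom =
      Subgroup.zpowers (y : G) := by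
    rw [MonoidHom.map_zpowers, ← hxy]
    rfl
  refine hlam x y _ ⟨?_, f, hf, ?_⟩ hxy
  · rw [hmap]
    exact Subgroup.zpowers_le.2 y.2
  · have hidx : (⟨_, conjBlock (Subgroup.zpowers (x : G)) (c⁻¹ * a) f⟩ : BrauerPairIdx G) =
        ⟨Subgroup.zpowers (y : G), f'⟩ := by
      refine pairIdx_ext hM hmap (conjBlock_eq_blockMap _ _ f ▸ isPBlock_blockMap _
        (isBrauerPair_of_subpairLE he hf).2) (isBrauerPair_of_subpairLE he hf').2 ?_
      refine sIdem_eq_of_coeff hM ?_
      rw [subgroupBlockCoeff_conjBlock hM, ← conjFun_conjFun, ← hβ, hβ', conjFun_inv]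
    unfold SubpairLE at hf' ⊢
    rwa [hidx]

omit hlam in
theorem L_eq_zero {u : G} {β : G → ℂ} (h : ∀ x, ¬ Rep p M P e u β x) :
    L p M P e lam u β = 0 := by
  classical
  rw [L, dif_neg]
  exact fun ⟨x, hx⟩ => h x hx

theorem L_conjFun (a u : G) (β : G → ℂ) :
    L p M P e lam (a * u * a⁻¹) (conjFun a β) = L p M P e lam u β := by
  by_cases h : ∃ x, Rep p M P e u β x
  · obtain ⟨x, hx⟩ := h
    rw [L_eq hM he hlam hx, L_eq hM he hlam (rep_conj_iff.2 hx)]
  · push Not at h
    rw [L_eq_zero hM he h, L_eq_zero hM he fun x => mt rep_conj_iff.1 (h x)]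

/-- The product is a class function. -/
theorem star_isClassFunction {χ : G → ℂ} (hχ : IsClassFunction G χ) :
    IsClassFunction G (star p M P e χ lam) := by
  classical
  intro g a
  have hp := hM.1
  obtain ⟨x, hx⟩ := exists_isPPart hp g
  unfold star
  rw [ppart_eq hp hx, ppart_eq hp (isPPart_conj hx a)]
  have hmem : ∀ (c : G) (z : G) (β : G → ℂ), β ∈ Bl M z → conjFun c β ∈ Bl M (c * z * c⁻¹) := by
    intro c z β hβ
    simp only [Bl, Finset.mem_image, mem_allBlocks] at hβ ⊢
    obtain ⟨b, hb, rfl⟩ := hβ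
    exact ⟨blockMap (cenConj c z) b, isPBlock_blockMap _ hb,
      (conjFun_subgroupBlockCoeff c z b).symm⟩
  symm
  refine Finset.sum_bij' (fun β _ => conjFun a β) (fun β _ => conjFun a⁻¹ β)
    (fun β hβ => hmem a x β hβ) (fun β hβ => ?_) (fun β _ => conjFun_inv a β) (fun β _ => ?_)
    fun β _ => ?_
  · have := hmem a⁻¹ _ β hβ
    rwa [show a⁻¹ * (a * x * a⁻¹) * a⁻¹⁻¹ = x by group] at this
  · have := conjFun_inv (G := G) a⁻¹ β
    rwa [inv_inv] at this
  · rw [L_conjFun hM he hlam, subFun_conjFun hχ]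

omit hlam in
/-- The product on a section. -/
theorem star_apply {χ : G → ℂ} (hχ : IsClassFunction G χ) {x : G}
    [Fintype (Subgroup.centralizer ({x} : Set G))] (hx : ∃ k : ℕ, orderOf x = p ^ k)
    {v : Subgroup.centralizer ({x} : Set G)} (hv : ¬ p ∣ orderOf v) :
    star p M P e χ lam (x * (v : G)) =
      ∑ b ∈ allBlocks M (Subgroup.centralizer ({x} : Set G)),
        L p M P e lam x (subgroupBlockCoeff (Subgroup.centralizer ({x} : Set G)) b) *
          blockPart b (fun c : Subgroup.centralizer ({x} : Set G) => χ (x * (c : G))) v := by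
  classical
  have hp := ppart_eq hM.1 (isPPart_mul_centralizer hM hx hv)
  unfold star
  rw [hp, Bl, Finset.sum_image (subgroupBlockCoeff_injOn hM)]
  refine Finset.sum_congr rfl fun b _ => ?_
  rw [subFun_coeff b hχ le_rfl v]

end CfsgLib.BlockB.Star
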