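import Cfsg.Agent.Lib.BlockB.StarBr
import Cfsg.Agent.Lib.BlockB.HenselIdem
import Cfsg.Agent.Lib.Block.ResidueSpan
import Cfsg.Agent.Lib.BlockA.BrauerChain
import Mathlib.LinearAlgebra.FiniteDimensional.Basic

/-!
Primitive idempotents of fixed-point algebras: either they are local, and then all the blocks they
meet lie below one Brauer pair, or they are traces from a maximal subgroup.
-/

set_option autoImplicit false
set_option linter.unusedSectionVars false
set_option maxHeartbeats 1000000

namespace CfsgLib.BlockB.StarPurity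

open Cfsg CfsgLib.Block CfsgLib.BlockA CfsgLib.BlockB.StarBr CfsgLib.BlockB.Hensel MonoidAlgebra

universe u w v

/-- An idempotent without proper idempotents below it. -/
def IsPrim {Λ : Type w} [Ring Λ] (j : Λ) : Prop :=
  j * j = j ∧ j ≠ 0 ∧ ∀ e, e * e = e → j * e = e → e * j = e → e = 0 ∨ e = j

section Algebra

variable {k : Type v} [Field k] [IsAlgClosed k] {Λ : Type w} [Ring Λ] [Algebra k Λ]
  [Module.Finite k Λ]
include k

/-- In the corner of a primitive idempotent every element is a unit or nilpotent. -/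
theorem unit_or_nilpotent {j c : Λ} (hj : IsPrim j) (hjc : j * c = c) (hcj : c * j = c) :
    (∃ y, j * y = y ∧ y * j = y ∧ y * c = j ∧ c * y = j) ∨ IsNilpotent c := by
  obtain ⟨e, y, he, hcy, hyc, -, n, hn⟩ := exists_idem_nilpotent (fieldSplit k)
    Function.injective_id c (Algebra.IsIntegral.isIntegral c)
  have hje : j * e = e := by rw [← hcy, ← mul_assoc, hjc]
  have hej : e * j = e := by rw [← hyc, mul_assoc, hcj]
  rcases hj.2.2 e he hje hej with h | h
  · refine Or.inr ⟨n, ?_⟩
    rw [h, sub_zero, mul_one] at hn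
    exact hn
  · refine Or.inl ⟨j * y * j, by simp only [← mul_assoc, hj.1], by
      simp only [mul_assoc, hj.1], ?_, ?_⟩
    · calc j * y * j * c = j * (y * c) := by simp only [mul_assoc, hjc]
        _ = j := by rw [hyc, h, hj.1]
    · calc c * (j * y * j) = c * y * j := by simp only [← mul_assoc, hcj]
        _ = j := by rw [hcy, h, hj.1]

/-- A unit of the corner written as a sum has a unit summand. -/
theorem exists_unit_summand {j : Λ} (hj : IsPrim j) {ι : Type*} (s : Finset ι) (c : ι → Λ)
    (hc : ∀ i ∈ s, j * c i = c i ∧ c i * j = c i) (hu : ∃ z, z * ∑ i ∈ s, c i = j) :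
    ∃ i ∈ s, ∃ y, j * y = y ∧ y * j = y ∧ y * c i = j ∧ c i * y = j := by
  classical
  induction s using Finset.induction_on with
  | empty =>
    obtain ⟨z, hz⟩ := hu
    rw [Finset.sum_empty, mul_zero] at hz
    exact absurd hz.symm hj.2.1
  | insert a s ha ih =>
    obtain ⟨hja, haj⟩ := hc a (Finset.mem_insert_self a s)
    rcases unit_or_nilpotent (k := k) hj hja haj with h | h
    · exact ⟨a, Finset.mem_insert_self a s, h⟩
    obtain ⟨z, hz⟩ := hu
    rw [Finset.sum_insert ha, mul_add] at hz
    set z' := j * z * j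
    have hzc : ∀ w, j * w = w → w * j = w → z' * w = j * (z * w) * j := fun w h1 h2 => by
      simp only [z', mul_assoc, h1, h2]
    obtain ⟨hs1, hs2⟩ : j * ∑ i ∈ s, c i = ∑ i ∈ s, c i ∧ (∑ i ∈ s, c i) * j = ∑ i ∈ s, c i := by
      rw [Finset.mul_sum, Finset.sum_mul]
      exact ⟨Finset.sum_congr rfl fun i hi => (hc i (Finset.mem_insert_of_mem hi)).1,
        Finset.sum_congr rfl fun i hi => (hc i (Finset.mem_insert_of_mem hi)).2⟩
    have hsum : z' * c a + z' * ∑ i ∈ s, c i = j := by
      rw [hzc _ hja haj, hzc _ hs1 hs2, ← add_mul, ← mul_add, hz, hj.1, hj.1]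
    have hz1 : j * z' = z' := by simp only [z', ← mul_assoc, hj.1]
    have hna : IsNilpotent (z' * c a) := by
      rcases unit_or_nilpotent (k := k) hj (c := z' * c a) (by rw [← mul_assoc, hz1])
        (by rw [mul_assoc, haj]) with ⟨w, -, -, hw, -⟩ | h'
      · exfalso
        -- a nilpotent element has no left inverse
        obtain ⟨n, hn⟩ := h
        have hpow : ∀ m, (w * z') ^ (m + 1) * c a ^ (m + 1) = j := fun m => by
          induction m with
          | zero => rw [pow_one, pow_one, mul_assoc, hw]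
          | succ m ihm =>
            rw [pow_succ' (c a) (m + 1), pow_succ (w * z') (m + 1), mul_assoc, ← mul_assoc (w * z'),
              mul_assoc w z', hw, pow_succ' (c a) m, ← mul_assoc j, hja, ← pow_succ' (c a) m, ihm]
        rcases Nat.eq_zero_or_pos n with rfl | hnp
        · apply hj.2.1
          rw [← mul_one j, ← pow_zero (c a), hn, mul_zero]
        · obtain ⟨m, rfl⟩ := Nat.exists_eq_succ_of_ne_zero hnp.ne'
          have := hpow m
          rw [hn, mul_zero] at this
          exact hj.2.1 this.symm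
      · exact h'
    obtain ⟨i, hi, hy⟩ := ih (fun i hi => hc i (Finset.mem_insert_of_mem hi)) (by
      obtain ⟨u, hu⟩ := hna.isUnit_one_sub
      refine ⟨((u⁻¹ : Λˣ) : Λ) * z', ?_⟩
      have h1 : j * (1 - z' * c a) = j - z' * c a := by
        rw [mul_sub, mul_one, ← mul_assoc, hz1]
      have h2 : (1 - z' * c a) * j = j - z' * c a := by
        rw [sub_mul, one_mul, mul_assoc, haj]
      rw [mul_assoc, show z' * ∑ i ∈ s, c i = (1 - z' * c a) * j by
        rw [h2, eq_sub_iff_add_eq, add_comm, hsum], ← mul_assoc, ← hu, Units.inv_mul, one_mul])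
    exact ⟨i, Finset.mem_insert_of_mem hi, hy⟩

/-- Induction over idempotents through orthogonal decompositions. -/
theorem idem_induction (P : Λ → Prop) (h0 : P 0)
    (hadd : ∀ e f, e * e = e → f * f = f → e * f = 0 → f * e = 0 → P e → P f → P (e + f))
    (hprim : ∀ j, IsPrim j → P j) : ∀ j : Λ, j * j = j → P j := by
  suffices H : ∀ (n : ℕ) (j : Λ), j * j = j →
      Module.finrank k (LinearMap.range (LinearMap.mulLeft k j)) = n → P j from
    fun j hj => H _ j hj rfl
  intro n
  induction n using Nat.strong_induction_on with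
  | _ n ih =>
  intro j hj hn
  by_cases hz : j = 0
  · rw [hz]; exact h0
  by_cases hp : IsPrim j
  · exact hprim j hp
  simp only [IsPrim, hj, true_and, ne_eq, hz, not_false_eq_true, not_forall, not_or] at hp
  obtain ⟨e, he, hje, hej, he0, hej'⟩ := hp
  have hlt : ∀ d : Λ, d * d = d → j * d = d → d * j = d → d ≠ j → Module.finrank k
      (LinearMap.range (LinearMap.mulLeft k d)) < n := by
    intro d hd hjd hdj hne
    rw [← hn]
    refine Submodule.finrank_lt_finrank_of_lt (lt_of_le_of_ne ?_ fun h => hne ?_)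
    · rintro x ⟨y, rfl⟩
      exact ⟨d * y, by simp [← mul_assoc, hjd]⟩
    · obtain ⟨y, hy⟩ : j ∈ LinearMap.range (LinearMap.mulLeft k d) := by
        rw [h]; exact ⟨1, by simp⟩
      simp only [LinearMap.mulLeft_apply] at hy
      calc d = d * j := hdj.symm
        _ = j := by rw [← hy, ← mul_assoc, hd]
  have hd : (j - e) * (j - e) = j - e := by
    rw [sub_mul, mul_sub, mul_sub, hj, hje, hej, he]; simp
  have o1 : e * (j - e) = 0 := by rw [mul_sub, hej, he, sub_self]
  have o2 : (j - e) * e = 0 := by rw [sub_mul, hje, he, sub_self]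
  have hP := hadd e (j - e) he hd o1 o2 (ih _ (hlt e he hje hej hej') e he rfl)
    (ih _ (hlt (j - e) hd (by rw [mul_sub, hj, hje]) (by rw [sub_mul, hj, hej])
      (fun h => he0 (by
        have : e = j - (j - e) := by abel
        rw [this, h, sub_self]))) _ hd rfl)
  rwa [add_sub_cancel] at hP

end Algebra

variable {G : Type u} [Group G] [Fintype G] {p : ℕ} {M : Ideal AlgInt} [M.IsPrime]

local notation "cen" Q => Subgroup.centralizer ((Q : Subgroup G) : Set G)

instance : IsAlgClosed (kres M) := isAlgClosed_kres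

variable (hM : IsPModular p M)
include hM

theorem isUnit_natCard {Z : Subgroup G} (hZ : ¬ p ∣ Nat.card Z) :
    IsUnit (Nat.card Z : kres M) := by
  have := charP_kres hM
  exact IsUnit.mk0 _ fun h => hZ ((CharP.cast_eq_zero_iff (kres M) p _).1 h)

theorem isPInv_of_commute {Y : Subgroup G} {c : MonoidAlgebra (kres M) G}
    (hc : ∀ x ∉ (cen Y), c.coeff x = 0) : IsPInv Y c := by
  intro u hu x
  by_cases hx : x ∈ cen Y
  · rw [← Subgroup.mem_centralizer_iff.1 hx u hu |>.symm, mul_inv_cancel_right]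
  · rw [hc x hx]
    refine hc _ fun h => hx ?_
    have h2 := Subgroup.mem_centralizer_iff.1 h u hu
    have hx' : u * x * u⁻¹ = x := by
      have h4 := congrArg (fun t => u⁻¹ * t) h2
      simp only [← mul_assoc, inv_mul_cancel, one_mul] at h4
      rw [h4]; group
    rwa [hx'] at h

/-- A normal inclusion from a nonzero product. -/
theorem exists_normal_of_mul_ne_zero {R T : Subgroup G} {b : Set (IrrCharacter (cen R))}
    (hb : IsBrauerPair p M R b) (hT : IsPGroup p T) (hRT : R ≤ T) (hTs : T ≤ pairStab M R b)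
    {h : Set (IrrCharacter (cen T))} (hh : IsPBlock M h)
    (hne : br T (sIdem M (cen R) b) * sIdem M (cen T) h ≠ 0) : IsNormalSubpair p M R b T h := by
  obtain ⟨ξ, hξ⟩ := isPBlock_nonempty hh
  refine (isNormalSubpair_iff hM hξ ⟨hT, hh⟩ hb).2 ⟨hRT, hTs.trans (pairStab_le R b),
    fun x hx => stabilizesBlock_of_mem hM hb.2 (hTs hx), ?_⟩
  have hP := isPInv_mono hTs (isPInv_sIdem_pairStab R b)
  have hc := isCInv_sIdem hM hRT b
  have hid := sIdem_idem hM hb.2
  refine (pairVal_idem hM hT ξ hP hc hid).resolve_left fun h0 => hne ?_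
  set w : Subalgebra.center (kres M) (MonoidAlgebra (kres M) (cen T)) :=
    ⟨resSub (cen T) (sIdem M (cen R) b), isClassCoeff_iff_mem_center.1 hc⟩ with hw
  have hww : w * w = w := Subtype.ext (by
    show resSub (cen T) _ * resSub (cen T) _ = resSub (cen T) _
    rw [← resSub_mul hM hT hP hP, hid])
  rw [pairVal_eq ξ hc] at h0
  have h1 : lam M ξ (1 - w) = 1 := by
    rw [map_sub, map_one, show lam M ξ w = 0 from h0, sub_zero]
  have h2 := mul_blkIdem_of_lam_eq_one hM (w := 1 - w) (by
    apply Subtype.ext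
    have hw' := congrArg Subtype.val hww
    simp only [MulMemClass.coe_mul] at hw'
    simp [sub_mul, mul_sub, hw']) hh hξ h1
  have h3 : (w : MonoidAlgebra (kres M) (cen T)) *
      (blkIdem M h : MonoidAlgebra (kres M) (cen T)) = 0 := by
    have := congrArg Subtype.val h2
    simpa [sub_mul] using this
  show inclSub (cen T) (resSub (cen T) (sIdem M (cen R) b)) *
    inclSub (cen T) (blkIdem M h : MonoidAlgebra (kres M) (cen T)) = 0
  rw [← map_mul]
  exact (congrArg (inclSub (cen T)) h3).trans (map_zero _)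

variable {W Z : Subgroup G}

/-- The blocks of the centralizer of `W` meeting the image of a local primitive idempotent. -/
theorem br_mul_block {j : fixAlg (kres M) (W ⊔ Z) ⊤} (hW : IsPGroup p W)
    (hcomm : ∀ z ∈ Z, ∀ w ∈ W, Commute z w) (hj : IsPrim j)
    {g : Set (IrrCharacter (cen W))} (hg : IsPBlock M g) :
    sIdem M (cen W) g * br W (j : MonoidAlgebra (kres M) G) = 0 ∨
      sIdem M (cen W) g * br W (j : MonoidAlgebra (kres M) G) =
        br W (j : MonoidAlgebra (kres M) G) := by
  set e := sIdem M (cen W) g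
  have hes : ∀ x ∉ (cen W), e.coeff x = 0 := fun x hx => coeff_sIdem_of_not_mem g hx
  have heY : IsPInv (W ⊔ Z) e := by
    refine isPInv_sup (isPInv_of_commute hM hes) fun u hu x => ?_
    exact inclSub_conj_invariant (cen W) (isClassCoeff_center (blkIdem M g))
      (Subgroup.mem_centralizer_iff.2 fun w hw => (hcomm u hu w hw).eq.symm) x
  have hW' : W ≤ W ⊔ Z := le_sup_left
  set jv : MonoidAlgebra (kres M) G := (j : MonoidAlgebra (kres M) G) with hjv
  have hjW : IsPInv W jv := isPInv_mono hW' j.2.1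
  set z : fixAlg (kres M) (W ⊔ Z) ⊤ := ⟨e, mem_fixAlg_top.2 heY⟩
  set c := j * z * j with hc
  have hbrc : br W (c : MonoidAlgebra (kres M) G) = e * br W jv := by
    show br W (jv * e * jv) = _
    rw [br_mul hM hW (isPInv_mul hjW (isPInv_mono hW' heY)) hjW,
      br_mul hM hW hjW (isPInv_mono hW' heY), br_eq_self hes,
      show br W jv * e = e * br W jv from (sIdem_mul_comm g (br_supp W jv)).symm, mul_assoc,
      ← br_mul hM hW hjW hjW]
    exact congrArg (fun t => e * br W t) (congrArg Subtype.val hj.1)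
  have hee : e * br W jv * (e * br W jv) = e * br W jv := by
    rw [show e * br W jv * (e * br W jv) = e * (br W jv * e) * br W jv by simp only [mul_assoc],
      show br W jv * e = e * br W jv from (sIdem_mul_comm g (br_supp W jv)).symm, ← mul_assoc e,
      show e * e = e from sIdem_idem hM hg, mul_assoc, ← br_mul hM hW hjW hjW]
    exact congrArg (fun t => e * br W t) (congrArg Subtype.val hj.1)
  rcases unit_or_nilpotent (k := kres M) hj (c := c) (by rw [hc, ← mul_assoc, ← mul_assoc, hj.1])
    (by rw [hc, mul_assoc, hj.1]) with ⟨y, hjy, -, hyc, -⟩ | ⟨n, hn⟩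
  · refine Or.inr ?_
    have h1 : br W (y : MonoidAlgebra (kres M) G) * (e * br W jv) = br W jv := by
      rw [← hbrc, ← br_mul hM hW (isPInv_mono hW' y.2.1) (isPInv_mono hW' c.2.1)]
      exact congrArg (br W) (congrArg Subtype.val hyc)
    calc e * br W jv = e * (br W (y : MonoidAlgebra (kres M) G) * (e * br W jv)) := by rw [h1]
      _ = (e * br W (y : MonoidAlgebra (kres M) G)) * (e * br W jv) := by rw [mul_assoc]
      _ = br W (y : MonoidAlgebra (kres M) G) * (e * (e * br W jv)) := by
          rw [sIdem_mul_comm g (br_supp W _), mul_assoc]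
      _ = br W jv := by
          rw [← mul_assoc e e, show e * e = e from sIdem_idem hM hg, h1]
  · refine Or.inl ?_
    have hpow : ∀ m : ℕ, br W (((c ^ (m + 1) : fixAlg (kres M) (W ⊔ Z) ⊤)) :
        MonoidAlgebra (kres M) G) = e * br W jv := by
      intro m
      induction m with
      | zero => rw [pow_one]; exact hbrc
      | succ m ih =>
        rw [pow_succ, MulMemClass.coe_mul, br_mul hM hW (isPInv_mono hW' (c ^ (m + 1)).2.1)
          (isPInv_mono hW' c.2.1), ih, hbrc, hee]
    rcases Nat.eq_zero_or_pos n with rfl | hnp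
    · exfalso
      apply hj.2.1
      rw [← mul_one j, ← pow_zero c, hn, mul_zero]
    · obtain ⟨m, rfl⟩ := Nat.exists_eq_succ_of_ne_zero hnp.ne'
      rw [← hpow m, show c ^ (m + 1) = 0 from hn]
      exact br_zero W

/-- **Purity.** The blocks met by a local primitive idempotent lie below one pair. -/
theorem exists_pure [Fintype Z] {j : fixAlg (kres M) (W ⊔ Z) ⊤} (hW : IsPGroup p W)
    (hcomm : ∀ z ∈ Z, ∀ w ∈ W, Commute z w) (hZ : ¬ p ∣ Nat.card Z) (hj : IsPrim j)
    (hloc : br W (j : MonoidAlgebra (kres M) G) ≠ 0) :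
    ∃ g : Set (IrrCharacter (cen W)), IsBrauerPair p M W g ∧
      ∀ R ≤ W, ∀ b : Set (IrrCharacter (cen R)), IsPBlock M b →
        sIdem M (cen R) b * br R (j : MonoidAlgebra (kres M) G) ≠ 0 →
          SubpairLE p M R b W g := by
  classical
  have := Fact.mk hM.1
  have := charP_kres hM
  set jv : MonoidAlgebra (kres M) G := (j : MonoidAlgebra (kres M) G) with hjv
  have hjW : IsPInv W jv := isPInv_mono le_sup_left j.2.1
  have hjj : jv * jv = jv := congrArg Subtype.val hj.1
  have hblocks : ∀ R : Subgroup G, ∀ a : MonoidAlgebra (kres M) G, a ≠ 0 →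
      ∃ h, IsPBlock M h ∧ sIdem M (cen R) h * a ≠ 0 := by
    intro R a ha
    by_contra h
    push Not at h
    refine ha ?_
    rw [← one_mul a, ← sum_sIdem hM (cen R), Finset.sum_mul]
    exact Finset.sum_eq_zero fun f hf => h f (mem_allBlocks.1 hf)
  obtain ⟨g, hg, hgj⟩ := hblocks W _ hloc
  have hgj' : sIdem M (cen W) g * br W jv = br W jv :=
    (br_mul_block hM hW hcomm hj hg).resolve_left hgj
  refine ⟨g, ⟨hW, hg⟩, fun R hR => ?_⟩
  suffices H : ∀ (d : ℕ) (R : Subgroup G), R ≤ W → Nat.card W - Nat.card R = d →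
      ∀ b : Set (IrrCharacter (cen R)), IsPBlock M b →
        sIdem M (cen R) b * br R jv ≠ 0 → SubpairLE p M R b W g from H _ R hR rfl
  intro d
  induction d using Nat.strong_induction_on with
  | _ d ih =>
  intro R hR hd b hb hne
  rcases eq_or_ne R W with rfl | hRW
  · have : b = g := by
      by_contra hbg
      apply hne
      rw [← hgj', ← mul_assoc, sIdem_mul_ne hM hb hg hbg, zero_mul]
    rw [this]
    exact Relation.ReflTransGen.refl
  have hRp : IsPGroup p R := hW.to_le hR
  set N := W ⊓ Subgroup.normalizer (R : Set G)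
  set S := W ⊓ pairStab M R b
  have hSW : S ≤ W := inf_le_left
  have hSN : S ≤ N := inf_le_inf_left _ (pairStab_le R b)
  have hRS : R ≤ S := le_inf hR (le_pairStab R b)
  set eb := sIdem M (cen R) b with heb
  have hebs : ∀ x ∉ (cen R), eb.coeff x = 0 := fun x hx => coeff_sIdem_of_not_mem b hx
  set y := eb * br R jv with hy
  have hRN : R ≤ N := le_inf hR Subgroup.le_normalizer
  have hZR : ∀ z ∈ Z, z ∈ cen R := fun z hz =>
    Subgroup.mem_centralizer_iff.2 fun r hr => (hcomm z hz r (hR hr)).eq.symm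
  have hebS : IsPInv S eb := isPInv_mono inf_le_right (isPInv_sIdem_pairStab R b)
  have hebZ : IsPInv Z eb :=
    isPInv_mono (fun z hz => centralizer_le_pairStab R b (hZR z hz)) (isPInv_sIdem_pairStab R b)
  have hbrZ : IsPInv Z (br R jv) := isPInv_br
    (fun z hz => Subgroup.centralizer_le_normalizer _ (hZR z hz)) (isPInv_mono le_sup_right j.2.1)
  have hbrS : IsPInv S (br R jv) :=
    isPInv_br (inf_le_right.trans (pairStab_le R b)) (isPInv_mono hSW hjW)
  have hys : ∀ x ∉ (cen R), y.coeff x = 0 := ((fixAlg (kres M) (⊥ : Subgroup G) (cen R)).mul_mem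
    ⟨fun u hu x => by rw [Subgroup.mem_bot.1 hu]; simp, hebs⟩
    ⟨fun u hu x => by rw [Subgroup.mem_bot.1 hu]; simp, br_supp R jv⟩).2
  have hyS : IsPInv S y := isPInv_mul hebS hbrS
  have hyZ : IsPInv Z y := isPInv_mul hebZ hbrZ
  have hjR : IsPInv R jv := isPInv_mono hR hjW
  have hbb : br R jv * br R jv = br R jv := by rw [← br_mul hM hRp hjR hjR, hjj]
  have heby : eb * y = y := by rw [hy, ← mul_assoc, sIdem_idem hM hb]
  have hbe : br R jv * eb = eb * br R jv := (sIdem_mul_comm b (br_supp R jv)).symm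
  have hyy : y * y = y := by
    rw [hy, show eb * br R jv * (eb * br R jv) = eb * (br R jv * eb) * br R jv by
      simp only [mul_assoc], hbe, ← mul_assoc eb, sIdem_idem hM hb, mul_assoc, hbb]
  by_cases hbig : ∃ T : Subgroup G, R < T ∧ T ≤ S ∧ br T y ≠ 0
  · obtain ⟨T, hRT, hTS, hTy⟩ := hbig
    have hTW : T ≤ W := hTS.trans hSW
    have hTp : IsPGroup p T := hW.to_le hTW
    obtain ⟨h, hh, hne'⟩ := hblocks T _ hTy
    rw [hy, br_mul hM hTp (isPInv_mono hTS hebS) (isPInv_mono hTS hbrS), br_br hRT.le,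
      ← mul_assoc] at hne'
    have h1 : br T eb * sIdem M (cen T) h ≠ 0 := by
      rw [← sIdem_mul_comm h (br_supp T eb)]
      intro h0
      exact hne' (by rw [h0, zero_mul])
    have h2 : sIdem M (cen T) h * br T jv ≠ 0 := by
      rw [sIdem_mul_comm h (br_supp T eb), mul_assoc] at hne'
      intro h0
      exact hne' (by rw [h0, mul_zero])
    have hlt : Nat.card R < Nat.card T :=
      lt_of_le_of_ne (Subgroup.card_le_of_le hRT.le) fun he =>
        hRT.ne (Subgroup.eq_of_le_of_card_ge hRT.le he.ge)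
    have hIH := ih (Nat.card W - Nat.card T) (by
      have := Subgroup.card_le_of_le hTW
      omega) T hTW rfl h hh h2
    exact Relation.ReflTransGen.head (show NormalSubpairRel p M ⟨R, b⟩ ⟨T, h⟩ from
      exists_normal_of_mul_ne_zero hM ⟨hRp, hb⟩ hTp hRT.le (hTS.trans inf_le_right) hh h1) hIH
  exfalso
  push Not at hbig
  apply hne
  have hst : ∀ x, y.coeff x ≠ 0 → ∀ u ∈ S, u * x * u⁻¹ = x → u ∈ R := by
    intro x hx u hu hfix
    by_contra huR
    have hxR : x ∈ cen R := by_contra fun h => hx (hys x h)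
    have h1 : R ⊔ Subgroup.zpowers u ≤ S := sup_le hRS (Subgroup.zpowers_le.2 hu)
    have h2 := hbig (R ⊔ Subgroup.zpowers u) (lt_of_le_of_ne le_sup_left fun he => huR (by
      rw [he]; exact Subgroup.mem_sup_right (Subgroup.mem_zpowers u))) h1
    have hxT : x ∈ cen (R ⊔ Subgroup.zpowers u) := by
      have hle : R ⊔ Subgroup.zpowers u ≤ Subgroup.centralizer ({x} : Set G) := by
        refine sup_le (fun r hr => Subgroup.mem_centralizer_singleton_iff.2
          (Subgroup.mem_centralizer_iff.1 hxR r hr)) (Subgroup.zpowers_le.2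
            (Subgroup.mem_centralizer_singleton_iff.2 ?_))
        exact mul_inv_eq_iff_eq_mul.1 hfix
      exact Subgroup.mem_centralizer_iff.2 fun w hw =>
        Subgroup.mem_centralizer_singleton_iff.1 (hle hw)
    have h3 := congrArg (fun a : MonoidAlgebra (kres M) G => a.coeff x) h2
    simp only [coeff_br, if_pos hxT] at h3
    exact hx (by simpa using h3)
  obtain ⟨a₀, ha₀, ha₀s, htr⟩ := exists_trN_invariant (N := R) (Z := Z) hRS
    (fun z hz w hw => hcomm z hz w (hSW hw)) (isUnit_natCard hM hZ) hyS hyZ hst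
  have ha₀R : ∀ x ∉ (cen R), a₀.coeff x = 0 := fun x hx => ha₀s x (hys x hx)
  set a := y * a₀ * y with ha
  have heby' : ∀ t, eb * (y * t) = y * t := fun t => by rw [← mul_assoc eb y t, heby]
  have hebA : eb * a = a := by rw [ha, mul_assoc y, heby']
  have haY : IsPInv (R ⊔ Z) a := isPInv_mul (isPInv_mul (isPInv_sup (isPInv_mono hRS hyS) hyZ) ha₀)
    (isPInv_sup (isPInv_mono hRS hyS) hyZ)
  have haR : IsPInv R a := isPInv_mono le_sup_left haY
  have has : ∀ x ∉ (cen R), a.coeff x = 0 :=
    ((fixAlg (kres M) (⊥ : Subgroup G) (cen R)).mul_mem ((fixAlg (kres M) ⊥ (cen R)).mul_mem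
      ⟨fun u hu x => by rw [Subgroup.mem_bot.1 hu]; simp, hys⟩
      ⟨fun u hu x => by rw [Subgroup.mem_bot.1 hu]; simp, ha₀R⟩)
      ⟨fun u hu x => by rw [Subgroup.mem_bot.1 hu]; simp, hys⟩).2
  have htr' : trN S R a = y := by rw [ha, ← mul_trN_mul hyS hyS, htr, hyy, hyy]
  set Y := trN N R a with hY
  have hY1 : eb * Y = y := by
    have hterm : ∀ q : ↥N ⧸ R.subgroupOf N,
        eb * conjGA ((q.out : N) : G) a =
          if ((q.out : N) : G) ∈ S then conjGA ((q.out : N) : G) a else 0 := by
      intro q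
      set t := ((q.out : N) : G)
      have htN : t ∈ N := (q.out : N).2
      conv_lhs => rw [← hebA, conjGA_mul, ← mul_assoc]
      split_ifs with ht
      · rw [show conjGA t eb = eb from isPInv_iff_conjGA.1 hebS t ht, sIdem_idem hM hb]
        conv_rhs => rw [← hebA, conjGA_mul, isPInv_iff_conjGA.1 hebS t ht]
      · have htC : t ∈ Subgroup.normalizer ((cen R : Subgroup G) : Set G) :=
          normalizer_le_normalizer_centralizer hM R htN.2
        have e1 : conjGA t eb = sIdem M (cen R) (conjSet ⟨t, htC⟩ b) := by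
          ext x
          rw [coeff_conjGA, coeff_sIdem_conjSet hM]
        rw [e1, sIdem_mul_ne hM hb (g := conjSet ⟨t, htC⟩ b) (isPBlock_blockMap _ hb) ?_, zero_mul]
        intro h
        refine ht ⟨htN.1, htN.2, fun x => ?_⟩
        rw [← h] at e1
        have := congrArg (fun z : MonoidAlgebra (kres M) G => z.coeff x) e1
        simpa using this
    rw [hY, trN, Finset.mul_sum, Finset.sum_congr rfl fun q _ => hterm q, ← Finset.sum_filter,
      sum_filter_trN hSN hRS haR, htr']
  -- the nilpotent lift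
  have hzW : IsPInv (W ⊔ Z) (trN W R a) :=
    isPInv_sup (isPInv_trN haR) (trN_invariant hcomm (isPInv_mono le_sup_right haY))
  set xA : fixAlg (kres M) (W ⊔ Z) ⊤ := j * ⟨trN W R a, mem_fixAlg_top.2 hzW⟩ * j
  have hbrz : br R (trN W R a) = Y := by
    ext c
    rw [coeff_br]
    split_ifs with hc
    · rw [coeff_trN_fixed hM hRp hR haR hc, hY, ← sum_filter_trN (inf_le_left : N ≤ W) hRN haR,
        coeff_sum, Finset.sum_apply']
      refine Finset.sum_congr (Finset.filter_congr fun q _ => ?_) fun q _ => by rw [coeff_conjGA]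
      set t := ((q.out : W) : G)
      constructor
      · intro h
        refine ⟨(q.out : W).2, ?_⟩
        have : R.map (MulAut.conj t⁻¹).toMonoidHom ≤ R := by
          rintro _ ⟨r, hr, rfl⟩
          simpa [mul_assoc] using h r hr
        simpa using inv_mem (mem_normalizer_of_map_le this)
      · intro h r hr
        exact (Subgroup.mem_normalizer_iff''.1 h.2 r).1 hr
    · rw [hY, trN, coeff_sum, Finset.sum_apply', Finset.sum_eq_zero fun q _ => ?_]
      rw [coeff_conjGA]
      refine has _ fun h => hc ?_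
      have hn := normalizer_le_normalizer_centralizer hM R (q.out : N).2.2
      have := (Subgroup.mem_normalizer_iff.1 hn _).1 h
      simpa [mul_assoc] using this
  have hbrW0 : br W (trN W R a) = 0 := by
    ext c
    rw [coeff_br]
    split_ifs with hc
    · rw [coeff_trN_fixed hM hW le_rfl haR hc]
      refine (Finset.sum_eq_zero fun q hq => absurd ?_ hRW).trans (by simp)
      refine le_antisymm hR fun w hw => ?_
      have h := (Finset.mem_filter.1 hq).2 (((q.out : W) : G) * w * ((q.out : W) : G)⁻¹)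
        (W.mul_mem (W.mul_mem (q.out : W).2 hw) (W.inv_mem (q.out : W).2))
      simpa [mul_assoc] using h
    · simp
  have hxn : IsNilpotent xA := by
    refine (unit_or_nilpotent (k := kres M) hj (c := xA) (by simp only [xA, ← mul_assoc, hj.1])
      (by simp only [xA, mul_assoc, hj.1])).resolve_left ?_
    rintro ⟨w, -, -, hw, -⟩
    apply hloc
    have h1 := congrArg (fun t : fixAlg (kres M) (W ⊔ Z) ⊤ => br W (t : MonoidAlgebra (kres M) G)) hw
    simp only [MulMemClass.coe_mul, xA] at h1
    rw [← h1, br_mul hM hW (isPInv_mono le_sup_left w.2.1)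
      (isPInv_mul (isPInv_mul hjW (isPInv_mono le_sup_left hzW)) hjW),
      br_mul hM hW (isPInv_mul hjW (isPInv_mono le_sup_left hzW)) hjW,
      br_mul hM hW hjW (isPInv_mono le_sup_left hzW), hbrW0]
    simp
  have hkey : eb * br R (xA : MonoidAlgebra (kres M) G) = y := by
    have hzR : IsPInv R (trN W R a) := isPInv_mono (hR.trans le_sup_left) hzW
    show eb * br R (jv * trN W R a * jv) = y
    rw [br_mul hM hRp (isPInv_mul hjR hzR) hjR, br_mul hM hRp hjR hzR, hbrz]
    calc eb * (br R jv * Y * br R jv) = eb * br R jv * eb * (Y * br R jv) := by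
          rw [show eb * br R jv * eb = eb * br R jv by
            rw [mul_assoc, hbe, ← mul_assoc, sIdem_idem hM hb]]
          simp only [mul_assoc]
      _ = y * (eb * Y) * br R jv := by rw [hy]; simp only [mul_assoc]
      _ = y * br R jv := by rw [hY1, hyy]
      _ = y := by rw [hy, mul_assoc, hbb]
  obtain ⟨n, hn⟩ := hxn
  have hxs := br_supp R (xA : MonoidAlgebra (kres M) G)
  have hpow : ∀ m : ℕ, eb * br R (((xA ^ (m + 1) : fixAlg (kres M) (W ⊔ Z) ⊤)) :
      MonoidAlgebra (kres M) G) = y := by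
    intro m
    induction m with
    | zero => rw [pow_one]; exact hkey
    | succ m ihm =>
      have hR' : R ≤ W ⊔ Z := hR.trans le_sup_left
      rw [pow_succ, MulMemClass.coe_mul, br_mul hM hRp (isPInv_mono hR' (xA ^ (m + 1)).2.1)
        (isPInv_mono hR' xA.2.1)]
      calc eb * (br R ((xA ^ (m + 1) : fixAlg (kres M) (W ⊔ Z) ⊤) : MonoidAlgebra (kres M) G) *
            br R (xA : MonoidAlgebra (kres M) G))
          = eb * br R ((xA ^ (m + 1) : fixAlg (kres M) (W ⊔ Z) ⊤) : MonoidAlgebra (kres M) G) *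
              (eb * br R (xA : MonoidAlgebra (kres M) G)) := by
            conv_rhs => rw [sIdem_mul_comm b (br_supp R _), mul_assoc, ← mul_assoc eb eb,
              sIdem_idem hM hb, ← mul_assoc, ← sIdem_mul_comm b (br_supp R _), mul_assoc]
        _ = y := by rw [ihm, hkey, hyy]
  rcases Nat.eq_zero_or_pos n with rfl | hnp
  · exfalso
    apply hj.2.1
    rw [← mul_one j, ← pow_zero xA, hn, mul_zero]
  · obtain ⟨m, rfl⟩ := Nat.exists_eq_succ_of_ne_zero hnp.ne'
    rw [← hpow m, show xA ^ (m + 1) = 0 from hn]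
    show eb * br R (0 : MonoidAlgebra (kres M) G) = 0
    rw [br_zero, mul_zero]

/-- **A primitive idempotent killed by the Brauer map is a trace from a maximal subgroup.** -/
theorem exists_trace_of_br_eq_zero [Fintype Z] {j : fixAlg (kres M) (W ⊔ Z) ⊤} (hW : IsPGroup p W)
    (hcomm : ∀ z ∈ Z, ∀ w ∈ W, Commute z w) (hZ : ¬ p ∣ Nat.card Z) (hj : IsPrim j)
    (hloc : br W (j : MonoidAlgebra (kres M) G) = 0) :
    ∃ (T : Subgroup G) (x : MonoidAlgebra (kres M) G), T ≤ W ∧ T.relIndex W = p ∧
      W ≤ Subgroup.normalizer (T : Set G) ∧ IsPInv (T ⊔ Z) x ∧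
      trN W T x = (j : MonoidAlgebra (kres M) G) := by
  classical
  have := Fact.mk hM.1
  set jv : MonoidAlgebra (kres M) G := (j : MonoidAlgebra (kres M) G) with hjv
  have hjW : IsPInv W jv := isPInv_mono le_sup_left j.2.1
  have hjZ : IsPInv Z jv := isPInv_mono le_sup_right j.2.1
  -- the stabiliser of a point
  let St : G → Subgroup W := fun x => (W ⊓ Subgroup.centralizer ({x} : Set G)).subgroupOf W
  have hSt : ∀ x (u : W), u ∈ St x ↔ (u : G) * x * (u : G)⁻¹ = x := fun x u => by
    simp only [St, Subgroup.mem_subgroupOf, Subgroup.mem_inf, u.2, true_and,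
      Subgroup.mem_centralizer_singleton_iff, mul_inv_eq_iff_eq_mul]
  let pick : Subgroup W → Subgroup W := fun s =>
    if h : ∃ T : Subgroup W, s ≤ T ∧ T.Normal ∧ T.index = p then h.choose else ⊤
  have hpick : ∀ x, jv.coeff x ≠ 0 → St x ≤ pick (St x) ∧ (pick (St x)).Normal ∧
      (pick (St x)).index = p := by
    intro x hx
    have hne : St x ≠ ⊤ := by
      intro h
      apply hx
      have hxC : x ∈ cen W := Subgroup.mem_centralizer_iff.2 fun w hw =>
        mul_inv_eq_iff_eq_mul.1 ((hSt x ⟨w, hw⟩).1 (h ▸ Subgroup.mem_top _))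
      have := congrArg (fun a : MonoidAlgebra (kres M) G => a.coeff x) hloc
      simp only [coeff_br, if_pos hxC] at this
      simpa using this
    obtain ⟨T, hT, hle⟩ := (eq_top_or_exists_le_coatom (St x)).resolve_left hne
    have hWn : Group.IsNilpotent W := hW.isNilpotent
    have hTn : T.Normal := Subgroup.NormalizerCondition.normal_of_coatom T
      Group.normalizerCondition_of_isNilpotent hT
    have hidx : T.index = p := by
      obtain ⟨m, hm⟩ := IsPGroup.iff_card.1 (hW.to_quotient T)
      rw [Subgroup.index_eq_card]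
      rcases Nat.eq_zero_or_pos m with rfl | hm0
      · exfalso
        rw [pow_zero] at hm
        exact hT.1 (Subgroup.index_eq_one.1 (by rw [Subgroup.index_eq_card, hm]))
      obtain ⟨C, hC⟩ := Sylow.exists_subgroup_card_pow_prime (G := ↥W ⧸ T) p (n := 1)
        (by rw [hm, pow_one]; exact dvd_pow_self p hm0.ne')
      rw [pow_one] at hC
      have h1 : T ≤ C.comap (QuotientGroup.mk' T) := fun t ht => by
        rw [Subgroup.mem_comap, QuotientGroup.mk'_apply, (QuotientGroup.eq_one_iff t).2 ht]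
        exact C.one_mem
      rcases eq_or_lt_of_le h1 with h2 | h2
      · exfalso
        have h3 : C = ⊥ := by
          rw [← Subgroup.map_comap_eq_self_of_surjective (QuotientGroup.mk'_surjective T) C, ← h2]
          exact QuotientGroup.map_mk'_self T
        rw [h3, Subgroup.card_bot] at hC
        exact hM.1.ne_one hC.symm
      · have h3 : C = ⊤ := by
          rw [← Subgroup.map_comap_eq_self_of_surjective (QuotientGroup.mk'_surjective T) C,
            hT.2 _ h2, Subgroup.map_top_of_surjective _ (QuotientGroup.mk'_surjective T)]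
        rw [← hC, h3, Subgroup.card_top]
    have h : ∃ T : Subgroup W, St x ≤ T ∧ T.Normal ∧ T.index = p := ⟨T, hle, hTn, hidx⟩
    simp only [pick, dif_pos h]
    exact h.choose_spec
  let tOf : G → Subgroup W := fun x => pick (St x)
  have hnormal : ∀ (T : Subgroup W) (u v : W), T.Normal → v ∈ T → u * v * u⁻¹ ∈ T :=
    fun T u v hT hv => hT.conj_mem v hv u
  have hSt_conj : ∀ x, ∀ u : W, ∀ v : W,
      v ∈ St ((u : G) * x * (u : G)⁻¹) ↔ u⁻¹ * v * u ∈ St x := fun x u v => by
    rw [hSt, hSt]
    push_cast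
    constructor
    · intro h
      calc _ = (u : G)⁻¹ * ((v : G) * ((u : G) * x * (u : G)⁻¹) * (v : G)⁻¹) * u := by group
        _ = x := by rw [h]; group
    · intro h
      calc _ = (u : G) * ((u : G)⁻¹ * (v : G) * u * x * ((u : G)⁻¹ * (v : G) * u)⁻¹) * (u : G)⁻¹ := by
            group
        _ = _ := by rw [h]
  -- fix one maximal subgroup for each class of conjugate stabilisers
  let cls : G → Set (Subgroup W) := fun x => {t | ∃ u : W, St ((u : G) * x * (u : G)⁻¹) = t}
  let rep : Set (Subgroup W) → Subgroup W := fun t => if h : t.Nonempty then h.choose else ⊤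
  let τ : G → Subgroup W := fun x => pick (rep (cls x))
  have hclsW : ∀ (u : W) x, cls ((u : G) * x * (u : G)⁻¹) = cls x := fun u x => by
    ext t
    exact ⟨fun ⟨v, e⟩ => ⟨v * u, by rw [← e]; congr 1; push_cast; group⟩,
      fun ⟨v, e⟩ => ⟨v * u⁻¹, by rw [← e]; congr 1; push_cast; group⟩⟩
  have hclsZ : ∀ z ∈ Z, ∀ x, cls (z * x * z⁻¹) = cls x := fun z hz x => by
    have h2 : ∀ (w : W) (t : G),
        (w : G) * (z * t * z⁻¹) * (w : G)⁻¹ = z * ((w : G) * t * (w : G)⁻¹) * z⁻¹ := fun w t => by
      have h := hcomm z hz w w.2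
      calc (w : G) * (z * t * z⁻¹) * (w : G)⁻¹ = ((w : G) * z) * t * (z⁻¹ * (w : G)⁻¹) := by group
        _ = (z * (w : G)) * t * ((w : G)⁻¹ * z⁻¹) := by rw [h.eq, h.inv_inv.eq]
        _ = _ := by group
    have h1 : ∀ u : W, St ((u : G) * (z * x * z⁻¹) * (u : G)⁻¹) = St ((u : G) * x * (u : G)⁻¹) := by
      intro u
      ext v
      rw [hSt, hSt, h2, h2, mul_left_inj, mul_right_inj]
    simp only [cls, h1]
  have hτ : ∀ x, jv.coeff x ≠ 0 → St x ≤ τ x ∧ (τ x).Normal ∧ (τ x).index = p := by
    intro x hx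
    have hne : (cls x).Nonempty := ⟨St x, 1, by simp⟩
    obtain ⟨u, hu⟩ : ∃ u : W, St ((u : G) * x * (u : G)⁻¹) = rep (cls x) := by
      simp only [rep, dif_pos hne]; exact hne.choose_spec
    obtain ⟨h1, h2, h3⟩ := hpick ((u : G) * x * (u : G)⁻¹) (by rwa [hjW u u.2 x])
    refine ⟨fun v hv => ?_, ?_, ?_⟩ <;> simp only [τ, ← hu]
    · have h4 : u * v * u⁻¹ ∈ St ((u : G) * x * (u : G)⁻¹) := by
        rw [hSt_conj]; simpa [mul_assoc] using hv
      have := hnormal _ u⁻¹ _ h2 (h1 h4)
      simpa [mul_assoc] using this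
    · exact h2
    · exact h3
  set s : Finset (Subgroup W) :=
    (Finset.univ.filter fun x : G => jv.coeff x ≠ 0).image τ
  let piece : Subgroup W → MonoidAlgebra (kres M) G := fun T =>
    mkGA fun x => if τ x = T then jv.coeff x else 0
  have hpiece : ∀ T, IsPInv (W ⊔ Z) (piece T) := by
    intro T
    refine isPInv_sup (fun u hu x => ?_) fun z hz x => ?_
    · simp only [piece, coeff_mkGA, τ, hclsW ⟨u, hu⟩ x, hjW u hu x]
    · simp only [piece, coeff_mkGA, τ, hclsZ z hz x, hjZ z hz x]
  have hsum : ∑ T ∈ s, piece T = jv := by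
    ext x
    simp only [coeff_sum, Finset.sum_apply', piece, coeff_mkGA]
    rw [Finset.sum_ite_eq]
    split_ifs with h
    · rfl
    · by_contra hne
      exact h (Finset.mem_image.2 ⟨x, Finset.mem_filter.2 ⟨Finset.mem_univ _, fun e => hne e.symm⟩,
        rfl⟩)
  let c : Subgroup W → fixAlg (kres M) (W ⊔ Z) ⊤ := fun T =>
    j * ⟨piece T, mem_fixAlg_top.2 (hpiece T)⟩ * j
  have hc : ∑ T ∈ s, c T = j := by
    apply Subtype.ext
    simp only [c, AddSubmonoidClass.coe_finsetSum, MulMemClass.coe_mul]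
    rw [← Finset.sum_mul, ← Finset.mul_sum, hsum]
    show jv * jv * jv = jv
    rw [show jv * jv = jv from congrArg Subtype.val hj.1]
    exact congrArg Subtype.val hj.1
  obtain ⟨T, hT, y, -, -, hy, -⟩ := exists_unit_summand (k := kres M) hj s c
    (fun T _ => ⟨by simp only [c, ← mul_assoc, hj.1], by simp only [c, mul_assoc, hj.1]⟩)
    ⟨j, by rw [hc, hj.1]⟩
  obtain ⟨x₀, hx₀, hx₀T⟩ := Finset.mem_image.1 hT
  obtain ⟨-, hTn, hTi⟩ := hτ x₀ (Finset.mem_filter.1 hx₀).2
  rw [hx₀T] at hTn hTi
  set T' : Subgroup G := T.map W.subtype with hT'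
  have hT'W : T' ≤ W := Subgroup.map_subtype_le T
  obtain ⟨a, haI, -, hatr⟩ := exists_trN_invariant (N := T') (Z := Z) hT'W hcomm
    (isUnit_natCard hM hZ) (isPInv_mono le_sup_left (hpiece T))
    (isPInv_mono le_sup_right (hpiece T)) (by
      intro x hx u hu hfix
      simp only [piece, coeff_mkGA] at hx
      split_ifs at hx with h
      · exact ⟨⟨u, hu⟩, h ▸ (hτ x hx).1 ((hSt x ⟨u, hu⟩).2 hfix), rfl⟩
      · exact absurd rfl hx)
  set yv : MonoidAlgebra (kres M) G := (y : MonoidAlgebra (kres M) G)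
  have hTZ : T' ⊔ Z ≤ W ⊔ Z := sup_le_sup_right hT'W Z
  refine ⟨T', yv * (jv * a * jv), hT'W, ?_, ?_, ?_, ?_⟩
  · rw [Subgroup.relIndex, hT', Subgroup.subgroupOf,
      Subgroup.comap_map_eq_self_of_injective W.subtype_injective, hTi]
  · intro w hw
    rw [Subgroup.mem_normalizer_iff]
    intro t
    constructor
    · rintro ⟨v, hv, rfl⟩
      exact ⟨⟨w, hw⟩ * v * ⟨w, hw⟩⁻¹, hTn.conj_mem v hv _, rfl⟩
    · rintro ⟨v, hv, e⟩
      refine ⟨⟨w, hw⟩⁻¹ * v * ⟨w, hw⟩, by simpa using hTn.conj_mem v hv ⟨w, hw⟩⁻¹, ?_⟩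
      simp only [Subgroup.coe_subtype] at e ⊢
      push_cast
      rw [e]
      group
  · exact isPInv_mul (isPInv_mono hTZ y.2.1) (isPInv_mul (isPInv_mul (isPInv_mono hTZ j.2.1) haI)
      (isPInv_mono hTZ j.2.1))
  · have h1 := congrArg Subtype.val hy
    simp only [MulMemClass.coe_mul, c] at h1
    have h2 : (1 : MonoidAlgebra (kres M) G) ∈ fixAlg (kres M) W ⊤ := Subalgebra.one_mem _
    calc trN W T' (yv * (jv * a * jv)) = trN W T' (yv * (jv * a * jv) * 1) := by rw [mul_one]
      _ = yv * trN W T' (jv * a * jv) * 1 :=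
          (mul_trN_mul (isPInv_mono le_sup_left y.2.1) h2.1).symm
      _ = yv * (jv * piece T * jv) := by rw [mul_one, ← mul_trN_mul hjW hjW, hatr]
      _ = jv := h1

end CfsgLib.BlockB.StarPurity
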