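import Cfsg.Agent.Lib.BlockB.StarVal
import Cfsg.Agent.Lib.BlockB.StarPurity
import Cfsg.Agent.Lib.BlockB.IdemCount
import Cfsg.Agent.Lib.Char.Brauer

/-!
Averages of weighted subsection values over a `p`-group commuting with `s` are local integers, when
the weights are constant on conjugate blocks and agree with a character below every Brauer pair.
-/

set_option autoImplicit false
set_option linter.unusedSectionVars false
set_option maxHeartbeats 1600000

namespace CfsgLib.BlockB.StarInduct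

open Cfsg CfsgLib.Block CfsgLib.BlockA CfsgLib.BlockB.StarBr CfsgLib.BlockB.StarTrace
  CfsgLib.BlockB.SubSum CfsgLib.BlockB.HeightBound CfsgLib.BlockB.StarLift CfsgLib.BlockB.StarVal
  CfsgLib.BlockB.StarPurity MonoidAlgebra

universe u

variable {G : Type u} [Group G] [Fintype G] {p : ℕ} {M : Ideal AlgInt} [M.IsPrime]

local notation "cen" Q => Subgroup.centralizer ((Q : Subgroup G) : Set G)

/-- The weights do not change under conjugation. -/
def IsConjWeight (M : Ideal AlgInt) [M.IsPrime] (L : G → (G → ℂ) → ℂ) : Prop :=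
  ∀ (a u : G) (β : G → ℂ), β ∈ Bl M u → L (a * u * a⁻¹) (conjFun a β) = L u β

/-- Below a Brauer pair the weights are the values of a character. -/
def IsPairWeight (p : ℕ) (M : Ideal AlgInt) [M.IsPrime] (L : G → (G → ℂ) → ℂ) : Prop :=
  ∀ (W : Subgroup G) (g : Set (IrrCharacter (cen W))), IsBrauerPair p M W g →
    ∃ φ : W → ℂ, IsCharacter W φ ∧ ∀ u : W,
      ∀ b : Set (IrrCharacter (cen (Subgroup.zpowers (u : G)))), IsPBlock M b →
        SubpairLE p M (Subgroup.zpowers (u : G)) b W g →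
          L (u : G) (subgroupBlockCoeff (cen (Subgroup.zpowers (u : G))) b) = φ u

theorem redG_conjGA (a : G) (x : MonoidAlgebra (lring M) G) :
    redG (conjGA a x) = conjGA a (redG x) := by
  ext g; simp only [coeff_redG, coeff_conjGA]

theorem mem_cen_zpowers_conj {a u c : G} :
    c ∈ (cen (Subgroup.zpowers (a * u * a⁻¹))) ↔ a⁻¹ * c * a ∈ cen (Subgroup.zpowers u) := by
  rw [cen_zpowers, cen_zpowers, Subgroup.mem_centralizer_singleton_iff,
    Subgroup.mem_centralizer_singleton_iff]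
  constructor <;> intro h
  · calc a⁻¹ * c * a * u = a⁻¹ * (c * (a * u * a⁻¹)) * a := by group
      _ = a⁻¹ * (a * u * a⁻¹ * c) * a := by rw [h]
      _ = u * (a⁻¹ * c * a) := by group
  · calc c * (a * u * a⁻¹) = a * (a⁻¹ * c * a * u) * a⁻¹ := by group
      _ = a * (u * (a⁻¹ * c * a)) * a⁻¹ := by rw [h]
      _ = a * u * a⁻¹ * c := by group

theorem br_conjGA (a u : G) (x : MonoidAlgebra (kres M) G) :
    br (Subgroup.zpowers (a * u * a⁻¹)) (conjGA a x) = conjGA a (br (Subgroup.zpowers u) x) := by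
  classical
  ext c
  simp only [coeff_br, coeff_conjGA]
  exact if_congr mem_cen_zpowers_conj rfl rfl

theorem tval_conjGA {χ : G → ℂ} (hχ : IsClassFunction G χ) (a g : G)
    (x : MonoidAlgebra (lring M) G) : tval χ (a * g * a⁻¹) (conjGA a x) = tval χ g x := by
  unfold tval
  refine Fintype.sum_equiv (MulAut.conj a⁻¹).toEquiv _ _ fun k => ?_
  simp only [MulEquiv.toEquiv_eq_coe, MulEquiv.coe_toEquiv, MulAut.conj_apply, inv_inv,
    coeff_conjGA]
  congr 1
  rw [← hχ (a⁻¹ * k * a * g) a]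
  congr 1
  group

theorem conjGA_algebraMap {R : Type*} [CommRing R] (a : G) (r : R) :
    conjGA a (algebraMap R (MonoidAlgebra R G) r) = algebraMap R (MonoidAlgebra R G) r := by
  classical
  ext g
  simp only [coeff_conjGA, MonoidAlgebra.coe_algebraMap, Function.comp_apply, coeff_single,
    Finsupp.single_apply]
  refine if_congr ⟨fun h => ?_, fun h => ?_⟩ rfl rfl
  · calc (1 : G) = a * (a⁻¹ * g * a) * a⁻¹ := by rw [← h]; group
      _ = g := by group
  · rw [← h]; group

/-- Conjugation by an element normalising the invariance group. -/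
theorem conjGA_mem_fixAlg {R : Type*} [CommRing R] {T Z : Subgroup G} {c : G}
    (hT : ∀ t ∈ T, c⁻¹ * t * c ∈ T) (hZ : ∀ z ∈ Z, Commute z c) {y : MonoidAlgebra R G}
    (hy : y ∈ fixAlg R (T ⊔ Z) ⊤) : conjGA c y ∈ fixAlg R (T ⊔ Z) ⊤ := by
  refine mem_fixAlg_top.2 (isPInv_sup (isPInv_iff_conjGA.2 fun t ht => ?_)
    (isPInv_iff_conjGA.2 fun z hz => ?_))
  · rw [StarBr.conjGA_conjGA]
    conv_rhs => rw [← isPInv_iff_conjGA.1 hy.1 (c⁻¹ * t * c) (Subgroup.mem_sup_left (hT t ht)),
      StarBr.conjGA_conjGA]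
    congr 1
    group
  · rw [StarBr.conjGA_conjGA, (hZ z hz).eq, ← StarBr.conjGA_conjGA,
      isPInv_iff_conjGA.1 hy.1 z (Subgroup.mem_sup_right hz)]

theorem conjGA_one' {R : Type*} [CommRing R] (x : MonoidAlgebra R G) : conjGA 1 x = x := by
  ext g; simp

/-- Conjugation as an automorphism of the fixed algebra. -/
noncomputable def conjEquiv {R : Type*} [CommRing R] {T Z : Subgroup G} {c : G}
    (hT : ∀ t ∈ T, c⁻¹ * t * c ∈ T) (hT' : ∀ t ∈ T, c * t * c⁻¹ ∈ T)
    (hZ : ∀ z ∈ Z, Commute z c) : fixAlg R (T ⊔ Z) ⊤ ≃ₐ[R] fixAlg R (T ⊔ Z) ⊤ where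
  toFun y := ⟨conjGA c y, conjGA_mem_fixAlg hT hZ y.2⟩
  invFun y := ⟨conjGA c⁻¹ y,
    conjGA_mem_fixAlg (fun t ht => by simpa using hT' t ht) (fun z hz => (hZ z hz).inv_right) y.2⟩
  left_inv y := Subtype.ext (by
    show conjGA c⁻¹ (conjGA c (y : MonoidAlgebra R G)) = y
    rw [StarBr.conjGA_conjGA, inv_mul_cancel, conjGA_one'])
  right_inv y := Subtype.ext (by
    show conjGA c (conjGA c⁻¹ (y : MonoidAlgebra R G)) = y
    rw [StarBr.conjGA_conjGA, mul_inv_cancel, conjGA_one'])
  map_mul' y z := Subtype.ext (conjGA_mul c _ _)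
  map_add' y z := Subtype.ext (StarBr.conjGA_add c _ _)
  commutes' r := Subtype.ext (conjGA_algebraMap c r)

theorem conjEquiv_pow {R : Type*} [CommRing R] {T Z : Subgroup G} {c : G}
    (hT : ∀ t ∈ T, c⁻¹ * t * c ∈ T) (hT' : ∀ t ∈ T, c * t * c⁻¹ ∈ T)
    (hZ : ∀ z ∈ Z, Commute z c) (l : ℕ) (y : fixAlg R (T ⊔ Z) ⊤) :
    (((conjEquiv hT hT' hZ) ^ l) y : MonoidAlgebra R G) = conjGA (c ^ l) y := by
  induction l generalizing y with
  | zero => rw [pow_zero, pow_zero, conjGA_one']; rfl
  | succ l ihl =>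
    rw [pow_succ', AlgEquiv.mul_apply, pow_succ', ← StarBr.conjGA_conjGA, ← ihl]
    rfl

/-- A normal subgroup of index `p`: the trace is a sum over the powers of an outside element. -/
theorem trN_eq_sum_pow {R : Type*} [CommRing R] (hp : p.Prime) {W T : Subgroup G}
    (hidx : T.relIndex W = p) (hnorm : W ≤ Subgroup.normalizer (T : Set G)) {w : G} (hwW : w ∈ W)
    (hwT : w ∉ T) {x : MonoidAlgebra R G} (hx : IsPInv T x) :
    w ^ p ∈ T ∧ ∑ l ∈ Finset.range p, conjGA (w ^ l) x = trN W T x := by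
  classical
  have hTn : (T.subgroupOf W).Normal := Subgroup.normal_subgroupOf_of_le_normalizer hnorm
  have hcardQ : Nat.card (↥W ⧸ T.subgroupOf W) = p := by
    rw [← Subgroup.index_eq_card]; exact hidx
  set q : ↥W ⧸ T.subgroupOf W := QuotientGroup.mk ⟨w, hwW⟩ with hq
  have hq1 : q ≠ 1 := fun h => hwT (Subgroup.mem_subgroupOf.1 ((QuotientGroup.eq_one_iff _).1 h))
  have hordq : orderOf q = p :=
    ((Nat.dvd_prime hp).1 (hcardQ ▸ orderOf_dvd_natCard q)).resolve_left
      (fun h => hq1 (orderOf_eq_one_iff.1 h))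
  refine ⟨?_, ?_⟩
  · have h1 : q ^ p = 1 := by rw [← hordq]; exact pow_orderOf_eq_one q
    rw [hq, ← QuotientGroup.mk_pow, QuotientGroup.eq_one_iff, Subgroup.mem_subgroupOf] at h1
    simpa using h1
  rw [trN]
  refine Finset.sum_bij (fun l _ => q ^ l) (fun l _ => Finset.mem_univ _) ?_ ?_ ?_
  · intro a ha b hb hab
    rw [pow_inj_mod, hordq, Nat.mod_eq_of_lt (Finset.mem_range.1 ha),
      Nat.mod_eq_of_lt (Finset.mem_range.1 hb)] at hab
    exact hab
  · intro r _
    have hr : r ∈ Subgroup.zpowers q := by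
      have htop : Subgroup.zpowers q = ⊤ := Subgroup.eq_top_of_card_eq _ (by
        rw [Nat.card_zpowers, hordq, hcardQ])
      rw [htop]; trivial
    obtain ⟨l, rfl⟩ := mem_powers_iff_mem_zpowers.2 hr
    refine ⟨l % p, Finset.mem_range.2 (Nat.mod_lt _ hp.pos), ?_⟩
    show q ^ (l % p) = q ^ l
    rw [← hordq, pow_mod_orderOf]
  · intro l _
    have hc : conjGA ((((⟨w, hwW⟩ : W) ^ l : W)) : G) x = conjGA (((q ^ l).out : W) : G) x :=
      conjGA_eq_of_coset hx (by rw [QuotientGroup.out_eq', hq, QuotientGroup.mk_pow])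
    rw [← hc, SubmonoidClass.coe_pow]

variable (hM : IsPModular p M)
include hM

theorem conjFun_mem_Bl {a u : G} {β : G → ℂ} (hβ : β ∈ Bl M u) :
    conjFun a β ∈ Bl M (a * u * a⁻¹) := by
  classical
  simp only [Bl, Finset.mem_image, mem_allBlocks] at hβ ⊢
  obtain ⟨b, hb, rfl⟩ := hβ
  exact ⟨blockMap (cenConj a u) b, isPBlock_blockMap _ hb, (conjFun_subgroupBlockCoeff a u b).symm⟩

variable {χ : G → ℂ} (hχ : IsCharacter G χ) {L : G → (G → ℂ) → ℂ} {s : G}
  (hs : ¬ p ∣ orderOf s)

local notation "Zs" => Subgroup.zpowers s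

include hs in
theorem not_dvd_natCard : ¬ p ∣ Nat.card Zs := by rwa [Nat.card_zpowers]

include hχ hs

/-- Conjugation invariance of the weighted value. -/
theorem V_conj (hL : IsConjWeight M L) {a u : G} (ha : Commute a s)
    (hu : ∃ k : ℕ, orderOf u = p ^ k) (hus : Commute u s) {x : MonoidAlgebra (kres M) G}
    (hx : IsPInv (Subgroup.zpowers u ⊔ Zs) x) (hxx : x * x = x) :
    V χ L s (a * u * a⁻¹) (conjGA a x) = V χ L s u x := by
  classical
  have hcl := CfsgLib.Char.isCharacter_isClassFunction hχ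
  have hu' : ∃ k : ℕ, orderOf (a * u * a⁻¹) = p ^ k := by
    obtain ⟨k, hk⟩ := hu
    exact ⟨k, by rw [← MulAut.conj_apply, MulEquiv.orderOf_eq, hk]⟩
  have haS : a * s * a⁻¹ = s := by rw [ha.eq, mul_inv_cancel_right]
  have hus' : Commute (a * u * a⁻¹) s := by
    have := hus.map (MulAut.conj a).toMonoidHom
    simpa [haS] using this
  have hUp : IsPGroup p (Subgroup.zpowers u) := by
    obtain ⟨k, hk⟩ := hu
    exact IsPGroup.of_card (by rw [Nat.card_zpowers, hk])
  obtain ⟨e, he, hee, hred⟩ := exists_lift hM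
    (isPInv_br ((s_mem hM hcl hu hs hus).trans (Subgroup.centralizer_le_normalizer _))
      (isPInv_mono le_sup_right hx)) (br_supp _ x)
    (by rw [← br_mul hM hUp (isPInv_mono le_sup_left hx) (isPInv_mono le_sup_left hx), hxx])
  have hea : conjGA a e ∈ fixAlg (lring M) Zs (cen (Subgroup.zpowers (a * u * a⁻¹))) := by
    refine ⟨fun n hn g => ?_, fun g hg => ?_⟩
    · rw [coeff_conjGA, coeff_conjGA, ← he.1 n hn (a⁻¹ * g * a)]
      obtain ⟨m, rfl⟩ := Subgroup.mem_zpowers_iff.1 hn
      have hc : Commute a (s ^ m) := ha.zpow_right m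
      congr 1
      calc a⁻¹ * (s ^ m * g * (s ^ m)⁻¹) * a = (a⁻¹ * s ^ m) * g * ((s ^ m)⁻¹ * a) := by group
        _ = (s ^ m * a⁻¹) * g * (a * (s ^ m)⁻¹) := by rw [hc.inv_left.eq, hc.inv_right.eq]
        _ = _ := by group
    · rw [coeff_conjGA]
      exact he.2 _ fun h => hg (mem_cen_zpowers_conj.2 h)
  rw [V_eq hM hcl hu hs hus he hee hred, V_eq hM hcl hu' hs hus' hea
    (by rw [← conjGA_mul, hee]) (by rw [redG_conjGA, hred, br_conjGA])]
  have hcc : ∀ c d : G, ∀ β : G → ℂ, c * d = 1 → conjFun c (conjFun d β) = β := fun c d β h => by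
    rw [conjFun_conjFun, h]; funext k; simp [conjFun]
  have hback : ∀ β ∈ Bl M (a * u * a⁻¹), conjFun a⁻¹ β ∈ Bl M u := fun β hβ => by
    have := conjFun_mem_Bl hM (a := a⁻¹) hβ
    rwa [show a⁻¹ * (a * u * a⁻¹) * a⁻¹⁻¹ = u by group] at this
  symm
  refine Finset.sum_bij' (fun β _ => conjFun a β) (fun β _ => conjFun a⁻¹ β)
    (fun β hβ => conjFun_mem_Bl hM hβ) hback (fun β _ => hcc _ _ β (inv_mul_cancel a))
    (fun β _ => hcc _ _ β (mul_inv_cancel a)) fun β hβ => ?_
  rw [hL a u β hβ]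
  congr 1
  have e1 : rI (M := M) (conjFun a β) = conjGA a (rI β) := by
    ext g
    simp only [rI, coeff_mkGA, coeff_conjGA]
    rfl
  have e2 : a * u * a⁻¹ * s = a * (u * s) * a⁻¹ := by
    conv_lhs => rw [← haS]
    group
  rw [e1, e2, ← conjGA_mul, tval_conjGA hcl]

/-- The contribution of a local primitive idempotent. -/
theorem V_local (hL : IsPairWeight p M L) {W : Subgroup G} (hW : IsPGroup p W)
    (hcomm : ∀ z ∈ Zs, ∀ w ∈ W, Commute z w) {j : fixAlg (kres M) (W ⊔ Zs) ⊤} (hj : IsPrim j)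
    (hloc : br W (j : MonoidAlgebra (kres M) G) ≠ 0) :
    ∃ φ : W → ℂ, IsCharacter W φ ∧ ∃ J : MonoidAlgebra (lring M) G, IsPInv (W ⊔ Zs) J ∧
      ∀ u : W, V χ L s (u : G) (j : MonoidAlgebra (kres M) G) = φ u * tval χ ((u : G) * s) J := by
  classical
  have := Fact.mk hM.1
  have hcl := CfsgLib.Char.isCharacter_isClassFunction hχ
  obtain ⟨g, hg, hpure⟩ := exists_pure hM hW hcomm (not_dvd_natCard hM hs) hj hloc
  obtain ⟨φ, hφ, hφL⟩ := hL W g hg
  have hjj : (j : MonoidAlgebra (kres M) G) * j = j := congrArg Subtype.val hj.1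
  obtain ⟨J, hJ, hJJ, hJred⟩ := exists_lift hM j.2.1 (fun x hx => absurd (Subgroup.mem_top x) hx) hjj
  refine ⟨φ, hφ, J, hJ.1, fun u => ?_⟩
  have hU : Subgroup.zpowers (u : G) ≤ W := Subgroup.zpowers_le.2 u.2
  have hUp : IsPGroup p (Subgroup.zpowers (u : G)) := hW.to_le hU
  have hu : ∃ k : ℕ, orderOf (u : G) = p ^ k := by
    obtain ⟨k, hk⟩ := (IsPGroup.iff_orderOf.1 hW) u
    exact ⟨k, by rw [Subgroup.orderOf_coe, hk]⟩
  have hus : Commute (u : G) s := (hcomm s (Subgroup.mem_zpowers s) u u.2).symm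
  have hUZ : Subgroup.zpowers (u : G) ⊔ Zs ≤ W ⊔ Zs := sup_le_sup_right hU Zs
  have hju : IsPInv (Subgroup.zpowers (u : G)) (j : MonoidAlgebra (kres M) G) :=
    isPInv_mono (hU.trans le_sup_left) j.2.1
  obtain ⟨e, he, hee, hred⟩ := exists_lift hM
    (isPInv_br ((s_mem hM hcl hu hs hus).trans (Subgroup.centralizer_le_normalizer _))
      (isPInv_mono (le_sup_right : Zs ≤ W ⊔ Zs) j.2.1))
    (br_supp (Subgroup.zpowers (u : G)) (j : MonoidAlgebra (kres M) G))
    (by rw [← br_mul hM hUp hju hju, hjj])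
  have hterm : ∀ β ∈ Bl M (u : G), L (u : G) β * tval χ ((u : G) * s) (rI β * e) =
      φ u * tval χ ((u : G) * s) (rI β * e) := by
    intro β hβ
    obtain ⟨b, hb, rfl⟩ := mem_Bl.1 hβ
    by_cases h : sIdem M (cen (Subgroup.zpowers (u : G))) b *
        br (Subgroup.zpowers (u : G)) (j : MonoidAlgebra (kres M) G) = 0
    · have h0 : tval χ ((u : G) * s) (rI (subgroupBlockCoeff _ b) * e) = 0 := by
        rw [tval_congr hM hcl hu hs hus
          (mem_fixAlg_sup (Subalgebra.mul_mem _ (rI_mem_Au hM hcl hu hs hus hβ) he))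
          (Subalgebra.zero_mem _) (rI_mul_idem hM hcl hu hs hus hβ he hee) (mul_zero 0)
          (by rw [map_mul, redG_rI hM hb, hred, h, map_zero]), tval_zero]
      rw [h0, mul_zero, mul_zero]
    · rw [hφL u b hb (hpure _ hU b hb h)]
  rw [V_eq hM hcl hu hs hus he hee hred, Finset.sum_congr rfl hterm, ← Finset.mul_sum, ← tval_sum,
    ← Finset.sum_mul, sum_rI hM, one_mul]
  congr 1
  refine tval_congr hM hcl hu hs hus (mem_fixAlg_sup he)
    (mem_fixAlg_top.2 (isPInv_mono' hUZ hJ.1)) hee hJJ ?_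
  rw [hred, hJred, br_br le_rfl]

/-- An average of an induced linear function against an invariant trace. -/
theorem memLocalRing_span {W : Subgroup G} [Fintype W]
    (hcomm : ∀ z ∈ Zs, ∀ w ∈ W, Commute z w) {J : MonoidAlgebra (lring M) G}
    (hJ : IsPInv (W ⊔ Zs) J) {P : Subgroup W → Prop} {f : W → ℂ}
    (hf : f ∈ CfsgLib.Char.brauerSpan P) :
    MemLocalRing M ((Nat.card W : ℂ)⁻¹ * ∑ u : W, f u * tval χ ((u : G) * s) J) := by
  classical
  induction hf using AddSubgroup.closure_induction with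
  | zero => simp only [Pi.zero_apply, zero_mul, Finset.sum_const_zero, mul_zero]
            exact (lring M).zero_mem
  | add f g _ _ hf hg =>
    simp only [Pi.add_apply, add_mul, Finset.sum_add_distrib, mul_add]
    exact memLocalRing_add hf hg
  | neg f _ hf =>
    simp only [Pi.neg_apply, neg_mul, Finset.sum_neg_distrib, mul_neg]
    exact (lring M).neg_mem hf
  | mem f hf =>
    obtain ⟨E, η, -, rfl⟩ := hf
    have hcl := CfsgLib.Char.isCharacter_isClassFunction hχ
    set T : Subgroup G := E.map W.subtype with hT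
    let eT : E ≃* T := E.equivMapOfInjective W.subtype W.subtype_injective
    have hTW : T ≤ W := Subgroup.map_subtype_le E
    have key := memLocalRing_avg hM hχ (η.comp eT.symm.toMonoidHom) (s := s)
      (fun t ht => (hcomm s (Subgroup.mem_zpowers s) t (hTW ht)).symm)
      (isPInv_mono' (hTW.trans le_sup_left) hJ)
    -- invariance of the trace under `W`
    have hinv : ∀ w v : W, tval χ ((w : G) * v * (w : G)⁻¹ * s) J = tval χ ((v : G) * s) J := by
      intro w v
      have hw : conjGA (w : G) J = J :=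
        isPInv_iff_conjGA.1 hJ _ (Subgroup.mem_sup_left w.2)
      have hc := hcomm s (Subgroup.mem_zpowers s) w w.2
      conv_lhs => rw [← hw]
      rw [← tval_conjGA (M := M) hcl (w : G) ((v : G) * s) J]
      congr 1
      calc (w : G) * v * (w : G)⁻¹ * s = (w : G) * v * ((w : G)⁻¹ * s) := by group
        _ = (w : G) * v * (s * (w : G)⁻¹) := by rw [(hc.symm.inv_left).eq]
        _ = _ := by group
    have hext : ∀ v : E, extendByZero E (fun e => (η e : ℂ)) (v : W) = (η v : ℂ) := fun v => by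
      simp [extendByZero, Subtype.val_injective.extend_apply]
    have hsum : ∑ u : W, indFun E (fun e => (η e : ℂ)) u * tval χ ((u : G) * s) J =
        (Nat.card E : ℂ)⁻¹ * ((Nat.card W : ℂ) *
          ∑ v : E, (η v : ℂ) * tval χ (((v : W) : G) * s) J) := by
      unfold indFun
      simp only [mul_assoc (_⁻¹ : ℂ), Finset.sum_mul, ← Finset.mul_sum]
      congr 1
      rw [Finset.sum_comm, Finset.sum_congr rfl (g := fun _ : W =>
        ∑ v : E, (η v : ℂ) * tval χ (((v : W) : G) * s) J) fun x _ => ?_, Finset.sum_const,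
        Finset.card_univ, nsmul_eq_mul, ← Nat.card_eq_fintype_card]
      calc ∑ u : W, extendByZero E (fun e => (η e : ℂ)) (x⁻¹ * u * x) * tval χ ((u : G) * s) J
          = ∑ u : W, extendByZero E (fun e => (η e : ℂ)) u * tval χ ((u : G) * s) J := by
            refine Fintype.sum_equiv (MulAut.conj x⁻¹).toEquiv _ _ fun u => ?_
            simp only [MulEquiv.toEquiv_eq_coe, MulEquiv.coe_toEquiv, MulAut.conj_apply, inv_inv]
            congr 1
            have := hinv x⁻¹ u
            push_cast at this ⊢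
            rw [inv_inv] at this
            exact this.symm
        _ = _ := by
            rw [← Finset.sum_filter_add_sum_filter_not Finset.univ (fun u : W => u ∈ E),
              Finset.sum_eq_zero (s := Finset.univ.filter fun u : W => ¬ u ∈ E) (fun u hu => by
                rw [extendByZero, Function.extend_apply' _ _ _ (by
                  rintro ⟨v, rfl⟩; exact (Finset.mem_filter.1 hu).2 v.2), Pi.zero_apply, zero_mul]),
              add_zero, Finset.sum_subtype (Finset.univ.filter fun u : W => u ∈ E)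
                (p := fun u => u ∈ E) (fun u => by simp)]
            exact Finset.sum_congr rfl fun v _ => by rw [hext]
    rw [hsum]
    convert key using 1
    have hW0 : (Nat.card W : ℂ) ≠ 0 := Nat.cast_ne_zero.2 Nat.card_pos.ne'
    rw [← Nat.card_congr eT.toEquiv]
    field_simp
    refine Fintype.sum_equiv eT.toEquiv _ _ fun v => ?_
    simp only [MulEquiv.toEquiv_eq_coe, MulEquiv.coe_toEquiv, MonoidHom.comp_apply,
      MulEquiv.coe_toMonoidHom, MulEquiv.symm_apply_apply]
    rfl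

/-- **The induction.** The averaged weighted values of an idempotent are local integers. -/
theorem memLocalRing_avg_V (hLc : IsConjWeight M L) (hLp : IsPairWeight p M L) :
    ∀ (n : ℕ) (W : Subgroup G) [Fintype W], Nat.card W = n → IsPGroup p W →
      (∀ z ∈ Zs, ∀ w ∈ W, Commute z w) → ∀ (ν : W →* ℂˣ) (x : MonoidAlgebra (kres M) G),
        IsPInv (W ⊔ Zs) x → x * x = x →
          MemLocalRing M ((Nat.card W : ℂ)⁻¹ * ∑ u : W, (ν u : ℂ) * V χ L s (u : G) x) := by
  classical
  intro n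
  induction n using Nat.strong_induction_on with
  | _ n ih =>
  intro W _ hn hW hcomm ν x₀ hx₀ hxx₀
  have := Fact.mk hM.1
  have := charP_kres hM
  have hcl := CfsgLib.Char.isCharacter_isClassFunction hχ
  have hord : ∀ u : W, ∃ k : ℕ, orderOf (u : G) = p ^ k := fun u => by
    obtain ⟨k, hk⟩ := (IsPGroup.iff_orderOf.1 hW) u
    exact ⟨k, by rw [Subgroup.orderOf_coe, hk]⟩
  have hcs : ∀ u : W, Commute (u : G) s := fun u => (hcomm s (Subgroup.mem_zpowers s) u u.2).symm
  have hUZ : ∀ u : W, Subgroup.zpowers (u : G) ⊔ Zs ≤ W ⊔ Zs := fun u =>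
    sup_le_sup_right (Subgroup.zpowers_le.2 u.2) Zs
  let F : fixAlg (kres M) (W ⊔ Zs) ⊤ → ℂ := fun j =>
    (Nat.card W : ℂ)⁻¹ * ∑ u : W, (ν u : ℂ) * V χ L s (u : G) (j : MonoidAlgebra (kres M) G)
  refine idem_induction (k := kres M) (fun j => MemLocalRing M (F j)) ?_ ?_ ?_
    (⟨x₀, mem_fixAlg_top.2 hx₀⟩ : fixAlg (kres M) (W ⊔ Zs) ⊤) (Subtype.ext hxx₀)
  · simp only [F, ZeroMemClass.coe_zero]
    rw [Finset.sum_eq_zero fun u _ => by
      rw [V_eq_zero hM hcl (hord u) hs (hcs u) (br_zero _), mul_zero], mul_zero]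
    exact (lring M).zero_mem
  · intro e f he hf hef hfe h1 h2
    simp only [F, AddMemClass.coe_add]
    rw [Finset.sum_congr rfl (g := fun u : W =>
      (ν u : ℂ) * V χ L s (u : G) (e : MonoidAlgebra (kres M) G) +
      (ν u : ℂ) * V χ L s (u : G) (f : MonoidAlgebra (kres M) G)) fun u _ => by
        rw [V_add hM hcl (hord u) hs (hcs u) (isPInv_mono (hUZ u) e.2.1) (isPInv_mono (hUZ u) f.2.1)
          (congrArg Subtype.val he) (congrArg Subtype.val hf) (congrArg Subtype.val hef)
          (congrArg Subtype.val hfe), mul_add], Finset.sum_add_distrib, mul_add]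
    exact memLocalRing_add h1 h2
  intro j hj
  have hjj : (j : MonoidAlgebra (kres M) G) * j = j := congrArg Subtype.val hj.1
  by_cases hloc : br W (j : MonoidAlgebra (kres M) G) = 0
  · obtain ⟨T, x, hTW, hidx, hnorm, hxI, htr⟩ :=
      exists_trace_of_br_eq_zero hM hW hcomm (not_dvd_natCard hM hs) hj hloc
    have hp := hM.1
    have hTT : T ⊔ Zs ≤ W ⊔ Zs := sup_le_sup_right hTW Zs
    have hTlt : Nat.card T < n := by
      rw [← hn]
      refine lt_of_le_of_ne (Subgroup.card_le_of_le hTW) fun h => ?_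
      have hTeq : T = W := Subgroup.eq_of_le_of_card_ge hTW h.ge
      rw [hTeq, Subgroup.relIndex_self] at hidx
      exact hp.ne_one hidx.symm
    obtain ⟨w, hwW, hwT⟩ : ∃ w ∈ W, w ∉ T := by
      by_contra! h
      rw [Subgroup.relIndex_eq_one.2 fun w hw => h w hw] at hidx
      exact hp.ne_one hidx.symm
    have hcT : ∀ z ∈ Zs, ∀ t ∈ T, Commute z t := fun z hz t ht => hcomm z hz t (hTW ht)
    have hwn : ∀ t ∈ T, w * t * w⁻¹ ∈ T := fun t ht =>
      (Subgroup.mem_normalizer_iff.1 (hnorm hwW) t).1 ht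
    have hwn' : ∀ t ∈ T, w⁻¹ * t * w ∈ T := fun t ht =>
      (Subgroup.mem_normalizer_iff''.1 (hnorm hwW) t).1 ht
    -- conjugation by `w`
    have hws : Commute w s := (hcomm s (Subgroup.mem_zpowers s) w hwW).symm
    obtain ⟨hwp, hsumpow⟩ :=
      trN_eq_sum_pow hp hidx hnorm hwW hwT (isPInv_mono le_sup_left hxI)
    set σ := conjEquiv (R := kres M) (Z := Zs) hwn' hwn (fun z hz => hcomm z hz w hwW) with hσ
    have hσl := conjEquiv_pow (R := kres M) (Z := Zs) hwn' hwn (fun z hz => hcomm z hz w hwW)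
    have hσp : ∀ y, (σ ^ p) y = y := fun y => Subtype.ext (by
      rw [hσ, hσl]
      exact isPInv_iff_conjGA.1 y.2.1 _ (Subgroup.mem_sup_left hwp))
    set xT : fixAlg (kres M) (T ⊔ Zs) ⊤ := ⟨x, mem_fixAlg_top.2 hxI⟩ with hxT
    set jT : fixAlg (kres M) (T ⊔ Zs) ⊤ := ⟨_, mem_fixAlg_top.2 (isPInv_mono hTT j.2.1)⟩ with hjT
    have htrσ : ∑ l ∈ Finset.range p, (σ ^ l) xT = jT := by
      refine Subtype.ext ?_
      rw [AddSubmonoidClass.coe_finsetSum, Finset.sum_congr rfl fun l _ => hσl l xT]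
      exact hsumpow.trans htr
    let νT : T →* ℂˣ := ν.comp (Subgroup.inclusion hTW)
    let FT : fixAlg (kres M) (T ⊔ Zs) ⊤ → ℂ := fun y =>
      (Nat.card T : ℂ)⁻¹ * ∑ u : T, (νT u : ℂ) * V χ L s (u : G) (y : MonoidAlgebra (kres M) G)
    have hordT : ∀ u : T, ∃ k : ℕ, orderOf (u : G) = p ^ k := fun u =>
      hord (Subgroup.inclusion hTW u)
    have hcsT : ∀ u : T, Commute (u : G) s := fun u => hcs (Subgroup.inclusion hTW u)
    have hTUZ : ∀ u : T, Subgroup.zpowers (u : G) ⊔ Zs ≤ T ⊔ Zs := fun u =>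
      sup_le_sup_right (Subgroup.zpowers_le.2 u.2) Zs
    obtain ⟨v, hv, hFv⟩ := IdemCount.exists_smul_eq (k := kres M) (p := p) σ hσp (F := FT)
      (lring M).toAddSubgroup
      (fun e he => ih (Nat.card T) hTlt T rfl (hW.to_le hTW) hcT νT e e.2.1
        (congrArg Subtype.val he))
      (fun e f he hf hef hfe => by
        simp only [FT, AddMemClass.coe_add]
        rw [← mul_add, ← Finset.sum_add_distrib]
        refine congrArg _ (Finset.sum_congr rfl fun u _ => ?_)
        rw [V_add hM hcl (hordT u) hs (hcsT u) (isPInv_mono (hTUZ u) e.2.1)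
          (isPInv_mono (hTUZ u) f.2.1) (congrArg Subtype.val he) (congrArg Subtype.val hf)
          (congrArg Subtype.val hef) (congrArg Subtype.val hfe), mul_add])
      (fun a b hab hba => by
        simp only [FT, MulMemClass.coe_mul]
        refine congrArg _ (Finset.sum_congr rfl fun u _ => ?_)
        rw [V_swap hM hcl (hordT u) hs (hcsT u) (isPInv_mono (hTUZ u) a.2.1)
          (isPInv_mono (hTUZ u) b.2.1) (congrArg Subtype.val hab) (congrArg Subtype.val hba)])
      (fun e he => by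
        simp only [FT]
        refine congrArg _ (Fintype.sum_equiv
          { toFun := fun u : T => (⟨w⁻¹ * u * w, hwn' u u.2⟩ : T)
            invFun := fun u : T => (⟨w * u * w⁻¹, hwn u u.2⟩ : T)
            left_inv := fun u => Subtype.ext (by group)
            right_inv := fun u => Subtype.ext (by group) } _ _ fun u => ?_)
        simp only [Equiv.coe_fn_mk]
        have hν : νT (⟨w⁻¹ * u * w, hwn' u u.2⟩ : T) = νT u := by
          show ν (⟨w⁻¹ * u * w, _⟩ : W) = ν (⟨(u : G), hTW u.2⟩ : W)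
          rw [show (⟨w⁻¹ * u * w, hTW (hwn' u u.2)⟩ : W) =
            (⟨w, hwW⟩ : W)⁻¹ * ⟨(u : G), hTW u.2⟩ * ⟨w, hwW⟩ from rfl,
            map_mul, map_mul, map_inv, mul_comm, mul_inv_cancel_left]
        rw [hν]
        congr 1
        have h2 := V_conj hM hχ hs hLc (a := w) (u := w⁻¹ * (u : G) * w) hws
          (hordT ⟨_, hwn' u u.2⟩) (hcsT ⟨_, hwn' u u.2⟩) (x := (e : MonoidAlgebra (kres M) G))
          (isPInv_mono (hTUZ ⟨_, hwn' u u.2⟩) e.2.1) (congrArg Subtype.val he)
        rw [← h2]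
        congr 1
        group)
      (j := jT) (x := xT) (Subtype.ext hjj) htrσ
    -- outside `T` the values vanish
    have hout : ∀ u : W, (u : G) ∉ T → V χ L s (u : G) (j : MonoidAlgebra (kres M) G) = 0 := by
      intro u hu
      refine V_eq_zero hM hcl (hord u) hs (hcs u) ?_
      ext c
      rw [← htr, coeff_br]
      split_ifs with hc
      · rw [coeff_trN_fixed hM (hW.to_le (Subgroup.zpowers_le.2 u.2))
          (Subgroup.zpowers_le.2 u.2) (isPInv_mono le_sup_left hxI) hc]
        refine (Finset.sum_eq_zero fun r hr => absurd ?_ hu).trans (by simp)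
        set t := ((r.out : W) : G)
        have h1 : t⁻¹ * (u : G) * t ∈ T :=
          (Finset.mem_filter.1 hr).2 _ (Subgroup.mem_zpowers _)
        exact (Subgroup.mem_normalizer_iff''.1 (hnorm (r.out : W).2) (u : G)).2 h1
      · simp
    have hsum : ∑ u : W, (ν u : ℂ) * V χ L s (u : G) (j : MonoidAlgebra (kres M) G) =
        ∑ u : T, (νT u : ℂ) * V χ L s (u : G) (j : MonoidAlgebra (kres M) G) := by
      rw [← Finset.sum_filter_add_sum_filter_not Finset.univ (fun u : W => (u : G) ∈ T),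
        Finset.sum_eq_zero (s := Finset.univ.filter fun u : W => ¬ (u : G) ∈ T) (fun u hu => by
          rw [hout u (Finset.mem_filter.1 hu).2, mul_zero]), add_zero]
      refine Finset.sum_bij' (fun u hu => (⟨(u : G), (Finset.mem_filter.1 hu).2⟩ : T))
        (fun u _ => Subgroup.inclusion hTW u) (fun u _ => Finset.mem_univ _)
        (fun u _ => Finset.mem_filter.2 ⟨Finset.mem_univ _, u.2⟩) (fun u _ => Subtype.ext rfl)
        (fun u _ => Subtype.ext rfl) fun u _ => rfl
    have hcardW : (Nat.card W : ℂ) = (p : ℂ) * (Nat.card T : ℂ) := by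
      rw [← Nat.cast_mul, ← hidx, Subgroup.relIndex, mul_comm]
      congr 1
      rw [← Nat.card_congr (Subgroup.subgroupOfEquivOfLe hTW).toEquiv]
      exact (Subgroup.card_mul_index _).symm
    show MemLocalRing M (F j)
    have hFj : F j = v := by
      have hp0 : (p : ℂ) ≠ 0 := Nat.cast_ne_zero.2 hp.ne_zero
      simp only [F, hsum, hcardW, mul_inv, mul_assoc]
      rw [inv_mul_eq_iff_eq_mul₀ hp0, ← nsmul_eq_mul]
      exact hFv
    rw [hFj]
    exact hv
  · obtain ⟨φ, hφ, J, hJ, hV⟩ := V_local hM hχ hs hLp hW hcomm hj hloc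
    have hspan := CfsgLib.Char.brauer_induction
      (CfsgLib.Char.isCharacter_mul
        (CfsgLib.Char.irr_isCharacter (CfsgLib.Char.isIrrCharacter_linear ν)) hφ)
    have key := memLocalRing_span hM hχ hs hcomm hJ hspan
    show MemLocalRing M (F j)
    convert key using 1
    refine congrArg ((Nat.card W : ℂ)⁻¹ * ·) (Finset.sum_congr rfl fun u _ => ?_)
    rw [hV u, Pi.mul_apply, mul_assoc]

end CfsgLib.BlockB.StarInduct
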