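import Cfsg.Agent.Lib.BlockB.StarDef
import Cfsg.Agent.Lib.BlockA.FirstMainExt

/-!
Inner products of the products with stable functions: they are supported in the block, and the
norm is read off from the product of the two functions.
-/

set_option autoImplicit false
set_option linter.unusedSectionVars false
set_option maxHeartbeats 1000000

namespace CfsgLib.BlockB.Star

open Cfsg CfsgLib.Block CfsgLib.BlockA CfsgLib.BlockB.SubSum CfsgLib.BlockB.HeightBound
  CfsgLib.BlockB.StarVal MonoidAlgebra
open scoped ComplexConjugate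

universe u

variable {G : Type u} [Group G] [Fintype G] {p : ℕ} {M : Ideal AlgInt} [M.IsPrime]
  {B : Set (IrrCharacter G)} {P : Subgroup G}
  {e : Set (IrrCharacter (Subgroup.centralizer (P : Set G)))}

local notation "cen" Q => Subgroup.centralizer ((Q : Subgroup G) : Set G)

open Classical in
/-- Sums over the group split into sections. -/
theorem sum_sections (hp : p.Prime) (F : G → ℂ) :
    ∑ g : G, F g = ∑ x ∈ (Finset.univ.filter fun x : G => ∃ k : ℕ, orderOf x = p ^ k),
      ∑ v : Subgroup.centralizer ({x} : Set G) with ¬ p ∣ orderOf v, F (x * (v : G)) := by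
  have hone : ∀ g : G, ∑ x ∈ (Finset.univ.filter fun x : G => ∃ k : ℕ, orderOf x = p ^ k),
      (if IsPPart p g x then F g else 0) = F g := by
    intro g
    obtain ⟨w, hw⟩ := exists_isPPart hp g
    have hwp : ∃ k : ℕ, orderOf w = p ^ k := by obtain ⟨_, _, _, h, _⟩ := hw; exact h
    rw [Finset.sum_eq_single_of_mem w (Finset.mem_filter.2 ⟨Finset.mem_univ _, hwp⟩)
      (fun x _ hne => if_neg fun h => hne (isPPart_unique hp h hw)), if_pos hw]
  rw [← Finset.sum_congr rfl fun g _ => hone g, Finset.sum_comm]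
  refine Finset.sum_congr rfl fun x hx => ?_
  rw [← Finset.sum_filter]
  convert sum_isPPart_eq hp (Finset.mem_filter.1 hx).2 F using 2

variable (hM : IsPModular p M)
include hM

theorem isInducedBlock_transfer {H K : Subgroup G} (h : H = K) {b : Set (IrrCharacter K)}
    {c : Set (IrrCharacter H)} (hb : IsPBlock M b)
    (hcoeff : subgroupBlockCoeff H c = subgroupBlockCoeff K b) (hc : IsInducedBlock M H c B) :
    IsInducedBlock M K b B := by
  subst h
  rwa [← subgroupBlockCoeff_injective hM hc.1 hb hcoeff]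

variable (hmax : IsMaximalBrauerPair p M B P e)
include hmax

/-- A subsection below `(P, e)` belongs to `B`. -/
theorem induced_of_rep {x : G} {b : Set (IrrCharacter (Subgroup.centralizer ({x} : Set G)))}
    (hb : IsPBlock M b) {y : P}
    (h : Rep p M P e x (subgroupBlockCoeff (Subgroup.centralizer ({x} : Set G)) b) y) :
    IsInducedBlock M (Subgroup.centralizer ({x} : Set G)) b B := by
  obtain ⟨a, f, ha, hf, hβ⟩ := h
  have hpair := isBrauerPairOf_conj hM
    ((isBrauerPairOf_iff_of_le hM hmax.1.1 hf hmax.1.2.1).1 hmax.1) a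
  refine isInducedBlock_transfer hM ?_ hb ?_ (isInducedBlock_of_isBrauerPairOf hM hpair)
  · rw [MonoidHom.map_zpowers, ← cen_zpowers, ← ha]
    rfl
  · rw [subgroupBlockCoeff_conjBlock hM, hβ]

/-- A subsection of `B` is conjugate to one below `(P, e)`. -/
theorem exists_rep_of_induced {x : G} (hx : ∃ k : ℕ, orderOf x = p ^ k)
    {b : Set (IrrCharacter (Subgroup.centralizer ({x} : Set G)))}
    (hind : IsInducedBlock M (Subgroup.centralizer ({x} : Set G)) b B) :
    ∃ y, Rep p M P e x (subgroupBlockCoeff (Subgroup.centralizer ({x} : Set G)) b) y := by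
  have key : ∀ H : Subgroup G, H = Subgroup.centralizer ({x} : Set G) →
      ∃ c : Set (IrrCharacter H), IsInducedBlock M H c B ∧
        subgroupBlockCoeff H c = subgroupBlockCoeff (Subgroup.centralizer ({x} : Set G)) b := by
    rintro _ rfl
    exact ⟨b, hind, rfl⟩
  obtain ⟨c, hc, hcb⟩ := key _ (cen_zpowers x)
  have hXp : IsPGroup p (Subgroup.zpowers x) := by
    obtain ⟨k, hk⟩ := hx
    exact IsPGroup.of_card (by rw [Nat.card_zpowers, hk])
  have hXC : Subgroup.zpowers x ≤ cen (Subgroup.zpowers x) := by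
    rw [cen_zpowers, Subgroup.zpowers_le, Subgroup.mem_centralizer_singleton_iff]
  have hpair := isBrauerPairOf_of_induced hM hXp hXC le_rfl
    (Subgroup.centralizer_le_normalizer _) ⟨hXp, hc.1⟩ (isBlockOver_cen (M := M) hc.1) hc
  obtain ⟨a, ha⟩ := exists_conj_le_maximal hM hmax hpair
  have hmap : (Subgroup.zpowers x).map (MulAut.conj a).toMonoidHom =
      Subgroup.zpowers (a * x * a⁻¹) := by
    rw [MonoidHom.map_zpowers]
    rfl
  have key2 : ∀ Q : Subgroup G, Q = (Subgroup.zpowers x).map (MulAut.conj a).toMonoidHom →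
      ∃ f : Set (IrrCharacter (cen Q)), SubpairLE p M Q f P e ∧ subgroupBlockCoeff (cen Q) f =
        conjFun a (subgroupBlockCoeff (cen (Subgroup.zpowers x)) c) := by
    rintro _ rfl
    exact ⟨_, ha, subgroupBlockCoeff_conjBlock hM _ a c⟩
  obtain ⟨f, hf, hfc⟩ := key2 _ hmap.symm
  refine ⟨⟨a * x * a⁻¹, subpairLE_le hf (Subgroup.mem_zpowers _)⟩, a⁻¹, f, ?_, hf, ?_⟩
  · show a⁻¹ * (a * x * a⁻¹) * a⁻¹⁻¹ = x
    group
  · rw [hfc, conjFun_inv, hcb]

/-- With the constant function the product is the character. -/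
theorem star_one {χ : IrrCharacter G} (hχ : χ ∈ B) :
    star p M P e (χ : G → ℂ) (fun _ => 1) = (χ : G → ℂ) := by
  classical
  funext g
  obtain ⟨x, hx⟩ := exists_isPPart hM.1 g
  obtain ⟨v, rfl, hcomm, hxp, hv⟩ := id hx
  have := Fintype.ofFinite (Subgroup.centralizer ({x} : Set G))
  set v' : Subgroup.centralizer ({x} : Set G) :=
    ⟨v, Subgroup.mem_centralizer_singleton_iff.2 hcomm.symm.eq⟩
  have hv' : ¬ p ∣ orderOf v' := by rwa [← Subgroup.orderOf_coe]
  show star p M P e _ _ (x * (v' : G)) = (χ : G → ℂ) (x * (v' : G))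
  rw [star_apply hM hmax.1.1 (CfsgLib.Char.irr_isClassFunction χ.2) hxp hv',
    ← sum_blockPart (M := M) (ϑ := fun c : Subgroup.centralizer ({x} : Set G) =>
      (χ : G → ℂ) (x * (c : G))) (isClassFunction_shift hM hxp χ) v']
  refine Finset.sum_congr rfl fun b hb => ?_
  by_cases hind : IsInducedBlock M (Subgroup.centralizer ({x} : Set G)) b B
  · obtain ⟨y, hy⟩ := exists_rep_of_induced hM hmax hxp hind
    rw [L_eq hM hmax.1.1 (fun _ _ _ _ _ => rfl) hy, one_mul]
  · rw [blockPart_centralizer_eq_zero hM hxp hmax.1.2.1 hχ (mem_allBlocks.1 hb) hind hv', mul_zero]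

omit hmax in
open Classical in
/-- Block parts in different blocks are orthogonal over the regular elements. -/
theorem sum_blockPart_mul_conj {x : G} [Fintype (Subgroup.centralizer ({x} : Set G))]
    (hx : ∃ k : ℕ, orderOf x = p ^ k)
    {b b' : Set (IrrCharacter (Subgroup.centralizer ({x} : Set G)))} (hb : IsPBlock M b)
    (hb' : IsPBlock M b') (hne : b ≠ b') (χ ξ : IrrCharacter G) :
    ∑ v : Subgroup.centralizer ({x} : Set G) with ¬ p ∣ orderOf v,
      blockPart b (fun c : Subgroup.centralizer ({x} : Set G) => (χ : G → ℂ) (x * (c : G))) v *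
        conj (blockPart b'
          (fun c : Subgroup.centralizer ({x} : Set G) => (ξ : G → ℂ) (x * (c : G))) v) = 0 := by
  have h1 : ∀ (c : Set (IrrCharacter (Subgroup.centralizer ({x} : Set G)))) (φ : IrrCharacter G)
      (v : Subgroup.centralizer ({x} : Set G)),
      blockPart c (fun c : Subgroup.centralizer ({x} : Set G) => (φ : G → ℂ) (x * (c : G))) v =
      ∑ θ ∈ c.toFinite.toFinset, ((resMult x φ θ : ℂ) * centralRoot x θ ^ 1) *
        (θ : Subgroup.centralizer ({x} : Set G) → ℂ) v := fun c φ v => by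
    have := blockPart_pow hM hx c φ 1 v
    rwa [pow_one] at this
  simp only [h1, map_sum, Finset.sum_mul, Finset.mul_sum]
  rw [Finset.sum_comm]
  refine Finset.sum_eq_zero fun θ hθ => ?_
  rw [Finset.sum_comm]
  refine Finset.sum_eq_zero fun η hη => ?_
  have h0 : regPair p (η : Subgroup.centralizer ({x} : Set G) → ℂ)
      (θ : Subgroup.centralizer ({x} : Set G) → ℂ) = 0 := by
    rw [regPair_symm]
    exact regPair_eq_zero hM hb' ((b'.toFinite.mem_toFinset).1 hθ) fun h =>
      hne (isPBlock_eq_of_mem hb hb' (b.toFinite.mem_toFinset.1 hη) h)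
  calc ∑ v : Subgroup.centralizer ({x} : Set G) with ¬ p ∣ orderOf v, _
      = ((resMult x χ η : ℂ) * centralRoot x η ^ 1 *
          conj ((resMult x ξ θ : ℂ) * centralRoot x θ ^ 1)) *
          regPair p (η : Subgroup.centralizer ({x} : Set G) → ℂ)
            (θ : Subgroup.centralizer ({x} : Set G) → ℂ) := by
        rw [regPair, Finset.mul_sum, Finset.sum_filter]
        refine Finset.sum_congr rfl fun v _ => ?_
        unfold regInd
        rw [map_mul conj _ ((θ : Subgroup.centralizer ({x} : Set G) → ℂ) v), irr_conj_eq θ.2]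
        split_ifs <;> ring
    _ = 0 := by rw [h0, mul_zero]

open Classical in
/-- Pairing a product against a character, section by section and block by block. -/
theorem sum_mul_conj_eq (χ ξ : IrrCharacter G) (lam lam' : P → ℂ) :
    ∑ g : G, star p M P e (χ : G → ℂ) lam g * conj (star p M P e (ξ : G → ℂ) lam' g) =
      ∑ x ∈ (Finset.univ.filter fun x : G => ∃ k : ℕ, orderOf x = p ^ k),
        ∑ b ∈ allBlocks M (Subgroup.centralizer ({x} : Set G)),
          L p M P e (fun y => lam y * conj (lam' y)) x
              (subgroupBlockCoeff (Subgroup.centralizer ({x} : Set G)) b) *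
            ∑ v : Subgroup.centralizer ({x} : Set G) with ¬ p ∣ orderOf v,
              blockPart b
                  (fun c : Subgroup.centralizer ({x} : Set G) => (χ : G → ℂ) (x * (c : G))) v *
                conj (blockPart b
                  (fun c : Subgroup.centralizer ({x} : Set G) => (ξ : G → ℂ) (x * (c : G))) v) := by
  rw [sum_sections hM.1]
  refine Finset.sum_congr rfl fun x hx => ?_
  have hxp := (Finset.mem_filter.1 hx).2
  rw [Finset.sum_congr rfl fun v hv => by
    rw [star_apply hM hmax.1.1 (CfsgLib.Char.irr_isClassFunction χ.2) hxp (Finset.mem_filter.1 hv).2,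
      star_apply hM hmax.1.1 (CfsgLib.Char.irr_isClassFunction ξ.2) hxp (Finset.mem_filter.1 hv).2,
      map_sum, Finset.sum_mul_sum]]
  rw [Finset.sum_comm]
  refine Finset.sum_congr rfl fun b hb => ?_
  rw [Finset.sum_comm, Finset.sum_eq_single b]
  · rw [L_mul (lam' := fun y => conj (lam' y)), L_conj, Finset.mul_sum]
    refine Finset.sum_congr rfl fun v _ => ?_
    rw [map_mul]
    ring
  · intro b' hb' hne
    rw [← mul_zero (L p M P e lam x (subgroupBlockCoeff (Subgroup.centralizer ({x} : Set G)) b) *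
        conj (L p M P e lam' x (subgroupBlockCoeff (Subgroup.centralizer ({x} : Set G)) b'))),
      ← sum_blockPart_mul_conj hM hxp (mem_allBlocks.1 hb) (mem_allBlocks.1 hb') (Ne.symm hne) χ ξ,
      Finset.mul_sum]
    refine Finset.sum_congr rfl fun v _ => ?_
    rw [map_mul]
    ring
  · exact fun h => absurd hb h

/-- **The norm.** -/
theorem classInner_star_star {χ : IrrCharacter G} (hχ : χ ∈ B) (lam lam' : P → ℂ) :
    classInner (star p M P e (χ : G → ℂ) lam) (star p M P e (χ : G → ℂ) lam') =
      classInner (star p M P e (χ : G → ℂ) fun y => lam y * conj (lam' y)) (χ : G → ℂ) := by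
  classical
  conv_rhs => arg 2; rw [← star_one hM hmax hχ]
  rw [CfsgLib.Char.classInner_def, CfsgLib.Char.classInner_def, sum_mul_conj_eq hM hmax χ χ lam lam',
    sum_mul_conj_eq hM hmax χ χ _ (fun _ => 1)]
  simp only [map_one, mul_one]

/-- The product lies in the block. -/
theorem classInner_star_eq_zero {χ ξ : IrrCharacter G} (hξ : ξ ∉ B) {lam : P → ℂ}
    (hlam : IsStable p M P e lam) : classInner (star p M P e (χ : G → ℂ) lam) (ξ : G → ℂ) = 0 := by
  classical
  rw [CfsgLib.Char.classInner_def, sum_sections hM.1]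
  refine mul_eq_zero_of_right _ (Finset.sum_eq_zero fun x hx => ?_)
  have hxp := (Finset.mem_filter.1 hx).2
  have hcl := isClassFunction_shift hM hxp ξ
  rw [Finset.sum_congr rfl fun v hv => by
    rw [star_apply hM hmax.1.1 (CfsgLib.Char.irr_isClassFunction χ.2) hxp (Finset.mem_filter.1 hv).2,
      ← sum_blockPart (M := M) (ϑ := fun c : Subgroup.centralizer ({x} : Set G) =>
        (ξ : G → ℂ) (x * (c : G))) hcl v, map_sum, Finset.sum_mul_sum]]
  rw [Finset.sum_comm]
  refine Finset.sum_eq_zero fun b hb => ?_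
  rw [Finset.sum_comm]
  refine Finset.sum_eq_zero fun b' hb' => ?_
  by_cases hrep : ∃ y, Rep p M P e x
      (subgroupBlockCoeff (Subgroup.centralizer ({x} : Set G)) b) y
  · obtain ⟨y, hy⟩ := hrep
    rcases eq_or_ne b b' with rfl | hne
    · refine Finset.sum_eq_zero fun v hv => ?_
      have hind := induced_of_rep hM hmax (mem_allBlocks.1 hb) hy
      have h0 : blockPart b
          (fun c : Subgroup.centralizer ({x} : Set G) => (ξ : G → ℂ) (x * (c : G))) v = 0 := by
        refine blockPart_centralizer_eq_zero hM hxp (isPBlock_blockOf ξ) (mem_blockOf_self ξ)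
          (mem_allBlocks.1 hb) (fun h => hξ ?_) (Finset.mem_filter.1 hv).2
        rw [isInducedBlock_unique _ hind h]
        exact mem_blockOf_self ξ
      rw [h0, map_zero, mul_zero]
    · rw [← mul_zero (L p M P e lam x (subgroupBlockCoeff (Subgroup.centralizer ({x} : Set G)) b)),
        ← sum_blockPart_mul_conj hM hxp (mem_allBlocks.1 hb) (mem_allBlocks.1 hb') hne χ ξ,
        Finset.mul_sum]
      exact Finset.sum_congr rfl fun v _ => mul_assoc _ _ _
  · refine Finset.sum_eq_zero fun v _ => ?_
    rw [L_eq_zero hM hmax.1.1 fun y hy => hrep ⟨y, hy⟩]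
    simp

end CfsgLib.BlockB.Star
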