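import Cfsg.Agent.Lib.BlockB.StarLift

/-!
The weighted value `V u x` at `u * s` of a character on an idempotent `x` modulo `M`: additive,
invariant under interchanging factors and under conjugation.
-/

set_option autoImplicit false
set_option linter.unusedSectionVars false
set_option maxHeartbeats 1000000

namespace CfsgLib.BlockB.StarVal

open Cfsg CfsgLib.Block CfsgLib.BlockA CfsgLib.BlockB.StarBr CfsgLib.BlockB.StarTrace
  CfsgLib.BlockB.SubSum CfsgLib.BlockB.HeightBound CfsgLib.BlockB.StarLift MonoidAlgebra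

universe u

variable {G : Type u} [Group G] [Fintype G] {p : ℕ} {M : Ideal AlgInt} [M.IsPrime]

local notation "cen" Q => Subgroup.centralizer ((Q : Subgroup G) : Set G)

open Classical in
/-- The coefficient functions of the blocks of the centralizer of `u`. -/
noncomputable def Bl (M : Ideal AlgInt) [M.IsPrime] (u : G) : Finset (G → ℂ) :=
  (allBlocks M (Subgroup.centralizer ({u} : Set G))).image (subgroupBlockCoeff _)

open Classical in
/-- A coefficient function as an element over the local ring. -/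
noncomputable def rI (β : G → ℂ) : MonoidAlgebra (lring M) G :=
  mkGA fun x => if h : MemLocalRing M (β x) then ⟨β x, h⟩ else 0

open Classical in
/-- An idempotent lift in the centralizer of `u`. -/
noncomputable def Lift (s u : G) (x : MonoidAlgebra (kres M) G) : MonoidAlgebra (lring M) G :=
  if h : ∃ e ∈ fixAlg (lring M) (Subgroup.zpowers s) (cen (Subgroup.zpowers u)),
      e * e = e ∧ redG e = x then h.choose else 0

/-- The weighted value. -/
noncomputable def V (χ : G → ℂ) (L : G → (G → ℂ) → ℂ) (s u : G)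
    (x : MonoidAlgebra (kres M) G) : ℂ :=
  ∑ β ∈ Bl M u, L u β * tval χ (u * s) (rI β * Lift s u (br (Subgroup.zpowers u) x))

theorem mem_Bl {u : G} {β : G → ℂ} : β ∈ Bl M u ↔
    ∃ b : Set (IrrCharacter (cen (Subgroup.zpowers u))), IsPBlock M b ∧
      subgroupBlockCoeff (cen (Subgroup.zpowers u)) b = β := by
  classical
  have key : ∀ H : Subgroup G, H = Subgroup.centralizer ({u} : Set G) →
      (β ∈ Bl M u ↔ ∃ b : Set (IrrCharacter H), IsPBlock M b ∧ subgroupBlockCoeff H b = β) := by
    rintro H rfl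
    simp [Bl, mem_allBlocks]
  exact key _ (cen_zpowers u)

theorem isPInv_of_supp {R : Type*} [CommRing R] {Y : Subgroup G} {c : MonoidAlgebra R G}
    (hc : ∀ x ∉ (cen Y), c.coeff x = 0) : IsPInv Y c := by
  intro v hv x
  by_cases hx : x ∈ cen Y
  · rw [← (Subgroup.mem_centralizer_iff.1 hx v hv).symm, mul_inv_cancel_right]
  · rw [hc x hx]
    refine hc _ fun h => hx ?_
    have h4 := congrArg (fun t => v⁻¹ * t) (Subgroup.mem_centralizer_iff.1 h v hv)
    simp only [← mul_assoc, inv_mul_cancel, one_mul] at h4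
    have hx' : v * x * v⁻¹ = x := by rw [h4]; group
    rwa [hx'] at h

theorem mem_fixAlg_sup {s u : G} {e : MonoidAlgebra (lring M) G}
    (he : e ∈ fixAlg (lring M) (Subgroup.zpowers s) (cen (Subgroup.zpowers u))) :
    e ∈ fixAlg (lring M) (Subgroup.zpowers u ⊔ Subgroup.zpowers s) ⊤ :=
  mem_fixAlg_top.2 (isPInv_sup (isPInv_of_supp he.2) he.1)

theorem mapC_injective :
    Function.Injective (mapRingHom G (lring M).subtype : MonoidAlgebra (lring M) G → MonoidAlgebra ℂ G) := by
  intro a b h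
  ext x
  have := congrArg (fun z : MonoidAlgebra ℂ G => z.coeff x) h
  simp only [coeff_mapRingHom] at this
  exact this

variable (hM : IsPModular p M)
include hM

section Block

variable {H : Subgroup G} {b : Set (IrrCharacter H)} (hb : IsPBlock M b)
include hb

theorem coe_coeff_rI (x : G) :
    (((rI (subgroupBlockCoeff H b)).coeff x : lring M) : ℂ) = subgroupBlockCoeff H b x := by
  classical
  have h : MemLocalRing M (subgroupBlockCoeff H b x) := by
    unfold subgroupBlockCoeff
    split_ifs with hx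
    · exact blockCoeff_memLocalRing hM hb _
    · exact (lring M).zero_mem
  rw [rI, coeff_mkGA, dif_pos h]

theorem map_rI : mapRingHom G (lring M).subtype (rI (subgroupBlockCoeff H b)) =
    inclSub H (blockSum b) := by
  ext x
  rw [coeff_mapRingHom]
  show (((rI (subgroupBlockCoeff H b)).coeff x : lring M) : ℂ) = _
  rw [coe_coeff_rI hM hb]
  by_cases hx : x ∈ H
  · rw [subgroupBlockCoeff, dif_pos hx]
    exact ((coeff_inclSub_of_mem H (blockSum b) ⟨x, hx⟩).trans (coeff_mkGA _ _)).symm
  · rw [subgroupBlockCoeff, dif_neg hx, coeff_inclSub_of_not_mem _ _ hx]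

theorem rI_idem : rI (subgroupBlockCoeff H b) * rI (subgroupBlockCoeff H b) =
    (rI (subgroupBlockCoeff H b) : MonoidAlgebra (lring M) G) := by
  apply mapC_injective
  rw [map_mul, map_rI hM hb, ← map_mul, blockSum_mul, Set.inter_self]

theorem redG_rI : redG (rI (subgroupBlockCoeff H b) : MonoidAlgebra (lring M) G) = sIdem M H b := by
  rw [← mkGA_subgroupBlockCoeff hM H b]
  ext x
  rw [coeff_redG, coeff_mkGA, ← redC_coe, coe_coeff_rI hM hb]

theorem rI_mem {Y : Subgroup G} (hY : Y ≤ H) :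
    (rI (subgroupBlockCoeff H b) : MonoidAlgebra (lring M) G) ∈ fixAlg (lring M) Y H := by
  refine ⟨fun n hn x => Subtype.ext ?_, fun x hx => Subtype.ext ?_⟩
  · rw [coe_coeff_rI hM hb, coe_coeff_rI hM hb]
    have hinv := inclSub_conj_invariant H (blockSum_isClassCoeff b) (hY hn) x
    have e : ∀ y, (inclSub H (blockSum b)).coeff y = subgroupBlockCoeff H b y := fun y => by
      rw [← map_rI hM hb, coeff_mapRingHom]
      exact coe_coeff_rI hM hb y
    rwa [e, e] at hinv
  · rw [coe_coeff_rI hM hb, subgroupBlockCoeff, dif_neg hx]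
    rfl

theorem rI_mul_comm {e : MonoidAlgebra (lring M) G} (he : ∀ x ∉ H, e.coeff x = 0) :
    rI (subgroupBlockCoeff H b) * e = e * rI (subgroupBlockCoeff H b) := by
  apply mapC_injective
  rw [map_mul, map_mul, map_rI hM hb]
  have he' : inclSub H (resSub H (mapRingHom G (lring M).subtype e)) =
      mapRingHom G (lring M).subtype e := by
    ext x
    by_cases hx : x ∈ H
    · exact (coeff_inclSub_of_mem H _ ⟨x, hx⟩).trans (coeff_resSub _ _ _)
    · rw [coeff_inclSub_of_not_mem _ _ hx, coeff_mapRingHom, he x hx, map_zero]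
  rw [← he', ← map_mul, ← map_mul]
  exact congrArg _ (Subalgebra.mem_center_iff.1
    (isClassCoeff_iff_mem_center.1 (blockSum_isClassCoeff b)) _).symm

end Block

theorem subgroupBlockCoeff_injOn {H : Subgroup G} :
    Set.InjOn (subgroupBlockCoeff H) (allBlocks M H : Set (Set (IrrCharacter H))) :=
  fun _ hb _ hb' h => subgroupBlockCoeff_injective hM (mem_allBlocks.1 hb) (mem_allBlocks.1 hb') h

theorem sum_blockSum (H : Type u) [Group H] [Finite H] :
    ∑ b ∈ allBlocks M H, blockSum b = (1 : MonoidAlgebra ℂ H) := by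
  classical
  refine eq_of_omegaC_eq ?_ (isClassCoeff_iff_mem_center.2 (Subalgebra.one_mem _)) fun χ => ?_
  · exact (isLocalCentral_sum (M := M) _ _
      fun B hB => isLocalCentral_blockSum hM (mem_allBlocks.1 hB)).1
  rw [omegaC_sum, omegaC_one (CfsgLib.Char.irr_apply_one_ne_zero χ.2),
    Finset.sum_eq_single (blockOf M (χ : H → ℂ))]
  · rw [omegaC_blockSum, if_pos (mem_blockOf_self χ)]
  · intro B hB hne
    rw [omegaC_blockSum, if_neg]
    exact fun h => hne (isPBlock_eq_blockOf (mem_allBlocks.1 hB) h)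
  · exact fun h => absurd (mem_allBlocks.2 (isPBlock_blockOf χ)) h

theorem sum_rI (u : G) : ∑ β ∈ Bl M u, (rI β : MonoidAlgebra (lring M) G) = 1 := by
  classical
  rw [Bl, Finset.sum_image (subgroupBlockCoeff_injOn hM)]
  apply mapC_injective
  rw [map_sum, map_one, Finset.sum_congr rfl fun b hb => map_rI hM (mem_allBlocks.1 hb), ← map_sum,
    sum_blockSum hM, map_one]

variable {χ : G → ℂ} (hχ : IsClassFunction G χ) {L : G → (G → ℂ) → ℂ} {s u : G}
  (hu : ∃ k : ℕ, orderOf u = p ^ k) (hs : ¬ p ∣ orderOf s) (hus : Commute u s)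
include hχ hu hs hus

local notation "Au" => fixAlg (lring M) (Subgroup.zpowers s) (cen (Subgroup.zpowers u))

theorem s_mem : Subgroup.zpowers s ≤ cen (Subgroup.zpowers u) := by
  rw [cen_zpowers, Subgroup.zpowers_le, Subgroup.mem_centralizer_singleton_iff]
  exact hus.symm.eq

theorem rI_mem_Au {β : G → ℂ} (hβ : β ∈ Bl M u) : rI β ∈ Au := by
  obtain ⟨b, hb, rfl⟩ := mem_Bl.1 hβ
  exact rI_mem hM hb (s_mem hM hχ hu hs hus)

theorem rI_mul_idem {β : G → ℂ} (hβ : β ∈ Bl M u) {e : MonoidAlgebra (lring M) G} (he : e ∈ Au)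
    (hee : e * e = e) : rI β * e * (rI β * e) = rI β * e := by
  obtain ⟨b, hb, rfl⟩ := mem_Bl.1 hβ
  have h := rI_mul_comm hM hb (e := e) he.2
  calc _ = rI (subgroupBlockCoeff _ b) * (e * rI (subgroupBlockCoeff _ b)) * e := by
        simp only [mul_assoc]
    _ = rI (subgroupBlockCoeff _ b) * rI (subgroupBlockCoeff _ b) * (e * e) := by
        rw [← h]; simp only [mul_assoc]
    _ = _ := by rw [rI_idem hM hb, hee]

theorem Lift_spec {x : MonoidAlgebra (kres M) G} (hx : IsPInv (Subgroup.zpowers s) x)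
    (hsupp : ∀ g ∉ (cen (Subgroup.zpowers u)), x.coeff g = 0) (hxx : x * x = x) :
    Lift s u x ∈ Au ∧ Lift s u x * Lift s u x = Lift s u x ∧ redG (Lift s u x) = x := by
  have h := exists_lift hM hx hsupp hxx
  rw [Lift, dif_pos h]
  exact h.choose_spec

/-- `V` can be computed with any idempotent lift. -/
theorem V_eq {x : MonoidAlgebra (kres M) G} {e : MonoidAlgebra (lring M) G} (he : e ∈ Au)
    (hee : e * e = e) (hred : redG e = br (Subgroup.zpowers u) x) :
    V χ L s u x = ∑ β ∈ Bl M u, L u β * tval χ (u * s) (rI β * e) := by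
  have h : ∃ e ∈ Au, e * e = e ∧ redG e = br (Subgroup.zpowers u) x := ⟨e, he, hee, hred⟩
  unfold V
  refine Finset.sum_congr rfl fun β hβ => ?_
  rw [Lift, dif_pos h]
  obtain ⟨h1, h2, h3⟩ := h.choose_spec
  congr 1
  refine tval_congr hM hχ hu hs hus
    (mem_fixAlg_sup (Subalgebra.mul_mem _ (rI_mem_Au hM hχ hu hs hus hβ) h1))
    (mem_fixAlg_sup (Subalgebra.mul_mem _ (rI_mem_Au hM hχ hu hs hus hβ) he))
    (rI_mul_idem hM hχ hu hs hus hβ h1 h2) (rI_mul_idem hM hχ hu hs hus hβ he hee) ?_
  rw [map_mul, map_mul, h3, hred]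

theorem V_eq_zero {x : MonoidAlgebra (kres M) G} (hx : br (Subgroup.zpowers u) x = 0) :
    V χ L s u x = 0 := by
  rw [V_eq hM hχ hu hs hus (Subalgebra.zero_mem _) (mul_zero 0) (by rw [hx, map_zero])]
  simp [tval_zero]

theorem V_add {x y : MonoidAlgebra (kres M) G}
    (hx : IsPInv (Subgroup.zpowers u ⊔ Subgroup.zpowers s) x)
    (hy : IsPInv (Subgroup.zpowers u ⊔ Subgroup.zpowers s) y) (hxx : x * x = x) (hyy : y * y = y)
    (hxy : x * y = 0) (hyx : y * x = 0) : V χ L s u (x + y) = V χ L s u x + V χ L s u y := by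
  have hUp : IsPGroup p (Subgroup.zpowers u) := by
    obtain ⟨k, hk⟩ := hu
    exact IsPGroup.of_card (by rw [Nat.card_zpowers, hk])
  have hu' : ∀ {z : MonoidAlgebra (kres M) G},
      IsPInv (Subgroup.zpowers u ⊔ Subgroup.zpowers s) z → IsPInv (Subgroup.zpowers u) z :=
    fun hz => isPInv_mono le_sup_left hz
  have hbs : ∀ {z : MonoidAlgebra (kres M) G},
      IsPInv (Subgroup.zpowers u ⊔ Subgroup.zpowers s) z →
        IsPInv (Subgroup.zpowers s) (br (Subgroup.zpowers u) z) := fun hz =>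
    isPInv_br ((s_mem hM hχ hu hs hus).trans (Subgroup.centralizer_le_normalizer _))
      (isPInv_mono le_sup_right hz)
  obtain ⟨e, he, hee, hred⟩ := exists_lift hM (hbs hx) (br_supp _ x)
    (by rw [← br_mul hM hUp (hu' hx) (hu' hx), hxx])
  obtain ⟨f, hf, hff, hfred, hef, hfe⟩ := exists_lift_orth hM (hbs hy) (br_supp _ y)
    (by rw [← br_mul hM hUp (hu' hy) (hu' hy), hyy]) he hee
    (by rw [hred, ← br_mul hM hUp (hu' hx) (hu' hy), hxy, br_zero])
    (by rw [hred, ← br_mul hM hUp (hu' hy) (hu' hx), hyx, br_zero])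
  rw [V_eq hM hχ hu hs hus he hee hred, V_eq hM hχ hu hs hus hf hff hfred,
    V_eq hM hχ hu hs hus (Subalgebra.add_mem _ he hf)
      (by rw [add_mul, mul_add, mul_add, hee, hef, hfe, hff, add_zero, zero_add])
      (by rw [map_add, hred, hfred, br_add]), ← Finset.sum_add_distrib]
  refine Finset.sum_congr rfl fun β _ => ?_
  rw [mul_add (rI β), tval_add, mul_add]

theorem V_swap {a b : MonoidAlgebra (kres M) G}
    (ha : IsPInv (Subgroup.zpowers u ⊔ Subgroup.zpowers s) a)
    (hb : IsPInv (Subgroup.zpowers u ⊔ Subgroup.zpowers s) b)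
    (hab : a * b * (a * b) = a * b) (hba : b * a * (b * a) = b * a) :
    V χ L s u (a * b) = V χ L s u (b * a) := by
  have hUp : IsPGroup p (Subgroup.zpowers u) := by
    obtain ⟨k, hk⟩ := hu
    exact IsPGroup.of_card (by rw [Nat.card_zpowers, hk])
  have ha1 : IsPInv (Subgroup.zpowers u) a := isPInv_mono le_sup_left ha
  have hb1 : IsPInv (Subgroup.zpowers u) b := isPInv_mono le_sup_left hb
  have hbs : ∀ {z : MonoidAlgebra (kres M) G}, IsPInv (Subgroup.zpowers s) z →
      IsPInv (Subgroup.zpowers s) (br (Subgroup.zpowers u) z) := fun hz =>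
    isPInv_br ((s_mem hM hχ hu hs hus).trans (Subgroup.centralizer_le_normalizer _)) hz
  set a' := br (Subgroup.zpowers u) a
  set b' := br (Subgroup.zpowers u) b
  set A : Au := ⟨lift0 a', lift0_mem (hbs (isPInv_mono le_sup_right ha)) (br_supp _ a)⟩
  set B : Au := ⟨lift0 b', lift0_mem (hbs (isPInv_mono le_sup_right hb)) (br_supp _ b)⟩
  have hA : redF _ _ A = a' := redG_lift0 a'
  have hB : redF _ _ B = b' := redG_lift0 b'
  have e1 : br (Subgroup.zpowers u) (a * b) = a' * b' := br_mul hM hUp ha1 hb1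
  have e2 : br (Subgroup.zpowers u) (b * a) = b' * a' := br_mul hM hUp hb1 ha1
  have hab' : a' * b' * (a' * b') = a' * b' := by
    rw [← e1, ← br_mul hM hUp (isPInv_mul ha1 hb1) (isPInv_mul ha1 hb1), hab]
  obtain ⟨e, he, hee, hred⟩ := exists_lift hM (isPInv_mul (hbs (isPInv_mono le_sup_right ha))
    (hbs (isPInv_mono le_sup_right hb)))
    (((fixAlg (kres M) (⊥ : Subgroup G) (cen (Subgroup.zpowers u))).mul_mem
      ⟨fun v hv x => by rw [Subgroup.mem_bot.1 hv]; simp, br_supp _ a⟩
      ⟨fun v hv x => by rw [Subgroup.mem_bot.1 hv]; simp, br_supp _ b⟩).2) hab'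
  obtain ⟨e₁, y, he₁, -, -, hψe, habe, hidem, hψba⟩ := Hensel.exists_equiv (Hensel.lringSplit hM)
    (redF _ _) (redF_algebraMap _ _) (a := A) (b := B) (e := (⟨e, he⟩ : Au)) (Subtype.ext hee)
    (by rw [hA, hB, redF_apply]; exact hred)
  have hr1 : redG (e₁ : MonoidAlgebra (lring M) G) = br (Subgroup.zpowers u) (a * b) := by
    rw [e1, ← hred]; exact hψe
  have hr2 : redG ((B * y * (e₁ * A) : Au) : MonoidAlgebra (lring M) G) =
      br (Subgroup.zpowers u) (b * a) := by
    rw [e2]
    refine hψba.trans ?_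
    rw [hA, hB, redF_apply]
    show b' * redG e * a' = b' * a'
    have hba' : b' * a' * (b' * a') = b' * a' := by
      rw [← e2, ← br_mul hM hUp (isPInv_mul hb1 ha1) (isPInv_mul hb1 ha1), hba]
    rw [hred, ← mul_assoc, mul_assoc (b' * a'), hba']
  rw [V_eq hM hχ hu hs hus e₁.2 (congrArg Subtype.val he₁) hr1,
    V_eq hM hχ hu hs hus (SetLike.coe_mem (B * y * (e₁ * A))) (congrArg Subtype.val hidem) hr2]
  refine Finset.sum_congr rfl fun β hβ => congrArg _ ?_
  obtain ⟨c, hc, rfl⟩ := mem_Bl.1 hβ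
  conv_lhs => rw [← habe, MulMemClass.coe_mul, ← mul_assoc]
  rw [tval_mul_comm hχ _ _ (conj_us_invariant hM (mem_fixAlg_sup (B * y).2).1)]
  refine congrArg _ ?_
  show ((B * y : Au) : MonoidAlgebra (lring M) G) * (rI (subgroupBlockCoeff _ c) *
      ((e₁ * A : Au) : MonoidAlgebra (lring M) G)) = rI (subgroupBlockCoeff _ c) *
      (((B * y : Au) : MonoidAlgebra (lring M) G) * ((e₁ * A : Au) : MonoidAlgebra (lring M) G))
  rw [← mul_assoc, ← rI_mul_comm hM hc (B * y).2.2, mul_assoc]

end CfsgLib.BlockB.StarVal
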