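import Cfsg.Agent.Lib.BlockB.StarInner
import Cfsg.Agent.Lib.BlockB.StarInduct
import Cfsg.Agent.Lib.BlockB.DefectZero

/-!
The local integrality of the inner products of the products with stable characters.
-/

set_option autoImplicit false
set_option linter.unusedSectionVars false
set_option maxHeartbeats 1600000

namespace CfsgLib.BlockB.Star

open Cfsg CfsgLib.Block CfsgLib.BlockA CfsgLib.BlockB.SubSum CfsgLib.BlockB.HeightBound
  CfsgLib.BlockB.StarVal CfsgLib.BlockB.StarTrace CfsgLib.BlockB.StarBr MonoidAlgebra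
open scoped ComplexConjugate

universe u

variable {G : Type u} [Group G] [Fintype G] {p : ℕ} {M : Ideal AlgInt} [M.IsPrime]
  {B : Set (IrrCharacter G)} {P : Subgroup G}
  {e : Set (IrrCharacter (Subgroup.centralizer (P : Set G)))}

local notation "cen" Q => Subgroup.centralizer ((Q : Subgroup G) : Set G)

theorem isIntegral_linear {E : Type*} [Group E] [Finite E] (η : E →* ℂˣ) (x : E) :
    IsIntegral ℤ (η x : ℂ) := by
  refine IsIntegral.of_pow (n := orderOf x) (orderOf_pos x) ?_
  rw [← Units.val_pow_eq_pow_val, ← map_pow, pow_orderOf_eq_one, map_one, Units.val_one]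
  exact isIntegral_one

variable (hM : IsPModular p M) (hmax : IsMaximalBrauerPair p M B P e) {lam : P → ℂ}
  (hchar : IsCharacter P lam) (hlam : IsStable p M P e lam)
include hM hmax hchar hlam

theorem isPairWeight_L : StarInduct.IsPairWeight p M (L p M P e lam) := by
  classical
  intro W g hg
  have he := hmax.1.1
  by_cases hgB : IsBrauerPairOf p M B W g
  · obtain ⟨y, hy⟩ := exists_conj_le_maximal hM hmax hgB
    have hWP : ∀ u : W, y * (u : G) * y⁻¹ ∈ P := fun u => subpairLE_le hy ⟨u, u.2, rfl⟩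
    let c : W →* P :=
      { toFun := fun u => ⟨y * (u : G) * y⁻¹, hWP u⟩
        map_one' := Subtype.ext (by simp)
        map_mul' := fun u v => Subtype.ext (by simp [mul_assoc]) }
    refine ⟨fun u => lam (c u), CfsgLib.Char.isCharacter_comp hchar c, fun u b hb hle => ?_⟩
    have h1 : SubpairLE p M ((Subgroup.zpowers (u : G)).map (MulAut.conj y).toMonoidHom)
        (conjBlock _ y b) P e := (subpairLE_conj hM hle y).trans hy
    have hmap : (Subgroup.zpowers (u : G)).map (MulAut.conj y).toMonoidHom =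
        Subgroup.zpowers ((c u : P) : G) := by
      rw [MonoidHom.map_zpowers]
      rfl
    have key : ∀ Q : Subgroup G, Q = (Subgroup.zpowers (u : G)).map (MulAut.conj y).toMonoidHom →
        ∃ f : Set (IrrCharacter (cen Q)), SubpairLE p M Q f P e ∧ subgroupBlockCoeff (cen Q) f =
          conjFun y (subgroupBlockCoeff (cen (Subgroup.zpowers (u : G))) b) := by
      rintro _ rfl
      exact ⟨_, h1, subgroupBlockCoeff_conjBlock hM _ y b⟩
    obtain ⟨f, hf, hfc⟩ := key _ hmap.symm
    refine L_eq hM he hlam ⟨y⁻¹, f, ?_, hf, by rw [hfc, conjFun_inv]⟩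
    show y⁻¹ * (y * (u : G) * y⁻¹) * y⁻¹⁻¹ = u
    group
  · refine ⟨0, CfsgLib.Char.isCharacter_zero, fun u b hb hle => L_eq_zero hM he fun x hx => hgB ?_⟩
    obtain ⟨a, f, ha, hf, hβ⟩ := hx
    have hXB := isBrauerPairOf_conj hM
      ((isBrauerPairOf_iff_of_le hM he hf hmax.1.2.1).1 hmax.1) a
    have hmap : (Subgroup.zpowers (x : G)).map (MulAut.conj a).toMonoidHom =
        Subgroup.zpowers (u : G) := by
      rw [MonoidHom.map_zpowers, ← ha]
      rfl
    have hidx : (⟨_, conjBlock (Subgroup.zpowers (x : G)) a f⟩ : BrauerPairIdx G) =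
        ⟨Subgroup.zpowers (u : G), b⟩ := by
      refine pairIdx_ext hM hmap (conjBlock_eq_blockMap _ _ f ▸ isPBlock_blockMap _
        (isBrauerPair_of_subpairLE he hf).2) hb ?_
      refine sIdem_eq_of_coeff hM ?_
      rw [subgroupBlockCoeff_conjBlock hM, hβ]
    have hbB : IsBrauerPairOf p M B (Subgroup.zpowers (u : G)) b := by
      have key : ∀ q : BrauerPairIdx G, q = ⟨_, conjBlock (Subgroup.zpowers (x : G)) a f⟩ →
          IsBrauerPairOf p M B q.1 q.2 := by
        rintro _ rfl
        exact hXB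
      exact key ⟨_, b⟩ hidx.symm
    exact (isBrauerPairOf_iff_of_le hM hg hle hmax.1.2.1).2 hbB

omit hchar in
theorem isConjWeight_L : StarInduct.IsConjWeight M (L p M P e lam) := fun a u β _ =>
  L_conjFun hM hmax.1.1 hlam a u β

omit hchar hlam in
/-- The product as a weighted value at the idempotent one. -/
theorem star_eq_V {χ : G → ℂ} (hχ : IsClassFunction G χ) {u s : G}
    (hu : ∃ k : ℕ, orderOf u = p ^ k) (hs : ¬ p ∣ orderOf s) (hus : Commute u s) :
    star p M P e χ lam (u * s) = V χ (L p M P e lam) s u (1 : MonoidAlgebra (kres M) G) := by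
  rw [V_eq hM hχ hu hs hus (Subalgebra.one_mem _) (mul_one 1) (by rw [br_one, map_one]), star,
    ppart_eq hM.1 (StarLift.isPPart_us hM hu hs hus)]
  refine Finset.sum_congr rfl fun β hβ => congrArg _ ?_
  obtain ⟨b, hb, rfl⟩ := mem_Bl.1 hβ
  rw [mul_one, tval, subFun]
  exact Finset.sum_congr rfl fun k _ => by rw [coe_coeff_rI hM hb]

/-- The average over an elementary subgroup is a local integer, and an algebraic integer once
multiplied by the `p`-part of the order of the group. -/
theorem elementary_avg (χ : IrrCharacter G) {E : Subgroup G} [Fintype E] {r : ℕ} (hr : r.Prime)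
    (hE : IsElementary r E) (η : E →* ℂˣ) :
    MemLocalRing M ((Nat.card E : ℂ)⁻¹ *
        ∑ x : E, (η x : ℂ) * star p M P e (χ : G → ℂ) lam (x : G)) ∧
      IsIntegral ℤ (((p ^ (Nat.card G).factorization p : ℕ) : ℂ) * ((Nat.card E : ℂ)⁻¹ *
        ∑ x : E, (η x : ℂ) * star p M P e (χ : G → ℂ) lam (x : G))) := by
  classical
  have := Fact.mk hM.1
  have hcl := CfsgLib.Char.irr_isClassFunction χ.2
  obtain ⟨Q, K, hK, hQK, hcomm⟩ := exists_split_of_isElementary hr hE p
  let eqv : ↥(Q : Subgroup E) × K ≃ E := Equiv.ofBijective (fun a => (a.1 : E) * (a.2 : E)) hQK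
  have hcard : (Nat.card E : ℂ) = (Nat.card (Q : Subgroup E) : ℂ) * (Nat.card K : ℂ) := by
    rw [← Nat.cast_mul, ← Nat.card_prod, Nat.card_congr eqv]
  have hordQ : ∀ w : (Q : Subgroup E), ∃ k : ℕ, orderOf (((w : E)) : G) = p ^ k := fun w => by
    obtain ⟨k, hk⟩ := IsPGroup.iff_orderOf.1 Q.2 w
    exact ⟨k, by rw [Subgroup.orderOf_coe, Subgroup.orderOf_coe]; exact hk⟩
  have hordK : ∀ k : K, ¬ p ∣ orderOf (((k : E)) : G) := fun k h => hK (by
    rw [Subgroup.orderOf_coe, Subgroup.orderOf_coe] at h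
    exact h.trans (orderOf_dvd_natCard k))
  have hwk : ∀ (w : (Q : Subgroup E)) (k : K), Commute (((w : E)) : G) (((k : E)) : G) :=
    fun w k => by
      show ((w : E) : G) * ((k : E) : G) = ((k : E) : G) * ((w : E) : G)
      rw [← Subgroup.coe_mul, ← Subgroup.coe_mul, hcomm k k.2 w w.2]
  have hsum : ∑ x : E, (η x : ℂ) * star p M P e (χ : G → ℂ) lam (x : G) =
      ∑ k : K, ∑ w : (Q : Subgroup E), (η (w : E) : ℂ) * (η (k : E) : ℂ) *
        star p M P e (χ : G → ℂ) lam (((w : E) : G) * ((k : E) : G)) := by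
    rw [← eqv.sum_comp, Fintype.sum_prod_type, Finset.sum_comm]
    refine Finset.sum_congr rfl fun k _ => Finset.sum_congr rfl fun w _ => ?_
    rw [show eqv (w, k) = (w : E) * (k : E) from rfl, map_mul, Units.val_mul, Subgroup.coe_mul]
  refine ⟨?_, ?_⟩
  · -- the `p`-part gives local integers
    set W : Subgroup G := (Q : Subgroup E).map E.subtype
    let eW : (Q : Subgroup E) ≃* W :=
      (Q : Subgroup E).equivMapOfInjective E.subtype E.subtype_injective
    have hWp : IsPGroup p W := Q.2.map E.subtype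
    have hone : IsPInv (⊤ : Subgroup G) (1 : MonoidAlgebra (kres M) G) :=
      (Subalgebra.one_mem (fixAlg (kres M) (⊤ : Subgroup G) ⊤)).1
    have hk : ∀ k : K, MemLocalRing M ((Nat.card (Q : Subgroup E) : ℂ)⁻¹ *
        ∑ w : (Q : Subgroup E), (η (w : E) : ℂ) *
          star p M P e (χ : G → ℂ) lam (((w : E) : G) * ((k : E) : G))) := by
      intro k
      have h := StarInduct.memLocalRing_avg_V hM (CfsgLib.Char.irr_isCharacter χ.2) (hordK k)
        (isConjWeight_L hM hmax hlam) (isPairWeight_L hM hmax hchar hlam) (Nat.card W) W rfl hWp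
        (fun z hz w hw => by
          obtain ⟨q, hq, rfl⟩ := hw
          obtain ⟨i, rfl⟩ := Subgroup.mem_zpowers_iff.1 hz
          exact ((hwk ⟨q, hq⟩ k).symm).zpow_left i)
        ((η.comp (Q : Subgroup E).subtype).comp eW.symm.toMonoidHom) 1
        (isPInv_mono le_top hone) (mul_one 1)
      convert h using 1
      rw [← Nat.card_congr eW.toEquiv]
      refine congrArg _ (Fintype.sum_equiv eW.toEquiv _ _ fun w => ?_)
      simp only [MulEquiv.toEquiv_eq_coe, MulEquiv.coe_toEquiv, MonoidHom.comp_apply,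
        MulEquiv.coe_toMonoidHom, MulEquiv.symm_apply_apply, Subgroup.coe_subtype]
      rw [show ((eW w : W) : G) = ((w : E) : G) from rfl,
        star_eq_V hM hmax hcl (hordQ w) (hordK k) (hwk w k)]
    rw [hsum, hcard, mul_inv, Finset.mul_sum]
    refine memLocalRing_sum _ _ fun k _ => ?_
    have e1 : (Nat.card (Q : Subgroup E) : ℂ)⁻¹ * (Nat.card K : ℂ)⁻¹ *
        ∑ w : (Q : Subgroup E), (η (w : E) : ℂ) * (η (k : E) : ℂ) *
          star p M P e (χ : G → ℂ) lam (((w : E) : G) * ((k : E) : G)) =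
        ((Nat.card K : ℂ)⁻¹ * (η (k : E) : ℂ)) * ((Nat.card (Q : Subgroup E) : ℂ)⁻¹ *
          ∑ w : (Q : Subgroup E), (η (w : E) : ℂ) *
            star p M P e (χ : G → ℂ) lam (((w : E) : G) * ((k : E) : G))) := by
      simp only [Finset.mul_sum]
      exact Finset.sum_congr rfl fun w _ => by ring
    rw [e1]
    exact memLocalRing_mul (memLocalRing_mul (memLocalRing_inv_natCast hM hK)
      (memLocalRing_of_isIntegral (isIntegral_linear η _))) (hk k)
  · -- the part prime to `p` gives algebraic integers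
    have hQdvd : Nat.card (Q : Subgroup E) ∣ p ^ (Nat.card G).factorization p := by
      obtain ⟨i, hi⟩ := IsPGroup.iff_card.1 Q.2
      rw [hi]
      refine pow_dvd_pow p ((hM.1.pow_dvd_iff_le_factorization Nat.card_pos.ne').1 ?_)
      rw [← hi]
      exact (Subgroup.card_subgroup_dvd_card _).trans (Subgroup.card_subgroup_dvd_card E)
    obtain ⟨c, hc⟩ := hQdvd
    have hQ0 : (Nat.card (Q : Subgroup E) : ℂ) ≠ 0 := Nat.cast_ne_zero.2 Nat.card_pos.ne'
    have e1 : ((p ^ (Nat.card G).factorization p : ℕ) : ℂ) * ((Nat.card E : ℂ)⁻¹ *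
        ∑ x : E, (η x : ℂ) * star p M P e (χ : G → ℂ) lam (x : G)) =
        (c : ℂ) * ∑ w : (Q : Subgroup E), (η (w : E) : ℂ) * ((Nat.card K : ℂ)⁻¹ *
          ∑ k : K, (η (k : E) : ℂ) *
            star p M P e (χ : G → ℂ) lam (((w : E) : G) * ((k : E) : G))) := by
      rw [hsum, hc, hcard, Nat.cast_mul, Finset.sum_comm]
      simp only [Finset.mul_sum, mul_inv]
      refine Finset.sum_congr rfl fun w _ => Finset.sum_congr rfl fun k _ => ?_
      field_simp
    rw [e1]
    refine (show IsIntegral ℤ ((c : ℂ)) from isIntegral_algebraMap (R := ℤ) (x := (c : ℤ))).mul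
      (IsIntegral.sum _ fun w _ => (isIntegral_linear η _).mul ?_)
    set x : G := ((w : E) : G) with hxdef
    have hx := hordQ w
    let cK : K →* Subgroup.centralizer ({x} : Set G) :=
      ((E.subtype).comp K.subtype).codRestrict _ fun k =>
        Subgroup.mem_centralizer_singleton_iff.2 (hwk w k).symm.eq
    have hterm : ∀ k : K, star p M P e (χ : G → ℂ) lam (x * ((k : E) : G)) =
        ∑ b ∈ allBlocks M (Subgroup.centralizer ({x} : Set G)),
          L p M P e lam x (subgroupBlockCoeff (Subgroup.centralizer ({x} : Set G)) b) *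
            ∑ θ ∈ b.toFinite.toFinset, ((resMult x χ θ : ℂ) * centralRoot x θ ^ 1) *
              (θ : Subgroup.centralizer ({x} : Set G) → ℂ) (cK k) := by
      intro k
      have hv : ¬ p ∣ orderOf (cK k) := by
        rw [← Subgroup.orderOf_coe]; exact hordK k
      rw [show ((k : E) : G) = (cK k : G) from rfl, star_apply hM hmax.1.1 hcl hx hv]
      refine Finset.sum_congr rfl fun b _ => congrArg _ ?_
      have := blockPart_pow hM hx b χ 1 (cK k)
      rwa [pow_one] at this
    simp only [hterm, Finset.mul_sum]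
    rw [Finset.sum_comm]
    refine IsIntegral.sum _ fun b hb => ?_
    rw [Finset.sum_comm]
    refine IsIntegral.sum _ fun θ _ => ?_
    have hθ : IsIntegral ℤ ((Nat.card K : ℂ)⁻¹ *
        ∑ k : K, (η (k : E) : ℂ) * (θ : Subgroup.centralizer ({x} : Set G) → ℂ) (cK k)) := by
      obtain ⟨n, hn⟩ := CfsgLib.Char.classInner_isCharacter_nat
        (φ := fun k : K => (η (k : E) : ℂ) *
          (θ : Subgroup.centralizer ({x} : Set G) → ℂ) (cK k))
        (ψ := fun _ : K => (1 : ℂ))
        (CfsgLib.Char.isCharacter_mul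
          (CfsgLib.Char.irr_isCharacter (CfsgLib.Char.isIrrCharacter_linear (η.comp K.subtype)))
          (CfsgLib.Char.isCharacter_comp (CfsgLib.Char.irr_isCharacter θ.2) cK))
        (CfsgLib.Char.irr_isCharacter CfsgLib.Char.isIrrCharacter_one)
      rw [CfsgLib.Char.classInner_def] at hn
      simp only [map_one, mul_one] at hn
      rw [hn]
      exact isIntegral_algebraMap (R := ℤ) (x := (n : ℤ))
    have hL : IsIntegral ℤ
        (L p M P e lam x (subgroupBlockCoeff (Subgroup.centralizer ({x} : Set G)) b)) := by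
      by_cases h : ∃ y, Rep p M P e x (subgroupBlockCoeff (Subgroup.centralizer ({x} : Set G)) b) y
      · obtain ⟨y, hy⟩ := h
        rw [L_eq hM hmax.1.1 hlam hy]
        exact irr_apply_isIntegral hchar y
      · push Not at h
        rw [L_eq_zero hM hmax.1.1 h]
        exact isIntegral_zero
    have hroot : IsIntegral ℤ (centralRoot x θ) := by
      obtain ⟨-, h, -⟩ := centralRoot_spec hM hx θ
      exact IsIntegral.of_pow (orderOf_pos x) (h ▸ isIntegral_one)
    have := ((hL.mul (isIntegral_algebraMap (R := ℤ) (x := ((resMult x χ θ : ℕ) : ℤ)))).mul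
      hroot).mul hθ
    convert this using 1
    simp only [Finset.mul_sum, pow_one]
    refine Finset.sum_congr rfl fun k _ => ?_
    push_cast
    ring

end CfsgLib.BlockB.Star
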