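import Cfsg.Agent.Lib.Block.SecondMain
import Cfsg.Agent.Lib.BlockA.HeightZero

/-!
The kernel of a subsection: orthogonality of the `b`-parts `v ↦ χ(xv)` of the characters.
-/

set_option autoImplicit false
set_option linter.unusedSectionVars false

namespace CfsgLib.BlockB

open Cfsg MonoidAlgebra CfsgLib.Block CfsgLib.BlockA
open scoped ComplexConjugate

universe u

variable {G : Type u} [Group G] [Finite G] {p : ℕ} {M : Ideal AlgInt} [M.IsPrime]
variable (hM : IsPModular p M) {x : G} (hx : ∃ k : ℕ, orderOf x = p ^ k)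
include hM hx

/-- The twisted sum for two `p`-regular elements only sees the centralizer. -/
theorem sum_twist_centralizer₂ [Fintype G] [Fintype (Subgroup.centralizer ({x} : Set G))]
    {b : Set (IrrCharacter (Subgroup.centralizer ({x} : Set G)))} (hb : IsPBlock M b)
    {v w : Subgroup.centralizer ({x} : Set G)} (hv : ¬ p ∣ orderOf v) (hw : ¬ p ∣ orderOf w) :
    ∑ a : G, (inclSub _ (blockSum b)).coeff (a * (x * (w : G)) * a⁻¹ * (x * (v : G))⁻¹) =
      ∑ a : Subgroup.centralizer ({x} : Set G),
        (blockSum b).coeff (a * (⟨x, Subgroup.mem_centralizer_singleton_iff.2 rfl⟩ * w) * a⁻¹ *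
          (⟨x, Subgroup.mem_centralizer_singleton_iff.2 rfl⟩ * v)⁻¹) := by
  classical
  set Y := inclSub (Subgroup.centralizer ({x} : Set G)) (blockSum b) with hY
  set g := x * (v : G) with hg
  set h := x * (w : G) with hh
  have hgC : g ∈ (Subgroup.centralizer ({x} : Set G)) := mul_mem (Subgroup.mem_centralizer_singleton_iff.2 rfl) v.2
  have hhC : h ∈ (Subgroup.centralizer ({x} : Set G)) := mul_mem (Subgroup.mem_centralizer_singleton_iff.2 rfl) w.2
  let Ω := {a : G // a ∉ (Subgroup.centralizer ({x} : Set G))}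
  let σ : Equiv.Perm Ω :=
    Equiv.Perm.subtypePerm ((Equiv.mulLeft g).trans (Equiv.mulRight h⁻¹)) fun a => by
      simp only [Equiv.trans_apply, Equiv.coe_mulLeft, Equiv.coe_mulRight]
      rw [Subgroup.mul_mem_cancel_right _ (inv_mem hhC), Subgroup.mul_mem_cancel_left _ hgC]
  have hσ : ∀ a : Ω, ((σ a : Ω) : G) = g * a * h⁻¹ := fun a => rfl
  have hpow : ∀ (l : ℕ) (a : Ω), (((⇑σ)^[l] a : Ω) : G) = g ^ l * a * (h ^ l)⁻¹ := by
    intro l
    induction l with
    | zero => simp
    | succ l ih =>
      intro a; rw [Function.iterate_succ_apply', hσ, ih, pow_succ' g, pow_succ h]; group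
  have hYout : ∀ c : G, c ∉ (Subgroup.centralizer ({x} : Set G)) → Y.coeff c = 0 := fun c hc =>
    coeff_inclSub_of_not_mem (Subgroup.centralizer ({x} : Set G)) _ hc
  let X : Matrix Ω Ω ℂ := Matrix.of fun a c => Y.coeff ((a : G) * (c : G)⁻¹)
  have hzero : ∑ a : Ω, X a (σ a) = 0 := by
    refine sum_apply_perm_eq_zero hM ?_ (fun a c => ?_) (fun a c => ?_) (fun a c ha _ => ?_)
    · ext a c
      simp only [X, Matrix.mul_apply, Matrix.of_apply]
      rw [← Finset.sum_subtype (Finset.univ.filter (· ∉ (Subgroup.centralizer ({x} : Set G)))) (by simp)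
        (fun d : G => Y.coeff ((a : G) * d⁻¹) * Y.coeff (d * (c : G)⁻¹))]
      rw [Finset.sum_subset (Finset.subset_univ _) (fun d _ hd => by
        rw [hYout ((a : G) * d⁻¹) (fun h => a.2 (by
          simpa using Subgroup.mul_mem _ h (show d ∈ (Subgroup.centralizer ({x} : Set G)) by simpa using hd))), zero_mul])]
      conv_rhs => rw [show Y = Y * Y by rw [hY, ← map_mul, blockSum_mul, Set.inter_self],
        coeff_mul_eq]
      refine Fintype.sum_equiv ((Equiv.inv G).trans (Equiv.mulLeft (a : G))) _ _ fun d => ?_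
      simp only [Equiv.trans_apply, Equiv.inv_apply, Equiv.coe_mulLeft]
      congr 2
      group
    · simp only [X, Matrix.of_apply]
      by_cases h : (a : G) * (c : G)⁻¹ ∈ (Subgroup.centralizer ({x} : Set G))
      · rw [← show ((⟨_, h⟩ : (Subgroup.centralizer ({x} : Set G))) : G) = (a : G) * (c : G)⁻¹ from rfl, coeff_inclSub_of_mem]
        exact (isLocalCentral_blockSum hM hb).2 _
      · rw [hYout _ h]; exact (lring M).zero_mem
    · simp only [X, Matrix.of_apply, hσ]
      rw [← inclSub_conj_invariant (Subgroup.centralizer ({x} : Set G)) (blockSum_isClassCoeff b) hgC ((a : G) * (c : G)⁻¹)]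
      congr 1
      group
    · exfalso
      set l := Function.minimalPeriod σ a
      have h1 := congrArg Subtype.val (Function.iterate_minimalPeriod (f := ⇑σ) (x := a))
      rw [hpow] at h1
      have hpartg : IsPPart p g x :=
        isPPart_mul (Subgroup.mem_centralizer_singleton_iff.1 v.2).symm hx
          (by rwa [Subgroup.orderOf_coe])
      have hparth : IsPPart p h x :=
        isPPart_mul (Subgroup.mem_centralizer_singleton_iff.1 w.2).symm hx
          (by rwa [Subgroup.orderOf_coe])
      have h2 : (a : G) * h ^ l * (a : G)⁻¹ = g ^ l := by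
        have : g ^ l * (a : G) = a * h ^ l := mul_inv_eq_iff_eq_mul.1 h1
        rw [← this]; group
      have h3 := isPPart_conj (isPPart_pow hparth hM.1 l) (a : G)
      rw [h2] at h3
      have h4 := isPPart_unique hM.1 h3 (isPPart_pow hpartg hM.1 l)
      apply a.2
      rw [Subgroup.mem_centralizer_singleton_iff]
      refine mul_inv_eq_iff_eq_mul.1 (eq_of_pow_eq_of_pelement hM.1 ?_ hx ha ?_)
      · obtain ⟨k, hk⟩ := hx
        refine ⟨k, ?_⟩
        rw [← hk]
        exact orderOf_injective (MulAut.conj (a : G)).toMonoidHom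
          (MulAut.conj (a : G)).injective x
      · rw [conj_pow, h4]
  have hterm : ∀ a : G, Y.coeff (a * h * a⁻¹ * g⁻¹) = Y.coeff (a * (g * a * h⁻¹)⁻¹) :=
    fun a => by congr 1; group
  rw [← Fintype.sum_subtype_add_sum_subtype (· ∈ (Subgroup.centralizer ({x} : Set G)))]
  have h0 : ∑ a : {a : G // ¬ a ∈ (Subgroup.centralizer ({x} : Set G))}, Y.coeff ((a : G) * h * (a : G)⁻¹ * g⁻¹) = 0 := by
    rw [← hzero]
    exact Finset.sum_congr rfl fun a _ => hterm a
  rw [h0, add_zero]
  refine Finset.sum_congr (by ext; simp) fun a _ => ?_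
  rw [hY, ← coeff_inclSub_of_mem (Subgroup.centralizer ({x} : Set G)) (blockSum b)]
  rfl

/-- A central element acts by a scalar of absolute value one. -/
theorem exists_central_scalar {H : Type u} [Group H] [Finite H] (χ : IrrCharacter H) {z : H}
    (hz : ∀ w, z * w = w * z) :
    ∃ ω : ℂ, ‖ω‖ = 1 ∧ ω ^ orderOf z = 1 ∧ ∀ v, (χ : H → ℂ) (z * v) = ω * (χ : H → ℂ) v := by
  classical
  have := Fintype.ofFinite H
  have hcl : IsClassCoeff (MonoidAlgebra.single z (1 : ℂ)) := by
    intro g h
    simp only [MonoidAlgebra.coeff_single, Finsupp.single_apply]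
    refine if_congr ⟨fun e => ?_, fun e => ?_⟩ rfl rfl
    · calc z = h⁻¹ * z * h := by rw [mul_assoc, hz, inv_mul_cancel_left]
        _ = g := by rw [e]; group
    · rw [← e, mul_assoc, hz, mul_inv_cancel_left]
  set w := omegaC (χ : H → ℂ) (MonoidAlgebra.single z (1 : ℂ))
  have hstep : ∀ v : H, (χ : H → ℂ) (z * v) = w * (χ : H → ℂ) v := by
    intro v
    rw [← chiExt_one (χ : H → ℂ) v, ← chiExt_mul_central χ.2 1 hcl v, one_mul, chiExt_eq,
      Finset.sum_eq_single z]
    · simp
    · intro k _ hk
      simp [Ne.symm hk]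
    · simp
  have hpow : ∀ (m : ℕ) (v : H), (χ : H → ℂ) (z ^ m * v) = w ^ m * (χ : H → ℂ) v := by
    intro m
    induction m with
    | zero => simp
    | succ m ih => intro v; rw [pow_succ, mul_assoc, ih, hstep, pow_succ]; ring
  have hwz : w ^ orderOf z = 1 := by
    have := hpow (orderOf z) 1
    rw [pow_orderOf_eq_one, one_mul] at this
    exact mul_right_cancel₀ (CfsgLib.Char.irr_apply_one_ne_zero χ.2)
      (this.symm.trans (one_mul _).symm)
  exact ⟨w, CfsgLib.Char.norm_eigen_eq_one (orderOf_pos z) hwz, hwz, hstep⟩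

/-- The regular `b`-part of `c ↦ χ(xc)`. -/
noncomputable def sectionFun (p : ℕ) (x : G)
    (b : Set (IrrCharacter (Subgroup.centralizer ({x} : Set G)))) (χ : G → ℂ)
    (v : Subgroup.centralizer ({x} : Set G)) : ℂ :=
  regInd p v * blockPart b (fun c : Subgroup.centralizer ({x} : Set G) => χ (x * (c : G))) v

theorem sectionTwist [Fintype G] [Fintype (Subgroup.centralizer ({x} : Set G))]
    [Fintype (IrrCharacter G)]
    {b : Set (IrrCharacter (Subgroup.centralizer ({x} : Set G)))} (hb : IsPBlock M b)
    {v w : Subgroup.centralizer ({x} : Set G)} (hv : ¬ p ∣ orderOf v) (hw : ¬ p ∣ orderOf w) :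
    ∑ χ : IrrCharacter G, blockPart b
        (fun c : Subgroup.centralizer ({x} : Set G) => (χ : G → ℂ) (x * (c : G))) v *
        conj ((χ : G → ℂ) (x * (w : G))) =
      ∑ θ ∈ b.toFinite.toFinset, (θ : Subgroup.centralizer ({x} : Set G) → ℂ) v * conj ((θ : Subgroup.centralizer ({x} : Set G) → ℂ) w) := by
  classical
  have := Fintype.ofFinite (IrrCharacter (Subgroup.centralizer ({x} : Set G)))
  simp only [chiExt_centralizer_eq_blockPart hM hx]
  rw [sum_chiExt_conj_eq, sum_twist_centralizer₂ hM hx hb hv hw, ← sum_chiExt_conj_eq,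
    ← Finset.sum_subset (Finset.subset_univ b.toFinite.toFinset) (fun θ _ hθ => by
      rw [← one_mul (blockSum b), chiExt_mul_central θ.2 1 (blockSum_isClassCoeff b),
        omegaC_blockSum, if_neg (fun h => hθ (b.toFinite.mem_toFinset.2 h)), zero_mul, zero_mul])]
  refine Finset.sum_congr rfl fun θ hθ => ?_
  obtain ⟨ω, hω, -, hωv⟩ := exists_central_scalar hM hx θ
    (z := (⟨x, Subgroup.mem_centralizer_singleton_iff.2 rfl⟩ :
      Subgroup.centralizer ({x} : Set G)))
    (fun c => Subtype.ext (Subgroup.mem_centralizer_singleton_iff.1 c.2).symm)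
  rw [← one_mul (blockSum b), chiExt_mul_central θ.2 1 (blockSum_isClassCoeff b), chiExt_one,
    omegaC_blockSum, if_pos (b.toFinite.mem_toFinset.1 hθ), one_mul, hωv, hωv, map_mul]
  have h1 : ω * conj ω = 1 := by rw [Complex.mul_conj', hω]; simp
  linear_combination (θ : Subgroup.centralizer ({x} : Set G) → ℂ) v * conj ((θ : Subgroup.centralizer ({x} : Set G) → ℂ) w) * h1

/-- `c ↦ χ(xc)` is a class function of the centralizer. -/
theorem isClassFunction_shift (χ : IrrCharacter G) :
    IsClassFunction (Subgroup.centralizer ({x} : Set G))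
      (fun c : Subgroup.centralizer ({x} : Set G) => (χ : G → ℂ) (x * (c : G))) := fun c h => by
  have h1 : (h : G) * x = x * (h : G) := Subgroup.mem_centralizer_singleton_iff.1 h.2
  have h2 : x * ((h * c * h⁻¹ : Subgroup.centralizer ({x} : Set G)) : G) =
      (h : G) * (x * (c : G)) * (h : G)⁻¹ := by
    push_cast
    calc x * ((h : G) * c * (h : G)⁻¹) = (x * (h : G)) * c * (h : G)⁻¹ := by group
      _ = _ := by rw [← h1]; group
  simp only [h2]
  exact CfsgLib.Char.irr_isClassFunction χ.2 _ _

/-- The kernel identity of a subsection. -/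
theorem sum_sectionFun [Fintype G] [Fintype (Subgroup.centralizer ({x} : Set G))]
    [Fintype (IrrCharacter G)]
    {b : Set (IrrCharacter (Subgroup.centralizer ({x} : Set G)))} (hb : IsPBlock M b)
    (v w : Subgroup.centralizer ({x} : Set G)) :
    ∑ χ : IrrCharacter G,
        sectionFun p x b (χ : G → ℂ) v * conj (sectionFun p x b (χ : G → ℂ) w) =
      regInd p v * regInd p w *
        ∑ θ ∈ b.toFinite.toFinset, (θ : Subgroup.centralizer ({x} : Set G) → ℂ) v * conj ((θ : Subgroup.centralizer ({x} : Set G) → ℂ) w) := by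
  classical
  have := Fintype.ofFinite (IrrCharacter (Subgroup.centralizer ({x} : Set G)))
  by_cases hv : p ∣ orderOf v
  · simp [sectionFun, regInd, hv]
  by_cases hw : p ∣ orderOf w
  · simp [sectionFun, regInd, hw]
  simp only [sectionFun, regInd, if_neg hv, if_neg hw, one_mul]
  let e : IrrCharacter G → IrrCharacter (Subgroup.centralizer ({x} : Set G)) → ℂ := fun χ θ =>
    classInner (fun c : Subgroup.centralizer ({x} : Set G) => (χ : G → ℂ) (x * (c : G))) (θ : Subgroup.centralizer ({x} : Set G) → ℂ)
  let a : IrrCharacter (Subgroup.centralizer ({x} : Set G)) → ℂ := fun θ =>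
    ∑ χ : IrrCharacter G, blockPart b
      (fun c : Subgroup.centralizer ({x} : Set G) => (χ : G → ℂ) (x * (c : G))) v * conj (e χ θ)
  let D : Subgroup.centralizer ({x} : Set G) → ℂ := fun u => regInd p u *
    (∑ θ ∈ b.toFinite.toFinset, ((θ : Subgroup.centralizer ({x} : Set G) → ℂ) v - a θ) * conj ((θ : Subgroup.centralizer ({x} : Set G) → ℂ) u))
  have hregC : ∀ (u h : Subgroup.centralizer ({x} : Set G)),
      regInd p (h * u * h⁻¹) = regInd p u := fun u h => regInd_isClassFunction p u h
  -- the regular rows split over the blocks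
  have hrow : ∀ u, regInd p u *
      ∑ θ ∈ b.toFinite.toFinset, (θ : Subgroup.centralizer ({x} : Set G) → ℂ) v * conj ((θ : Subgroup.centralizer ({x} : Set G) → ℂ) u) =
      regInd p u * ∑ θ : IrrCharacter (Subgroup.centralizer ({x} : Set G)),
        a θ * conj ((θ : Subgroup.centralizer ({x} : Set G) → ℂ) u) := by
    intro u
    by_cases hu : p ∣ orderOf u
    · simp [regInd, hu]
    simp only [regInd, if_neg hu, one_mul]
    rw [← sectionTwist hM hx hb hv hu]
    simp only [a, Finset.sum_mul]
    rw [Finset.sum_comm]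
    refine Finset.sum_congr rfl fun χ _ => ?_
    have h1 := CfsgLib.Char.classFunction_apply_eq_sum (isClassFunction_shift hM hx χ) u
    rw [h1, map_sum, Finset.mul_sum]
    refine Finset.sum_congr rfl fun θ _ => ?_
    simp only [map_mul, e]
    ring
  have hD0 : D = 0 := by
    funext u
    have hDc : IsClassFunction (Subgroup.centralizer ({x} : Set G)) (fun u => conj (D u)) := by
      intro u h
      simp only [D, hregC, CfsgLib.Char.irr_isClassFunction (Subtype.prop _) u h]
    have hz : ∀ η : IrrCharacter (Subgroup.centralizer ({x} : Set G)),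
        classInner (fun u => conj (D u)) (η : Subgroup.centralizer ({x} : Set G) → ℂ) = 0 := by
      intro η
      have hpair : ∀ θ : IrrCharacter (Subgroup.centralizer ({x} : Set G)), (θ ∈ b ↔ ¬ η ∈ b) →
          ∑ u : Subgroup.centralizer ({x} : Set G),
            regInd p u * (θ : Subgroup.centralizer ({x} : Set G) → ℂ) u * conj ((η : Subgroup.centralizer ({x} : Set G) → ℂ) u) = 0 := by
        intro θ hθ
        have hp : regPair p (θ : Subgroup.centralizer ({x} : Set G) → ℂ) (η : Subgroup.centralizer ({x} : Set G) → ℂ) = 0 := by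
          by_cases h : θ ∈ b
          · exact regPair_eq_zero hM hb h (hθ.1 h)
          · rw [regPair_symm]
            exact regPair_eq_zero hM hb (by_contra fun hη => h (hθ.2 hη)) h
        rw [← hp, regPair]
        exact Finset.sum_congr rfl fun u _ => by rw [irr_conj_eq η.2]
      have hreal : ∀ u, conj (regInd p (u : Subgroup.centralizer ({x} : Set G))) = regInd p u :=
        fun u => by unfold regInd; split <;> simp
      rw [CfsgLib.Char.classInner_def]
      refine mul_eq_zero_of_right _ ?_
      by_cases hη : η ∈ b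
      · have hDu : ∀ u, D u = regInd p u *
            ∑ θ ∈ (Finset.univ.filter fun θ => θ ∉ b), a θ * conj ((θ : Subgroup.centralizer ({x} : Set G) → ℂ) u) := by
          intro u
          simp only [D, sub_mul, Finset.sum_sub_distrib, mul_sub, hrow u]
          rw [← mul_sub]
          congr 1
          rw [sub_eq_iff_eq_add, ← Finset.sum_filter_add_sum_filter_not Finset.univ (· ∉ b)]
          congr 1
          refine Finset.sum_congr ?_ fun _ _ => rfl
          ext θ
          simp
        simp only [hDu, map_mul, map_sum, Complex.conj_conj, hreal, Finset.mul_sum, Finset.sum_mul]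
        rw [Finset.sum_comm]
        refine Finset.sum_eq_zero fun θ hθ => ?_
        rw [Finset.sum_congr rfl (g := fun u => conj (a θ) *
          (regInd p u * (θ : Subgroup.centralizer ({x} : Set G) → ℂ) u * conj ((η : Subgroup.centralizer ({x} : Set G) → ℂ) u))) (fun u _ => by ring),
          ← Finset.mul_sum, hpair θ (iff_of_false (Finset.mem_filter.1 hθ).2 (not_not_intro hη)),
          mul_zero]
      · simp only [D, map_mul, map_sum, Complex.conj_conj, hreal, Finset.mul_sum, Finset.sum_mul]
        rw [Finset.sum_comm]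
        refine Finset.sum_eq_zero fun θ hθ => ?_
        rw [Finset.sum_congr rfl (g := fun u => conj ((θ : Subgroup.centralizer ({x} : Set G) → ℂ) v - a θ) *
          (regInd p u * (θ : Subgroup.centralizer ({x} : Set G) → ℂ) u * conj ((η : Subgroup.centralizer ({x} : Set G) → ℂ) u))) (fun u _ => by ring),
          ← Finset.mul_sum, hpair θ (iff_of_true (b.toFinite.mem_toFinset.1 hθ) hη), mul_zero]
    have h0 := CfsgLib.Char.classFunction_apply_eq_sum hDc u
    simp only [hz, zero_mul, Finset.sum_const_zero] at h0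
    simpa using congrArg conj h0
  have hw' := congrFun hD0 w
  simp only [D, regInd, if_neg hw, one_mul, Pi.zero_apply, sub_mul, Finset.sum_sub_distrib,
    sub_eq_zero] at hw'
  rw [hw']
  simp only [a, Finset.sum_mul]
  rw [Finset.sum_comm]
  refine Finset.sum_congr rfl fun χ _ => ?_
  simp only [blockPart, finsum_mem_eq_finite_toFinset_sum _ b.toFinite, map_sum, map_mul,
    Finset.mul_sum, e]
  refine Finset.sum_congr rfl fun θ _ => ?_
  rw [show (Fintype.ofFinite (Subgroup.centralizer ({x} : Set G))) =
    (inferInstance : Fintype _) from Subsingleton.elim _ _]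
  ring

end CfsgLib.BlockB
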