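import Cfsg.Prelude.Def_Characters
import Cfsg.Agent.Lib.Char.FS
import Cfsg.Agent.Lib.BlockA.InvariantForm
import Mathlib.LinearAlgebra.Matrix.ToLinearEquiv

/-!
A real irreducible character whose restriction to some subgroup contains the trivial character
with odd multiplicity has Frobenius-Schur indicator `1`.
-/

set_option autoImplicit false
set_option linter.unusedSectionVars false

namespace CfsgLib.BlockB.SylowOddMult

open Matrix Module

universe u

variable {G : Type u} [Group G] [Fintype G]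

/-- The fixed space of a subgroup has dimension the multiplicity of the trivial character; an
invariant nondegenerate skew form forces it to be even. -/
theorem even_mult_of_skew {n : ℕ} (ρ : Representation ℂ G (Fin n → ℂ))
    (M : Matrix (Fin n) (Fin n) ℂ)
    (hinv : ∀ g : G, (LinearMap.toMatrix' (ρ g))ᵀ * M * LinearMap.toMatrix' (ρ g) = M)
    (hskew : Mᵀ = -M) (hker : ∀ v, M.mulVec v = 0 → v = 0)
    (P : Subgroup G) [Fintype P] (k : ℕ)
    (hk : Cfsg.classInner (fun h : P => ρ.character h) (fun _ => 1) = k) : Even k := by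
  classical
  let A : (Fin n → ℂ) →ₗ[ℂ] (Fin n → ℂ) := (Nat.card P : ℂ)⁻¹ • ∑ h : P, ρ (h : G)
  let W : Submodule ℂ (Fin n → ℂ) :=
    { carrier := {v | ∀ h : P, ρ (h : G) v = v}
      add_mem' := fun {a b} ha hb h => by rw [map_add, ha h, hb h]
      zero_mem' := fun h => map_zero _
      smul_mem' := fun c a ha h => by rw [map_smul, ha h] }
  have hA : ∀ v, A v = (Nat.card P : ℂ)⁻¹ • ∑ h : P, ρ (h : G) v := fun v => by
    simp [A, LinearMap.sum_apply]
  have hproj : LinearMap.IsProj W A := by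
    refine ⟨fun v h0 => ?_, fun v hv => ?_⟩
    · rw [hA, map_smul, map_sum]
      refine congrArg _ (Fintype.sum_equiv (Equiv.mulLeft h0) _ _ fun h => ?_)
      rw [Equiv.coe_mulLeft, Subgroup.coe_mul, map_mul, Module.End.mul_apply]
    · rw [hA, Finset.sum_congr rfl (fun h _ => hv h), Finset.sum_const, Finset.card_univ,
        ← Nat.cast_smul_eq_nsmul ℂ, smul_smul, ← Nat.card_eq_fintype_card,
        inv_mul_cancel₀ (Nat.cast_ne_zero.2 Nat.card_pos.ne'), one_smul]
  have hfr : finrank ℂ W = k := by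
    have h1 : LinearMap.trace ℂ _ A = (finrank ℂ W : ℂ) := hproj.trace
    rw [map_smul, map_sum, smul_eq_mul] at h1
    rw [Char.classInner_def] at hk
    simp only [map_one, mul_one] at hk
    have h2 : (finrank ℂ W : ℂ) = k := h1.symm.trans hk
    exact_mod_cast h2
  let B : (Fin n → ℂ) → (Fin n → ℂ) → ℂ := fun v w => v ⬝ᵥ M.mulVec w
  have hBinv : ∀ (g : G) (v w), B (ρ g v) (ρ g w) = B v w := by
    intro g v w
    have h1 : ∀ x, ρ g x = (LinearMap.toMatrix' (ρ g)).mulVec x := fun x =>
      (LinearMap.toMatrix'_mulVec (ρ g) x).symm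
    show ρ g v ⬝ᵥ M.mulVec (ρ g w) = v ⬝ᵥ M.mulVec w
    rw [h1 v, h1 w]
    conv_rhs => rw [← hinv g]
    rw [← vecMul_transpose, ← dotProduct_mulVec, mulVec_mulVec, mulVec_mulVec]
  have hBskew : ∀ v w, B w v = -B v w := by
    intro v w
    show w ⬝ᵥ M.mulVec v = -(v ⬝ᵥ M.mulVec w)
    rw [dotProduct_mulVec, ← mulVec_transpose, hskew, neg_mulVec, neg_dotProduct, dotProduct_comm]
  have hnd : ∀ v ∈ W, (∀ w ∈ W, B w v = 0) → v = 0 := by
    intro v hv h
    refine hker v ?_
    have h2 : ∀ w, B w v = 0 := by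
      intro w
      have h3 := h _ (hproj.map_mem w)
      have h4 : B (A w) v = B w v := by
        show A w ⬝ᵥ M.mulVec v = w ⬝ᵥ M.mulVec v
        rw [hA, smul_dotProduct, sum_dotProduct, Finset.sum_congr rfl
          (g := fun _ => w ⬝ᵥ M.mulVec v) (fun h _ => ?_), Finset.sum_const, Finset.card_univ,
          ← Nat.cast_smul_eq_nsmul ℂ, smul_smul, ← Nat.card_eq_fintype_card,
          inv_mul_cancel₀ (Nat.cast_ne_zero.2 Nat.card_pos.ne'), one_smul]
        have h5 := hBinv (h : G) w v
        rw [hv h] at h5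
        exact h5
      rw [← h4]; exact h3
    funext i
    have h6 := h2 (Pi.single i 1)
    simpa [B] using h6
  let b := Module.finBasis ℂ W
  let C : Matrix (Fin (finrank ℂ W)) (Fin (finrank ℂ W)) ℂ :=
    Matrix.of fun i j => B (b i : Fin n → ℂ) (b j : Fin n → ℂ)
  have hC : Cᵀ = -C := by
    ext i j
    exact hBskew _ _
  by_contra hodd
  have hdet : C.det = 0 := by
    have h1 : C.det = -C.det := by
      have hodd' : Odd (finrank ℂ W) := hfr ▸ Nat.not_even_iff_odd.1 hodd
      conv_lhs => rw [← det_transpose, hC, det_neg, Fintype.card_fin, hodd'.neg_one_pow,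
        neg_one_mul]
    linear_combination (1 / 2 : ℂ) * h1
  obtain ⟨c, hc0, hc⟩ := exists_mulVec_eq_zero_iff.2 hdet
  let v : W := ∑ j, c j • b j
  have hv0 : v ≠ 0 := fun h => hc0 (funext fun j =>
    Fintype.linearIndependent_iff.1 b.linearIndependent c h j)
  refine hv0 (Subtype.ext (hnd v v.2 fun w hw => ?_))
  have hcoe : (v : Fin n → ℂ) = ∑ j, c j • (b j : Fin n → ℂ) := by
    simp [v, Submodule.coe_sum]
  have hi : ∀ i, B (b i : Fin n → ℂ) v = 0 := by
    intro i
    have h := congrFun hc i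
    simp only [mulVec, dotProduct, Pi.zero_apply, C, Matrix.of_apply] at h
    show (b i : Fin n → ℂ) ⬝ᵥ M.mulVec v = 0
    rw [hcoe, mulVec_sum, dotProduct_sum]
    simp only [mulVec_smul, dotProduct_smul, smul_eq_mul]
    rw [← h]
    exact Finset.sum_congr rfl fun j _ => mul_comm _ _
  have hw' : w = ∑ i, b.repr ⟨w, hw⟩ i • (b i : Fin n → ℂ) := by
    have h := congrArg (fun x : W => (x : Fin n → ℂ)) (b.sum_repr ⟨w, hw⟩)
    simp only [AddSubmonoidClass.coe_finsetSum, SetLike.val_smul] at h
    exact h.symm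
  show w ⬝ᵥ M.mulVec v = 0
  rw [hw', sum_dotProduct]
  exact Finset.sum_eq_zero fun i _ => by
    rw [smul_dotProduct, show (b i : Fin n → ℂ) ⬝ᵥ M.mulVec v = 0 from hi i, smul_zero]

/-- Real with odd multiplicity of the trivial character on a subgroup: indicator one. -/
theorem indicator_eq_one {χ : G → ℂ} (hχ : Cfsg.IsIrrCharacter G χ)
    (hreal : ∀ g, (χ g).im = 0) (P : Subgroup G) [Fintype P] (k : ℕ) (hodd : Odd k)
    (hk : Cfsg.classInner (fun h : P => χ h) (fun _ => 1) = k) :
    (Nat.card G : ℂ)⁻¹ * ∑ s : G, χ (s * s) = 1 := by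
  obtain ⟨n, ρ, hρ, rfl⟩ := hχ
  obtain ⟨h3, h0⟩ := Char.fs_indicator ρ
  rcases h3 with h | h | h
  · obtain ⟨s, hs⟩ := h0.1 h
    exact absurd (hreal s) hs
  · exact h
  · exfalso
    obtain ⟨⟨M, hM0, hinv⟩, hsym⟩ := BlockA.invariant_forms ρ
      (Char.irr_classInner_self ⟨n, ρ, hρ, rfl⟩) hreal
    have hskew : Mᵀ = -M := by rw [hsym M hinv, h, neg_one_smul]
    let K : Subrepresentation ρ :=
      { toSubmodule := LinearMap.ker M.mulVecLin
        apply_mem_toSubmodule := fun g v hv => by
          rw [LinearMap.mem_ker, mulVecLin_apply] at hv ⊢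
          rw [← LinearMap.toMatrix'_mulVec]
          have h1 : ((LinearMap.toMatrix' (ρ g⁻¹))ᵀ * M * LinearMap.toMatrix' (ρ g⁻¹)).mulVec
              ((LinearMap.toMatrix' (ρ g)).mulVec v) = (LinearMap.toMatrix' (ρ g⁻¹))ᵀ.mulVec
              (M.mulVec v) := by
            rw [mulVec_mulVec, mulVec_mulVec, Matrix.mul_assoc, ← LinearMap.toMatrix'_mul,
              ← map_mul, inv_mul_cancel, map_one, LinearMap.toMatrix'_one, Matrix.mul_one]
          rw [hinv, hv, mulVec_zero] at h1
          exact h1 }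
    have hK : ∀ v, M.mulVec v = 0 → v = 0 := by
      intro v hv
      rcases hρ.eq_bot_or_eq_top K with hb | ht
      · have hmem : v ∈ K.toSubmodule := by simpa [K] using hv
        rw [hb] at hmem
        exact (Submodule.mem_bot ℂ).1 hmem
      · exfalso
        refine hM0 (Matrix.ext fun i j => ?_)
        have hmem : (Pi.single j 1 : Fin n → ℂ) ∈ K.toSubmodule := by
          rw [ht]; exact Submodule.mem_top
        have h2 : M.mulVec (Pi.single j 1) = 0 := by simpa [K] using hmem
        simpa [mulVec_single] using congrFun h2 i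
    exact Nat.not_even_iff_odd.2 hodd (even_mult_of_skew ρ M hinv hskew hK P k hk)

end CfsgLib.BlockB.SylowOddMult
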