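import Mathlib.Data.Real.Basic
import Mathlib.Algebra.Order.BigOperators.Group.Finset
import Mathlib.Algebra.BigOperators.Fin
import Mathlib.Data.Real.Archimedean
import Mathlib.Tactic.FieldSimp
import Mathlib.Tactic.Linarith
import Mathlib.Tactic.Ring
import Mathlib.Tactic.Positivity

/-!
Positive semidefinite forms with a gap: every element is null or has norm at least `m`.
Tensoring with `N·δ - (N-1)/n` on `n < N` points gives such a form with gap `n·m`.
-/

set_option autoImplicit false

namespace CfsgLib.BlockB.TensorForm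

universe u v

/-- A symmetric bi-additive form whose non-null elements have norm at least `m`. -/
structure IsGapForm {Y : Type*} [AddCommGroup Y] (G : Y → Y → ℝ) (m : ℝ) : Prop where
  symm : ∀ a b, G a b = G b a
  add_left : ∀ a b c, G (a + b) c = G a c + G b c
  nonneg : ∀ a, 0 ≤ G a a
  gap : ∀ a, G a a ≠ 0 → m ≤ G a a
  m_nonneg : 0 ≤ m

section Basic

variable {Y : Type*} [AddCommGroup Y] {G : Y → Y → ℝ} {m : ℝ} (h : IsGapForm G m)
include h

/-- The left argument as an additive homomorphism. -/
def leftHom (c : Y) : Y →+ ℝ := AddMonoidHom.mk' (fun a => G a c) fun a b => h.add_left a b c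

theorem sub_left (a b c : Y) : G (a - b) c = G a c - G b c := map_sub (leftHom h c) a b

theorem sub_right (a b c : Y) : G c (a - b) = G c a - G c b := by
  rw [h.symm, sub_left h, h.symm a, h.symm b]

theorem sum_left {ι : Type*} (s : Finset ι) (f : ι → Y) (c : Y) :
    G (∑ i ∈ s, f i) c = ∑ i ∈ s, G (f i) c := map_sum (leftHom h c) f s

theorem sum_right {ι : Type*} (s : Finset ι) (f : ι → Y) (c : Y) :
    G c (∑ i ∈ s, f i) = ∑ i ∈ s, G c (f i) := by
  rw [h.symm, sum_left h]
  exact Finset.sum_congr rfl fun i _ => h.symm _ _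

theorem zsmul_left (k : ℤ) (a c : Y) : G (k • a) c = k * G a c := by
  show leftHom h c (k • a) = _
  rw [map_zsmul, zsmul_eq_mul]
  rfl

theorem sub_self_expand (a b : Y) : G (a - b) (a - b) = G a a - 2 * G a b + G b b := by
  rw [sub_left h, sub_right h, sub_right h, h.symm b a]
  ring

theorem pair_eq_zero_of_null (a : Y) {b : Y} (hb : G b b = 0) : G a b = 0 := by
  have key : ∀ k : ℤ, 0 ≤ G a a - 2 * (k : ℝ) * G a b := fun k => by
    have := h.nonneg (a - k • b)
    rw [sub_self_expand h, zsmul_left h k b (k • b), h.symm b (k • b), h.symm a (k • b),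
      zsmul_left h, zsmul_left h, hb, h.symm b a] at this
    nlinarith
  by_contra hne
  obtain ⟨k, hk⟩ := exists_int_gt (G a a / (2 * G a b))
  obtain ⟨k', hk'⟩ := exists_int_lt (G a a / (2 * G a b))
  rcases lt_or_gt_of_ne hne with hneg | hpos
  · rw [lt_div_iff_of_neg (by linarith)] at hk'
    linarith [key k']
  · rw [div_lt_iff₀ (by linarith)] at hk
    linarith [key k]

theorem sub_null_right (a : Y) {b : Y} (hb : G b b = 0) : G (a - b) (a - b) = G a a := by
  rw [sub_self_expand h, pair_eq_zero_of_null h a hb, hb]; ring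

theorem sub_null_left {a : Y} (ha : G a a = 0) (b : Y) : G (a - b) (a - b) = G b b := by
  rw [sub_self_expand h, h.symm a b, pair_eq_zero_of_null h b ha, ha]; ring

/-- Tensoring a gap form with the kernel `N·δ - (N-1)/n`. -/
noncomputable def fold (G : Y → Y → ℝ) (B : Type*) [Fintype B] (N : ℕ) (u u' : B → Y) : ℝ :=
  (N : ℝ) * ∑ i, G (u i) (u' i) -
    ((N : ℝ) - 1) / (Fintype.card B : ℝ) * G (∑ i, u i) (∑ i, u' i)

theorem fold_self {B : Type*} [Fintype B] [Nonempty B] (N : ℕ) (u : B → Y) :
    fold G B N u u = ∑ i, G (u i) (u i) + ((N : ℝ) - 1) / (Fintype.card B : ℝ) *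
      (2⁻¹ * ∑ i, ∑ j, G (u i - u j) (u i - u j)) := by
  have hn : (Fintype.card B : ℝ) ≠ 0 := by exact_mod_cast Fintype.card_ne_zero
  have e : ∑ i, ∑ j, G (u i - u j) (u i - u j) =
      2 * (Fintype.card B : ℝ) * ∑ i, G (u i) (u i) - 2 * G (∑ i, u i) (∑ i, u i) := by
    simp only [sub_self_expand h, Finset.sum_add_distrib, Finset.sum_sub_distrib,
      ← Finset.mul_sum, Finset.sum_const, Finset.card_univ, nsmul_eq_mul, sum_right h,
      sum_left h]
    rw [Finset.sum_comm (f := fun x i => G (u i) (u x))]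
    ring
  rw [fold, e]
  field_simp
  ring

theorem fold_gapForm {B : Type*} [Fintype B] [Nonempty B] (N : ℕ) (hN : Fintype.card B < N) :
    IsGapForm (fold G B N) (m * Fintype.card B) := by
  classical
  have hn : (0 : ℝ) < Fintype.card B := by exact_mod_cast Fintype.card_pos
  have hr : 1 ≤ ((N : ℝ) - 1) / (Fintype.card B : ℝ) := by
    rw [le_div_iff₀ hn]
    have : (Fintype.card B : ℝ) + 1 ≤ N := by exact_mod_cast hN
    linarith
  have hD : ∀ u : B → Y, 0 ≤ 2⁻¹ * ∑ i, ∑ j, G (u i - u j) (u i - u j) := fun u =>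
    mul_nonneg (by norm_num) (Finset.sum_nonneg fun i _ => Finset.sum_nonneg fun j _ => h.nonneg _)
  refine ⟨fun a b => ?_, fun a b c => ?_, fun a => ?_, fun u hu => ?_,
    mul_nonneg h.m_nonneg hn.le⟩
  · simp only [fold]
    rw [h.symm (∑ i, a i), Finset.sum_congr rfl fun i _ => h.symm (a i) (b i)]
  · simp only [fold, Pi.add_apply, Finset.sum_add_distrib, h.add_left]
    ring
  · rw [fold_self h]
    exact add_nonneg (Finset.sum_nonneg fun i _ => h.nonneg _)
      (mul_nonneg (by linarith) (hD a))
  · set S := Finset.univ.filter fun i => G (u i) (u i) ≠ 0 with hS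
    have hSne : 1 ≤ S.card := by
      rw [Nat.one_le_iff_ne_zero, Finset.card_ne_zero]
      by_contra hcon
      have h0 : ∀ i, G (u i) (u i) = 0 := fun i => by
        by_contra hi
        exact hcon ⟨i, Finset.mem_filter.2 ⟨Finset.mem_univ _, hi⟩⟩
      apply hu
      rw [fold]
      have h1 : G (∑ i, u i) (∑ i, u i) = 0 := by
        rw [sum_right h]
        exact Finset.sum_eq_zero fun i _ => pair_eq_zero_of_null h _ (h0 i)
      simp [h0, h1]
    have hs1 : m * S.card ≤ ∑ i, G (u i) (u i) := by
      rw [mul_comm, ← nsmul_eq_mul]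
      exact (Finset.card_nsmul_le_sum S _ _ fun i hi => h.gap _ (Finset.mem_filter.1 hi).2).trans
        (Finset.sum_le_sum_of_subset_of_nonneg (Finset.subset_univ _) fun i _ _ => h.nonneg _)
    have hs2 : m * (2 * (S.card * Sᶜ.card : ℕ)) ≤
        ∑ i, ∑ j, G (u i - u j) (u i - u j) := by
      rw [← Finset.sum_product', Finset.univ_product_univ]
      have hd : Disjoint (S ×ˢ Sᶜ) (Sᶜ ×ˢ S) := Finset.disjoint_left.2 fun x hx hx' => by
        exact (Finset.mem_compl.1 (Finset.mem_product.1 hx').1) (Finset.mem_product.1 hx).1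
      refine le_trans ?_ (Finset.sum_le_sum_of_subset_of_nonneg
        (Finset.subset_univ (S ×ˢ Sᶜ ∪ Sᶜ ×ˢ S)) fun x _ _ => h.nonneg _)
      refine le_trans ?_ (Finset.card_nsmul_le_sum _ _ m fun x hx => ?_)
      · rw [Finset.card_union_of_disjoint hd, Finset.card_product, Finset.card_product,
          nsmul_eq_mul]
        push_cast
        exact le_of_eq (by ring)
      · rcases Finset.mem_union.1 hx with hx | hx <;>
          obtain ⟨h1, h2⟩ := Finset.mem_product.1 hx
        · have : G (u x.2) (u x.2) = 0 := by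
            simpa [hS] using Finset.mem_compl.1 h2
          rw [sub_null_right h _ this]
          exact h.gap _ (Finset.mem_filter.1 h1).2
        · have : G (u x.1) (u x.1) = 0 := by
            simpa [hS] using Finset.mem_compl.1 h1
          rw [sub_null_left h this]
          exact h.gap _ (Finset.mem_filter.1 h2).2
    rw [fold_self h]
    have hcount : (Fintype.card B : ℝ) ≤ S.card + S.card * Sᶜ.card := by
      have := Finset.card_add_card_compl S
      have h2 : Sᶜ.card ≤ S.card * Sᶜ.card := Nat.le_mul_of_pos_left _ (by omega)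
      exact_mod_cast (by omega : Fintype.card B ≤ S.card + S.card * Sᶜ.card)
    have hm := h.m_nonneg
    push_cast at hs2
    nlinarith [mul_le_mul_of_nonneg_left hcount hm, hD u, hs1, hs2,
      mul_le_mul_of_nonneg_right hr (hD u)]

end Basic

open scoped Classical in
/-- The kernel `N·δ - (N-1)/n` on a finite type. -/
noncomputable def ker {B : Type*} [Fintype B] (N : ℕ) (i j : B) : ℝ :=
  (if i = j then (N : ℝ) else 0) - ((N : ℝ) - 1) / (Fintype.card B : ℝ)

theorem sum_ker_mul {Y : Type*} [AddCommGroup Y] {G : Y → Y → ℝ} {m : ℝ} (h : IsGapForm G m)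
    {B : Type*} [Fintype B] (N : ℕ) (u u' : B → Y) :
    ∑ i, ∑ j, ker N i j * G (u i) (u' j) = fold G B N u u' := by
  classical
  simp only [fold, sum_left h, sum_right h, Finset.mul_sum, ← Finset.sum_sub_distrib]
  refine Finset.sum_congr rfl fun i _ => ?_
  simp only [ker, sub_mul, Finset.sum_sub_distrib, ite_mul, zero_mul, Finset.sum_ite_eq,
    Finset.mem_univ, if_true, Finset.mul_sum]

/-- The iterated bound: a function on a product with one non-null value has norm at least
`m` times the number of points. -/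
theorem tensor_bound : ∀ {k : ℕ} (B : Fin k → Type u) [∀ i, Fintype (B i)] [∀ i, Nonempty (B i)]
    (N : Fin k → ℕ), (∀ i, Fintype.card (B i) < N i) →
    ∀ {Y : Type u} [AddCommGroup Y] {G : Y → Y → ℝ} {m : ℝ}, IsGapForm G m →
    ∀ f : (∀ i, B i) → Y, (∃ b, G (f b) (f b) ≠ 0) →
      m * ∏ i, (Fintype.card (B i) : ℝ) ≤
        ∑ b : ∀ i, B i, ∑ b' : ∀ i, B i, (∏ i, ker (N i) (b i) (b' i)) * G (f b) (f b') := by
  intro k
  induction k with
  | zero =>
    intro B _ _ N _ Y _ G m hG f hf
    obtain ⟨b, hb⟩ := hf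
    simp only [Finset.univ_eq_empty, Finset.prod_empty, mul_one, one_mul]
    rw [Fintype.sum_subsingleton _ b, Fintype.sum_subsingleton _ b]
    exact hG.gap _ hb
  | succ k ih =>
    intro B _ _ N hN Y _ G m hG f hf
    have h' := fold_gapForm hG (B := B 0) (N 0) (hN 0)
    let g : (∀ i : Fin k, B i.succ) → (B 0 → Y) := fun b x => f (Fin.cons x b)
    have hg : ∃ b, fold G (B 0) (N 0) (g b) (g b) ≠ 0 := by
      obtain ⟨b, hb⟩ := hf
      refine ⟨Fin.tail b, fun h0 => ?_⟩
      have h1 := fold_self hG (N 0) (g (Fin.tail b))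
      rw [h0] at h1
      have hpos : 0 < G (f b) (f b) := lt_of_le_of_ne (hG.nonneg _) (Ne.symm hb)
      have hle : G (f b) (f b) ≤ ∑ i, G (g (Fin.tail b) i) (g (Fin.tail b) i) := by
        have := Finset.single_le_sum
          (f := fun i => G (g (Fin.tail b) i) (g (Fin.tail b) i))
          (fun i _ => hG.nonneg _) (Finset.mem_univ (b 0))
        simpa [g, Fin.cons_self_tail] using this
      have hr : 0 ≤ ((N 0 : ℝ) - 1) / (Fintype.card (B 0) : ℝ) := by
        refine div_nonneg ?_ (Nat.cast_nonneg _)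
        have : (1 : ℝ) ≤ N 0 := by
          exact_mod_cast (Nat.succ_le_iff.2 ((Nat.zero_le _).trans_lt (hN 0)))
        linarith
      have hD : (0 : ℝ) ≤ 2⁻¹ * ∑ i, ∑ j,
          G (g (Fin.tail b) i - g (Fin.tail b) j) (g (Fin.tail b) i - g (Fin.tail b) j) :=
        mul_nonneg (by norm_num)
          (Finset.sum_nonneg fun i _ => Finset.sum_nonneg fun j _ => hG.nonneg _)
      nlinarith [mul_nonneg hr hD]
    have hi := ih (fun i => B i.succ) (fun i => N i.succ) (fun i => hN i.succ) h' g hg
    rw [Fin.prod_univ_succ, ← mul_assoc]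
    refine hi.trans (le_of_eq ?_)
    calc ∑ b, ∑ b', (∏ i, ker (N i.succ) (b i) (b' i)) * fold G (B 0) (N 0) (g b) (g b')
        = ∑ b : ∀ i : Fin k, B i.succ, ∑ b' : ∀ i : Fin k, B i.succ, ∑ x : B 0, ∑ x' : B 0,
            (∏ i : Fin (k + 1), ker (N i) (Fin.cons (α := B) x b i) (Fin.cons (α := B) x' b' i)) *
              G (f (Fin.cons x b)) (f (Fin.cons x' b')) := by
          refine Finset.sum_congr rfl fun b _ => Finset.sum_congr rfl fun b' _ => ?_
          rw [← sum_ker_mul hG, Finset.mul_sum]
          refine Finset.sum_congr rfl fun x _ => ?_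
          rw [Finset.mul_sum]
          refine Finset.sum_congr rfl fun x' _ => ?_
          simp only [Fin.prod_univ_succ, Fin.cons_zero, Fin.cons_succ, g]
          ring
      _ = _ := by
          simp only [← (Fin.consEquiv B).sum_comp, Fin.consEquiv_apply, Fintype.sum_prod_type]
          rw [Finset.sum_comm (γ := B 0)]
          refine Finset.sum_congr rfl fun b _ => ?_
          rw [Finset.sum_comm]
          refine Finset.sum_congr rfl fun x _ => ?_
          rw [Finset.sum_comm]
          rfl

end CfsgLib.BlockB.TensorForm
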