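import Cfsg.Prelude.Def_Transfer
import Cfsg.Prelude.Def_Solvable
import Cfsg.Agent.Lib.Solvable.FixedPointFree
import Cfsg.Agent.Lib.Solvable.HallHigman
import Cfsg.Agent.Lib.Solvable.Fitting
import Cfsg.Agent.Lib.StructC.UniqueInvol
import Cfsg.Agent.Lib.Transfer.Q8SL

/-!
Solvable linear groups transitive on the nonidentity elements of an elementary abelian `p`-group
whose point stabilisers are `p`-groups: the derived group has order prime to `p`.
-/

set_option autoImplicit false
set_option linter.unusedSectionVars false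

namespace CfsgLib.BlockB.TransPStab

open Subgroup

universe u v

/-- The derived group centralises a normal cyclic subgroup. -/
theorem commutator_le_centralizer {H : Type u} [Group H] (c : H)
    (h : ∀ g : H, g * c * g⁻¹ ∈ zpowers c) :
    commutator H ≤ centralizer ({c} : Set H) := by
  rw [_root_.commutator_def, Subgroup.commutator_le]
  intro a _ b _
  obtain ⟨i, hi⟩ := mem_zpowers_iff.1 (h a⁻¹)
  obtain ⟨j, hj⟩ := mem_zpowers_iff.1 (h b⁻¹)
  have h1 : (a⁻¹ * b⁻¹) * c * (a⁻¹ * b⁻¹)⁻¹ = c ^ (i * j) := by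
    rw [show (a⁻¹ * b⁻¹) * c * (a⁻¹ * b⁻¹)⁻¹ = a⁻¹ * (b⁻¹ * c * (b⁻¹)⁻¹) * (a⁻¹)⁻¹ by group,
      ← hj, ← conj_zpow, ← hi, ← zpow_mul]
  have h2 : (b⁻¹ * a⁻¹) * c * (b⁻¹ * a⁻¹)⁻¹ = c ^ (i * j) := by
    rw [show (b⁻¹ * a⁻¹) * c * (b⁻¹ * a⁻¹)⁻¹ = b⁻¹ * (a⁻¹ * c * (a⁻¹)⁻¹) * (b⁻¹)⁻¹ by group,
      ← hi, ← conj_zpow, ← hj, ← zpow_mul, mul_comm j i]
  rw [mem_centralizer_singleton_iff]
  have h3 := h1.trans h2.symm
  rw [commutatorElement_def]
  calc a * b * a⁻¹ * b⁻¹ * c
      = a * b * ((a⁻¹ * b⁻¹) * c * (a⁻¹ * b⁻¹)⁻¹) * (a⁻¹ * b⁻¹) := by group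
    _ = a * b * ((b⁻¹ * a⁻¹) * c * (b⁻¹ * a⁻¹)⁻¹) * (a⁻¹ * b⁻¹) := by rw [h3]
    _ = c * (a * b * a⁻¹ * b⁻¹) := by group

theorem q8_facts : ((QuaternionGroup.a 1 : QuaternionGroup 2) * .a 1 = .a 2) ∧
    ((QuaternionGroup.xa 0 : QuaternionGroup 2) * .xa 0 = .a 2) ∧
    ((QuaternionGroup.a 1 : QuaternionGroup 2) * .xa 0 = .a 2 * (.xa 0 * .a 1)) ∧
    ((QuaternionGroup.a 2 : QuaternionGroup 2) ≠ 1) ∧
    ((QuaternionGroup.a 2 : QuaternionGroup 2) * .a 2 = 1) := by
  decide +kernel

variable {H : Type u} [Group H] [Finite H] {V : Type v} [CommGroup V] [Finite V] [Nontrivial V]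
  {p : ℕ} [hp : Fact p.Prime] (φ : H →* MulAut V)
  (hstab : ∀ (h : H) (x : V), x ≠ 1 → φ h x = x → ∃ k : ℕ, orderOf h = p ^ k)

include hstab in
/-- An element of a `q`-group, `q ≠ p`, fixes no nonidentity element. -/
theorem fpf_of_isPGroup {q : ℕ} (hq : q.Prime) (hqp : q ≠ p) {Q : Subgroup H} (hQ : IsPGroup q Q) :
    ∀ h : Q, h ≠ 1 → ∀ x : V, (φ.comp Q.subtype) h x = x → x = 1 := by
  intro h hh x hx
  by_contra hx1
  obtain ⟨k, hk⟩ := hstab h x hx1 hx
  have : Fact q.Prime := ⟨hq⟩
  obtain ⟨j, hj⟩ := IsPGroup.iff_orderOf.1 hQ h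
  rw [← orderOf_coe, hk] at hj
  rcases Nat.eq_zero_or_pos k with rfl | hk0
  · rw [pow_zero, orderOf_eq_one_iff] at hk
    exact hh (Subtype.ext hk)
  · have hd : p ∣ q ^ j := hj ▸ dvd_pow_self p hk0.ne'
    exact hqp.symm ((Nat.prime_dvd_prime_iff_eq hp.out hq).1 (hp.out.dvd_of_dvd_pow hd))

include hstab in
/-- The exceptional case: characteristic `3` and a normal quaternion subgroup of order `8`. -/
theorem commutator_le_q8 (hp3 : p = 3) (hinj : Function.Injective φ) (hexp : ∀ x : V, x ^ p = 1)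
    (htr : ∀ x y : V, x ≠ 1 → y ≠ 1 → ∃ h, φ h x = y)
    {Q : Subgroup H} [hQn : Q.Normal] (e : Q ≃* QuaternionGroup 2) :
    commutator H ≤ Q := by
  classical
  subst hp3
  have hV3 : ∀ x : V, x⁻¹ = x * x := fun x => by
    refine inv_eq_of_mul_eq_one_right ?_
    have := hexp x
    rwa [pow_succ', sq] at this
  have hVself : ∀ x : V, x = x⁻¹ → x = 1 := fun x hx => by
    have h := hV3 x
    rw [← hx] at h
    exact mul_eq_left.1 h.symm
  obtain ⟨e1, e2, e3, e4, e5⟩ := q8_facts
  let I : H := e.symm (.a 1)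
  let J : H := e.symm (.xa 0)
  let z : H := e.symm (.a 2)
  have hIQ : I ∈ Q := SetLike.coe_mem _
  have hJQ : J ∈ Q := SetLike.coe_mem _
  have hI2 : I * I = z := by simp only [I, z, ← coe_mul, ← map_mul, e1]
  have hJ2 : J * J = z := by simp only [J, z, ← coe_mul, ← map_mul, e2]
  have hIJ : I * J = z * (J * I) := by simp only [I, J, z, ← coe_mul, ← map_mul, e3]
  have hz2 : z * z = 1 := by simp only [z, ← coe_mul, ← map_mul, e5, map_one, coe_one]
  have hz1 : z ≠ 1 := fun h => e4 (e.symm.injective (Subtype.ext (h.trans (by simp))))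
  have hzinv : ∀ x : V, φ z x = x⁻¹ := by
    intro x
    have h2 : φ z (x * φ z x) = x * φ z x := by
      rw [map_mul, ← MulAut.mul_apply, ← map_mul, hz2, map_one, MulAut.one_apply, mul_comm]
    refine eq_inv_of_mul_eq_one_right ?_
    by_contra hne
    obtain ⟨k, hk⟩ := hstab z _ hne h2
    have ho : orderOf z = 2 := orderOf_eq_prime (by rw [sq]; exact hz2) hz1
    rw [ho] at hk
    rcases Nat.eq_zero_or_pos k with rfl | hk0
    · simp at hk
    · have : 3 ∣ 2 := hk ▸ dvd_pow_self 3 hk0.ne'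
      omega
  have hII : ∀ x : V, φ I (φ I x) = x⁻¹ := fun x => by
    rw [← MulAut.mul_apply, ← map_mul, hI2, hzinv]
  have hJJ : ∀ x : V, φ J (φ J x) = x⁻¹ := fun x => by
    rw [← MulAut.mul_apply, ← map_mul, hJ2, hzinv]
  have hIJv : ∀ x : V, φ I (φ J x) = (φ J (φ I x))⁻¹ := fun x => by
    rw [← MulAut.mul_apply, ← map_mul, hIJ, map_mul, MulAut.mul_apply, hzinv, map_mul,
      MulAut.mul_apply]
  let f : V →* V := (φ I).toMonoidHom * (φ J).toMonoidHom
  have hf : ∀ x : V, f x = φ I x * φ J x := fun x => rfl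
  have hff : ∀ x : V, f (f x) = x := fun x => by
    rw [hf, hf, map_mul, map_mul, hII, hJJ, hIJv]
    rw [show x⁻¹ * (φ J (φ I x))⁻¹ * (φ J (φ I x) * x⁻¹) = x⁻¹ * x⁻¹ by
      rw [mul_assoc, inv_mul_cancel_left]]
    rw [← mul_inv, ← hV3, inv_inv]
  obtain ⟨v, hv1, hv⟩ : ∃ v : V, v ≠ 1 ∧ f v = v := by
    by_contra hno
    push_neg at hno
    have hneg : ∀ x : V, f x = x⁻¹ := fun x => by
      refine eq_inv_of_mul_eq_one_left ?_
      by_contra hne
      exact hno _ hne (by rw [map_mul, hff, mul_comm])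
    have hJx : ∀ x : V, φ J x = (φ I x)⁻¹ * x⁻¹ := fun x => by
      rw [← hneg x, hf, inv_mul_cancel_left]
    have hcomm : ∀ x : V, φ J (φ I x) = φ I (φ J x) := fun x => by
      rw [hJx, hII, hJx x, map_mul, map_inv, map_inv, hII]
    obtain ⟨x, hx⟩ := exists_ne (1 : V)
    have h1 := hIJv x
    rw [← hcomm] at h1
    have h2 := hVself _ h1
    exact hx ((φ I).injective (by rw [(φ J).injective (h2.trans (map_one _).symm), map_one]))
  -- the plane spanned by `v` and `φ I v`
  let mk : (zpowers v × zpowers (φ I v)) →* V :=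
    (zpowers v).subtype.coprod (zpowers (φ I v)).subtype
  let P : Subgroup V := mk.range
  have hPv : v ∈ P := ⟨(⟨v, mem_zpowers v⟩, 1), by simp [mk]⟩
  have hPI : φ I v ∈ P := ⟨(1, ⟨φ I v, mem_zpowers _⟩), by simp [mk]⟩
  have hord : ∀ x : V, x ≠ 1 → orderOf x = 3 := fun x hx => orderOf_eq_prime (hexp x) hx
  have hPle : Nat.card P ≤ 9 := by
    have h1 : Nat.card P ≤ Nat.card (zpowers v × zpowers (φ I v)) :=
      Nat.card_le_card_of_surjective mk.rangeRestrict mk.rangeRestrict_surjective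
    rw [Nat.card_prod, Nat.card_zpowers, Nat.card_zpowers, hord v hv1,
      hord _ (fun h => hv1 ((φ I).injective (h.trans (map_one _).symm)))] at h1
    exact h1
  have hJv : φ J v = v * (φ I v)⁻¹ := by
    rw [eq_mul_inv_iff_mul_eq, mul_comm, ← hf, hv]
  have hinvariant : ∀ (g : H), φ g v ∈ P → φ g (φ I v) ∈ P → ∀ x ∈ P, φ g x ∈ P := by
    rintro g h1 h2 _ ⟨⟨⟨a, ha⟩, ⟨b, hb⟩⟩, rfl⟩
    obtain ⟨i, rfl⟩ := mem_zpowers_iff.1 ha
    obtain ⟨j, rfl⟩ := mem_zpowers_iff.1 hb
    simp only [mk, MonoidHom.coprod_apply, coe_subtype, map_mul, map_zpow]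
    exact mul_mem (zpow_mem h1 i) (zpow_mem h2 j)
  have hPinvI : ∀ x ∈ P, φ I x ∈ P :=
    hinvariant I hPI (by rw [hII]; exact inv_mem hPv)
  have hPinvJ : ∀ x ∈ P, φ J x ∈ P := by
    refine hinvariant J (by rw [hJv]; exact mul_mem hPv (inv_mem hPI)) ?_
    have h := hIJv v
    rw [hJv, map_mul, map_inv, hII, inv_inv] at h
    rw [← inv_inv (φ J (φ I v)), ← h]
    exact inv_mem (mul_mem hPI hPv)
  have hPQ : ∀ g ∈ Q, ∀ x ∈ P, φ g x ∈ P := by
    have hgen : ∀ q : QuaternionGroup 2, ∃ i j : Fin 4,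
        q = (QuaternionGroup.a 1) ^ (i : ℕ) * (QuaternionGroup.xa 0) ^ (j : ℕ) := by
      decide +kernel
    intro g hg
    obtain ⟨i, j, hij⟩ := hgen (e ⟨g, hg⟩)
    have hgIJ : g = I ^ (i : ℕ) * J ^ (j : ℕ) := by
      have h := congrArg (fun q => (e.symm q : H)) hij
      rw [MulEquiv.symm_apply_apply, map_mul, map_pow, map_pow, coe_mul, coe_pow, coe_pow] at h
      exact h
    intro x hx
    rw [hgIJ, map_mul, MulAut.mul_apply, map_pow, map_pow]
    have hpow : ∀ (F : MulAut V) (m : ℕ), (∀ y ∈ P, F y ∈ P) → ∀ y ∈ P, (F ^ m) y ∈ P := by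
      intro F m hF
      induction m with
      | zero => intro y hy; simpa using hy
      | succ m ih => intro y hy; rw [pow_succ', MulAut.mul_apply]; exact hF _ (ih y hy)
    exact hpow _ _ hPinvI _ (hpow _ _ hPinvJ _ hx)
  have hall : ∀ x : V, x ≠ 1 → ∃ P' : Subgroup V, x ∈ P' ∧ Nat.card P' ≤ 9 ∧
      ∀ g ∈ Q, ∀ y ∈ P', φ g y ∈ P' := by
    intro x hx
    obtain ⟨g, hg⟩ := htr v x hv1 hx
    refine ⟨P.map (φ g).toMonoidHom, ⟨v, hPv, hg⟩, ?_, ?_⟩
    · rwa [Subgroup.card_map_of_injective (φ g).injective]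
    · rintro q hq _ ⟨y, hy, rfl⟩
      refine ⟨φ (g⁻¹ * q * g) y, hPQ _ ?_ y hy, ?_⟩
      · simpa using hQn.conj_mem q hq g⁻¹
      · show φ g (φ (g⁻¹ * q * g) y) = φ q (φ g y)
        rw [← MulAut.mul_apply, ← map_mul, ← MulAut.mul_apply, ← map_mul]
        congr 2
        group
  have hPtop : P = ⊤ := by
    by_contra hne
    obtain ⟨x, hx⟩ : ∃ x : V, x ∉ P := by
      by_contra h; push_neg at h; exact hne (eq_top_iff.2 fun x _ => h x)
    have hfP : ∀ y ∈ P, f y ∈ P := fun y hy => by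
      rw [hf]; exact mul_mem (hPinvI y hy) (hPinvJ y hy)
    obtain ⟨y, hyP, hy⟩ : ∃ y, y ∉ P ∧ f y = y⁻¹ := by
      by_cases h : x * (f x)⁻¹ ∈ P
      · have hw : x * f x ∉ P := fun h' => hx (by
          have h2 := mul_mem h' h
          rw [show x * f x * (x * (f x)⁻¹) = x * x by
            rw [mul_mul_mul_comm, mul_inv_cancel, mul_one], ← hV3] at h2
          exact inv_mem_iff.1 h2)
        obtain ⟨w, hwP, hw⟩ : ∃ w, w ∉ P ∧ f w = w :=
          ⟨_, hw, by rw [map_mul, hff, mul_comm]⟩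
        refine ⟨w * φ I w, fun h' => hwP ?_, ?_⟩
        · have h2 := mul_mem h' (inv_mem (hPinvI _ h'))
          rw [map_mul, hII, mul_inv_rev, inv_inv, mul_assoc, mul_comm w ((φ I w)⁻¹),
            mul_inv_cancel_left, ← hV3] at h2
          exact inv_mem_iff.1 h2
        · have hJw : φ J w = w * (φ I w)⁻¹ := by
            rw [eq_mul_inv_iff_mul_eq, mul_comm, ← hf, hw]
          have hJI : φ J (φ I w) = (φ I w * w)⁻¹ := by
            have h := hIJv w
            rw [hJw, map_mul, map_inv, hII, inv_inv] at h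
            rw [h, inv_inv]
          rw [map_mul, hw, hf, hII, hJI, mul_inv, mul_inv, hV3 w]
          simp only [mul_comm, mul_assoc, mul_left_comm]
          rw [show w * (w * (w * (w * (w * (φ I w)⁻¹)))) = (w ^ 3) * (w * (w * (φ I w)⁻¹)) by
            simp only [pow_succ', pow_zero, mul_one, mul_assoc], hexp, one_mul]
      · exact ⟨_, h, by rw [map_mul, map_inv, hff, mul_inv_rev, inv_inv, mul_comm]⟩
    have hvy : v * y ≠ 1 := fun h => hyP (by
      rw [← eq_inv_of_mul_eq_one_right h |>.symm]; exact inv_mem hPv)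
    obtain ⟨P', hxP', hP'le, hP'⟩ := hall _ hvy
    have hfx : f (v * y) ∈ P' := by
      rw [hf]; exact mul_mem (hP' I hIQ _ hxP') (hP' J hJQ _ hxP')
    rw [map_mul, hv, hy] at hfx
    have hvP' : v ∈ P' := by
      have h2 := mul_mem hxP' hfx
      rw [mul_mul_mul_comm, mul_inv_cancel, mul_one, ← hV3] at h2
      exact inv_mem_iff.1 h2
    have hyP' : y ∈ P' := by simpa using mul_mem (inv_mem hvP') hxP'
    have hlt : P < P' := by
      refine lt_of_le_not_ge ?_ fun h => hyP (h hyP')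
      rintro _ ⟨⟨⟨a, ha⟩, ⟨b, hb⟩⟩, rfl⟩
      obtain ⟨i, rfl⟩ := mem_zpowers_iff.1 ha
      obtain ⟨j, rfl⟩ := mem_zpowers_iff.1 hb
      exact mul_mem (zpow_mem hvP' i) (zpow_mem (hP' I hIQ v hvP') j)
    have h3 : 3 ∣ Nat.card P := by
      rw [← hord v hv1]
      rw [show orderOf v = orderOf (⟨v, hPv⟩ : P) from orderOf_coe (⟨v, hPv⟩ : P)]
      exact orderOf_dvd_natCard _
    have h4 : Nat.card P ≠ 3 := by
      intro h
      have hz : P = zpowers v := (Subgroup.eq_of_le_of_card_ge (zpowers_le.2 hPv)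
        (by rw [Nat.card_zpowers, hord v hv1, h])).symm
      have hI' : φ I v ∈ zpowers v := hz ▸ hPI
      obtain ⟨i, hi⟩ := mem_zpowers_iff.1 hI'
      rw [← zpow_mod_orderOf, hord v hv1] at hi
      have h2 := hII v
      rcases (by omega : i % ((3 : ℕ) : ℤ) = 0 ∨ i % ((3 : ℕ) : ℤ) = 1 ∨
        i % ((3 : ℕ) : ℤ) = 2) with h' | h' | h' <;> rw [h'] at hi
      · rw [zpow_zero] at hi
        exact hv1 ((φ I).injective (by rw [← hi, map_one]))
      · rw [zpow_one] at hi
        rw [← hi, ← hi] at h2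
        exact hv1 (hVself _ h2)
      · rw [show v ^ (2 : ℤ) = v⁻¹ by rw [hV3, zpow_ofNat, sq]] at hi
        rw [← hi, map_inv, ← hi, inv_inv] at h2
        exact hv1 (hVself _ h2)
    obtain ⟨c, hc⟩ := Subgroup.card_dvd_of_le hlt.le
    have hc1 : 2 ≤ c := by
      rcases Nat.lt_or_ge c 2 with h | h
      · interval_cases c
        · exact absurd hc (by simp [Nat.card_pos.ne'])
        · rw [mul_one] at hc
          exact absurd (Subgroup.eq_of_le_of_card_ge hlt.le hc.le) hlt.ne
      · exact h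
    have hpd : Nat.card P' ∣ Nat.card V := P'.card_subgroup_dvd_card
    have hV3' : IsPGroup 3 V := fun x => ⟨1, by rw [pow_one]; exact hexp x⟩
    obtain ⟨a, ha⟩ := IsPGroup.iff_card.1 (hV3'.to_subgroup P)
    obtain ⟨b, hb⟩ := IsPGroup.iff_card.1 (hV3'.to_subgroup P')
    have hab : a < b := by
      refine (Nat.pow_lt_pow_iff_right (by norm_num : 1 < 3)).1 ?_
      rw [← ha, ← hb, hc]
      have : 0 < Nat.card P := Nat.card_pos
      nlinarith
    have hb2 : b ≤ 2 := (Nat.pow_le_pow_iff_right (by norm_num : 1 < 3)).1 (by rw [← hb]; simpa using hP'le)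
    have ha2 : a ≠ 0 ∧ a ≠ 1 := by
      constructor <;> rintro rfl
      · rw [pow_zero] at ha; rw [ha] at h3; omega
      · exact h4 (by simpa using ha)
    omega
  have hV9 : Nat.card V ≤ 9 := by rwa [hPtop, card_top] at hPle
  -- the index of `Q` is at most three
  have hQ8 : Nat.card Q = 8 := by
    rw [Nat.card_congr e.toEquiv, Nat.card_eq_fintype_card]
    decide
  let S : Subgroup H :=
    { carrier := {h | φ h v = v}
      one_mem' := by simp
      mul_mem' := fun {a b} ha hb => by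
        show φ (a * b) v = v
        rw [map_mul, MulAut.mul_apply, show φ b v = v from hb, show φ a v = v from ha]
      inv_mem' := fun {a} ha => by
        show φ a⁻¹ v = v
        conv_lhs => rw [← show φ a v = v from ha, ← MulAut.mul_apply, ← map_mul, inv_mul_cancel,
          map_one, MulAut.one_apply] }
  have hS : IsPGroup 3 S := IsPGroup.iff_orderOf.2 fun s => by
    rw [← orderOf_coe]; exact hstab s v hv1 s.2
  have hScard : Nat.card S ≤ Nat.card {x : V // x ≠ 1} := by
    refine Nat.card_le_card_of_injective (fun s : S => (⟨φ s (φ I v), fun h => hv1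
      ((φ I).injective (((φ (s : H)).injective (h.trans (map_one _).symm)).trans
        (map_one _).symm))⟩ : {x : V // x ≠ 1})) fun s t hst => ?_
    have h2 : φ s (φ I v) = φ t (φ I v) := congrArg Subtype.val hst
    refine Subtype.ext (hinj (MulEquiv.ext fun x => ?_))
    have hx : x ∈ P := hPtop ▸ mem_top x
    obtain ⟨⟨⟨a, ha⟩, ⟨b, hb⟩⟩, rfl⟩ := hx
    obtain ⟨i, rfl⟩ := mem_zpowers_iff.1 ha
    obtain ⟨j, rfl⟩ := mem_zpowers_iff.1 hb
    simp only [mk, MonoidHom.coprod_apply, coe_subtype, map_mul, map_zpow]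
    rw [show φ s v = v from s.2, show φ t v = v from t.2, h2]
  have hVne : Nat.card {x : V // x ≠ 1} = Nat.card V - 1 := by
    show Nat.card ({(1 : V)}ᶜ : Set V) = _
    rw [Nat.card_coe_set_eq, Set.ncard_compl, Set.ncard_singleton]
  have hS3 : Nat.card S ≤ 3 := by
    obtain ⟨a, ha⟩ := IsPGroup.iff_card.1 hS
    have : 3 ^ a ≤ 8 := ha ▸ (by omega)
    have : a ≤ 1 := by
      by_contra h
      have : 3 ^ 2 ≤ 3 ^ a := Nat.pow_le_pow_right (by norm_num) (by omega)
      omega
    rw [ha]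
    calc 3 ^ a ≤ 3 ^ 1 := Nat.pow_le_pow_right (by norm_num) this
      _ = 3 := by norm_num
  have horb : S.index ≤ Nat.card {x : V // x ≠ 1} := by
    refine Nat.card_le_card_of_injective (fun q : H ⧸ S => (⟨φ q.out v, fun h =>
      hv1 ((φ q.out).injective (h.trans (map_one _).symm))⟩ : {x : V // x ≠ 1})) ?_
    intro a b hab
    have h2 : φ a.out v = φ b.out v := congrArg Subtype.val hab
    rw [← QuotientGroup.out_eq' a, ← QuotientGroup.out_eq' b, QuotientGroup.eq]
    show φ (a.out⁻¹ * b.out) v = v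
    rw [map_mul, MulAut.mul_apply, ← h2, ← MulAut.mul_apply, ← map_mul, inv_mul_cancel, map_one,
      MulAut.one_apply]
  have hidx : Q.index ≤ 3 := by
    have h1 := S.index_mul_card
    have h2 := Q.index_mul_card
    rw [hQ8] at h2
    have h3 : S.index * Nat.card S ≤ 8 * 3 := Nat.mul_le_mul (by omega) hS3
    omega
  have hcyc : IsCyclic (H ⧸ Q) := by
    have h0 : 0 < Nat.card (H ⧸ Q) := Nat.card_pos
    rw [Subgroup.index_eq_card] at hidx
    rcases (by omega : Nat.card (H ⧸ Q) = 1 ∨ Nat.card (H ⧸ Q) = 2 ∨ Nat.card (H ⧸ Q) = 3)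
      with h | h | h
    · have := (Nat.card_eq_one_iff_unique.1 h).1
      infer_instance
    · have : Fact (Nat.Prime 2) := ⟨Nat.prime_two⟩
      exact isCyclic_of_prime_card h
    · exact isCyclic_of_prime_card h
  rw [_root_.commutator_def, Subgroup.commutator_le]
  intro a _ b _
  rw [← QuotientGroup.eq_one_iff, ← QuotientGroup.mk'_apply, map_commutatorElement,
    commutatorElement_eq_one_iff_mul_comm]
  exact Solvable.comm_of_isCyclic _ _

/-- A `p`-element commuting with the generator of a cyclic subgroup of index two of a `2`-group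
which it normalises, and mapping each element into itself times that subgroup, centralises. -/
theorem commute_of_step {c s x : H} {d : H} (hd : d ∈ zpowers c) (hsc : Commute s c)
    (hsx : s * x * s⁻¹ = d * x) (hcop : (orderOf s).Coprime (orderOf c)) : s * x * s⁻¹ = x := by
  obtain ⟨i, rfl⟩ := mem_zpowers_iff.1 hd
  have hsd : Commute s (c ^ i) := hsc.zpow_right i
  have hpow : ∀ m : ℕ, s ^ m * x * (s ^ m)⁻¹ = (c ^ i) ^ m * x := by
    intro m
    induction m with
    | zero => simp
    | succ m ih =>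
      rw [pow_succ' s m, mul_inv_rev,
        show s * s ^ m * x * ((s ^ m)⁻¹ * s⁻¹) = s * (s ^ m * x * (s ^ m)⁻¹) * s⁻¹ by
          simp only [mul_assoc], ih,
        show s * ((c ^ i) ^ m * x) * s⁻¹ = (c ^ i) ^ m * (s * x * s⁻¹) by
          rw [← mul_assoc s, (hsd.pow_right m).eq]; simp only [mul_assoc],
        hsx, pow_succ, mul_assoc]
  have h1 := hpow (orderOf s)
  rw [pow_orderOf_eq_one, one_mul, inv_one, mul_one, right_eq_mul] at h1
  have h2 : (c ^ i) ^ orderOf c = 1 := by
    rw [← zpow_natCast, ← zpow_mul, mul_comm, zpow_mul, zpow_natCast, pow_orderOf_eq_one, one_zpow]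
  have h3 := (pow_gcd_eq_one.2 ⟨h1, h2⟩ : (c ^ i) ^ Nat.gcd (orderOf s) (orderOf c) = 1)
  rw [Nat.Coprime.gcd_eq_one hcop, pow_one] at h3
  rw [hsx, h3, one_mul]

include hstab in
/-- An element of `p`-power order of the derived group centralises every `pCore`, unless
`p = 3` and the `2`-core is quaternion of order `8`. -/
theorem commute_of_mem_pCore (hcore : Cfsg.pCore p H = ⊥)
    (hex : ¬ (p = 3 ∧ Nonempty (Cfsg.pCore 2 H ≃* QuaternionGroup 2)))
    {s : H} (hs : s ∈ commutator H) {k : ℕ} (hsk : orderOf s = p ^ k)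
    {q : ℕ} (hq : q.Prime) {x : H} (hx : x ∈ Cfsg.pCore q H) : s * x * s⁻¹ = x := by
  classical
  have : Fact q.Prime := ⟨hq⟩
  have hQn := Solvable.pCore_normal q H
  rcases eq_or_ne q p with hqp | hqp
  · rw [hqp, hcore, mem_bot] at hx
    simp [hx]
  have hQp : IsPGroup q (Cfsg.pCore q H) := Solvable.pCore_isPGroup q
  have hfpf := fpf_of_isPGroup φ hstab hq hqp hQp
  -- a cyclic core is centralised by the derived group
  have hcycCase : IsCyclic (Cfsg.pCore q H) → s * x * s⁻¹ = x := by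
    intro h
    obtain ⟨g, hg⟩ := IsCyclic.exists_generator (α := Cfsg.pCore q H)
    have hall : ∀ y ∈ Cfsg.pCore q H, y ∈ zpowers (g : H) := fun y hy => by
      obtain ⟨i, hi⟩ := mem_zpowers_iff.1 (hg ⟨y, hy⟩)
      exact mem_zpowers_iff.2 ⟨i, by rw [← coe_zpow, hi]⟩
    have hc := mem_centralizer_singleton_iff.1
      (commutator_le_centralizer (g : H) (fun h => hall _ (hQn.conj_mem _ g.2 h)) hs)
    obtain ⟨i, rfl⟩ := mem_zpowers_iff.1 (hall x hx)
    rw [(Commute.zpow_right (show Commute s (g : H) from hc) i).eq, mul_inv_cancel_right]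
  by_cases hq2 : q = 2
  · subst hq2
    have huni : ∀ a b : Cfsg.pCore 2 H, orderOf a = 2 → orderOf b = 2 → Commute a b →
        b ∈ zpowers a := fun a b ha hb _ => by
      rw [Solvable.involution_unique_of_fpf _ hfpf hb ha]
      exact mem_zpowers a
    rcases StructC.isCyclic_or_quaternion hQp huni with h | ⟨m, hm1, ⟨e⟩⟩
    · exact hcycCase h
    have hodd : Odd (p ^ k) := (hp.out.odd_of_ne_two hqp.symm).pow
    rcases Nat.lt_or_ge m 2 with hm | hm
    · have hm' : m = 1 := by omega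
      subst hm'
      let e' : Cfsg.pCore 2 H ≃* QuaternionGroup 2 := e
      let ψ : MulAut (QuaternionGroup 2) :=
        (MulAut.congr e') (MulAut.conjNormal s : MulAut (Cfsg.pCore 2 H))
      have hψ : ψ ^ (p ^ k) = 1 := by
        rw [← map_pow, ← map_pow, ← hsk, pow_orderOf_eq_one, map_one, map_one]
      have hψ1 : ψ = 1 := by
        by_contra hne
        obtain ⟨-, -, -, -, h3, -⟩ := Transfer.QSL.exists_sl23_realization ψ hne hodd hψ
        have hd : 3 ∣ p ^ k := h3 ▸ orderOf_dvd_of_pow_eq_one hψ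
        exact hex ⟨((Nat.prime_dvd_prime_iff_eq Nat.prime_three hp.out).1
          (Nat.prime_three.dvd_of_dvd_pow hd)).symm, ⟨e'⟩⟩
      have h1 : (MulAut.conjNormal s : MulAut (Cfsg.pCore 2 H)) = 1 := by
        refine (MulAut.congr e').injective ?_
        rw [map_one]
        exact hψ1
      have h2 := congrArg Subtype.val (DFunLike.congr_fun h1 ⟨x, hx⟩)
      simpa [MulAut.conjNormal_apply] using h2
    · let n := 2 ^ m
      have hn4 : 4 ≤ n := (Nat.pow_le_pow_right (by norm_num) hm : 2 ^ 2 ≤ 2 ^ m)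
      have : NeZero n := ⟨by omega⟩
      let c : Cfsg.pCore 2 H := e.symm (.a 1)
      have hoc : orderOf (c : H) = 2 * n := by
        rw [orderOf_coe, MulEquiv.orderOf_eq, QuaternionGroup.orderOf_a_one]
      have hkey : ∀ y : Cfsg.pCore 2 H, (∀ i, e y ≠ .a i) → (y : H) ∉ zpowers (c : H) := by
        intro y hy hmem
        classical
        rw [mem_zpowers_iff_mem_range_orderOf, Finset.mem_image] at hmem
        obtain ⟨i, -, hi⟩ := hmem
        have hy' : y = c ^ i := Subtype.ext (by rw [coe_pow, hi])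
        have : e y = .a (i : ZMod (2 * n)) := by
          rw [hy', map_pow, MulEquiv.apply_symm_apply, QuaternionGroup.a_one_pow]
        exact hy _ this
      have hin : ∀ (y : Cfsg.pCore 2 H) (i : ZMod (2 * n)), e y = .a i →
          (y : H) ∈ zpowers (c : H) := by
        intro y i hy
        refine mem_zpowers_iff.2 ⟨(i.val : ℤ), ?_⟩
        have hy' : y = c ^ i.val := e.injective (by
          rw [map_pow, MulEquiv.apply_symm_apply, hy, QuaternionGroup.a_one_pow,
            ZMod.natCast_zmod_val])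
        rw [zpow_natCast, hy', coe_pow]
      have hconj : ∀ h : H, h * (c : H) * h⁻¹ ∈ zpowers (c : H) := by
        intro h
        let y : Cfsg.pCore 2 H := ⟨_, hQn.conj_mem _ c.2 h⟩
        cases hy : e y with
        | a i => exact hin y i hy
        | xa i =>
          exfalso
          have h4 : orderOf (y : H) = 4 := by
            rw [orderOf_coe, ← MulEquiv.orderOf_eq e, hy, QuaternionGroup.orderOf_xa]
          have h5 : orderOf (y : H) = orderOf (c : H) :=
            (SemiconjBy.orderOf_eq (y := (y : H)) h (by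
              show h * (c : H) = h * (c : H) * h⁻¹ * h
              rw [inv_mul_cancel_right])).symm
          omega
      have hsc : Commute s (c : H) :=
        mem_centralizer_singleton_iff.1 (commutator_le_centralizer (c : H) hconj hs)
      cases hex' : e ⟨x, hx⟩ with
      | a i =>
        obtain ⟨j, rfl⟩ := mem_zpowers_iff.1 (hin ⟨x, hx⟩ i hex')
        rw [(hsc.zpow_right j).eq, mul_inv_cancel_right]
      | xa i =>
        let y : Cfsg.pCore 2 H := ⟨_, hQn.conj_mem _ hx s⟩
        cases hy : e y with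
        | a j =>
          exfalso
          obtain ⟨l, hl⟩ := mem_zpowers_iff.1 (hin y j hy)
          refine hkey ⟨x, hx⟩ (fun t => by rw [hex']; simp) (mem_zpowers_iff.2 ⟨l, ?_⟩)
          have h2 : (c : H) ^ l = s * x * s⁻¹ := hl
          have h3 : s⁻¹ * (c : H) ^ l * s = x := by rw [h2]; group
          rw [mul_assoc, ← (hsc.zpow_right l).eq, inv_mul_cancel_left] at h3
          exact h3
        | xa j =>
          refine commute_of_step (c := (c : H)) (d := s * x * s⁻¹ * x⁻¹) ?_ hsc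
            (by rw [inv_mul_cancel_right]) ?_
          · let w : Cfsg.pCore 2 H := y * ⟨x, hx⟩⁻¹
            cases hw : e w with
            | a t => exact hin w t hw
            | xa t =>
              exfalso
              have h2 : e y = e w * e ⟨x, hx⟩ := by
                rw [← map_mul]; congr 1; simp [w]
              rw [hy, hw, hex'] at h2
              simp at h2
          · rw [hsk, hoc, show 2 * n = 2 ^ (m + 1) by rw [pow_succ']]
            exact Nat.Coprime.pow _ _ ((Nat.coprime_primes hp.out Nat.prime_two).2 hqp.symm)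
  · have htop : IsPGroup q (⊤ : Subgroup (Cfsg.pCore q H)) := hQp.to_subgroup ⊤
    rcases Solvable.isCyclic_or_quaternion_of_fpf _ hfpf (htop.toSylow (by
      rw [index_top]; exact hq.not_dvd_one)) with h | ⟨h2, -⟩
    · refine hcycCase ?_
      have : IsCyclic (⊤ : Subgroup (Cfsg.pCore q H)) := h
      exact isCyclic_of_surjective (Subgroup.topEquiv.toMonoidHom) Subgroup.topEquiv.surjective
    · exact absurd h2 hq2

include hstab in
/-- The derived group has order prime to `p`. -/
theorem coprime_card_commutator [hsol : Group.IsSolvable H] (hinj : Function.Injective φ)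
    (hexp : ∀ x : V, x ^ p = 1) (htr : ∀ x y : V, x ≠ 1 → y ≠ 1 → ∃ h, φ h x = y)
    (hcore : Cfsg.pCore p H = ⊥) : (Nat.card (commutator H)).Coprime p := by
  by_cases hex : p = 3 ∧ Nonempty (Cfsg.pCore 2 H ≃* QuaternionGroup 2)
  · obtain ⟨hp3, ⟨e⟩⟩ := hex
    have := Solvable.pCore_normal 2 H
    have hle := commutator_le_q8 φ hstab hp3 hinj hexp htr e
    refine Nat.Coprime.coprime_dvd_left (card_dvd_of_le hle) ?_
    rw [Nat.card_congr e.toEquiv, Nat.card_eq_fintype_card, hp3]
    decide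
  refine (hp.out.coprime_iff_not_dvd.2 fun hd => ?_).symm
  obtain ⟨⟨s, hs⟩, ho⟩ := exists_prime_orderOf_dvd_card' p hd
  rw [← orderOf_coe] at ho
  have hsF : s ∈ centralizer ((Cfsg.fittingSubgroup H : Subgroup H) : Set H) := by
    have hle : Cfsg.fittingSubgroup H ≤ centralizer ({s} : Set H) := by
      rw [Solvable.fittingSubgroup_eq_iSup_pCore, iSup_le_iff]
      intro q x hx
      rw [mem_centralizer_singleton_iff]
      exact (mul_inv_eq_iff_eq_mul.1
        (commute_of_mem_pCore φ hstab hcore hex hs (k := 1) (by rw [pow_one]; exact ho) q.2 hx)).symm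
    exact mem_centralizer_iff.2 fun x hx => mem_centralizer_singleton_iff.1 (hle hx)
  have hsFit := Solvable.centralizer_fittingSubgroup_le hsF
  have := Solvable.fittingSubgroup_normal H
  have hbot : Cfsg.pCore p (Cfsg.fittingSubgroup H) = ⊥ := by
    have h := Solvable.map_pCore_le p (Cfsg.fittingSubgroup H)
    rw [hcore, le_bot_iff, Subgroup.map_eq_bot_iff_of_injective _ (subtype_injective _)] at h
    exact h
  have hnd := Solvable.isNilpotent_iff_pCore_index.1
    (Solvable.fittingSubgroup_isNilpotent (G := H)) p hp.out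
  rw [hbot, index_bot] at hnd
  refine hnd ?_
  rw [← ho, ← orderOf_mk s hsFit]
  exact orderOf_dvd_natCard _

end CfsgLib.BlockB.TransPStab
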