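import Cfsg.Agent.Lib.Char.Galois
import Cfsg.Agent.Lib.Char.Induce
import Cfsg.Agent.Lib.Char.Fixed
import Cfsg.Agent.Lib.Transfer.MaxClassTwo
import Cfsg.Agent.Lib.InvChar.SmallCentralizerSylow
import Mathlib.FieldTheory.IntermediateField.Adjoin.Basic
import Mathlib.GroupTheory.SpecificGroups.Cyclic
import Mathlib.RingTheory.Coprime.Lemmas

/-!
The fields of values of the classes of a group with Sylow `2`-subgroup of commutator index four.
-/

set_option autoImplicit false
set_option linter.unusedSectionVars false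

namespace CfsgLib.BlockB.TwoClassField

open CfsgLib

universe u

variable {G : Type u} [Group G] [Finite G]

/-- Every element of a field generated by sums fixed by an embedding is fixed. -/
theorem fixed_of_adjoin (ψ : Char.algNum →ₐ[ℚ] ℂ) {S : Set ℂ}
    (hS : ∀ x ∈ S, ∃ hx : x ∈ Char.algNum, ψ ⟨x, hx⟩ = x) :
    ∀ y ∈ IntermediateField.adjoin ℚ S, ∃ hy : y ∈ Char.algNum, ψ ⟨y, hy⟩ = y := by
  intro y hy
  induction hy using IntermediateField.adjoin_induction with
  | mem x hx => exact hS x hx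
  | algebraMap x => exact ⟨(algebraMap ℚ Char.algNum x).2, ψ.commutes x⟩
  | add x y _ _ hx hy =>
    obtain ⟨hx, ex⟩ := hx; obtain ⟨hy, ey⟩ := hy
    refine ⟨add_mem hx hy, ?_⟩
    show ψ (⟨x, hx⟩ + ⟨y, hy⟩) = x + y
    rw [map_add, ex, ey]
  | inv x _ hx =>
    obtain ⟨hx, ex⟩ := hx
    refine ⟨inv_mem hx, ?_⟩
    show ψ (⟨x, hx⟩⁻¹) = x⁻¹
    rw [map_inv₀, ex]
  | mul x y _ _ hx hy =>
    obtain ⟨hx, ex⟩ := hx; obtain ⟨hy, ey⟩ := hy
    refine ⟨mul_mem hx hy, ?_⟩
    show ψ (⟨x, hx⟩ * ⟨y, hy⟩) = x * y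
    rw [map_mul, ex, ey]

/-- An embedding fixing the values at `g` that raises roots of unity to the `k`-th power: `g` is
conjugate to `g ^ k`. -/
theorem isConj_pow_of_fixed {g : G} {k N : ℕ} (hN : Nat.card G ∣ N) (ψ : Char.algNum →ₐ[ℚ] ℂ)
    (hψ : ∀ μ : Char.algNum, μ ^ N = 1 → ψ μ = (μ : ℂ) ^ k)
    (hfix : ∀ χ : Cfsg.IrrCharacter G, ∀ h : (χ : G → ℂ) g ∈ Char.algNum,
      ψ ⟨(χ : G → ℂ) g, h⟩ = (χ : G → ℂ) g) : IsConj g (g ^ k) := by
  have := Fintype.ofFinite G
  rw [Char.isConj_iff_forall_irr]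
  intro χ
  have h1 := Char.emb_charVal (Char.irr_isCharacter χ.2) ψ (m := k) (fun μ hμ => hψ μ (by
    obtain ⟨c, rfl⟩ := hN
    rw [pow_mul, hμ, one_pow])) g
  rw [← h1]
  exact (hfix χ _).symm

/-- The sums `ζ ^ i + ζ ^ (i * k)` lie in the field of the first one. -/
theorem pow_add_pow_mem {ζ : ℂ} {k : ℕ} {η : ℂ} (hη : ζ + ζ ^ k = η) {ε : ℚ}
    (hε : ζ * ζ ^ k = (ε : ℂ)) :
    ∀ i : ℕ, ζ ^ i + ζ ^ (i * k) ∈ IntermediateField.adjoin ℚ ({η} : Set ℂ) := by
  set F := IntermediateField.adjoin ℚ ({η} : Set ℂ)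
  have hηF : η ∈ F := IntermediateField.mem_adjoin_simple_self ℚ η
  have hεF : (ε : ℂ) ∈ F := by
    rw [← eq_ratCast (algebraMap ℚ ℂ) ε]
    exact F.algebraMap_mem ε
  intro i
  induction i using Nat.twoStepInduction with
  | zero =>
    rw [pow_zero, zero_mul, pow_zero]
    exact add_mem F.one_mem F.one_mem
  | one => rw [pow_one, one_mul, hη]; exact hηF
  | more n h1 h2 =>
    have e : ζ ^ (n + 2) + ζ ^ ((n + 2) * k) =
        η * (ζ ^ (n + 1) + ζ ^ ((n + 1) * k)) - (ε : ℂ) * (ζ ^ n + ζ ^ (n * k)) := by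
      rw [← hη, ← hε, show (n + 2) * k = n * k + k + k by ring,
        show (n + 1) * k = n * k + k by ring, pow_add, pow_add, pow_add, pow_add, pow_two, pow_one]
      ring
    rw [e]
    exact sub_mem (mul_mem hηF h2) (mul_mem hεF h1)

/-- A value at `g` fixed by `k` lies in the field of `ζ + ζ ^ k`. -/
theorem char_mem_adjoin {χ : G → ℂ} (hχ : Cfsg.IsCharacter G χ) {g : G} {ζ : ℂ}
    (hζ : IsPrimitiveRoot ζ (orderOf g)) {k : ℕ} (hk : χ (g ^ k) = χ g) {η : ℂ}
    (hη : ζ + ζ ^ k = η) {ε : ℚ} (hε : ζ * ζ ^ k = (ε : ℂ)) :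
    χ g ∈ IntermediateField.adjoin ℚ ({η} : Set ℂ) := by
  classical
  have : NeZero (orderOf g) := ⟨(orderOf_pos g).ne'⟩
  obtain ⟨n, ρ, rfl⟩ := hχ
  obtain ⟨ι, hι, b, μ, -, h2, h3, -⟩ := Char.exists_char_eigen ρ g
  have e1 : ρ.character g = ∑ i, μ i := by simpa using h3 1
  have e2 : ρ.character g = ((2 : ℕ) : ℂ)⁻¹ * ∑ i, (μ i + μ i ^ k) := by
    rw [Finset.sum_add_distrib, ← e1, ← h3, hk, Nat.cast_ofNat]
    ring
  rw [e2]
  refine mul_mem (inv_mem (IntermediateField.natCast_mem _ 2)) (sum_mem fun i _ => ?_)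
  obtain ⟨j, -, hj⟩ := hζ.eq_pow_of_pow_eq_one (h2 i)
  rw [← hj, ← pow_mul]
  exact pow_add_pow_mem hη hε j

/-- A self-centralizing element modulo odd order: the induced character shows that the values
generate the sum. -/
theorem sum_mem_adjoin [Fintype G] {g : G} {ζ : ℂ} (hζ : IsPrimitiveRoot ζ (orderOf g)) {k : ℕ}
    (hk1 : g ^ k ≠ g) {y : G} (hy : y * g * y⁻¹ = g ^ k)
    (hN : ∀ x : G, x⁻¹ * g * x ∈ Subgroup.zpowers g → x⁻¹ * g * x = g ∨ x⁻¹ * g * x = g ^ k) :
    ζ + ζ ^ k ∈ IntermediateField.adjoin ℚ {z : ℂ | ∃ χ : Cfsg.IrrCharacter G, (χ : G → ℂ) g = z} := by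
  classical
  set H := Subgroup.zpowers g with hH
  have := Fintype.ofFinite H
  have hζ0 : ζ ≠ 0 := hζ.ne_zero (orderOf_pos g).ne'
  have hgen : ∀ x : H, x ∈ Subgroup.zpowers (⟨g, Subgroup.mem_zpowers g⟩ : H) := fun x => by
    obtain ⟨i, hi⟩ := Subgroup.mem_zpowers_iff.1 x.2
    exact Subgroup.mem_zpowers_iff.2 ⟨i, Subtype.ext (by rw [Subgroup.coe_zpow]; exact hi)⟩
  let lam : H →* ℂˣ := monoidHomOfForallMemZpowers hgen (g' := Units.mk0 ζ hζ0) (by
    rw [Subgroup.orderOf_mk, ← orderOf_units, Units.val_mk0, ← hζ.eq_orderOf])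
  have hlam : lam ⟨g, Subgroup.mem_zpowers g⟩ = Units.mk0 ζ hζ0 :=
    monoidHomOfForallMemZpowers_apply_gen hgen _
  have hlamk : lam ⟨g ^ k, Subgroup.pow_mem _ (Subgroup.mem_zpowers g) k⟩ = Units.mk0 ζ hζ0 ^ k := by
    rw [← hlam, ← map_pow]; rfl
  let θ : H → ℂ := fun x => (lam x : ℂ)
  have hθ : Cfsg.IsCharacter H θ := Char.irr_isCharacter (Char.isIrrCharacter_linear lam)
  set F := IntermediateField.adjoin ℚ {z : ℂ | ∃ χ : Cfsg.IrrCharacter G, (χ : G → ℂ) g = z}
  have hI : Cfsg.indFun H θ g ∈ F := by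
    have hI' := Char.isCharacter_indFun H hθ
    have := Fintype.ofFinite (Cfsg.IrrCharacter G)
    rw [Char.classFunction_apply_eq_sum (Char.isCharacter_isClassFunction hI') g]
    refine sum_mem fun χ _ => ?_
    obtain ⟨m, hm⟩ := Char.classInner_isCharacter_nat hI' (Char.irr_isCharacter χ.2)
    rw [hm]
    exact mul_mem (IntermediateField.natCast_mem _ m)
      (IntermediateField.subset_adjoin ℚ _ ⟨χ, rfl⟩)
  -- the value
  set c := Nat.card (Subgroup.centralizer ({g} : Set G))
  have hval : Cfsg.indFun H θ g = ((Nat.card H : ℕ) : ℂ)⁻¹ * ((c : ℂ) * (ζ + ζ ^ k)) := by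
    rw [Char.indFun_def]
    congr 1
    have hterm : ∀ x : G, Cfsg.extendByZero H θ (x⁻¹ * g * x) =
        (if x⁻¹ * g * x = g then ζ else 0) + if x⁻¹ * g * x = g ^ k then ζ ^ k else 0 := by
      intro x
      by_cases hx : x⁻¹ * g * x ∈ H
      · rw [Char.extendByZero_of_mem _ hx]
        rcases hN x hx with h | h
        · rw [if_pos h, if_neg (fun h' => hk1 (h'.symm.trans h)), add_zero]
          show (lam ⟨_, hx⟩ : ℂ) = ζ
          rw [show (⟨_, hx⟩ : H) = ⟨g, Subgroup.mem_zpowers g⟩ from Subtype.ext h, hlam,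
            Units.val_mk0]
        · rw [if_pos h, if_neg (fun h' => hk1 (h.symm.trans h')), zero_add]
          show (lam ⟨_, hx⟩ : ℂ) = ζ ^ k
          rw [show (⟨_, hx⟩ : H) = ⟨g ^ k, Subgroup.pow_mem _ (Subgroup.mem_zpowers g) k⟩ from
            Subtype.ext h, hlamk, Units.val_pow_eq_pow_val, Units.val_mk0]
      · rw [Char.extendByZero_of_not_mem _ hx, if_neg (fun h => hx (by rw [h]; exact Subgroup.mem_zpowers g)),
          if_neg (fun h => hx (by rw [h]; exact Subgroup.pow_mem _ (Subgroup.mem_zpowers g) k)), add_zero]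
    have hc1 : (Finset.univ.filter fun x : G => x⁻¹ * g * x = g).card = c := by
      rw [← Nat.card_eq_finsetCard]
      refine Nat.card_congr (Equiv.subtypeEquivRight fun x => ?_)
      rw [Finset.mem_filter, Subgroup.mem_centralizer_singleton_iff, mul_assoc, inv_mul_eq_iff_eq_mul]
      simp [eq_comm]
    have hc2 : (Finset.univ.filter fun x : G => x⁻¹ * g * x = g ^ k).card = c := by
      rw [← hc1]
      refine Finset.card_equiv (Equiv.mulRight y) fun x => ?_
      simp only [Finset.mem_filter, Finset.mem_univ, true_and, Equiv.coe_mulRight]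
      rw [show (x * y)⁻¹ * g * (x * y) = y⁻¹ * (x⁻¹ * g * x) * y by group]
      constructor
      · intro h
        rw [h, ← hy]; group
      · intro h
        calc x⁻¹ * g * x = y * (y⁻¹ * (x⁻¹ * g * x) * y) * y⁻¹ := by group
          _ = g ^ k := by rw [h, hy]
    rw [Finset.sum_congr rfl fun x _ => hterm x, Finset.sum_add_distrib, ← Finset.sum_filter,
      ← Finset.sum_filter, Finset.sum_const, Finset.sum_const, hc1, hc2, nsmul_eq_mul, nsmul_eq_mul]
    ring
  have hH0 : ((Nat.card H : ℕ) : ℂ) ≠ 0 := by exact_mod_cast Nat.card_pos.ne'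
  have hc0 : (c : ℂ) ≠ 0 := by exact_mod_cast (Nat.card_pos (α := Subgroup.centralizer ({g} : Set G))).ne'
  have e : ζ + ζ ^ k = ((Nat.card H : ℕ) : ℂ) * (c : ℂ)⁻¹ * Cfsg.indFun H θ g := by
    rw [hval]; field_simp
  rw [e]
  exact mul_mem (mul_mem (IntermediateField.natCast_mem _ _)
    (inv_mem (IntermediateField.natCast_mem _ _))) hI

theorem coprime_of_modEq {a b n : ℕ} (h : a ≡ b [MOD n]) (hb : b.Coprime n) : a.Coprime n := by
  rw [Nat.coprime_iff_gcd_eq_one, h.gcd_eq]; exact hb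

theorem pow_half {ζ : ℂ} {r : ℕ} (hζ : IsPrimitiveRoot ζ (2 ^ (r + 1))) : ζ ^ 2 ^ r = -1 :=
  (hζ.pow (pow_pos Nat.two_pos _) (pow_succ 2 r)).eq_neg_one_of_two_right

theorem commutative_of_centralizer {S : Type u} [Group S] {a : S}
    (hidx : (Subgroup.zpowers a).index = 2) (hc : ∀ b : S, b * a = a * b) :
    ∀ x y : S, x * y = y * x := by
  have hA : Subgroup.zpowers a ≤ Subgroup.center S := Subgroup.zpowers_le.2
    (Subgroup.mem_center_iff.2 hc)
  intro x y
  by_cases hy : y ∈ Subgroup.zpowers a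
  · exact Subgroup.mem_center_iff.1 (hA hy) x
  by_cases hx : x ∈ Subgroup.zpowers a
  · exact (Subgroup.mem_center_iff.1 (hA hx) y).symm
  have hxy : x⁻¹ * y ∈ Subgroup.zpowers a :=
    (Subgroup.mul_mem_iff_of_index_two hidx).2 (by rw [inv_mem_iff]; exact iff_of_false hx hy)
  calc x * y = x * (x * (x⁻¹ * y)) := by group
    _ = x * ((x⁻¹ * y) * x) := by rw [Subgroup.mem_center_iff.1 (hA hxy) x]
    _ = y * x := by group

/-- An element of even class size: a Sylow subgroup of its centralizer is not one of the group. -/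
theorem card_lt_of_two_dvd_index (P : Sylow 2 G) {g : G}
    (hodd : 2 ∣ (Subgroup.centralizer ({g} : Set G)).index) {Q : Subgroup G} (hQ : IsPGroup 2 Q)
    (hQC : Q ≤ Subgroup.centralizer ({g} : Set G)) : Nat.card Q < Nat.card (P : Subgroup G) := by
  obtain ⟨S, hS⟩ := hQ.exists_le_sylow
  have hSP : Nat.card (S : Subgroup G) = Nat.card (P : Subgroup G) := by
    rw [S.card_eq_multiplicity, P.card_eq_multiplicity]
  rcases lt_or_ge (Nat.card Q) (Nat.card (P : Subgroup G)) with h | h
  · exact h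
  · exfalso
    have e : Q = (S : Subgroup G) := Subgroup.eq_of_le_of_card_ge hS (hSP ▸ h)
    rw [e] at hQC
    exact S.not_dvd_index (hodd.trans (Subgroup.index_dvd_of_le hQC))

theorem commutator_index_congr {A B : Type u} [Group A] [Group B] (e : A ≃* B) :
    (commutator A).index = (commutator B).index := by
  have h : (commutator A).map e.toMonoidHom = commutator B := by
    rw [commutator_def, Subgroup.map_commutator, Subgroup.map_top_of_surjective _ e.surjective,
      ← commutator_def]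
  rw [← h]
  exact (Subgroup.index_map_equiv _ e).symm

theorem pow_mod_eq_self_mod_of_primitive {ζ : ℂ} {n : ℕ} (hζ : IsPrimitiveRoot ζ n) {i : ℕ} :
    ζ ^ (i % n) = ζ ^ i := (pow_eq_pow_mod i hζ.pow_eq_one).symm

theorem zpowers_eq_of_coprime {A : Type u} [Group A] [Finite A] (a : A) {i : ℕ}
    (h : i.Coprime (orderOf a)) : Subgroup.zpowers (a ^ i) = Subgroup.zpowers a := by
  refine le_antisymm (Subgroup.zpowers_le.2 (Subgroup.pow_mem _ (Subgroup.mem_zpowers a) i))
    (Subgroup.zpowers_le.2 ?_)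
  obtain ⟨j, hj⟩ := exists_pow_eq_self_of_coprime h
  exact Subgroup.mem_zpowers_iff.2 ⟨j, by rw [zpow_natCast, hj]⟩

/-- The exponents of the dihedral, semidihedral and quaternion actions. -/
theorem exponent_cases {r k : ℕ} (hr : 1 ≤ r) (hkodd : k % 4 = 3) (hk : 2 ^ (r + 1) ∣ k * k - 1) :
    2 ^ r ∣ k + 1 := by
  obtain ⟨u, hu⟩ : ∃ u, k = 2 * u + 1 := ⟨k / 2, by omega⟩
  have hk' : k * k - 1 = (k - 1) * (k + 1) := by
    rw [hu, Nat.add_sub_cancel]
    have : (2 * u + 1) * (2 * u + 1) = 2 * u * (2 * u + 1 + 1) + 1 := by ring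
    rw [this, Nat.add_sub_cancel]
  have hodd : Nat.Coprime (2 ^ r) u := Nat.Coprime.pow_left r (Nat.coprime_two_left.2 (by
    rw [Nat.odd_iff]; omega))
  rw [hk', show k - 1 = 2 * u by omega, pow_succ', mul_assoc] at hk
  exact hodd.dvd_of_dvd_mul_left (Nat.dvd_of_mul_dvd_mul_left Nat.two_pos hk)

/-- The forward direction. -/
theorem exists_class (P : Sylow 2 G) {r : ℕ} (hP : Nat.card P = 2 ^ (r + 2)) (hr : 1 ≤ r) {ζ : ℂ}
    (hζ : IsPrimitiveRoot ζ (2 ^ (r + 1))) (hidx : (commutator P).index = 4) :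
    ∃ g : G, g ∈ (P : Subgroup G) ∧ 2 ∣ (Subgroup.centralizer ({g} : Set G)).index ∧
      (IntermediateField.adjoin ℚ {z : ℂ | ∃ χ : Cfsg.IrrCharacter G, (χ : G → ℂ) g = z} =
          IntermediateField.adjoin ℚ ({ζ + ζ⁻¹} : Set ℂ) ∨
        IntermediateField.adjoin ℚ {z : ℂ | ∃ χ : Cfsg.IrrCharacter G, (χ : G → ℂ) g = z} =
          IntermediateField.adjoin ℚ ({ζ - ζ⁻¹} : Set ℂ)) := by
  classical
  have := Fintype.ofFinite G
  have : Fact (Nat.Prime 2) := ⟨Nat.prime_two⟩
  set m := 2 ^ (r + 1) with hm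
  have hm0 : 0 < m := pow_pos Nat.two_pos _
  have hPp : IsPGroup 2 P := IsPGroup.of_card hP
  have hnc : ¬ ∀ a b : (P : Subgroup G), a * b = b * a := by
    intro hab
    have hbot : commutator (P : Subgroup G) = ⊥ := by
      rw [commutator_def, Subgroup.commutator_eq_bot_iff_le_centralizer]
      exact fun x _ => Subgroup.mem_centralizer_iff.2 fun z _ => hab z x
    rw [hbot, Subgroup.index_bot, hP] at hidx
    have h8 : 2 ^ 3 ≤ 2 ^ (r + 2) := Nat.pow_le_pow_right Nat.two_pos (by omega)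
    omega
  have hsq : ∀ x : (P : Subgroup G), x * x ∈ commutator (P : Subgroup G) := by
    intro x
    by_contra hx
    set q : (P : Subgroup G) ⧸ commutator (P : Subgroup G) := QuotientGroup.mk x with hq
    have h4 : orderOf q = 2 ^ 2 := by
      refine orderOf_eq_prime_pow ?_ ?_
      · rw [pow_one, pow_two]
        exact fun e => hx ((QuotientGroup.eq_one_iff _).1 e)
      · rw [show 2 ^ (1 + 1) = Nat.card ((P : Subgroup G) ⧸ commutator (P : Subgroup G)) by
          rw [← Subgroup.index_eq_card, hidx]; norm_num]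
        exact pow_card_eq_one'
    refine hnc (InvChar.commutative_of_sup_commutator hPp x ?_)
    rw [eq_top_iff]
    intro a _
    have h5 : (a : (P : Subgroup G) ⧸ commutator (P : Subgroup G)) ∈ Subgroup.zpowers q := by
      rw [show Subgroup.zpowers q = ⊤ from Subgroup.eq_top_of_card_eq _ (by
        rw [Nat.card_zpowers, h4, ← Subgroup.index_eq_card, hidx]; norm_num)]
      trivial
    obtain ⟨i, hi⟩ := Subgroup.mem_zpowers_iff.1 h5
    rw [hq, ← QuotientGroup.mk_zpow] at hi
    rw [show a = x ^ i * ((x ^ i)⁻¹ * a) by group]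
    exact mul_mem (Subgroup.mem_sup_left (Subgroup.zpow_mem _ (Subgroup.mem_zpowers x) i))
      (Subgroup.mem_sup_right (QuotientGroup.eq.1 hi))
  have hc := Transfer.maxClass_of_commutator (by omega) hP hidx hsq
  obtain ⟨A, hA, hAi⟩ := Transfer.exists_cyclic_index_two (by omega) hP hc
  obtain ⟨a, rfl⟩ := A.isCyclic_iff_exists_zpowers_eq_top.1 hA
  have hcA : orderOf a = m := by
    have h := (Subgroup.zpowers a).card_mul_index
    rw [hAi, Nat.card_zpowers, hP, pow_succ 2 (r + 1)] at h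
    exact Nat.eq_of_mul_eq_mul_right Nat.two_pos h
  have hne : Subgroup.zpowers a ≠ ⊤ := fun e => by
    rw [e, Subgroup.index_top] at hAi; omega
  obtain ⟨b, -, hb⟩ := SetLike.exists_of_lt (lt_top_iff_ne_top.2 hne)
  have hAn : (Subgroup.zpowers a).Normal := Subgroup.normal_of_index_eq_two hAi
  obtain ⟨k, hk⟩ : ∃ k : ℕ, b * a * b⁻¹ = a ^ k := by
    obtain ⟨i, hi⟩ := Subgroup.mem_zpowers_iff.1 (hAn.conj_mem a (Subgroup.mem_zpowers a) b)
    refine ⟨(i % (orderOf a : ℤ)).toNat, ?_⟩
    rw [← zpow_natCast, Int.toNat_of_nonneg (Int.emod_nonneg _ (by exact_mod_cast (orderOf_pos a).ne')),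
      zpow_mod_orderOf, hi]
  have hkk : a ^ (k * k) = a := by
    have hb2 : b * b ∈ Subgroup.zpowers a := Subgroup.mul_self_mem_of_index_two hAi b
    obtain ⟨j, hj⟩ := Subgroup.mem_zpowers_iff.1 hb2
    calc a ^ (k * k) = (b * a * b⁻¹) ^ k := by rw [hk, ← pow_mul]
      _ = b * a ^ k * b⁻¹ := conj_pow
      _ = (b * b) * a * (b * b)⁻¹ := by rw [← hk]; group
      _ = a := by rw [← hj]; group
  have hkm : k * k ≡ 1 [MOD m] := hcA ▸ pow_eq_pow_iff_modEq.1 (hkk.trans (pow_one a).symm)
  have hkpar : k % 2 = 1 := by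
    have h := hkm.of_dvd (dvd_pow_self 2 (by omega) : 2 ∣ m)
    have h2 : (k * k) % 2 = 1 := h
    rw [Nat.mul_mod] at h2
    rcases Nat.mod_two_eq_zero_or_one k with e | e
    · rw [e] at h2; simp at h2
    · exact e
  -- the commutator subgroup is as large as possible
  have hk4 : k % 4 = 3 := by
    rcases (show k % 4 = 1 ∨ k % 4 = 3 by omega) with h1 | h1
    · exfalso
      let D : Subgroup (P : Subgroup G) := Subgroup.zpowers (a ^ 4)
      have hDn : D.Normal := by
        refine ⟨fun z hz w => ?_⟩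
        obtain ⟨i, rfl⟩ := Subgroup.mem_zpowers_iff.1 hz
        obtain ⟨j, hj⟩ := Subgroup.mem_zpowers_iff.1 (hAn.conj_mem a (Subgroup.mem_zpowers a) w)
        rw [← conj_zpow, ← conj_pow, ← hj]
        refine Subgroup.mem_zpowers_iff.2 ⟨j * i, ?_⟩
        rw [← zpow_natCast (a ^ j), ← zpow_natCast a, ← zpow_mul, ← zpow_mul, ← zpow_mul]
        congr 1; push_cast; ring
      have hcomm : commutator (P : Subgroup G) ≤ D := by
        refine (Subgroup.Normal.quotient_commutative_iff_commutator_le (N := D)).1 ?_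
        have hab : Commute (a : (P : Subgroup G) ⧸ D) (b : (P : Subgroup G) ⧸ D) := by
          have e : (b : (P : Subgroup G) ⧸ D) * a * (b : (P : Subgroup G) ⧸ D)⁻¹ = a := by
            rw [← QuotientGroup.mk_inv, ← QuotientGroup.mk_mul, ← QuotientGroup.mk_mul, hk,
              QuotientGroup.eq]
            obtain ⟨c, hc4⟩ : ∃ c, k = 4 * c + 1 := ⟨k / 4, by omega⟩
            refine Subgroup.mem_zpowers_iff.2 ⟨-(c : ℤ), ?_⟩
            rw [hc4, zpow_neg, zpow_natCast, ← pow_mul, pow_succ, mul_inv_rev]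
            group
          exact (mul_inv_eq_iff_eq_mul.1 e).symm
        have htop : Subgroup.closure ({a, b} : Set (P : Subgroup G)) = ⊤ := by
          rw [eq_top_iff]
          intro w _
          have haC : Subgroup.zpowers a ≤ Subgroup.closure ({a, b} : Set (P : Subgroup G)) :=
            Subgroup.zpowers_le.2 (Subgroup.subset_closure (by simp))
          by_cases hw : w ∈ Subgroup.zpowers a
          · exact haC hw
          · have h := (Subgroup.mul_mem_iff_of_index_two hAi (a := b⁻¹) (b := w)).2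
              (by rw [inv_mem_iff]; exact iff_of_false hb hw)
            rw [show w = b * (b⁻¹ * w) by group]
            exact mul_mem (Subgroup.subset_closure (by simp)) (haC h)
        have hcl : ∀ w : (P : Subgroup G),
            (w : (P : Subgroup G) ⧸ D) ∈ Subgroup.closure
              ({(a : (P : Subgroup G) ⧸ D), (b : (P : Subgroup G) ⧸ D)} : Set _) := by
          intro w
          have : w ∈ Subgroup.closure ({a, b} : Set (P : Subgroup G)) := htop ▸ Subgroup.mem_top w
          have h := Subgroup.mem_map_of_mem (QuotientGroup.mk' D) this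
          rw [MonoidHom.map_closure, Set.image_pair] at h
          exact h
        have := Subgroup.isMulCommutative_closure (k := ({(a : (P : Subgroup G) ⧸ D),
            (b : (P : Subgroup G) ⧸ D)} : Set _)) (by
          rintro x (rfl | rfl) y (rfl | rfl) <;> first | rfl | exact hab | exact hab.symm)
        refine ⟨⟨fun x y => ?_⟩⟩
        obtain ⟨x, rfl⟩ := QuotientGroup.mk_surjective x
        obtain ⟨y, rfl⟩ := QuotientGroup.mk_surjective y
        exact congrArg Subtype.val (this.is_comm.comm ⟨_, hcl x⟩ ⟨_, hcl y⟩)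
      have h4m : 4 ∣ m := by
        rw [hm, show r + 1 = 2 + (r - 1) by omega, pow_add]; exact dvd_mul_right _ _
      have hcardD : Nat.card D * 4 = m := by
        rw [Nat.card_zpowers, orderOf_pow' _ (by norm_num), hcA, Nat.gcd_eq_right h4m,
          Nat.div_mul_cancel h4m]
      have h2 := Subgroup.card_le_of_le hcomm
      have h3 := (commutator (P : Subgroup G)).card_mul_index
      rw [hidx, hP, pow_succ 2 (r + 1), ← hm] at h3
      omega
    · exact h1
  have hdvd : 2 ^ r ∣ k + 1 := by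
    refine exponent_cases hr hk4 ?_
    exact (Nat.modEq_iff_dvd' (Nat.one_le_iff_ne_zero.2 (Nat.mul_ne_zero (by omega) (by omega)))).1 hkm.symm
  -- the element and its properties in the whole group
  set g : G := (a : G) with hg
  have hog : orderOf g = m := by rw [hg, Subgroup.orderOf_coe, hcA]
  have hgb : (b : G) * g * (b : G)⁻¹ = g ^ k := by
    have h := congrArg (fun x : (P : Subgroup G) => (x : G)) hk
    simpa using h
  have hgk : g ^ k ≠ g := by
    intro e
    refine hnc (commutative_of_centralizer hAi fun w => ?_)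
    have hba : b * a = a * b := by
      refine mul_inv_eq_iff_eq_mul.1 (hk.trans ?_)
      exact Subtype.ext (by rw [SubmonoidClass.coe_pow]; exact e)
    by_cases hw : w ∈ Subgroup.zpowers a
    · obtain ⟨i, rfl⟩ := Subgroup.mem_zpowers_iff.1 hw
      exact ((Commute.refl a).zpow_left i).eq
    · have h := (Subgroup.mul_mem_iff_of_index_two hAi (a := b⁻¹) (b := w)).2
        (by rw [inv_mem_iff]; exact iff_of_false hb hw)
      obtain ⟨i, hi⟩ := Subgroup.mem_zpowers_iff.1 h
      rw [show w = b * (b⁻¹ * w) by group, ← hi, mul_assoc, ((Commute.refl a).zpow_left i).eq,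
        ← mul_assoc, hba, mul_assoc]
  have heven : 2 ∣ (Subgroup.centralizer ({g} : Set G)).index := by
    by_contra hodd
    obtain ⟨S, hS⟩ := ((IsPGroup.of_card (n := r + 1) (by rw [Nat.card_zpowers, hcA])) :
      IsPGroup 2 (Subgroup.zpowers a)).exists_le_sylow
    let T : Sylow 2 (Subgroup.centralizer ({g} : Set G)) := default
    set T' := (T : Subgroup (Subgroup.centralizer ({g} : Set G))).map (Subgroup.subtype _) with hT'
    have hT1 : IsPGroup 2 T' := T.2.map _
    have hT2 : ¬ 2 ∣ T'.index := by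
      rw [hT', Subgroup.index_map_subtype]
      exact Nat.prime_two.not_dvd_mul T.not_dvd_index hodd
    obtain ⟨x, hx⟩ := MulAction.exists_smul_eq G (hT1.toSylow hT2) P
    -- the Sylow subgroup is centralized by a conjugate of `g`
    have hTC : ∀ w : (P : Subgroup G), Commute (w : G) (x * g * x⁻¹) := by
      intro w
      have hw : (w : G) ∈ ((x • hT1.toSylow hT2 : Sylow 2 G) : Subgroup G) := hx.symm ▸ w.2
      rw [Sylow.coe_subgroup_smul] at hw
      obtain ⟨t, ht, he⟩ := hw
      have htc : t * g = g * t :=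
        Subgroup.mem_centralizer_singleton_iff.1 (Subgroup.map_subtype_le _ ht)
      rw [← he]
      exact (show Commute t g from htc).map (MulAut.conj x).toMonoidHom
    set h := x * g * x⁻¹ with hh
    have hhP : h ∈ (P : Subgroup G) := by
      have hgT : g ∈ ((hT1.toSylow hT2 : Sylow 2 G) : Subgroup G) := by
        show g ∈ T'
        have hgC : g ∈ Subgroup.centralizer ({g} : Set G) :=
          Subgroup.mem_centralizer_singleton_iff.2 rfl
        have hgp : IsPGroup 2 (Subgroup.zpowers (⟨g, hgC⟩ : Subgroup.centralizer ({g} : Set G))) :=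
          IsPGroup.of_card (n := r + 1) (by rw [Nat.card_zpowers, Subgroup.orderOf_mk, hog])
        have : (Subgroup.zpowers (⟨g, hgC⟩ : Subgroup.centralizer ({g} : Set G))).Normal := by
          refine ⟨fun z hz w => ?_⟩
          obtain ⟨i, rfl⟩ := Subgroup.mem_zpowers_iff.1 hz
          rw [← conj_zpow, show w * ⟨g, hgC⟩ * w⁻¹ = (⟨g, hgC⟩ : Subgroup.centralizer ({g} : Set G)) from
            Subtype.ext (by
              simp only [Subgroup.coe_mul, InvMemClass.coe_inv]
              rw [Subgroup.mem_centralizer_singleton_iff.1 w.2, mul_inv_cancel_right])]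
          exact Subgroup.zpow_mem _ (Subgroup.mem_zpowers _) _
        exact ⟨⟨g, hgC⟩, IsPGroup.le_sylow_of_normal hgp T (Subgroup.mem_zpowers _), rfl⟩
      rw [← hx, Sylow.coe_subgroup_smul]
      exact ⟨g, hgT, by simp [MulAut.smul_def, hh]⟩
    have hoh : orderOf (⟨h, hhP⟩ : (P : Subgroup G)) = m := by
      rw [Subgroup.orderOf_mk, hh, show x * g * x⁻¹ = MulAut.conj x g by simp,
        MulEquiv.orderOf_eq, hog]
    refine hnc (commutative_of_centralizer (a := ⟨h, hhP⟩) ?_ fun w => Subtype.ext (hTC w).eq)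
    have h1 := (Subgroup.zpowers (⟨h, hhP⟩ : (P : Subgroup G))).card_mul_index
    rw [Nat.card_zpowers, hoh, hP, pow_succ 2 (r + 1)] at h1
    exact Nat.eq_of_mul_eq_mul_left hm0 h1
  -- conjugates of `g` in the cyclic subgroup
  have hconj : ∀ x : G, x⁻¹ * g * x ∈ Subgroup.zpowers g →
      x⁻¹ * g * x = g ∨ x⁻¹ * g * x = g ^ k := by
    set C := Subgroup.zpowers g with hC
    set N := Subgroup.normalizer (C : Set G)
    have hCg : Nat.card C = m := by rw [Nat.card_zpowers, hog]
    let φ : N →* MulAut C := C.normalizerMonoidHom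
    have haut : Nat.card (MulAut C) = 2 ^ r := by
      rw [IsCyclic.card_mulAut C, hCg, hm, Nat.totient_prime_pow Nat.prime_two (by omega)]
      simp
    have hker : ∀ w : N, w ∈ φ.ker → (w : G) * g * (w : G)⁻¹ = g := fun w hw => by
      have h := congrArg (fun e : MulAut C => ((e ⟨g, Subgroup.mem_zpowers g⟩ : C) : G))
        (MonoidHom.mem_ker.1 hw)
      exact h
    have hbN : (b : G) ∈ N := by
      refine Subgroup.mem_normalizer_fintype fun z hz => ?_
      obtain ⟨i, rfl⟩ := Subgroup.mem_zpowers_iff.1 hz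
      rw [← conj_zpow, hgb]
      exact Subgroup.zpow_mem _ (Subgroup.pow_mem _ (Subgroup.mem_zpowers g) k) i
    -- the image has order two
    have himg : Nat.card φ.range = 2 := by
      obtain ⟨j, hj2, hj⟩ := (Nat.dvd_prime_pow Nat.prime_two).1
        (haut ▸ φ.range.card_subgroup_dvd_card)
      rcases Nat.lt_or_ge j 2 with hlt | hge
      · rcases (show j = 0 ∨ j = 1 by omega) with h0 | h0
        · exfalso
          rw [h0, pow_zero, Subgroup.card_eq_one, MonoidHom.range_eq_bot_iff] at hj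
          exact hgk (hgb.symm.trans (hker ⟨b, hbN⟩ (by rw [hj]; simp)))
        · rw [hj, h0, pow_one]
      · exfalso
        let T : Sylow 2 N := default
        have hCN : C.subgroupOf N ≤ (T : Subgroup N) := by
          have : (C.subgroupOf N).Normal := Subgroup.normal_subgroupOf_of_le_normalizer le_rfl
          exact IsPGroup.le_sylow_of_normal ((IsPGroup.of_card (p := 2) (n := r + 1) (by
            rw [hCg]) : IsPGroup 2 C).of_equiv
              (Subgroup.subgroupOfEquivOfLe Subgroup.le_normalizer).symm) T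
        have hle : 2 ^ j ∣ (T : Subgroup N).index * (Nat.card (T : Subgroup N) / m) := by
          have hkC : C.subgroupOf N ≤ φ.ker := fun w hw => MonoidHom.mem_ker.2 (by
            refine MulEquiv.ext fun z => Subtype.ext ?_
            obtain ⟨i, hi⟩ := Subgroup.mem_zpowers_iff.1 z.2
            obtain ⟨i', hi'⟩ := Subgroup.mem_zpowers_iff.1 (Subgroup.mem_subgroupOf.1 hw)
            show (w : G) * (z : G) * (w : G)⁻¹ = z
            rw [← hi, ← hi']
            group)
          have h1 : (C.subgroupOf N).index = (T : Subgroup N).index * (Nat.card (T : Subgroup N) / m) := by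
            have h2 := (C.subgroupOf N).card_mul_index
            rw [Nat.card_congr (Subgroup.subgroupOfEquivOfLe Subgroup.le_normalizer).toEquiv, hCg,
              ← (T : Subgroup N).card_mul_index] at h2
            have h3 : m ∣ Nat.card (T : Subgroup N) := by
              have := Subgroup.card_dvd_of_le hCN
              rwa [Nat.card_congr (Subgroup.subgroupOfEquivOfLe Subgroup.le_normalizer).toEquiv, hCg]
                at this
            refine Nat.eq_of_mul_eq_mul_left hm0 (h2.trans ?_)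
            rw [mul_comm (T : Subgroup N).index, ← mul_assoc, Nat.mul_div_cancel' h3]
          rw [← h1, ← hj, ← Subgroup.index_ker]
          exact Subgroup.index_dvd_of_le hkC
        have hT : Nat.card (T : Subgroup N) ∣ 2 ^ (r + 2) := by
          obtain ⟨S, hS⟩ := (T.2.map N.subtype).exists_le_sylow
          have h1 := Subgroup.card_dvd_of_le hS
          rwa [Subgroup.card_map_of_injective N.subtype_injective, S.card_eq_multiplicity,
            ← P.card_eq_multiplicity, hP] at h1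
        have hcop : Nat.Coprime (2 ^ j) (T : Subgroup N).index := Nat.Coprime.pow_left j
          ((Nat.prime_two.coprime_iff_not_dvd).2 T.not_dvd_index)
        have h4 : Nat.card (T : Subgroup N) / m ∣ 2 := by
          have h3 : m ∣ Nat.card (T : Subgroup N) := by
            have := Subgroup.card_dvd_of_le hCN
            rwa [Nat.card_congr (Subgroup.subgroupOfEquivOfLe Subgroup.le_normalizer).toEquiv, hCg]
              at this
          rw [Nat.div_dvd_iff_dvd_mul h3 hm0, hm, ← pow_succ]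
          exact hT
        have h5 := Nat.le_of_dvd Nat.two_pos ((hcop.dvd_of_dvd_mul_left hle).trans h4)
        have : 2 ^ 2 ≤ 2 ^ j := Nat.pow_le_pow_right Nat.two_pos hge
        omega
    intro x hx
    have hxN : x⁻¹ ∈ N := by
      refine Subgroup.mem_normalizer_fintype fun z hz => ?_
      obtain ⟨i, rfl⟩ := Subgroup.mem_zpowers_iff.1 hz
      rw [← conj_zpow, inv_inv]
      exact Subgroup.zpow_mem _ hx i
    have : Fintype φ.range := Fintype.ofFinite _
    have h2 : ∀ e : φ.range, e = 1 ∨ e = φ.rangeRestrict ⟨b, hbN⟩ := by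
      intro e
      by_contra he
      push Not at he
      have hb1 : φ.rangeRestrict ⟨b, hbN⟩ ≠ 1 := fun e' =>
        hgk (hgb.symm.trans (hker ⟨b, hbN⟩ (MonoidHom.mem_ker.2 (congrArg Subtype.val e'))))
      have h3 : 3 ≤ Fintype.card φ.range := by
        have : ({1, φ.rangeRestrict ⟨b, hbN⟩, e} : Finset φ.range).card = 3 := by
          rw [Finset.card_insert_of_notMem (by simp [Ne.symm hb1, Ne.symm he.1]),
            Finset.card_insert_of_notMem (by simp [Ne.symm he.2]), Finset.card_singleton]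
        exact this ▸ Finset.card_le_univ _
      rw [← Nat.card_eq_fintype_card, himg] at h3
      omega
    rcases h2 (φ.rangeRestrict ⟨x⁻¹, hxN⟩) with h | h
    · left
      have := hker ⟨x⁻¹, hxN⟩ (MonoidHom.mem_ker.2 (congrArg Subtype.val h))
      simpa using this
    · right
      have h' := congrArg (fun e : φ.range => (((e : MulAut C) ⟨g, Subgroup.mem_zpowers g⟩ : C) : G)) h
      rw [← hgb]
      have e1 : ∀ n : N, ((((φ.rangeRestrict n : φ.range) : MulAut C) ⟨g, Subgroup.mem_zpowers g⟩ : C) : G) = (n : G) * g * (n : G)⁻¹ := fun n => rfl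
      simp only [e1, inv_inv] at h'
      exact h'
  have hζg : IsPrimitiveRoot ζ (orderOf g) := hog.symm ▸ hζ
  have hζm : ζ ^ m = 1 := hζ.pow_eq_one
  have hchar : ∀ χ : Cfsg.IrrCharacter G, (χ : G → ℂ) (g ^ k) = (χ : G → ℂ) g := fun χ => by
    rw [← hgb]
    exact (Char.isClassFunction_isConj (Char.irr_isClassFunction χ.2)
      (isConj_iff.2 ⟨b, rfl⟩)).symm
  have hsum := sum_mem_adjoin hζg hgk hgb hconj
  refine ⟨g, a.2, heven, ?_⟩
  have hζ0 : ζ ≠ 0 := hζ.ne_zero hm0.ne'
  obtain ⟨j, hj⟩ := hdvd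
  have hzk : ζ ^ k * ζ = (-1) ^ j := by rw [← pow_succ, hj, pow_mul, pow_half hζ]
  have hfield : IntermediateField.adjoin ℚ {z : ℂ | ∃ χ : Cfsg.IrrCharacter G, (χ : G → ℂ) g = z} =
      IntermediateField.adjoin ℚ ({ζ + ζ ^ k} : Set ℂ) := by
    refine le_antisymm (IntermediateField.adjoin_le_iff.2 ?_) (IntermediateField.adjoin_le_iff.2 ?_)
    · rintro _ ⟨χ, rfl⟩
      refine char_mem_adjoin (Char.irr_isCharacter χ.2) hζg (hchar χ) rfl (ε := (-1) ^ j) ?_
      rw [mul_comm, hzk]; push_cast; rfl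
    · intro z hz
      rw [Set.mem_singleton_iff] at hz
      rw [hz]; exact hsum
  rcases Nat.even_or_odd j with he | ho
  · left
    rw [hfield, show ζ ^ k = ζ⁻¹ from eq_inv_of_mul_eq_one_left (hzk.trans he.neg_one_pow)]
  · right
    have e : ζ ^ k = -ζ⁻¹ := by
      have h := hzk.trans ho.neg_one_pow
      field_simp
      linear_combination h
    rw [hfield, e, sub_eq_add_neg]

/-- The converse direction. -/
theorem index_four (P : Sylow 2 G) {r : ℕ} (hP : Nat.card P = 2 ^ (r + 2)) (hr : 1 ≤ r) {ζ : ℂ}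
    (hζ : IsPrimitiveRoot ζ (2 ^ (r + 1))) {g : G} (hgP : g ∈ (P : Subgroup G))
    (heven : 2 ∣ (Subgroup.centralizer ({g} : Set G)).index) {η : ℂ}
    (hη : η = ζ + ζ⁻¹ ∨ η = ζ - ζ⁻¹)
    (hF : IntermediateField.adjoin ℚ {z : ℂ | ∃ χ : Cfsg.IrrCharacter G, (χ : G → ℂ) g = z} =
      IntermediateField.adjoin ℚ ({η} : Set ℂ)) :
    (commutator P).index = 4 := by
  classical
  have := Fintype.ofFinite G
  have : Fact (Nat.Prime 2) := ⟨Nat.prime_two⟩
  have hPp : IsPGroup 2 P := IsPGroup.of_card hP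
  rcases Nat.eq_or_lt_of_le hr with hr1 | hr2
  · -- order eight
    subst hr1
    have hnc : ¬ ∀ a b : (P : Subgroup G), a * b = b * a := by
      intro hab
      refine P.not_dvd_index (heven.trans (Subgroup.index_dvd_of_le fun w hw => ?_))
      exact Subgroup.mem_centralizer_singleton_iff.2
        (congrArg Subtype.val (hab ⟨w, hw⟩ ⟨g, hgP⟩))
    have : Nontrivial (P : Subgroup G) := Finite.one_lt_card_iff_nontrivial.1 (by rw [hP]; norm_num)
    have hZ : Nontrivial (Subgroup.center (P : Subgroup G)) := hPp.center_nontrivial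
    obtain ⟨j, hj⟩ := IsPGroup.iff_card.1 (hPp.to_subgroup (Subgroup.center (P : Subgroup G)))
    have hZc : Nat.card (Subgroup.center (P : Subgroup G)) = 2 := by
      have h1 := (Subgroup.center (P : Subgroup G)).card_mul_index
      rw [hj, hP] at h1
      rcases Nat.lt_or_ge j 2 with h | h
      · have : 1 < 2 ^ j := hj ▸ Finite.one_lt_card_iff_nontrivial.2 hZ
        rw [hj]
        rcases (show j = 0 ∨ j = 1 by omega) with rfl | rfl <;> simp at this ⊢
      · exfalso
        refine hnc ?_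
        have hidx : (Subgroup.center (P : Subgroup G)).index ∣ 2 := by
          refine ⟨2 ^ (j - 2), Nat.eq_of_mul_eq_mul_left (show 0 < 4 by norm_num) ?_⟩
          have e : 2 ^ j = 4 * 2 ^ (j - 2) := by
            rw [show (4 : ℕ) = 2 ^ 2 from rfl, ← pow_add]; congr 1; omega
          rw [e] at h1
          norm_num at h1 ⊢
          linarith
        rcases (Nat.dvd_prime Nat.prime_two).1 hidx with h2 | h2
        · rw [Subgroup.index_eq_one] at h2
          exact fun a b => Subgroup.mem_center_iff.1 (h2 ▸ Subgroup.mem_top b) a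
        · rw [Subgroup.index_eq_card] at h2
          have : IsCyclic ((P : Subgroup G) ⧸ Subgroup.center (P : Subgroup G)) :=
            isCyclic_of_prime_card h2
          exact fun a b => commutative_of_cyclic_center_quotient
            (QuotientGroup.mk' (Subgroup.center (P : Subgroup G))) (by rw [QuotientGroup.ker_mk']) a b
    have hidx4 : (Subgroup.center (P : Subgroup G)).index = 4 := by
      have h1 := (Subgroup.center (P : Subgroup G)).card_mul_index
      rw [hZc, hP] at h1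
      norm_num at h1
      omega
    have hle : commutator (P : Subgroup G) ≤ Subgroup.center (P : Subgroup G) :=
      (Subgroup.Normal.quotient_commutative_iff_commutator_le
        (N := Subgroup.center (P : Subgroup G))).1
        (IsPGroup.isMulCommutative_of_card_eq_prime_sq (p := 2)
          (by rw [← Subgroup.index_eq_card, hidx4]; norm_num))
    have hne : commutator (P : Subgroup G) ≠ ⊥ := fun e => hnc fun a b => by
      rw [commutator_def, Subgroup.commutator_eq_bot_iff_le_centralizer] at e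
      exact Subgroup.mem_centralizer_iff.1 (e (Subgroup.mem_top b)) a (Subgroup.mem_top a)
    rw [Subgroup.eq_of_le_of_card_ge hle (by
      rw [hZc]; exact (Subgroup.one_lt_card_iff_ne_bot _).2 hne), hidx4]
  set m := 2 ^ (r + 1) with hm
  set N := Nat.card G * m with hNdef
  have hN0 : 0 < N := Nat.mul_pos Nat.card_pos (pow_pos Nat.two_pos _)
  obtain ⟨A, q, hq, hNq⟩ := Nat.exists_eq_pow_mul_and_not_dvd hN0.ne' 2 (by norm_num)
  have hA : r + 1 ≤ A := by
    have h1 : 2 ^ (r + 1) ∣ 2 ^ A * q := hNq ▸ dvd_mul_left _ _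
    exact (Nat.pow_dvd_pow_iff_le_right (by norm_num)).1
      ((Nat.Coprime.pow_left _ (Nat.prime_two.coprime_iff_not_dvd.2 hq)).dvd_of_dvd_mul_right h1)
  have hmA : m ∣ 2 ^ A := pow_dvd_pow 2 hA
  have hζ0 : ζ ≠ 0 := hζ.ne_zero (pow_pos Nat.two_pos _).ne'
  have hζN : (⟨ζ, Char.mem_algNum_of_pow_eq_one hN0 (by
      rw [hNdef, pow_mul', hζ.pow_eq_one, one_pow])⟩ : Char.algNum) ^ N = 1 := Subtype.ext (by
    show ζ ^ N = 1
    rw [hNdef, pow_mul', hζ.pow_eq_one, one_pow])
  -- embeddings with a prescribed exponent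
  have hemb : ∀ e : ℕ, Odd e → ∃ (k : ℕ) (ψ : Char.algNum →ₐ[ℚ] ℂ), k ≡ e [MOD 2 ^ A] ∧
      ∀ μ : Char.algNum, μ ^ N = 1 → ψ μ = (μ : ℂ) ^ k := by
    intro e he
    obtain ⟨k, hk1, hk2⟩ := Nat.chineseRemainder
      (Nat.Coprime.pow_left A (Nat.prime_two.coprime_iff_not_dvd.2 hq)) e 1
    obtain ⟨ψ, hψ⟩ := Char.exists_emb_pow hN0 (m := k) (by
      rw [hNq]
      refine Nat.Coprime.mul_right (coprime_of_modEq hk1 ?_) (coprime_of_modEq hk2 (Nat.coprime_one_left q))
      exact Nat.Coprime.pow_right A (Nat.coprime_two_right.2 he))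
    exact ⟨k, ψ, hk1, hψ⟩
  have hvals : ∀ ψ : Char.algNum →ₐ[ℚ] ℂ, ∀ h : η ∈ Char.algNum, ψ ⟨η, h⟩ = η →
      ∀ χ : Cfsg.IrrCharacter G, ∀ h : (χ : G → ℂ) g ∈ Char.algNum,
        ψ ⟨(χ : G → ℂ) g, h⟩ = (χ : G → ℂ) g := by
    intro ψ hh he χ h
    obtain ⟨_, h2⟩ := fixed_of_adjoin ψ (S := {η}) (fun x hx => by
      rw [Set.mem_singleton_iff] at hx; subst hx; exact ⟨hh, he⟩) _
      (hF ▸ IntermediateField.subset_adjoin ℚ _ ⟨χ, rfl⟩ : (χ : G → ℂ) g ∈ _)
    exact h2
  have hηmem : η ∈ Char.algNum := by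
    have hζm : ζ ∈ Char.algNum := Char.mem_algNum_of_pow_eq_one (pow_pos Nat.two_pos _) hζ.pow_eq_one
    rcases hη with rfl | rfl
    · exact add_mem hζm (inv_mem hζm)
    · exact sub_mem hζm (inv_mem hζm)
  have hψη : ∀ (k : ℕ) (ψ : Char.algNum →ₐ[ℚ] ℂ),
      (∀ μ : Char.algNum, μ ^ N = 1 → ψ μ = (μ : ℂ) ^ k) →
      (η = ζ + ζ⁻¹ → ψ ⟨η, hηmem⟩ = ζ ^ k + (ζ ^ k)⁻¹) ∧
      (η = ζ - ζ⁻¹ → ψ ⟨η, hηmem⟩ = ζ ^ k - (ζ ^ k)⁻¹) := by
    intro k ψ hψ
    have h1 := hψ _ hζN
    have hζm' : ζ ∈ Char.algNum :=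
      Char.mem_algNum_of_pow_eq_one (pow_pos Nat.two_pos _) hζ.pow_eq_one
    have h1' : ψ ⟨ζ, hζm'⟩ = ζ ^ k := h1
    constructor <;> intro e <;> subst e
    · show ψ (⟨ζ, hζm'⟩ + ⟨ζ, hζm'⟩⁻¹) = _
      rw [map_add, map_inv₀, h1']
    · show ψ (⟨ζ, hζm'⟩ - ⟨ζ, hζm'⟩⁻¹) = _
      rw [map_sub, map_inv₀, h1']
  -- the order of `g`
  obtain ⟨e, he⟩ := IsPGroup.iff_orderOf.1 hPp ⟨g, hgP⟩
  rw [Subgroup.orderOf_mk] at he
  have hgC : Subgroup.zpowers g ≤ Subgroup.centralizer ({g} : Set G) := by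
    rw [Subgroup.zpowers_le]; exact Subgroup.mem_centralizer_singleton_iff.2 rfl
  have hle : e ≤ r + 1 := by
    have h1 := card_lt_of_two_dvd_index P heven
      (Q := Subgroup.zpowers g) (IsPGroup.of_card (n := e) (by rw [Nat.card_zpowers, he])) hgC
    rw [Nat.card_zpowers, he, hP] at h1
    have := (Nat.pow_lt_pow_iff_right (by norm_num : 1 < 2)).1 h1
    omega
  have heq : e = r + 1 := by
    by_contra hne
    have hge : e ≤ r := by omega
    obtain ⟨k, ψ, hk, hψ⟩ := hemb (2 ^ r + 1) ⟨2 ^ (r - 1), by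
      rw [← pow_succ']; congr 2; omega⟩
    have hzk : ζ ^ k = -ζ := by
      rw [← pow_mod_eq_self_mod_of_primitive hζ, show k % m = (2 ^ r + 1) % m from hk.of_dvd hmA,
        pow_mod_eq_self_mod_of_primitive hζ, pow_succ, pow_half hζ]
      ring
    have hfix : ∀ χ : Cfsg.IrrCharacter G, ∀ h : (χ : G → ℂ) g ∈ Char.algNum,
        ψ ⟨(χ : G → ℂ) g, h⟩ = (χ : G → ℂ) g := by
      intro χ h
      have h1 := Char.emb_charVal (Char.irr_isCharacter χ.2) ψ (m := k) (fun μ hμ => hψ μ (by
        rw [hNdef, pow_mul, hμ, one_pow])) g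
      have hgk : g ^ k = g := by
        refine (pow_eq_pow_iff_modEq.2 ?_).trans (pow_one g)
        rw [he]
        refine (hk.of_dvd (pow_dvd_pow 2 (by omega))).trans ?_
        exact ((Nat.modEq_zero_iff_dvd.2 (pow_dvd_pow 2 hge)).add_right 1)
      rw [hgk] at h1
      exact h1
    obtain ⟨_, h2⟩ := fixed_of_adjoin ψ (fun x hx => by
      obtain ⟨χ, rfl⟩ := hx
      exact ⟨(Char.charVal (Char.irr_isCharacter χ.2) g).2, hfix χ _⟩) η
      (hF.symm ▸ IntermediateField.mem_adjoin_simple_self ℚ η)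
    have hη0 : η ≠ 0 := by
      intro h0
      have h4 : ζ ^ 4 = 1 := by
        rcases hη with h | h <;> rw [h0] at h
        · have : ζ * ζ = -1 := by field_simp at h; linear_combination -h
          linear_combination (ζ * ζ - 1) * this
        · have : ζ * ζ = 1 := by field_simp at h; linear_combination -h
          linear_combination (ζ * ζ + 1) * this
      have := Nat.le_of_dvd (by norm_num) (hζ.dvd_of_pow_eq_one 4 h4)
      have : 2 ^ 3 ≤ 2 ^ (r + 1) := Nat.pow_le_pow_right Nat.two_pos (by omega)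
      omega
    rcases hη with h | h
    · have h3 := (hψη k ψ hψ).1 h
      rw [h2, hzk] at h3
      refine hη0 ?_
      rw [h, inv_neg] at h3
      rw [h]; linear_combination h3 / 2
    · have h3 := (hψη k ψ hψ).2 h
      rw [h2, hzk] at h3
      refine hη0 ?_
      rw [h, inv_neg] at h3
      rw [h]; linear_combination h3 / 2
  subst heq
  -- an exponent fixing `η`
  obtain ⟨k₀, hk₀odd, hk₀4, hk₀sq, hk₀η⟩ : ∃ k₀ : ℕ, Odd k₀ ∧ k₀ % 4 = 3 ∧ k₀ ^ 2 ≡ 1 [MOD m] ∧
      ∀ k, k ≡ k₀ [MOD m] → ∀ ψ : Char.algNum →ₐ[ℚ] ℂ,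
        (∀ μ : Char.algNum, μ ^ N = 1 → ψ μ = (μ : ℂ) ^ k) → ψ ⟨η, hηmem⟩ = η := by
    have h4 : ∀ i, 2 ≤ i → 4 ∣ 2 ^ i := fun i hi => by
      rw [show i = 2 + (i - 2) by omega, pow_add]; exact dvd_mul_right _ _
    rcases hη with h | h
    · refine ⟨2 ^ (r + 1) - 1, ?_, ?_, ?_, fun k hk ψ hψ => ?_⟩
      · have := h4 (r + 1) (by omega); have := pow_pos Nat.two_pos (r + 1)
        rw [Nat.odd_iff]; omega
      · have := h4 (r + 1) (by omega); have := pow_pos Nat.two_pos (r + 1)
        omega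
      · obtain ⟨c, hc⟩ : ∃ c, 2 ^ (r + 1) = c + 1 :=
          ⟨2 ^ (r + 1) - 1, by have := pow_pos Nat.two_pos (r + 1); omega⟩
        rw [hm, hc, Nat.add_sub_cancel]
        refine (Nat.modEq_iff_dvd).2 ⟨1 - (c : ℤ), ?_⟩
        push_cast; ring
      · rw [(hψη k ψ hψ).1 h, h, ← pow_mod_eq_self_mod_of_primitive hζ, show k % m = _ from hk,
          pow_mod_eq_self_mod_of_primitive hζ]
        have e : ζ ^ (2 ^ (r + 1) - 1) = ζ⁻¹ := eq_inv_of_mul_eq_one_left (by
          rw [← pow_succ, Nat.sub_add_cancel (Nat.one_le_iff_ne_zero.2 (by positivity)),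
            hζ.pow_eq_one])
        rw [e, inv_inv, add_comm]
    · refine ⟨2 ^ r - 1, ?_, ?_, ?_, fun k hk ψ hψ => ?_⟩
      · have := h4 r (by omega); have := pow_pos Nat.two_pos r
        rw [Nat.odd_iff]; omega
      · have := h4 r (by omega); have := pow_pos Nat.two_pos r
        omega
      · obtain ⟨c, hc⟩ : ∃ c, 2 ^ (r - 2) = c + 1 :=
          ⟨2 ^ (r - 2) - 1, by have := pow_pos Nat.two_pos (r - 2); omega⟩
        have e4 : 2 ^ r = 4 * (c + 1) := by
          rw [← hc, show r = 2 + (r - 2) by omega, pow_add]; simp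
        rw [hm, pow_succ, e4, show 4 * (c + 1) - 1 = 4 * c + 3 by omega]
        refine (Nat.modEq_iff_dvd).2 ⟨-(2 * (c : ℤ) + 1), ?_⟩
        push_cast; ring
      · rw [(hψη k ψ hψ).2 h, h, ← pow_mod_eq_self_mod_of_primitive hζ, show k % m = _ from hk,
          pow_mod_eq_self_mod_of_primitive hζ]
        have e : ζ ^ (2 ^ r - 1) = -ζ⁻¹ := by
          have h1 : ζ ^ (2 ^ r - 1) * ζ = -1 := by
            rw [← pow_succ, Nat.sub_add_cancel (Nat.one_le_iff_ne_zero.2 (by positivity)),
              pow_half hζ]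
          field_simp
          linear_combination h1
        rw [e, inv_neg, inv_inv]
        ring
  obtain ⟨k, ψ, hk, hψ⟩ := hemb k₀ hk₀odd
  have hkm : k ≡ k₀ [MOD m] := hk.of_dvd hmA
  obtain ⟨x, hx⟩ := isConj_iff.1 (isConj_pow_of_fixed (g := g) (k := k) (dvd_mul_right _ _) ψ hψ
    (hvals ψ hηmem (hk₀η k hkm ψ hψ)))
  have hk4 : k % 4 = 3 := by
    have : k % 4 = k₀ % 4 := hkm.of_dvd (by
      rw [hm, show r + 1 = 2 + (r - 1) by omega, pow_add]; exact dvd_mul_right _ _)
    omega
  have hgk : g ^ k ≠ g := fun h => by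
    have h1 : k % orderOf g = 1 % orderOf g := pow_eq_pow_iff_modEq.1 (h.trans (pow_one g).symm)
    have h2 : k % 4 = 1 % 4 := Nat.ModEq.of_dvd (by
      rw [he, show r + 1 = 2 + (r - 1) by omega, pow_add]; exact dvd_mul_right _ _) h1
    omega
  -- a `2`-element inverting or twisting `g`
  set C := Subgroup.zpowers g with hC
  have hxN : x ∈ Subgroup.normalizer (C : Set G) := Subgroup.mem_normalizer_fintype fun z hz => by
    obtain ⟨i, rfl⟩ := Subgroup.mem_zpowers_iff.1 hz
    rw [← conj_zpow, hx]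
    exact Subgroup.zpow_mem _ (Subgroup.pow_mem _ (Subgroup.mem_zpowers g) k) i
  obtain ⟨s, q', hq', hox⟩ := Nat.exists_eq_pow_mul_and_not_dvd (orderOf_pos x).ne' 2 (by norm_num)
  set y := x ^ q' with hy
  have hyp : IsPGroup 2 (Subgroup.zpowers y) := by
    obtain ⟨i, -, hi⟩ := (Nat.dvd_prime_pow Nat.prime_two).1
      (orderOf_dvd_of_pow_eq_one (x := y) (n := 2 ^ s) (by
        rw [hy, ← pow_mul, mul_comm, ← hox, pow_orderOf_eq_one]))
    exact IsPGroup.of_card (n := i) (by rw [Nat.card_zpowers, hi])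
  have hkk : g ^ (k ^ 2) = g := by
    refine (pow_eq_pow_iff_modEq.2 ?_).trans (pow_one g)
    rw [he]
    refine (hkm.pow 2).trans ?_
    exact hk₀sq
  have hygk : y * g * y⁻¹ = g ^ k := by
    have hconj : ∀ i : ℕ, x ^ i * g * (x ^ i)⁻¹ = g ^ (k ^ i) := by
      intro i
      induction i with
      | zero => simp
      | succ i ih =>
        rw [pow_succ' k, pow_mul, ← hx, conj_pow, ← ih, pow_succ']
        group
    obtain ⟨c, hc⟩ : ∃ c, q' = 2 * c + 1 := ⟨q' / 2, by omega⟩
    rw [hy, hconj, hc, pow_succ, pow_mul, pow_mul]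
    congr 1
    clear hc
    induction c with
    | zero => simp
    | succ c ih => rw [pow_succ, pow_mul, ih, hkk]
  have hyN : Subgroup.zpowers y ≤ Subgroup.normalizer (C : Set G) :=
    Subgroup.zpowers_le.2 (pow_mem hxN q')
  have hCp : IsPGroup 2 C := IsPGroup.of_card (n := r + 1) (by rw [Nat.card_zpowers, he])
  obtain ⟨S, hS⟩ := (hCp.to_sup_of_normal_left' hyp hyN).exists_le_sylow
  have hgS : g ∈ (S : Subgroup G) := hS (Subgroup.mem_sup_left (Subgroup.mem_zpowers g))
  have hyS : y ∈ (S : Subgroup G) := hS (Subgroup.mem_sup_right (Subgroup.mem_zpowers y))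
  have hScard : Nat.card (S : Subgroup G) = 2 ^ (r + 2) := by
    rw [S.card_eq_multiplicity, ← P.card_eq_multiplicity]; exact hP
  -- its commutator subgroup
  set a : (S : Subgroup G) := ⟨g, hgS⟩ with ha
  set b : (S : Subgroup G) := ⟨y, hyS⟩ with hb
  have hba : b * a * b⁻¹ = a ^ k := Subtype.ext (by simpa using hygk)
  have hoa : orderOf a = m := by rw [ha, Subgroup.orderOf_mk, he]
  have hidxA : (Subgroup.zpowers a).index = 2 := by
    have h1 := (Subgroup.zpowers a).card_mul_index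
    rw [Nat.card_zpowers, hoa, hScard, pow_succ 2 (r + 1)] at h1
    exact Nat.eq_of_mul_eq_mul_left (pow_pos Nat.two_pos _) h1
  have hAn : (Subgroup.zpowers a).Normal := Subgroup.normal_of_index_eq_two hidxA
  obtain ⟨c, hc⟩ : ∃ c, k = 4 * c + 3 := ⟨k / 4, by omega⟩
  have h2m : 2 ∣ m := dvd_pow_self 2 (by omega)
  have hoD : orderOf (a ^ 2) = 2 ^ r := by
    rw [orderOf_pow' _ (by norm_num), hoa, Nat.gcd_eq_right h2m, hm, pow_succ,
      Nat.mul_div_cancel _ Nat.two_pos]
  have hDn : (Subgroup.zpowers (a ^ 2)).Normal := by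
    refine ⟨fun z hz w => ?_⟩
    obtain ⟨i, rfl⟩ := Subgroup.mem_zpowers_iff.1 hz
    obtain ⟨j, hj⟩ := Subgroup.mem_zpowers_iff.1 (hAn.conj_mem a (Subgroup.mem_zpowers a) w)
    rw [← conj_zpow, ← conj_pow, ← hj]
    refine Subgroup.mem_zpowers_iff.2 ⟨j * i, ?_⟩
    rw [← zpow_natCast (a ^ j), ← zpow_natCast a, ← zpow_mul, ← zpow_mul, ← zpow_mul]
    congr 1; push_cast; ring
  have hDidx : (Subgroup.zpowers (a ^ 2)).index = 4 := by
    have h1 := (Subgroup.zpowers (a ^ 2)).card_mul_index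
    rw [Nat.card_zpowers, hoD, hScard, pow_add] at h1
    exact Nat.eq_of_mul_eq_mul_left (pow_pos Nat.two_pos _) h1
  have hle : commutator (S : Subgroup G) ≤ Subgroup.zpowers (a ^ 2) :=
    (Subgroup.Normal.quotient_commutative_iff_commutator_le
      (N := Subgroup.zpowers (a ^ 2))).1 (IsPGroup.isMulCommutative_of_card_eq_prime_sq (p := 2)
        (by rw [← Subgroup.index_eq_card, hDidx]; norm_num))
  have hge : a ^ 2 ∈ commutator (S : Subgroup G) := by
    have h1 : a ^ (4 * c + 2) ∈ commutator (S : Subgroup G) := by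
      have h2 := Subgroup.commutator_mem_commutator (Subgroup.mem_top b) (Subgroup.mem_top a)
      rw [commutatorElement_def, hba, hc, show 4 * c + 3 = (4 * c + 2) + 1 from rfl, pow_succ,
        mul_inv_cancel_right] at h2
      exact h2
    have h3 : a ^ 2 ∈ Subgroup.zpowers ((a ^ 2) ^ (2 * c + 1)) :=
      (zpowers_eq_of_coprime (a ^ 2) (i := 2 * c + 1) (by
        rw [hoD]; exact Nat.Coprime.pow_right r (Nat.coprime_two_right.2 ⟨c, rfl⟩))).symm ▸
        Subgroup.mem_zpowers _
    rw [← pow_mul, show 2 * (2 * c + 1) = 4 * c + 2 by ring] at h3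
    exact Subgroup.zpowers_le.2 h1 h3
  rw [← hDidx, ← le_antisymm hle (Subgroup.zpowers_le.2 hge)]
  exact commutator_index_congr (Sylow.equiv P S)

end CfsgLib.BlockB.TwoClassField
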