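import Cfsg.Agent.Lib.BlockB.GlaubermanChain
import Cfsg.Agent.Lib.BlockB.ItoPSolvable
import Cfsg.Agent.Lib.BlockB.TwoPrimeBlocks
import Cfsg.Agent.Lib.Char.Fixed
import Cfsg.Agent.Lib.Clifford.ExtendCoprime
import Cfsg.Agent.Lib.Coprime.Complements
import Cfsg.Agent.Lib.StructB.Misc

/-!
Groups solvable for two primes in which the degrees prime to `p` of the characters trivial on
`O_{p'}` are prime to `q`, and conversely: the two Sylow subgroups commute.
-/

set_option autoImplicit false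
set_option linter.unusedSectionVars false

namespace CfsgLib.BlockB.TwoPrimeCommute

open CfsgLib CfsgLib.BlockB.TwoPrimeBlocks
open scoped Pointwise

attribute [local instance] RelDegreeGraph.linAct

universe u v

/-- The height-zero characters of the principal `p`-block have degree prime to `q`. -/
def Dp (p q : ℕ) (G : Type u) [Group G] : Prop :=
  ∀ χ : Cfsg.IrrCharacter G, Triv (Cfsg.pPrimeCore p G) (χ : G → ℂ) →
    ¬ p ∣ Cfsg.charDegree (χ : G → ℂ) → ¬ q ∣ Cfsg.charDegree (χ : G → ℂ)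

section AB

/-- A `p'`-group fixing all fixed points of a commuting `p`-group on a `p`-group is trivial. -/
theorem trivial_of_fixed {p : ℕ} [Fact p.Prime] {V : Type u} [CommGroup V] [Finite V]
    (hV : IsPGroup p V) {R S : Type v} [Group R] [Group S] [Finite R] (hR : IsPGroup p R)
    (hS : ∀ s : S, ¬ p ∣ orderOf s) [MulDistribMulAction R V] [MulDistribMulAction S V]
    (comm : ∀ (r : R) (s : S) (a : V), r • s • a = s • r • a)
    (h : ∀ a : V, (∀ r : R, r • a = a) → ∀ s : S, s • a = a) (s : S) (a : V) : s • a = a := by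
  classical
  let W : Subgroup V :=
    { carrier := {a | ∀ s : S, s • a = a}
      one_mem' := fun s => smul_one s
      mul_mem' := fun {a b} ha hb s => by rw [smul_mul', ha s, hb s]
      inv_mem' := fun {a} ha s => by rw [smul_inv', ha s] }
  suffices hW : W = ⊤ from (show a ∈ W from hW ▸ Subgroup.mem_top a) s
  by_contra hW
  have hWr : ∀ r : R, W ≤ W.comap (MulDistribMulAction.toMonoidHom V r) := fun r b hb s => by
    show s • r • b = r • b
    rw [← comm, hb s]
  let act : MulAction R (V ⧸ W) :=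
    { smul := fun r x => QuotientGroup.map W W (MulDistribMulAction.toMonoidHom V r) (hWr r) x
      one_smul := fun x => by
        induction x using QuotientGroup.induction_on with
        | _ b => exact congrArg QuotientGroup.mk (one_smul R b)
      mul_smul := fun r t x => by
        induction x using QuotientGroup.induction_on with
        | _ b => exact congrArg QuotientGroup.mk (mul_smul r t b) }
  have hp := (Fact.out : p.Prime)
  have hnt : Nontrivial (V ⧸ W) := QuotientGroup.nontrivial_iff.2 hW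
  have hdvd : p ∣ Nat.card (V ⧸ W) := by
    obtain ⟨k, hk⟩ := (hV.to_quotient W).exists_card_eq
    rcases k with _ | k
    · exact absurd hk (by simpa using (Finite.one_lt_card_iff_nontrivial.2 hnt).ne')
    · exact hk ▸ dvd_pow_self p k.succ_ne_zero
  have h1 : (1 : V ⧸ W) ∈ MulAction.fixedPoints R (V ⧸ W) := fun r =>
    map_one (QuotientGroup.map W W (MulDistribMulAction.toMonoidHom V r) (hWr r))
  obtain ⟨x, hx, hx1⟩ := hR.exists_fixed_point_of_prime_dvd_card_of_fixed_point (V ⧸ W) hdvd h1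
  obtain ⟨b, rfl⟩ := QuotientGroup.mk_surjective x
  have hb : b ∉ W := fun hb => hx1 ((QuotientGroup.eq_one_iff b).2 hb).symm
  refine hb fun t => ?_
  set d := b⁻¹ * t • b with hd
  have hdfix : ∀ r : R, r • d = d := by
    intro r
    have hw : b⁻¹ * r • b ∈ W := QuotientGroup.eq.1 (hx r).symm
    have he := hw t
    rw [smul_mul', smul_inv'] at he
    have he2 : t • r • b = t • b * (b⁻¹ * r • b) := by
      rw [← he, mul_inv_cancel_left]
    rw [hd, smul_mul', smul_inv', comm, he2, mul_comm b⁻¹ (t • b)]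
    rw [inv_mul_eq_iff_eq_mul]
    ac_rfl
  have hdS : ∀ u : S, u • d = d := h d hdfix
  have hpow : ∀ k : ℕ, (t ^ k) • b = b * d ^ k := by
    intro k
    induction k with
    | zero => simp
    | succ k ih => rw [pow_succ', mul_smul, ih, smul_mul', smul_pow', hdS t, pow_succ', ← mul_assoc,
        hd, mul_inv_cancel_left]
  have h2 := hpow (orderOf t)
  rw [pow_orderOf_eq_one, one_smul] at h2
  have h3 : d ^ orderOf t = 1 := mul_eq_left.1 h2.symm
  obtain ⟨k, hk⟩ := hV d
  have hd1 : d = 1 := orderOf_eq_one_iff.1 (Nat.eq_one_of_dvd_coprimes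
    ((hp.coprime_iff_not_dvd.2 (hS t)).symm.pow_right k)
    (orderOf_dvd_of_pow_eq_one h3) (orderOf_dvd_of_pow_eq_one hk))
  exact (inv_mul_eq_one.1 hd1).symm

end AB

variable {G : Type u} [Group G] [Finite G]

theorem mem_of_coprime (N : Subgroup G) [N.Normal] {x : G} (h : (orderOf x).Coprime N.index) :
    x ∈ N := by
  refine (QuotientGroup.eq_one_iff x).1 (orderOf_eq_one_iff.1 (Nat.eq_one_of_dvd_coprimes h
    (orderOf_map_dvd (QuotientGroup.mk' N) x) ?_))
  rw [Subgroup.index_eq_card]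
  exact orderOf_dvd_natCard _

theorem pgroup_le {p : ℕ} [Fact p.Prime] {P : Subgroup G} (hP : IsPGroup p P) (N : Subgroup G)
    [N.Normal] (h : ¬ p ∣ N.index) : P ≤ N := fun x hx => by
  obtain ⟨k, hk⟩ := IsPGroup.iff_orderOf.1 hP ⟨x, hx⟩
  refine mem_of_coprime N ?_
  rw [← Subgroup.orderOf_mk x hx, hk]
  exact ((Fact.out : p.Prime).coprime_iff_not_dvd.2 h).pow_left k

theorem inf_eq_bot_of_pgroup {q : ℕ} [Fact q.Prime] {Q : Subgroup G} (hQ : IsPGroup q Q)
    (A : Subgroup G) (h : ¬ q ∣ Nat.card A) : Q ⊓ A = ⊥ := by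
  refine (Subgroup.eq_bot_iff_forall _).2 fun x hx => ?_
  obtain ⟨k, hk⟩ := IsPGroup.iff_orderOf.1 hQ ⟨x, hx.1⟩
  rw [Subgroup.orderOf_mk] at hk
  refine orderOf_eq_one_iff.1 (Nat.eq_one_of_dvd_coprimes
    (((Fact.out : q.Prime).coprime_iff_not_dvd.2 h).pow_left k) hk.dvd ?_)
  rw [← Subgroup.orderOf_mk x hx.2]
  exact orderOf_dvd_natCard _

/-- A Sylow subgroup normalising a Sylow subgroup of a normal `p'`-subgroup. -/
theorem exists_sylow_normalizing {p q : ℕ} [Fact p.Prime] [Fact q.Prime] (H : Subgroup G)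
    [H.Normal] (hH : ¬ p ∣ Nat.card H) (S : Sylow q G) (hS : (S : Subgroup G) ≤ H) :
    ∃ P : Sylow p G, ∀ g ∈ (P : Subgroup G), g • S = S := by
  classical
  let N : Subgroup G := Subgroup.normalizer ((S : Subgroup G) : Set G)
  have hNH : N ⊔ H = ⊤ := Sylow.normalizer_sup_eq_top' S hS
  let π : N →* G ⧸ H := (QuotientGroup.mk' H).comp N.subtype
  have hπ : Function.Surjective π := by
    intro y
    obtain ⟨g, rfl⟩ := QuotientGroup.mk'_surjective H y
    obtain ⟨n, hn, l, hl, rfl⟩ : g ∈ (N : Set G) * (H : Set G) := by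
      rw [← Subgroup.mul_normal N H, hNH]; exact Subgroup.mem_top g
    refine ⟨⟨n, hn⟩, ?_⟩
    show QuotientGroup.mk' H n = QuotientGroup.mk' H (n * l)
    rw [map_mul, show QuotientGroup.mk' H l = 1 from (QuotientGroup.eq_one_iff l).2 hl, mul_one]
  let T : Sylow p N := default
  obtain ⟨P, hTP⟩ := (T.2.map N.subtype).exists_le_sylow
  let Tq := T.mapSurjective hπ
  have hPq : (P : Subgroup G).map (QuotientGroup.mk' H) = Tq := by
    refine Tq.3 (P.2.map _) ?_
    rintro _ ⟨t, ht, rfl⟩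
    exact ⟨t, hTP ⟨t, ht, rfl⟩, rfl⟩
  refine ⟨P, fun g hg => Sylow.smul_eq_iff_mem_normalizer.2 ?_⟩
  obtain ⟨t, ht, htx⟩ : QuotientGroup.mk' H g ∈ (Tq : Subgroup (G ⧸ H)) := hPq ▸ ⟨g, hg, rfl⟩
  have h1 : (t : G)⁻¹ * g ∈ (P : Subgroup G) ⊓ H :=
    ⟨P.1.mul_mem (P.1.inv_mem (hTP ⟨t, ht, rfl⟩)) hg, QuotientGroup.eq.1 htx⟩
  rw [inf_eq_bot_of_pgroup P.2 H hH, Subgroup.mem_bot, inv_mul_eq_one] at h1
  exact h1 ▸ t.2

/-- A `p`-group normalising a `q`-subgroup centralises it, inside a normal `q'`-subgroup. -/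
theorem commute_of_normalizes {p q : ℕ} [Fact p.Prime] [Fact q.Prime] (A : Subgroup G) [A.Normal]
    (hAq : ¬ q ∣ Nat.card A) {P : Subgroup G} (hPA : P ≤ A) (Q : Sylow q G)
    (hPQ : ∀ g ∈ P, g • Q = Q) :
    (Q : Subgroup G) ≤ Subgroup.centralizer (P : Set G) := fun y hy => by
  refine Subgroup.mem_centralizer_iff.2 fun g hg => ?_
  have hN := Sylow.smul_eq_iff_mem_normalizer.1 (hPQ g hg)
  have h1 : g * y * g⁻¹ * y⁻¹ ∈ (Q : Subgroup G) ⊓ A := by
    refine ⟨Q.1.mul_mem ((Subgroup.mem_normalizer_iff.1 hN y).1 hy) (Q.1.inv_mem hy), ?_⟩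
    show g * y * g⁻¹ * y⁻¹ ∈ A
    have := A.mul_mem (hPA hg) (Subgroup.Normal.conj_mem inferInstance _ (A.inv_mem (hPA hg)) y)
    convert this using 1
    group
  rw [inf_eq_bot_of_pgroup Q.2 A hAq, Subgroup.mem_bot, mul_inv_eq_one, mul_inv_eq_iff_eq_mul] at h1
  exact h1

/-- Every large enough overgroup of `P` contains a fixed Sylow `q`-subgroup. -/
theorem sylow_le_of_stabilizer {p q : ℕ} [Fact p.Prime] [Fact q.Prime] (hqs : Cfsg.IsPSolvable q G)
    (A H : Subgroup G) [A.Normal] [H.Normal] (hAq : ¬ q ∣ Nat.card A) (hAp : ¬ p ∣ A.index)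
    (hHp : ¬ p ∣ Nat.card H) (hHq : ¬ q ∣ H.index)
    (hD : ∀ χ : Cfsg.IrrCharacter G, ¬ p ∣ Cfsg.charDegree (χ : G → ℂ) →
      ¬ q ∣ Cfsg.charDegree (χ : G → ℂ))
    (P : Sylow p G) (Q : Sylow q G) (hPQ : ∀ g ∈ (P : Subgroup G), g • Q = Q)
    (T : Subgroup G) (hPT : (P : Subgroup G) ≤ T) (hT : ¬ q ∣ T.index) :
    (Q : Subgroup G) ≤ T := by
  classical
  have hp := (Fact.out : p.Prime)
  have hq := (Fact.out : q.Prime)
  have := Fintype.ofFinite G
  have hPA : (P : Subgroup G) ≤ A := pgroup_le P.2 A hAp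
  have hcent : ∀ R : Sylow q G, (∀ g ∈ (P : Subgroup G), g • R = R) →
      (R : Subgroup G) ≤ Subgroup.centralizer ((P : Subgroup G) : Set G) :=
    fun R hR => commute_of_normalizes (p := p) A hAq hPA R hR
  -- the normal subgroup `A Q`
  have hJn : (A ⊔ (Q : Subgroup G)).Normal := by
    have hsol : Cfsg.IsPSolvable q (G ⧸ A) := StructC.isPSolvable_quotient A hqs
    have hdeg : ∀ ψ : Cfsg.IrrCharacter (G ⧸ A), ¬ q ∣ Cfsg.charDegree (ψ : G ⧸ A → ℂ) := by
      intro ψ
      let χ : Cfsg.IrrCharacter G := ⟨_, Char.isIrrCharacter_comp_surjective ψ.2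
        (QuotientGroup.mk' A) (QuotientGroup.mk'_surjective A)⟩
      have he : Cfsg.charDegree (χ : G → ℂ) = Cfsg.charDegree (ψ : G ⧸ A → ℂ) := by
        have h1 : (χ : G → ℂ) 1 = (ψ : G ⧸ A → ℂ) 1 := congrArg (ψ : G ⧸ A → ℂ) (map_one _)
        rw [← BlockB.charDegree_cast (Char.irr_isCharacter χ.2),
          ← BlockB.charDegree_cast (Char.irr_isCharacter ψ.2)] at h1
        exact_mod_cast h1
      rw [← he]
      refine hD χ fun h => hAp ?_
      rw [he] at h
      rw [Subgroup.index_eq_card]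
      exact h.trans (BlockB.irr_degree_dvd_card ψ)
    have hn := (ItoPSolvable.normal_and_comm _ (G ⧸ A) le_rfl hsol hdeg
      (Q.mapSurjective (QuotientGroup.mk'_surjective A))).1
    have h2 : (((Q : Subgroup G).map (QuotientGroup.mk' A)).comap (QuotientGroup.mk' A)).Normal :=
      hn.comap _
    rwa [Subgroup.comap_map_eq, QuotientGroup.ker_mk', sup_comm] at h2
  let C0 : Subgroup G := A ⊓ H ⊓ Subgroup.centralizer ((P : Subgroup G) : Set G)
  -- overgroups contain a conjugate under `C0`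
  have key : ∀ U : Subgroup G, (P : Subgroup G) ≤ U → ¬ q ∣ U.index →
      ∃ a ∈ C0, ∀ y ∈ (Q : Subgroup G), a * y * a⁻¹ ∈ U := by
    intro U hPU hU
    let HU := H.subgroupOf U
    let S₁ : Sylow q U := default
    have hS₁ : (S₁ : Subgroup U) ≤ HU := fun x hx => by
      obtain ⟨k, hk⟩ := IsPGroup.iff_orderOf.1 S₁.2 ⟨x, hx⟩
      rw [Subgroup.orderOf_mk, ← Subgroup.orderOf_coe] at hk
      refine Subgroup.mem_subgroupOf.2 (mem_of_coprime H ?_)
      rw [hk]
      exact (hq.coprime_iff_not_dvd.2 hHq).pow_left k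
    obtain ⟨P₁, hP₁⟩ := exists_sylow_normalizing (p := p) HU (fun h => hHp (h.trans
      (Subgroup.card_comap_dvd_of_injective H U.subtype U.subtype_injective))) S₁ hS₁
    obtain ⟨t, ht⟩ := MulAction.exists_smul_eq U P₁ (P.subtype hPU)
    let S₂ : Sylow q U := t • S₁
    let R' : Subgroup G := (S₂ : Subgroup U).map U.subtype
    have hR'i : ¬ q ∣ R'.index := by
      rw [Subgroup.index_map_subtype]
      exact hq.not_dvd_mul S₂.not_dvd_index hU
    let R : Sylow q G := (S₂.2.map U.subtype).toSylow hR'i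
    have hPR : ∀ g ∈ (P : Subgroup G), g • R = R := by
      intro g hg
      have hg1 : (⟨g, hPU hg⟩ : U) ∈ ((P.subtype hPU : Sylow p U) : Subgroup U) :=
        Subgroup.mem_subgroupOf.2 hg
      rw [← ht, Sylow.coe_subgroup_smul, Subgroup.mem_pointwise_smul_iff_inv_smul_mem] at hg1
      have h1 := hP₁ _ hg1
      have h2 : (⟨g, hPU hg⟩ : U) • S₂ = S₂ := by
        show (⟨g, hPU hg⟩ : U) • t • S₁ = t • S₁
        conv_rhs => rw [← h1]
        rw [← mul_smul, ← mul_smul]
        congr 1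
        simp [MulAut.conj_apply, mul_assoc]
      refine Sylow.smul_eq_iff_mem_normalizer.2 ?_
      exact Subgroup.le_normalizer_map U.subtype
        ⟨_, Sylow.smul_eq_iff_mem_normalizer.1 h2, rfl⟩
    -- conjugate inside `M`
    let M : Subgroup G :=
      (A ⊔ (Q : Subgroup G)) ⊓ H ⊓ Subgroup.centralizer ((P : Subgroup G) : Set G)
    have hJq : ¬ q ∣ (A ⊔ (Q : Subgroup G)).index := fun h =>
      Q.not_dvd_index (h.trans (Subgroup.index_dvd_of_le le_sup_right))
    have hQM : (Q : Subgroup G) ≤ M :=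
      le_inf (le_inf le_sup_right (pgroup_le Q.2 H hHq)) (hcent Q hPQ)
    have hRM : (R : Subgroup G) ≤ M :=
      le_inf (le_inf (pgroup_le R.2 _ hJq) (pgroup_le R.2 H hHq)) (hcent R hPR)
    obtain ⟨m, hm⟩ := MulAction.exists_smul_eq M (Q.subtype hQM) (R.subtype hRM)
    obtain ⟨a, ha, x, hx, hax⟩ : (m : G) ∈ (A : Set G) * ((Q : Subgroup G) : Set G) := by
      rw [← Subgroup.normal_mul A (Q : Subgroup G)]; exact m.2.1.1
    have hxM := hQM hx
    have hae : a = (m : G) * x⁻¹ := eq_mul_inv_of_mul_eq hax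
    have haC : a ∈ C0 := ⟨⟨ha, hae ▸ H.mul_mem m.2.1.2 (H.inv_mem hxM.1.2)⟩,
      hae ▸ Subgroup.mul_mem _ m.2.2 (Subgroup.inv_mem _ hxM.2)⟩
    refine ⟨a, haC, fun y hy => ?_⟩
    have hy' : x⁻¹ * y * x ∈ (Q : Subgroup G) := Q.1.mul_mem (Q.1.mul_mem (Q.1.inv_mem hx) hy) hx
    have h3 : m * ⟨_, hQM hy'⟩ * m⁻¹ ∈ ((R.subtype hRM : Sylow q M) : Subgroup M) := by
      rw [← hm, Sylow.coe_subgroup_smul, Subgroup.mem_pointwise_smul_iff_inv_smul_mem]
      show m⁻¹ * (m * ⟨_, hQM hy'⟩ * m⁻¹) * m ∈ (Q : Subgroup G).subgroupOf M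
      rw [Subgroup.mem_subgroupOf]
      simpa [mul_assoc] using hy'
    have h4 : (m : G) * (x⁻¹ * y * x) * (m : G)⁻¹ ∈ R' := Subgroup.mem_subgroupOf.1 h3
    have h5 : a * y * a⁻¹ ∈ R' := by
      convert h4 using 1
      rw [hae]; group
    exact Subgroup.map_subtype_le _ h5
  -- `Q` centralises `C0`
  let K0 : Subgroup G := A ⊓ H
  have hK0p : ¬ p ∣ Nat.card K0 := fun h => hHp (h.trans (Subgroup.card_dvd_of_le inf_le_right))
  have hK0q : ¬ q ∣ Nat.card K0 := fun h => hAq (h.trans (Subgroup.card_dvd_of_le inf_le_left))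
  have := Fintype.ofFinite K0
  have : K0.Normal := inferInstance
  have hfixθ : ∀ θ : K0 → ℂ, Cfsg.IsIrrCharacter K0 θ →
      (∀ g ∈ (P : Subgroup G), McKay.InvBy K0 g θ) →
      ∀ x ∈ (Q : Subgroup G), McKay.InvBy K0 x θ := by
    intro θ hθ hinv
    set U := Clifford.inertia θ with hUdef
    have hin : ∀ g, g ∈ U ↔ McKay.InvBy K0 g θ := fun g => by
      rw [hUdef, Clifford.mem_inertia]
      refine ⟨fun h k k' hk => ?_, fun h n => h n _ (by simp)⟩
      rw [← h k]
      exact congrArg θ (Subtype.ext (by simp [hk]))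
    have hPU : (P : Subgroup G) ≤ U := fun g hg => (hin g).2 (hinv g hg)
    have hK0U : K0 ≤ U := Clifford.le_inertia (Char.irr_isClassFunction hθ)
    let J : Subgroup G := K0 ⊔ P
    have hJU : J ≤ U := sup_le hK0U hPU
    have hKJ : K0 ≤ J := le_sup_left
    have := Fintype.ofFinite J
    let K' := K0.subgroupOf J
    let ε : K' ≃* K0 := Subgroup.subgroupOfEquivOfLe hKJ
    have hθ' : Cfsg.IsIrrCharacter K' (θ ∘ ε) :=
      Char.isIrrCharacter_comp_surjective hθ ε.toMonoidHom ε.surjective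
    have hcop : (Nat.card K').Coprime K'.index := by
      rw [Nat.card_congr ε.toEquiv]
      have h1 : K'.index ∣ Nat.card (P : Subgroup G) := by
        show K0.relIndex J ∣ _
        rw [show K0.relIndex J = K0.relIndex ((P : Subgroup G) ⊔ K0) by rw [sup_comm],
          Subgroup.relIndex_sup_right]
        exact Subgroup.relIndex_dvd_card _ _
      obtain ⟨k, hk⟩ := P.2.exists_card_eq
      exact Nat.Coprime.coprime_dvd_right (hk ▸ h1)
        ((hp.coprime_iff_not_dvd.2 hK0p).symm.pow_right k)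
    obtain ⟨Θ, hΘ, hΘres⟩ := Clifford.ExtendCoprime.exists_extension K' hcop hθ' (fun g m => by
      have h := (hin (g : G)).1 (hJU g.2) (ε m) (ε (Clifford.conjN g m)) (by
        show (((Clifford.conjN g m : K') : J) : G) = (g : G) * (((m : K') : J) : G) * (g : G)⁻¹
        simp)
      exact h)
    have hres : (fun k : K0 => Θ (Subgroup.inclusion hKJ k)) = θ := funext fun k => by
      have := hΘres ⟨Subgroup.inclusion hKJ k, Subgroup.mem_subgroupOf.2 k.2⟩
      simpa [ε, Subgroup.subgroupOfEquivOfLe] using this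
    have hθdeg : ¬ p ∣ Cfsg.charDegree θ := fun h =>
      hK0p (h.trans (BlockB.irr_degree_dvd_card ⟨θ, hθ⟩))
    have hΘdeg : Cfsg.charDegree Θ = Cfsg.charDegree θ := by
      have h1 := congrFun hres 1
      rw [map_one, ← BlockB.charDegree_cast (Char.irr_isCharacter hθ),
        ← BlockB.charDegree_cast (Char.irr_isCharacter hΘ)] at h1
      exact_mod_cast h1
    obtain ⟨χ, hχd, hχ⟩ := exists_prime_over hp J hΘ
      (fun h => P.not_dvd_index (h.trans (Subgroup.index_dvd_of_le le_sup_right)))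
      (by rw [hΘdeg]; exact hθdeg)
    have hover := constituent_trans hKJ χ.2 hΘ hθ hχ hres
    have hUq : ¬ q ∣ U.index := fun h => hD χ hχd (h.trans
      (RelDegreeGraph.index_inertia_dvd (θ := ⟨θ, hθ⟩) (fun {j} => by convert hover)))
    obtain ⟨a, ha, hay⟩ := key U hPU hUq
    intro x hx
    refine (hin x).1 ?_
    have haU : a ∈ U := hK0U ha.1
    have h1 := U.mul_mem (U.mul_mem (U.inv_mem haU) (hay x hx)) haU
    simpa [mul_assoc] using h1
  have hcommC : ∀ x ∈ (Q : Subgroup G), ∀ c ∈ C0, x * c = c * x := by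
    have := Fintype.ofFinite C0
    have hC0K : C0 ≤ K0 := inf_le_left
    have hPK : (P : Subgroup G) ≤ Subgroup.normalizer (K0 : Set G) := by
      rw [Subgroup.normalizer_eq_top_iff.2 (inferInstance : K0.Normal)]; exact le_top
    have hQnC : ∀ x ∈ (Q : Subgroup G), x ∈ Subgroup.normalizer (C0 : Set G) := by
      intro x hx
      have hxc := hcent Q hPQ hx
      have hmap : ∀ x, x ∈ Subgroup.centralizer ((P : Subgroup G) : Set G) → ∀ c ∈ C0,
          x * c * x⁻¹ ∈ C0 := fun x hxc c hc =>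
        ⟨(inferInstance : K0.Normal).conj_mem c hc.1 x,
          Subgroup.mul_mem _ (Subgroup.mul_mem _ hxc hc.2) (Subgroup.inv_mem _ hxc)⟩
      refine Subgroup.mem_normalizer_iff.2 fun c => ⟨hmap x hxc c, fun hc => ?_⟩
      simpa [mul_assoc] using hmap x⁻¹ (Subgroup.inv_mem _ hxc) _ hc
    have hclass : ∀ x (hx : x ∈ (Q : Subgroup G)) (c : C0),
        IsConj (McKay.conjAut C0 (hQnC x hx) c) c := by
      intro x hx c
      have hxK : x ∈ Subgroup.normalizer (K0 : Set G) := by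
        rw [Subgroup.normalizer_eq_top_iff.2 (inferInstance : K0.Normal)]; exact Subgroup.mem_top x
      set α := McKay.conjAut C0 (hQnC x hx)
      have hall : ∀ φ : Cfsg.IrrCharacter C0, (φ : C0 → ℂ) ∘ α = (φ : C0 → ℂ) := by
        intro φ
        obtain ⟨θ, hθ, hinv, hc⟩ := (McKay.glauberman (p := p) (P : Subgroup G) K0 P.2 hK0p hPK
          C0 rfl hC0K).2.2 φ φ.2
        exact (McKay.invBy_iff (hQnC x hx) _).1 (McKay.invBy_of_corr (P : Subgroup G) K0 P.2 hK0p
          hPK rfl hC0K hxK (hQnC x hx) hθ hinv φ.2 hc (hfixθ θ hθ hinv x hx))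
      have h1 := Char.natCard_fixed_irr_equiv α
      have h2 := Char.natCard_fixed_irr_equiv (MulEquiv.refl C0)
      have : Finite (ConjClasses C0) := Finite.of_surjective _ ConjClasses.mk_surjective
      have e1 : Nat.card {φ : Cfsg.IrrCharacter C0 // (φ : C0 → ℂ) ∘ α = (φ : C0 → ℂ)} =
          Nat.card (Cfsg.IrrCharacter C0) :=
        Nat.card_congr (Equiv.subtypeUnivEquiv hall)
      have e2 : Nat.card {φ : Cfsg.IrrCharacter C0 //
          (φ : C0 → ℂ) ∘ (MulEquiv.refl C0) = (φ : C0 → ℂ)} = Nat.card (Cfsg.IrrCharacter C0) :=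
        Nat.card_congr (Equiv.subtypeUnivEquiv fun _ => rfl)
      have e3 : Nat.card {D : ConjClasses C0 //
          ConjClasses.map (MulEquiv.refl C0).toMonoidHom D = D} = Nat.card (ConjClasses C0) :=
        Nat.card_congr (Equiv.subtypeUnivEquiv fun D => by
          obtain ⟨d, rfl⟩ := ConjClasses.mk_surjective D; rfl)
      rw [e1] at h1
      rw [e2, e3] at h2
      rw [← h2] at h1
      have hsurj := (Nat.bijective_iff_injective_and_card
        (Subtype.val : {D : ConjClasses C0 // ConjClasses.map α.toMonoidHom D = D} → _)).2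
        ⟨Subtype.val_injective, h1⟩
      obtain ⟨⟨D, hD'⟩, hDe⟩ := hsurj.2 (ConjClasses.mk c)
      simp only at hDe
      subst hDe
      exact ConjClasses.mk_eq_mk_iff_isConj.1 hD'
    let Z : Subgroup C0 := (Subgroup.centralizer ((Q : Subgroup G) : Set G)).subgroupOf C0
    have hZ : Z = ⊤ := StructB.eq_top_of_conj_cover Z fun c => by
      let Ω := {d : C0 // IsConj c d}
      let act : MulAction (Q : Subgroup G) Ω :=
        { smul := fun x d => ⟨McKay.conjAut C0 (hQnC x x.2) d.1,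
            d.2.trans (hclass x x.2 d.1).symm⟩
          one_smul := fun d => Subtype.ext (Subtype.ext (by
            show ((1 : (Q : Subgroup G)) : G) * ((d.1 : C0) : G) * _ = _
            simp))
          mul_smul := fun x y d => Subtype.ext (Subtype.ext (by
            show ((x * y : (Q : Subgroup G)) : G) * ((d.1 : C0) : G) * _ =
              (x : G) * ((y : G) * ((d.1 : C0) : G) * _) * _
            simp [mul_assoc])) }
      have hΩ : ¬ q ∣ Nat.card Ω := fun h => hK0q (h.trans ((by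
        have e : Nat.card Ω = (MulAction.stabilizer (ConjAct C0) c).index := by
          rw [MulAction.index_stabilizer, ← Nat.card_coe_set_eq]
          exact Nat.card_congr (Equiv.subtypeEquivRight fun d => by
            rw [ConjAct.mem_orbit_conjAct, isConj_comm])
        rw [e]
        exact Subgroup.index_dvd_card _ : Nat.card Ω ∣ Nat.card C0).trans
          (Subgroup.card_dvd_of_le hC0K)))
      obtain ⟨⟨d, hd⟩, hfix⟩ := Q.2.nonempty_fixed_point_of_prime_not_dvd_card Ω hΩ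
      obtain ⟨e, he⟩ := isConj_iff.1 hd
      refine ⟨e, ?_⟩
      rw [he, Subgroup.mem_subgroupOf, Subgroup.mem_centralizer_iff]
      intro x hx
      have h := congrArg (fun z : Ω => ((z.1 : C0) : G)) (hfix ⟨x, hx⟩)
      exact mul_inv_eq_iff_eq_mul.1 h
    intro x hx c hc
    exact Subgroup.mem_centralizer_iff.1
      (Subgroup.mem_subgroupOf.1 (show (⟨c, hc⟩ : C0) ∈ Z from hZ ▸ Subgroup.mem_top _)) x hx
  obtain ⟨a, ha, hay⟩ := key T hPT hT
  intro y hy
  have h := hay y hy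
  rwa [← hcommC y hy a ha, mul_inv_cancel_right] at h

theorem not_dvd_index_trans {p : ℕ} (hp : p.Prime) {L : Subgroup G} [L.Normal]
    (h : ¬ p ∣ Nat.card L) {q : ℕ} (hL : ¬ q ∣ L.index) :
    ¬ q ∣ (Cfsg.pPrimeCore p G).index := fun hd =>
  hL (hd.trans (Subgroup.index_dvd_of_le (Solvable.le_pPrimeCore inferInstance
    (hp.coprime_iff_not_dvd.2 h).symm)))

theorem card_comap_core (p : ℕ) (N : Subgroup G) [N.Normal] :
    Nat.card ((Cfsg.pPrimeCore p (G ⧸ N)).comap (QuotientGroup.mk' N)) =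
      Nat.card N * Nat.card (Cfsg.pPrimeCore p (G ⧸ N)) := by
  set L := (Cfsg.pPrimeCore p (G ⧸ N)).comap (QuotientGroup.mk' N)
  have hle : N ≤ L := fun x hx => by
    show QuotientGroup.mk' N x ∈ Cfsg.pPrimeCore p (G ⧸ N)
    rw [show QuotientGroup.mk' N x = 1 from (QuotientGroup.eq_one_iff x).2 hx]
    exact Subgroup.one_mem _
  have e := Subgroup.relIndex_ker L (QuotientGroup.mk' N)
  rw [QuotientGroup.ker_mk', Subgroup.map_comap_eq_self_of_surjective
    (QuotientGroup.mk'_surjective N)] at e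
  rw [← e, ← Nat.card_congr (Subgroup.subgroupOfEquivOfLe hle).toEquiv]
  exact (Subgroup.card_mul_index _).symm

theorem index_comap_core (p : ℕ) (N : Subgroup G) [N.Normal] :
    ((Cfsg.pPrimeCore p (G ⧸ N)).comap (QuotientGroup.mk' N)).index =
      (Cfsg.pPrimeCore p (G ⧸ N)).index :=
  Subgroup.index_comap_of_surjective _ (QuotientGroup.mk'_surjective N)

/-- Lifting through a normal `p'`-subgroup. -/
theorem lift_core {p q : ℕ} [Fact p.Prime] (N : Subgroup G) [N.Normal] (hN : ¬ p ∣ Nat.card N)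
    (h : ¬ q ∣ (Cfsg.pPrimeCore p (G ⧸ N)).index) : ¬ q ∣ (Cfsg.pPrimeCore p G).index := by
  have hp := (Fact.out : p.Prime)
  have := Solvable.pPrimeCore_normal p (G ⧸ N)
  refine not_dvd_index_trans hp (L := (Cfsg.pPrimeCore p (G ⧸ N)).comap (QuotientGroup.mk' N)) ?_ ?_
  · rw [card_comap_core]
    exact hp.not_dvd_mul hN (hp.coprime_iff_not_dvd.1 (Solvable.pPrimeCore_coprime p).symm)
  · rwa [index_comap_core]

/-- Combining two quotients. -/
theorem combine {p q : ℕ} [Fact p.Prime] [Fact q.Prime] (N₁ N₂ : Subgroup G) [N₁.Normal]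
    [N₂.Normal] (h12 : N₁ ⊓ N₂ = ⊥) (h1 : ¬ q ∣ (Cfsg.pPrimeCore p (G ⧸ N₁)).index)
    (h2 : ¬ q ∣ (Cfsg.pPrimeCore p (G ⧸ N₂)).index) : ¬ q ∣ (Cfsg.pPrimeCore p G).index := by
  have hp := (Fact.out : p.Prime)
  have hn1 := Solvable.pPrimeCore_normal p (G ⧸ N₁)
  have hn2 := Solvable.pPrimeCore_normal p (G ⧸ N₂)
  set L₁ := (Cfsg.pPrimeCore p (G ⧸ N₁)).comap (QuotientGroup.mk' N₁)
  set L₂ := (Cfsg.pPrimeCore p (G ⧸ N₂)).comap (QuotientGroup.mk' N₂)
  refine not_dvd_index_trans hp (L := L₁ ⊓ L₂) (fun hd => ?_) ?_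
  · obtain ⟨⟨x, hx⟩, hxo⟩ := exists_prime_orderOf_dvd_card' p hd
    rw [Subgroup.orderOf_mk] at hxo
    have hmem : ∀ (N : Subgroup G) [N.Normal],
        QuotientGroup.mk' N x ∈ Cfsg.pPrimeCore p (G ⧸ N) → x ∈ N := by
      intro N _ h
      refine (QuotientGroup.eq_one_iff x).1 (orderOf_eq_one_iff.1 (Nat.eq_one_of_dvd_coprimes
        (Solvable.pPrimeCore_coprime (G := G ⧸ N) p) ?_ (hxo ▸ orderOf_map_dvd (QuotientGroup.mk' N) x)))
      show orderOf (QuotientGroup.mk' N x) ∣ _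
      rw [← Subgroup.orderOf_mk _ h]
      exact orderOf_dvd_natCard _
    have h0 : x ∈ N₁ ⊓ N₂ := ⟨hmem N₁ hx.1, hmem N₂ hx.2⟩
    rw [h12, Subgroup.mem_bot] at h0
    rw [h0, orderOf_one] at hxo
    exact hp.one_lt.ne hxo
  · intro hd
    rw [← Subgroup.relIndex_mul_index (inf_le_left : L₁ ⊓ L₂ ≤ L₁), Subgroup.inf_relIndex_left]
      at hd
    rcases (Fact.out : q.Prime).dvd_mul.1 hd with h | h
    · exact h2 (index_comap_core p N₂ ▸ h.trans (Subgroup.relIndex_dvd_index_of_normal L₂ L₁))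
    · exact h1 (index_comap_core p N₁ ▸ h)

theorem dp_quotient {p q : ℕ} (N : Subgroup G) [N.Normal] (h : Dp p q G) : Dp p q (G ⧸ N) := by
  intro ψ hψ hd
  let χ : Cfsg.IrrCharacter G := ⟨_, Char.isIrrCharacter_comp_surjective ψ.2
    (QuotientGroup.mk' N) (QuotientGroup.mk'_surjective N)⟩
  have he : Cfsg.charDegree (χ : G → ℂ) = Cfsg.charDegree (ψ : G ⧸ N → ℂ) := by
    have h1 : (χ : G → ℂ) 1 = (ψ : G ⧸ N → ℂ) 1 := congrArg (ψ : G ⧸ N → ℂ) (map_one _)
    rw [← BlockB.charDegree_cast (Char.irr_isCharacter χ.2),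
      ← BlockB.charDegree_cast (Char.irr_isCharacter ψ.2)] at h1
    exact_mod_cast h1
  rw [← he]
  refine h χ (fun n hn => ?_) (he ▸ hd)
  show (ψ : G ⧸ N → ℂ) (QuotientGroup.mk' N n) = (ψ : G ⧸ N → ℂ) (QuotientGroup.mk' N 1)
  rw [map_one]
  refine hψ _ ?_
  have := Solvable.pPrimeCore_normal p G
  exact Solvable.le_pPrimeCore ((inferInstance : (Cfsg.pPrimeCore p G).Normal).map _
    (QuotientGroup.mk'_surjective N))
    ((Solvable.pPrimeCore_coprime p).coprime_dvd_left (Subgroup.card_map_dvd _ _)) ⟨n, hn, rfl⟩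

/-- The case of a unique minimal normal `p`-subgroup. -/
theorem core_index_of_unique {p q : ℕ} [Fact p.Prime] [Fact q.Prime] (hpq : p ≠ q)
    (hps : Cfsg.IsPSolvable p G) (hqs : Cfsg.IsPSolvable q G) (hD : Dp p q G) (N : Subgroup G)
    [N.Normal] (hNne : N ≠ ⊥) (huniq : ∀ K : Subgroup G, K.Normal → K ≠ ⊥ → N ≤ K)
    (hpN : p ∣ Nat.card N) (h1 : ¬ q ∣ (Cfsg.pPrimeCore p (G ⧸ N)).index)
    (h2 : ¬ p ∣ (Cfsg.pPrimeCore q (G ⧸ N)).index) :
    ¬ q ∣ (Cfsg.pPrimeCore p G).index ∧ ¬ p ∣ (Cfsg.pPrimeCore q G).index := by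
  classical
  have hp := (Fact.out : p.Prime)
  have hq := (Fact.out : q.Prime)
  have := Fintype.ofFinite G
  have hKn := Solvable.pPrimeCore_normal p G
  have hOn := Solvable.pCore_normal p G
  have hcore : Cfsg.pPrimeCore p G = ⊥ := by
    by_contra hne
    exact hp.coprime_iff_not_dvd.1 (Solvable.pPrimeCore_coprime p).symm
      (hpN.trans (Subgroup.card_dvd_of_le (huniq _ hKn hne)))
  have hNp : IsPGroup p N := by
    refine (Solvable.pCore_isPGroup p).to_le (huniq _ hOn fun h => hNne ?_)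
    have h3 := CfsgLib.Block.centralizer_pCore_le_of_isPSolvable hps hcore
    rw [h] at h3
    refine le_bot_iff.1 fun x _ => h3 (Subgroup.mem_centralizer_iff.2 fun z hz => ?_)
    rw [Subgroup.mem_bot.1 hz, one_mul, mul_one]
  have hNq : ¬ q ∣ Nat.card N := fun h => by
    obtain ⟨k, hk⟩ := hNp.exists_card_eq
    exact hpq ((Nat.prime_dvd_prime_iff_eq hq hp).1 (hq.dvd_of_dvd_pow (hk ▸ h))).symm
  have hq2 : ¬ p ∣ (Cfsg.pPrimeCore q G).index := lift_core N hNq h2
  refine ⟨?_, hq2⟩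
  suffices hqG : ¬ q ∣ Nat.card G from fun h => hqG (h.trans (Subgroup.index_dvd_card _))
  intro hqG
  have : Nontrivial N := (Subgroup.nontrivial_iff_ne_bot N).2 hNne
  have hNab : ∀ a ∈ N, ∀ b ∈ N, a * b = b * a := by
    have hZ : Subgroup.center N ≠ ⊥ :=
      (Subgroup.nontrivial_iff_ne_bot _).1 hNp.center_nontrivial
    have hle := huniq ((Subgroup.center N).map N.subtype) inferInstance
      (fun h => hZ ((Subgroup.map_eq_bot_iff_of_injective _ N.subtype_injective).1 h))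
    intro a ha b hb
    obtain ⟨c, hc, rfl⟩ := hle ha
    exact congrArg Subtype.val (Subgroup.mem_center_iff.1 hc ⟨b, hb⟩).symm
  -- the normal subgroup `L` and a complement
  let π := QuotientGroup.mk' N
  have hπ : Function.Surjective π := QuotientGroup.mk'_surjective N
  have hHn := Solvable.pPrimeCore_normal p (G ⧸ N)
  set L := (Cfsg.pPrimeCore p (G ⧸ N)).comap π with hLdef
  have : L.Normal := hHn.comap π
  have hNL : N ≤ L := fun x hx => by
    show π x ∈ Cfsg.pPrimeCore p (G ⧸ N)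
    rw [show π x = 1 from (QuotientGroup.eq_one_iff x).2 hx]
    exact Subgroup.one_mem _
  have hLcard := card_comap_core p N
  rw [← hLdef] at hLcard
  have hcop : (Nat.card N).Coprime (Nat.card (Cfsg.pPrimeCore p (G ⧸ N))) := by
    obtain ⟨k, hk⟩ := hNp.exists_card_eq
    rw [hk]
    exact (Solvable.pPrimeCore_coprime p).symm.pow_left k
  let NL := N.subgroupOf L
  have hNLcard : Nat.card NL = Nat.card N :=
    Nat.card_congr (Subgroup.subgroupOfEquivOfLe hNL).toEquiv
  have hNLidx : NL.index = Nat.card (Cfsg.pPrimeCore p (G ⧸ N)) := by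
    have h := NL.card_mul_index
    rw [hNLcard, hLcard] at h
    exact Nat.eq_of_mul_eq_mul_left Nat.card_pos h
  obtain ⟨H₀, hH₀⟩ := Subgroup.exists_right_complement'_of_coprime (N := NL)
    (by rw [hNLcard, hNLidx]; exact hcop)
  let H : Subgroup G := H₀.map L.subtype
  have hHcard : Nat.card H = Nat.card (Cfsg.pPrimeCore p (G ⧸ N)) := by
    rw [← hNLidx, hH₀.symm.index_eq_card]
    exact (Nat.card_congr (H₀.equivMapOfInjective _ L.subtype_injective).toEquiv).symm
  have hHp : ¬ p ∣ Nat.card H := by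
    rw [hHcard]; exact hp.coprime_iff_not_dvd.1 (Solvable.pPrimeCore_coprime p).symm
  have hHL : H ≤ L := Subgroup.map_subtype_le _
  have hsup : N ⊔ H = L := by
    rw [← Subgroup.map_subgroupOf_eq_of_le hNL]
    show (NL.map L.subtype) ⊔ H₀.map L.subtype = L
    rw [← Subgroup.map_sup, hH₀.sup_eq_top, ← MonoidHom.range_eq_map, Subgroup.range_subtype]
  let Y : Subgroup G := Subgroup.normalizer (H : Set G)
  have hNY : ∀ g : G, ∃ n ∈ N, n⁻¹ * g ∈ Y := by
    intro g
    let H' : Subgroup G := H.map (MulAut.conj g).toMonoidHom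
    have hH'L : N ⊔ H = N ⊔ H' := by
      have hfix : ∀ K : Subgroup G, K.Normal → K.map (MulAut.conj g).toMonoidHom = K :=
        fun K hK => SetLike.ext fun x => by
          refine ⟨?_, fun hx => ⟨g⁻¹ * x * g, by simpa using hK.conj_mem x hx g⁻¹, ?_⟩⟩
          · rintro ⟨z, hz, rfl⟩; exact hK.conj_mem z hz g
          · show g * (g⁻¹ * x * g) * g⁻¹ = x
            group
      have hNg : N.map (MulAut.conj g).toMonoidHom = N := hfix N inferInstance
      have hLg : L.map (MulAut.conj g).toMonoidHom = L := hfix L inferInstance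
      rw [hsup, ← hLg, ← hsup, Subgroup.map_sup, hNg]
    have hnorm : ∀ K : Subgroup G, K ≤ Subgroup.normalizer (N : Set G) := fun K => by
      rw [Subgroup.normalizer_eq_top_iff.2 inferInstance]; exact le_top
    have hsolv : Group.IsSolvable N := Group.isSolvable_of_comm fun a b =>
      Subtype.ext (hNab a a.2 b b.2)
    obtain ⟨n, hn, hne⟩ := Coprime.exists_conj_eq_of_coprime (hnorm H) (hnorm H') hH'L
      (by rw [hHcard]; exact hcop.symm)
      (by rw [← Nat.card_congr (H.equivMapOfInjective _ (MulAut.conj g).injective).toEquiv, hHcard]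
          exact hcop.symm)
      (Or.inr hsolv)
    refine ⟨n, hn, Subgroup.mem_normalizer_iff.2 fun x => ?_⟩
    have hiff : ∀ x, g * x * g⁻¹ ∈ H' ↔ x ∈ H := fun x =>
      Subgroup.mem_map_iff_mem (MulAut.conj g).injective (x := x)
    have hiff2 : ∀ x, n * x * n⁻¹ ∈ H' ↔ x ∈ H := fun x => by
      rw [hne]; exact Subgroup.mem_map_iff_mem (MulAut.conj n).injective (x := x)
    rw [← hiff x, ← hiff2 (n⁻¹ * g * x * (n⁻¹ * g)⁻¹)]
    simp [mul_assoc]
  have hYN : N ⊓ Y = ⊥ := by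
    have hn : (N ⊓ Y).Normal := ⟨fun a ha g => by
      obtain ⟨n, hn, hy⟩ := hNY g
      have h3 : (n⁻¹ * g) * a * (n⁻¹ * g)⁻¹ ∈ N ⊓ Y :=
        ⟨(inferInstance : N.Normal).conj_mem a ha.1 _, Y.mul_mem (Y.mul_mem hy ha.2) (Y.inv_mem hy)⟩
      have h4 : g * a * g⁻¹ = (n⁻¹ * g) * a * (n⁻¹ * g)⁻¹ := by
        rw [show g * a * g⁻¹ = n * ((n⁻¹ * g) * a * (n⁻¹ * g)⁻¹) * n⁻¹ by group,
          hNab n hn _ h3.1, mul_inv_cancel_right]
      rw [h4]; exact h3⟩
    by_contra hne
    have hle := huniq _ hn hne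
    have hYtop : Y = ⊤ := eq_top_iff.2 fun g _ => by
      obtain ⟨n, hn, hy⟩ := hNY g
      have := Y.mul_mem (hle hn).2 hy
      rwa [mul_inv_cancel_left] at this
    have hHbot : H = ⊥ := by
      by_contra hH
      exact hHp (hpN.trans (Subgroup.card_dvd_of_le
        (huniq H (Subgroup.normalizer_eq_top_iff.1 hYtop) hH)))
    have hLN : L = N := by rw [← hsup, hHbot, sup_bot_eq]
    rw [hLdef] at hLN
    rw [← index_comap_core p N, hLN] at h1
    rw [← N.card_mul_index] at hqG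
    exact (hq.dvd_mul.1 hqG).elim hNq h1
  -- characters of degree prime to `p`
  have hAn := Solvable.pPrimeCore_normal q G
  set A := Cfsg.pPrimeCore q G with hA
  have hGdeg : ∀ χ : Cfsg.IrrCharacter G, ¬ p ∣ Cfsg.charDegree (χ : G → ℂ) →
      ¬ q ∣ Cfsg.charDegree (χ : G → ℂ) := fun χ => hD χ fun n hn => by
    rw [hcore, Subgroup.mem_bot] at hn
    rw [hn]
  have : (A.map π).Normal := hAn.map π hπ
  have hQdeg : ∀ ψ : Cfsg.IrrCharacter (G ⧸ N), ¬ p ∣ Cfsg.charDegree (ψ : G ⧸ N → ℂ) →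
      ¬ q ∣ Cfsg.charDegree (ψ : G ⧸ N → ℂ) := by
    intro ψ hd
    let χ : Cfsg.IrrCharacter G := ⟨_, Char.isIrrCharacter_comp_surjective ψ.2 π hπ⟩
    have he : Cfsg.charDegree (χ : G → ℂ) = Cfsg.charDegree (ψ : G ⧸ N → ℂ) := by
      have h4 : (χ : G → ℂ) 1 = (ψ : G ⧸ N → ℂ) 1 := congrArg (ψ : G ⧸ N → ℂ) (map_one π)
      rw [← BlockB.charDegree_cast (Char.irr_isCharacter χ.2),
        ← BlockB.charDegree_cast (Char.irr_isCharacter ψ.2)] at h4
      exact_mod_cast h4
    rw [← he]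
    exact hGdeg χ (he ▸ hd)
  -- the Sylow subgroups
  let Q : Sylow q G := default
  let Qb := Q.mapSurjective hπ
  have hHbp : ¬ p ∣ Nat.card (Cfsg.pPrimeCore p (G ⧸ N)) :=
    hp.coprime_iff_not_dvd.1 (Solvable.pPrimeCore_coprime p).symm
  obtain ⟨Pb, hPb⟩ := exists_sylow_normalizing (p := p) (Cfsg.pPrimeCore p (G ⧸ N)) hHbp Qb
    (pgroup_le Qb.2 _ h1)
  let P₁ : Subgroup G := (Pb : Subgroup (G ⧸ N)).comap π
  have hNP : N ≤ P₁ := fun x hx => by
    show π x ∈ (Pb : Subgroup (G ⧸ N))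
    rw [show π x = 1 from (QuotientGroup.eq_one_iff x).2 hx]
    exact Subgroup.one_mem _
  have hP₁i : ¬ p ∣ P₁.index := by
    rw [Subgroup.index_comap_of_surjective _ hπ]; exact Pb.not_dvd_index
  have hP₁p : IsPGroup p P₁ := Pb.2.comap_of_ker_isPGroup π (by rwa [QuotientGroup.ker_mk'])
  -- the fixed linear characters of `N`
  have hfixQ : ∀ lam : N →* ℂˣ, (∀ g ∈ P₁, g • lam = lam) →
      ∀ y ∈ (Q : Subgroup G), y • lam = lam := by
    intro lam hlam
    have := Fintype.ofFinite N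
    have := Fintype.ofFinite P₁
    choose nf hnf hyf using hNY
    have huq : ∀ g m : G, m ∈ N → m⁻¹ * g ∈ Y → nf g = m := by
      intro g m hm hmy
      have h3 : m⁻¹ * nf g ∈ N ⊓ Y := ⟨N.mul_mem (N.inv_mem hm) (hnf g), by
        have := Y.mul_mem hmy (Y.inv_mem (hyf g))
        simpa [mul_assoc] using this⟩
      rw [hYN, Subgroup.mem_bot, inv_mul_eq_one] at h3
      exact h3.symm
    let μ : P₁ →* ℂˣ := MonoidHom.mk' (fun g => lam ⟨nf g, hnf g⟩) fun g h => by
      set c := (nf (g : G))⁻¹ * (g : G) with hc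
      have hcP : c ∈ P₁ := P₁.mul_mem (P₁.inv_mem (hNP (hnf _))) g.2
      have hmem : c * nf h * c⁻¹ ∈ N := (inferInstance : N.Normal).conj_mem _ (hnf h) c
      have he : nf ((g * h : P₁) : G) = nf g * (c * nf h * c⁻¹) := by
        refine huq _ _ (N.mul_mem (hnf g) hmem) ?_
        have e : (nf g * (c * nf h * c⁻¹))⁻¹ * ((g : G) * h) = c * ((nf h)⁻¹ * h) := by
          rw [hc]; group
        rw [Subgroup.coe_mul, e]
        exact Y.mul_mem (hyf g) (hyf h)
      have hconj : lam ⟨c * nf h * c⁻¹, hmem⟩ = lam ⟨nf h, hnf h⟩ := by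
        have h5 := congrArg (fun f : N →* ℂˣ => f ⟨nf h, hnf h⟩) (hlam c⁻¹ (P₁.inv_mem hcP))
        simp only [RelDegreeGraph.smul_apply'] at h5
        rw [← h5]
        exact congrArg lam (Subtype.ext (by simp))
      show lam ⟨nf ((g * h : P₁) : G), hnf _⟩ = lam ⟨nf g, hnf g⟩ * lam ⟨nf h, hnf h⟩
      rw [← hconj, ← map_mul]
      exact congrArg lam (Subtype.ext he)
    have hμ : Cfsg.IsIrrCharacter P₁ (fun g => (μ g : ℂ)) := Char.isIrrCharacter_linear μ
    have hlamI : Cfsg.IsIrrCharacter N (fun n => (lam n : ℂ)) := Char.isIrrCharacter_linear lam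
    obtain ⟨χ, hχd, hχ⟩ := exists_prime_over hp P₁ hμ hP₁i (by
      have h4 := BlockB.charDegree_cast (Char.irr_isCharacter hμ)
      rw [map_one, Units.val_one] at h4
      rw [show Cfsg.charDegree (fun g => (μ g : ℂ)) = 1 by exact_mod_cast h4]
      exact hp.not_dvd_one)
    have hover := constituent_trans hNP χ.2 hμ hlamI hχ (funext fun n => by
      show ((lam ⟨nf (n : G), _⟩ : ℂˣ) : ℂ) = _
      congr 2
      exact Subtype.ext (huq _ _ n.2 (by rw [inv_mul_cancel]; exact Y.one_mem)))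
    have hTq : ¬ q ∣ (RelDegreeGraph.T lam).index := fun h => hGdeg χ hχd (h.trans
      ((Subgroup.index_dvd_of_le (fun g hg => by
        refine MonoidHom.ext fun n => ?_
        rw [RelDegreeGraph.smul_apply']
        exact Units.ext (Clifford.mem_inertia.1 (Subgroup.inv_mem _ hg) n))).trans
        (RelDegreeGraph.index_inertia_dvd (θ := ⟨_, hlamI⟩) (fun {j} => by convert hover))))
    have hQT := sylow_le_of_stabilizer (StructC.isPSolvable_quotient N hqs) (A.map π)
      (Cfsg.pPrimeCore p (G ⧸ N))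
      (fun h => hq.coprime_iff_not_dvd.1 (Solvable.pPrimeCore_coprime q).symm
        (h.trans (Subgroup.card_map_dvd _ _)))
      (fun h => hq2 (h.trans (Subgroup.index_map_dvd _ hπ))) hHbp h1 hQdeg Pb Qb hPb
      ((RelDegreeGraph.T lam).map π)
      (fun x hx => by
        obtain ⟨g, rfl⟩ := hπ x
        exact ⟨g, hlam g hx, rfl⟩)
      (fun h => hTq (h.trans (Subgroup.index_map_dvd _ hπ)))
    intro y hy
    have h4 : y ∈ ((RelDegreeGraph.T lam).map π).comap π := hQT ⟨y, hy, rfl⟩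
    rw [Subgroup.comap_map_eq, QuotientGroup.ker_mk',
      sup_eq_left.2 (RelDegreeGraph.le_T lam)] at h4
    exact h4
  -- `Q` centralises `N`
  have hQN : ∀ y ∈ (Q : Subgroup G), ∀ n ∈ N, y * n = n * y := by
    have hfin : Finite (N →* ℂˣ) := by
      refine Finite.of_injective (fun (l : N →* ℂˣ) (n : N) =>
        (⟨l n, (mem_rootsOfUnity (Nat.card N) _).2 (RelDegreeGraph.pow_card_lin l n)⟩ :
          rootsOfUnity (Nat.card N) ℂ)) fun a b h => ?_
      exact MonoidHom.ext fun n => congrArg Subtype.val (congrFun h n)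
    have hV : IsPGroup p (N →* ℂˣ) := fun l => by
      obtain ⟨k, hk⟩ := hNp.exists_card_eq
      exact ⟨k, MonoidHom.ext fun n => by
        rw [MonoidHom.pow_apply, ← hk]; exact RelDegreeGraph.pow_card_lin l n⟩
    have hS : ∀ y : (Q : Subgroup G), ¬ p ∣ orderOf y := fun y h => by
      obtain ⟨k, hk⟩ := IsPGroup.iff_orderOf.1 Q.2 y
      exact hpq ((Nat.prime_dvd_prime_iff_eq hp hq).1 (hp.dvd_of_dvd_pow (hk ▸ h)))
    have hcent : ∀ x ∈ (Pb : Subgroup (G ⧸ N)), ∀ y ∈ (Qb : Subgroup (G ⧸ N)), x * y = y * x :=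
      fun x hx y hy => Subgroup.mem_centralizer_iff.1 (commute_of_normalizes (p := p) (A.map π)
        (fun h => hq.coprime_iff_not_dvd.1 (Solvable.pPrimeCore_coprime q).symm
          (h.trans (Subgroup.card_map_dvd _ _)))
        (pgroup_le Pb.2 _ fun h => hq2 (h.trans (Subgroup.index_map_dvd _ hπ))) Qb hPb hy) x hx
    have key := trivial_of_fixed (p := p) hV (R := P₁) (S := (Q : Subgroup G)) hP₁p hS
      (fun g y l => by
        show (g : G) • (y : G) • l = (y : G) • (g : G) • l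
        rw [← mul_smul, ← mul_smul]
        have h4 : ((g : G) * y)⁻¹ * ((y : G) * g) ∈ N := QuotientGroup.eq.1 (by
          show π ((g : G) * y) = π ((y : G) * g)
          rw [map_mul, map_mul]
          exact hcent _ g.2 _ ⟨y, y.2, rfl⟩)
        conv_rhs => rw [← mul_inv_cancel_left ((g : G) * y) ((y : G) * g), mul_smul,
          show (((g : G) * y)⁻¹ * ((y : G) * g)) • l = l from RelDegreeGraph.le_T l h4])
      (fun l hl y => hfixQ l (fun g hg => hl ⟨g, hg⟩) y y.2)
    intro y hy n hn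
    have hm : y⁻¹ * n * y * n⁻¹ ∈ N := N.mul_mem
      (by simpa using (inferInstance : N.Normal).conj_mem n hn y⁻¹) (N.inv_mem hn)
    have h5 := eq_one_of_forall_hom (A := N) (fun a b => Subtype.ext (hNab a a.2 b b.2))
      (a := ⟨_, hm⟩) fun l => by
        have h6 := congrArg (fun f : N →* ℂˣ => f ⟨n, hn⟩) (key ⟨y, hy⟩ l)
        have h7 : (y • l) ⟨n, hn⟩ = l ⟨n, hn⟩ := h6
        rw [RelDegreeGraph.smul_apply'] at h7
        have e : (⟨_, hm⟩ : N) = Clifford.conjN y⁻¹ ⟨n, hn⟩ * ⟨n, hn⟩⁻¹ :=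
          Subtype.ext (by simp)
        rw [e, map_mul, map_inv, h7, mul_inv_cancel]
    have h8 := congrArg Subtype.val h5
    simp only [OneMemClass.coe_one] at h8
    rw [mul_inv_eq_one, mul_assoc, inv_mul_eq_iff_eq_mul] at h8
    exact h8.symm
  -- hence `Q` is trivial
  let D : Subgroup G := H ⊓ Subgroup.centralizer (N : Set G)
  have hDn : D.Normal := ⟨fun a ha g => by
    obtain ⟨n, hn, hy⟩ := hNY g
    have h4 : (n⁻¹ * g) * a * (n⁻¹ * g)⁻¹ ∈ D :=
      ⟨(Subgroup.mem_normalizer_iff.1 hy a).1 ha.1,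
        (inferInstance : (Subgroup.centralizer (N : Set G)).Normal).conj_mem a ha.2 _⟩
    rw [show g * a * g⁻¹ = n * ((n⁻¹ * g) * a * (n⁻¹ * g)⁻¹) * n⁻¹ by group,
      Subgroup.mem_centralizer_iff.1 h4.2 n hn, mul_inv_cancel_right]
    exact h4⟩
  have hDbot : D = ⊥ := by
    refine le_bot_iff.1 (hcore ▸ Solvable.le_pPrimeCore hDn ?_)
    exact (hp.coprime_iff_not_dvd.2
      (fun h => hHp (h.trans (Subgroup.card_dvd_of_le inf_le_left)))).symm
  refine Q.ne_bot_of_dvd_card hqG ((Subgroup.eq_bot_iff_forall _).2 fun x hx => ?_)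
  have hxL : x ∈ L := pgroup_le Q.2 L (by rw [hLdef, index_comap_core]; exact h1) hx
  obtain ⟨n, hn, h', hh, rfl⟩ : x ∈ (N : Set G) * (H : Set G) := by
    rw [← Subgroup.normal_mul N H, hsup]; exact hxL
  have hhD : h' ∈ D := ⟨hh, Subgroup.mem_centralizer_iff.2 fun m hm => by
    have h6 := hQN _ hx m hm
    rw [mul_assoc, ← mul_assoc m n h', hNab m hm n hn, mul_assoc] at h6
    exact (mul_left_cancel h6).symm⟩
  rw [hDbot, Subgroup.mem_bot] at hhD
  subst hhD
  have h7 : n * 1 ∈ (Q : Subgroup G) ⊓ N := ⟨hx, N.mul_mem hn N.one_mem⟩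
  rwa [inf_eq_bot_of_pgroup Q.2 N hNq, Subgroup.mem_bot] at h7

/-- Both cores have index prime to the other prime. -/
theorem core_index : ∀ (n : ℕ) (G : Type u) [Group G] [Finite G], Nat.card G ≤ n →
    ∀ (p q : ℕ) [Fact p.Prime] [Fact q.Prime], p ≠ q → Cfsg.IsPSolvable p G →
      Cfsg.IsPSolvable q G → Dp p q G → Dp q p G →
      ¬ q ∣ (Cfsg.pPrimeCore p G).index ∧ ¬ p ∣ (Cfsg.pPrimeCore q G).index := by
  intro n
  induction n using Nat.strong_induction_on with
  | _ n ih =>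
    intro G _ _ hn p q _ _ hpq hps hqs h1 h2
    classical
    have hp := (Fact.out : p.Prime)
    have hq := (Fact.out : q.Prime)
    rcases subsingleton_or_nontrivial G with hsub | hnt
    · have e : ∀ S : Subgroup G, S.index = 1 := fun S => by
        rw [Subsingleton.elim S ⊤, Subgroup.index_top]
      rw [e, e]
      exact ⟨hq.not_dvd_one, hp.not_dvd_one⟩
    obtain ⟨N, hN, hmin⟩ := Set.Finite.exists_minimal (Set.toFinite
      {K : Subgroup G | K.Normal ∧ K ≠ ⊥}) ⟨⊤, inferInstance, top_ne_bot⟩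
    have : N.Normal := hN.1
    have hquot : ∀ (K : Subgroup G) [K.Normal], K ≠ ⊥ →
        ¬ q ∣ (Cfsg.pPrimeCore p (G ⧸ K)).index ∧ ¬ p ∣ (Cfsg.pPrimeCore q (G ⧸ K)).index := by
      intro K _ hK
      have hlt : Nat.card (G ⧸ K) < Nat.card G := by
        rw [Subgroup.card_eq_card_quotient_mul_card_subgroup K]
        exact lt_mul_of_one_lt_right Nat.card_pos
          (Finite.one_lt_card_iff_nontrivial.2 ((Subgroup.nontrivial_iff_ne_bot K).2 hK))
      exact ih _ (lt_of_lt_of_le hlt hn) (G ⧸ K) le_rfl p q hpq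
        (StructC.isPSolvable_quotient K hps) (StructC.isPSolvable_quotient K hqs)
        (dp_quotient K h1) (dp_quotient K h2)
    by_cases huniq : ∀ K : Subgroup G, K.Normal → K ≠ ⊥ → N ≤ K
    · by_cases hpN : p ∣ Nat.card N
      · exact core_index_of_unique hpq hps hqs h1 N hN.2 huniq hpN (hquot N hN.2).1 (hquot N hN.2).2
      by_cases hqN : q ∣ Nat.card N
      · exact (core_index_of_unique hpq.symm hqs hps h2 N hN.2 huniq hqN (hquot N hN.2).2
          (hquot N hN.2).1).symm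
      exact ⟨lift_core N hpN (hquot N hN.2).1, lift_core N hqN (hquot N hN.2).2⟩
    push Not at huniq
    obtain ⟨K, hKn, hK, hNK⟩ := huniq
    have h12 : N ⊓ K = ⊥ := by
      by_contra hne
      exact hNK ((hmin (show N ⊓ K ∈ {K : Subgroup G | K.Normal ∧ K ≠ ⊥} from
        ⟨inferInstance, hne⟩) inf_le_left).trans inf_le_right)
    exact ⟨combine N K h12 (hquot N hN.2).1 (hquot K hK).1,
      combine N K h12 (hquot N hN.2).2 (hquot K hK).2⟩

/-- **The two Sylow subgroups commute exactly when the degree conditions hold.** -/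
theorem iff_commute {p q : ℕ} [Fact p.Prime] [Fact q.Prime] (hpq : p ≠ q)
    (hps : Cfsg.IsPSolvable p G) (hqs : Cfsg.IsPSolvable q G) :
    (Dp p q G ∧ Dp q p G) ↔ ∃ (P : Sylow p G) (Q : Sylow q G),
      ∀ x ∈ (P : Subgroup G), ∀ y ∈ (Q : Subgroup G), x * y = y * x := by
  classical
  have := Fintype.ofFinite G
  constructor
  · rintro ⟨h1, h2⟩
    obtain ⟨a, b⟩ := core_index _ G le_rfl p q hpq hps hqs h1 h2
    have hp := (Fact.out : p.Prime)
    have hq := (Fact.out : q.Prime)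
    have hKn := Solvable.pPrimeCore_normal p G
    have hAn := Solvable.pPrimeCore_normal q G
    let Q : Sylow q G := default
    obtain ⟨P, hP⟩ := exists_sylow_normalizing (p := p) (Cfsg.pPrimeCore p G)
      (hp.coprime_iff_not_dvd.1 (Solvable.pPrimeCore_coprime p).symm) Q (pgroup_le Q.2 _ a)
    exact ⟨P, Q, fun x hx y hy => Subgroup.mem_centralizer_iff.1
      (commute_of_normalizes (p := p) (Cfsg.pPrimeCore q G)
        (hq.coprime_iff_not_dvd.1 (Solvable.pPrimeCore_coprime q).symm)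
        (pgroup_le P.2 _ b) Q hP hy) x hx⟩
  · rintro ⟨P, Q, hc⟩
    have key : ∀ (r s : ℕ) [Fact r.Prime] [Fact s.Prime], r ≠ s → Cfsg.IsPSolvable r G →
        ∀ (R : Sylow r G) (S : Sylow s G),
        (∀ x ∈ (R : Subgroup G), ∀ y ∈ (S : Subgroup G), x * y = y * x) → Dp r s G := by
      intro r s _ _ hrs hsol R S hcomm χ htriv hd hsd
      have hKn := Solvable.pPrimeCore_normal r G
      let π := QuotientGroup.mk' (Cfsg.pPrimeCore r G)
      let R' := R.mapSurjective (QuotientGroup.mk'_surjective (Cfsg.pPrimeCore r G))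
      let S' := S.mapSurjective (QuotientGroup.mk'_surjective (Cfsg.pPrimeCore r G))
      have hS : (S' : Subgroup _) ≤ Cfsg.pCore r (G ⧸ Cfsg.pPrimeCore r G) := by
        refine le_trans ?_ (CfsgLib.Block.centralizer_pCore_le_of_isPSolvable
          (StructC.isPSolvable_quotient _ hsol) (Comp.pPrimeCore_quotient_eq_bot r G))
        rintro _ ⟨y, hy, rfl⟩
        refine Subgroup.mem_centralizer_iff.2 fun z hz => ?_
        obtain ⟨x, hx, rfl⟩ := Solvable.pCore_le_sylow R' hz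
        rw [← map_mul, ← map_mul, hcomm x hx y hy]
      have hS' : (S' : Subgroup (G ⧸ Cfsg.pPrimeCore r G)) = ⊥ := (le_bot_iff (a := (S' : Subgroup (G ⧸ Cfsg.pPrimeCore r G)))).1 fun z hz => by
        have h3 : z ∈ (S' : Subgroup _) ⊓ Cfsg.pCore r (G ⧸ Cfsg.pPrimeCore r G) := ⟨hz, hS hz⟩
        rwa [inf_eq_bot_of_pgroup S'.2 _ (fun h => by
          obtain ⟨k, hk⟩ := (Solvable.pCore_isPGroup (G := G ⧸ Cfsg.pPrimeCore r G) r).exists_card_eq
          exact hrs ((Nat.prime_dvd_prime_iff_eq Fact.out Fact.out).1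
            ((Fact.out : s.Prime).dvd_of_dvd_pow (hk ▸ h))).symm)] at h3
      obtain ⟨ψ, hψ, he⟩ := Char.isIrr_quotient_lift (Cfsg.pPrimeCore r G) χ.2 htriv
      refine S'.ne_bot_of_dvd_card ?_ hS'
      have hdeg : Cfsg.charDegree (χ : G → ℂ) = Cfsg.charDegree ψ := by
        have h4 := congrFun he 1
        rw [Function.comp_apply, map_one, ← BlockB.charDegree_cast (Char.irr_isCharacter χ.2),
          ← BlockB.charDegree_cast (Char.irr_isCharacter hψ)] at h4
        exact_mod_cast h4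
      exact (hdeg ▸ hsd).trans (BlockB.irr_degree_dvd_card ⟨ψ, hψ⟩)
    exact ⟨key p q hpq hps P Q hc, key q p hpq.symm hqs Q P fun x hx y hy => (hc y hy x hx).symm⟩

end CfsgLib.BlockB.TwoPrimeCommute
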