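import Cfsg.Agent.Lib.BlockB.ItoPSolvable
import Cfsg.Agent.Lib.Char.Burnside
import Cfsg.Prelude.Def_DegreeGraph

/-!
A group whose irreducible degrees involve at most two primes is solvable, by Burnside's lemma on
characters of degree prime to a class size.
-/

set_option autoImplicit false
set_option linter.unusedSectionVars false
set_option linter.style.haveILetI false

namespace CfsgLib.BlockB.TwoPrimeDegrees

open CfsgLib Module

universe u

variable {G : Type u} [Group G] [Finite G]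

/-- In a non-abelian simple group a non-principal irreducible character of degree prime to the
class size of `g ≠ 1` vanishes at `g`. -/
theorem apply_eq_zero_of_coprime [IsSimpleGroup G] (hab : ¬ ∀ a b : G, a * b = b * a) {g : G}
    (hg : g ≠ 1) {n : ℕ} (ρ : Representation ℂ G (Fin n → ℂ)) [ρ.IsIrreducible]
    (hcop : Nat.Coprime (finrank ℂ (Fin n → ℂ)) (Subgroup.centralizer ({g} : Set G)).index)
    (hne : ρ.character ≠ fun _ => 1) : ρ.character g = 0 := by
  rcases Char.char_eq_zero_or_norm_of_coprime ρ g hcop with h0 | hnorm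
  · exact h0
  exfalso
  obtain ⟨ω, hω⟩ := (Char.norm_char_eq_iff ρ g).mp hnorm
  have hmem : g ∈ Char.scalarSubgroup ρ := ⟨ω, hω⟩
  have htop : Char.scalarSubgroup ρ = ⊤ :=
    ((Char.scalarSubgroup_normal ρ).eq_bot_or_eq_top).resolve_left
      fun h => hg (Subgroup.mem_bot.mp (h ▸ hmem))
  have hker : (MonoidHom.ker ρ : Subgroup G) = ⊤ := by
    refine ((MonoidHom.normal_ker ρ).eq_bot_or_eq_top).resolve_left fun hbot => hab fun a b => ?_
    obtain ⟨x, hx⟩ := (htop ▸ Subgroup.mem_top a : a ∈ Char.scalarSubgroup ρ)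
    have h1 : ρ (a * b) = ρ (b * a) := by ext v; simp [map_mul, hx]
    exact (MonoidHom.ker_eq_bot_iff ρ).mp hbot h1
  exact hne (Char.char_eq_one_of_trivial ρ fun x =>
    MonoidHom.mem_ker.mp (hker ▸ Subgroup.mem_top x))

/-- A non-trivial element whose class size is prime to `p`. -/
theorem exists_ne_one_index (p : ℕ) (hp : p.Prime) [Nontrivial G] :
    ∃ z : G, z ≠ 1 ∧ ¬ p ∣ (Subgroup.centralizer ({z} : Set G)).index := by
  have : Fact p.Prime := ⟨hp⟩
  by_cases hpd : p ∣ Nat.card G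
  swap
  · obtain ⟨z, hz⟩ := exists_ne (1 : G)
    exact ⟨z, hz, fun h => hpd (h.trans (Subgroup.index_dvd_card _))⟩
  obtain ⟨P⟩ := (inferInstance : Nonempty (Sylow p G))
  have : Nontrivial P := by
    rw [← Finite.one_lt_card_iff_nontrivial]
    exact lt_of_lt_of_le hp.one_lt (Nat.le_of_dvd Nat.card_pos (P.dvd_card_of_dvd_card hpd))
  have hc : Nontrivial (Subgroup.center P) := P.isPGroup'.center_nontrivial
  obtain ⟨⟨z, hz⟩, hz1⟩ := exists_ne (1 : Subgroup.center P)
  refine ⟨(z : G), fun h => hz1 (Subtype.ext (Subtype.ext h)), fun hd => ?_⟩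
  refine P.not_dvd_index (hd.trans (Subgroup.index_dvd_of_le fun x hx => ?_))
  rw [Subgroup.mem_centralizer_singleton_iff]
  exact congr_arg Subtype.val (Subgroup.mem_center_iff.mp hz ⟨x, hx⟩)

/-- A simple group whose degrees involve only two primes is abelian. -/
theorem comm_of_simple [IsSimpleGroup G] (p q : ℕ) (hp : p.Prime) (hq : q.Prime)
    (h : ∀ r ∈ Cfsg.degreePrimes G, r = p ∨ r = q) (a b : G) : a * b = b * a := by
  classical
  by_contra hab'
  have hab : ¬ ∀ a b : G, a * b = b * a := fun h => hab' (h a b)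
  obtain ⟨g, hg, hgp⟩ := exists_ne_one_index (G := G) p hp
  have := Fintype.ofFinite G
  have := Fintype.ofFinite (Cfsg.IrrCharacter G)
  let one' : Cfsg.IrrCharacter G := ⟨fun _ => 1, Char.isIrrCharacter_one⟩
  have hint : ∀ χ ∈ (Finset.univ : Finset (Cfsg.IrrCharacter G)).erase one',
      IsIntegral ℤ ((χ : G → ℂ) 1 * (χ : G → ℂ) g / (q : ℂ)) := by
    rintro ⟨χ, n, ρ, hρ, rfl⟩ hne
    rw [Finset.mem_erase] at hne
    simp only [Representation.char_one]
    by_cases hqd : q ∣ finrank ℂ (Fin n → ℂ)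
    · obtain ⟨c, hc⟩ := hqd
      rw [hc]
      push_cast
      rw [mul_assoc, mul_div_cancel_left₀ _ (by exact_mod_cast hq.ne_zero)]
      exact (by simpa using isIntegral_algebraMap (R := ℤ) (A := ℂ) (x := (c : ℤ)) :
        IsIntegral ℤ (c : ℂ)).mul (Char.char_isIntegral ρ g)
    have hd : Cfsg.charDegree ρ.character = finrank ℂ (Fin n → ℂ) := by
      have h1 := BlockB.charDegree_cast (G := G) ⟨n, ρ, rfl⟩
      rw [Representation.char_one] at h1
      exact_mod_cast h1
    rw [apply_eq_zero_of_coprime hab hg ρ (Nat.coprime_of_dvd fun r hr h1 h2 => ?_)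
      (fun he => hne.1 (Subtype.ext he))]
    · simp [isIntegral_zero]
    rcases h r ⟨hr, _, ⟨⟨ρ.character, n, ρ, hρ, rfl⟩, rfl⟩, hd ▸ h1⟩ with rfl | rfl
    · exact hgp h2
    · exact hqd h1
  have h1 := Char.sum_irr_mul_degree g
  rw [if_neg hg, ← Finset.add_sum_erase _ _ (Finset.mem_univ one')] at h1
  have h2 : IsIntegral ℤ (((1 : ℕ) : ℂ) / (q : ℂ)) := by
    simp only [one', one_mul] at h1
    have heq : ((1 : ℕ) : ℂ) / (q : ℂ) = -∑ χ ∈ (Finset.univ : Finset (Cfsg.IrrCharacter G)).erase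
        one', (χ : G → ℂ) 1 * (χ : G → ℂ) g / (q : ℂ) := by
      rw [← Finset.sum_div, ← neg_div, Nat.cast_one]
      congr 1
      linear_combination h1
    rw [heq]
    exact (IsIntegral.sum _ hint).neg
  exact hq.one_lt.ne' (Nat.dvd_one.mp (Char.dvd_of_isIntegral_div hq.pos h2))

theorem degreePrimes_quotient (N : Subgroup G) [N.Normal] :
    Cfsg.degreePrimes (G ⧸ N) ⊆ Cfsg.degreePrimes G := by
  rintro r ⟨hr, _, ⟨ψ, rfl⟩, hd⟩
  refine ⟨hr, _, ⟨⟨_, Char.isIrrCharacter_comp_surjective ψ.2 (QuotientGroup.mk' N)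
    (QuotientGroup.mk'_surjective N)⟩, rfl⟩, ?_⟩
  simpa [Cfsg.charDegree] using hd

theorem degreePrimes_normal (N : Subgroup G) [N.Normal] :
    Cfsg.degreePrimes N ⊆ Cfsg.degreePrimes G := by
  rintro r ⟨hr, _, ⟨θ, rfl⟩, hd⟩
  have := Fintype.ofFinite G
  have := Fintype.ofFinite N
  obtain ⟨χ, hχ⟩ := Block.exists_over_constituent (G := G) θ
  exact ⟨hr, _, ⟨χ, rfl⟩,
    hd.trans (ItoPSolvable.charDegree_dvd_of_constituent N χ.2 θ.2 hχ)⟩

/-- Two primes in the degrees force solvability. -/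
theorem isSolvable_of_two_primes (p q : ℕ) (hp : p.Prime) (hq : q.Prime) :
    ∀ (n : ℕ) (G : Type u) [Group G] [Finite G], Nat.card G ≤ n →
      (∀ r ∈ Cfsg.degreePrimes G, r = p ∨ r = q) → Group.IsSolvable G := by
  intro n
  induction n with
  | zero => intro G _ _ hn; exact absurd hn (not_le.2 Nat.card_pos)
  | succ n ih =>
    intro G _ _ hn h
    by_cases hN : ∃ N : Subgroup G, N.Normal ∧ N ≠ ⊥ ∧ N ≠ ⊤
    · obtain ⟨N, hNn, hN1, hN2⟩ := hN
      have h1 : 1 < Nat.card N := (Subgroup.one_lt_card_iff_ne_bot N).mpr hN1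
      have h2 : 1 < N.index := N.one_lt_index_of_ne_top hN2
      have h3 := N.index_mul_card
      have s1 := ih N (by nlinarith) fun r hr => h r (degreePrimes_normal N hr)
      have s2 := ih (G ⧸ N) (by rw [← N.index_eq_card]; nlinarith)
        fun r hr => h r (degreePrimes_quotient N hr)
      exact Group.isSolvable_of_ker_le_range N.subtype (QuotientGroup.mk' N) (by simp)
    rcases subsingleton_or_nontrivial G with hs | hs
    · exact Group.isSolvable_of_comm fun x y => Subsingleton.elim _ _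
    have : IsSimpleGroup G := ⟨fun H hH => by
      by_contra hc; push Not at hc; exact hN ⟨H, hH, hc⟩⟩
    exact Group.isSolvable_of_comm (comm_of_simple p q hp hq h)

end CfsgLib.BlockB.TwoPrimeDegrees
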